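import Mathlib
import Groth.Prelude.Def_SGA3x
import Groth.Prelude.Def_Red
import Groth.Agent.S5342

/-!
# The neutral component commutes with base change (helper79)
-/

set_option autoImplicit false
set_option linter.style.haveILetI false
set_option linter.unusedSectionVars false

universe u

open CategoryTheory CategoryTheory.Limits MonoidalCategory CartesianMonoidalCategory MonObj GrpObj
  AlgebraicGeometry TopologicalSpace

namespace Groth.Agent.Lib.Helper79.NeutralBC

/-- a morphism from a reduced scheme with set-theoretic image in a closed set factors through the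
reduced induced closed subscheme -/
theorem exists_lift_vanishingIdeal {X T : Scheme.{u}} [IsReduced T] (Z : Closeds X) (g : T ⟶ X)
    (hg : Set.range g ⊆ (Z : Set X)) :
    ∃ g' : T ⟶ (Scheme.IdealSheafData.vanishingIdeal Z).subscheme,
      g' ≫ (Scheme.IdealSheafData.vanishingIdeal Z).subschemeι = g := by
  have hker : (Scheme.IdealSheafData.vanishingIdeal Z).subschemeι.ker ≤ g.ker := by
    rw [Scheme.IdealSheafData.ker_subschemeι, ← Scheme.IdealSheafData.map_bot,
      ← Scheme.nilradical_eq_bot (X := T), ← Scheme.IdealSheafData.vanishingIdeal_top,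
      Scheme.IdealSheafData.map_vanishingIdeal]
    apply Scheme.IdealSheafData.vanishingIdeal_antimono
    rw [TopologicalSpace.Closeds.closure_le]
    rintro _ ⟨t, -, rfl⟩
    exact hg ⟨t, rfl⟩
  exact ⟨IsClosedImmersion.lift _ g hker, IsClosedImmersion.lift_fac _ _ _⟩

variable {S S' : Scheme.{u}} (f : S' ⟶ S) (G : Over S) [GrpObj G]

theorem unit_hom : η[G].left ≫ G.hom = 𝟙 S := Over.w η[G]

theorem hom_unit (s : S) : G.hom (η[G].left s) = s := by
  have h := unit_hom G
  have := congrArg (fun m : S ⟶ S => m s) h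
  exact this

/-- the unit section of the base change lies over the unit section -/
theorem unit_bc_fst : η[Red.bc f G].left ≫ pullback.fst G.hom f = f ≫ η[G].left := by
  have h0 : η[Red.bc f G] = Functor.LaxMonoidal.ε (Over.pullback f) ≫ (Over.pullback f).map η[G] :=
    Functor.obj.η_def _
  rw [h0, Over.comp_left, Category.assoc]
  have h1 : ((Over.pullback f).map η[G]).left ≫ pullback.fst G.hom f =
      pullback.fst (𝟙_ (Over S)).hom f ≫ η[G].left := by
    show pullback.lift _ _ _ ≫ _ = _
    rw [pullback.lift_fst]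
  rw [h1]
  have h2 : (Functor.LaxMonoidal.ε (Over.pullback f)).left ≫ pullback.snd (𝟙_ (Over S)).hom f = 𝟙 S' :=
    Over.w (Functor.LaxMonoidal.ε (Over.pullback f))
  have h3 : pullback.fst (𝟙_ (Over S)).hom f = pullback.snd (𝟙_ (Over S)).hom f ≫ f := by
    have := pullback.condition (f := (𝟙_ (Over S)).hom) (g := f)
    rw [← this]
    exact (Category.comp_id _).symm
  rw [h3, Category.assoc, ← Category.assoc, h2]
  exact Category.id_comp _

theorem neutralSet_eq : SGA3x.neutralSet G =
    ⋃ p : S, connectedComponentIn (G.hom ⁻¹' {p}) (η[G].left p) := rfl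

/-- the key connectedness statement -/
theorem isPreconnected_inter (p' : S') :
    _root_.IsPreconnected ((pullback.fst G.hom f) ⁻¹'
        (connectedComponentIn (G.hom ⁻¹' {f p'}) (η[G].left (f p'))) ∩
      (pullback.snd G.hom f) ⁻¹' {p'}) := by
  let j := S.fromSpecResidueField (f p')
  let X := pullback G.hom j
  let iX : X ⟶ G.left := pullback.fst G.hom j
  let F : Set G.left := G.hom ⁻¹' {f p'}
  have hrange : Set.range iX = F := by
    rw [Scheme.Pullback.range_fst, Scheme.range_fromSpecResidueField]
  have heF : η[G].left (f p') ∈ F := hom_unit G (f p')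
  let C := connectedComponentIn F (η[G].left (f p'))
  have hCF : C ⊆ F := connectedComponentIn_subset _ _
  -- closedness
  obtain ⟨T, hT, hTC⟩ : ∃ T : Set G.left, IsClosed T ∧ F ∩ T = C := by
    have h1 : IsClosed (connectedComponent (⟨η[G].left (f p'), heF⟩ : F)) :=
      isClosed_connectedComponent
    obtain ⟨T, hT, hT'⟩ := isClosed_induced_iff.mp h1
    refine ⟨T, hT, ?_⟩
    show _ = connectedComponentIn F (η[G].left (f p'))
    rw [connectedComponentIn_eq_image heF, ← hT', Subtype.image_preimage_coe]
  have hpre : iX ⁻¹' C = iX ⁻¹' T := by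
    ext x
    have hx : iX x ∈ F := by rw [← hrange]; exact ⟨x, rfl⟩
    simp only [Set.mem_preimage, ← hTC, Set.mem_inter_iff, hx, true_and]
  let Zc : Closeds X := ⟨iX ⁻¹' C, by rw [hpre]; exact hT.preimage iX.continuous⟩
  let I := Scheme.IdealSheafData.vanishingIdeal Zc
  let Z := I.subscheme
  let iZ : Z ⟶ X := I.subschemeι
  have hriZ : Set.range iZ = iX ⁻¹' C := by
    rw [Scheme.IdealSheafData.range_subschemeι, Scheme.IdealSheafData.coe_support_vanishingIdeal]
    rfl
  have hrZ : Set.range (iZ ≫ iX) = C := by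
    rw [Scheme.Hom.comp_base, TopCat.coe_comp, Set.range_comp, hriZ,
      Set.image_preimage_eq_inter_range, hrange]
    exact Set.inter_eq_left.mpr hCF
  have hCconn : _root_.IsConnected C := isConnected_connectedComponentIn_iff.mpr heF
  haveI : ConnectedSpace Z := by
    have hemb := (iZ ≫ iX).isEmbedding
    have h1 : _root_.IsPreconnected ((iZ ≫ iX) '' Set.univ) := by
      rw [Set.image_univ, hrZ]
      exact hCconn.isPreconnected
    have h2 := (hemb.isInducing.isPreconnected_image).mp h1
    haveI : PreconnectedSpace Z := ⟨h2⟩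
    haveI : Nonempty Z := by
      obtain ⟨c, hc⟩ := hCconn.nonempty
      rw [← hrZ] at hc
      obtain ⟨z, -⟩ := hc
      exact ⟨z⟩
    exact ConnectedSpace.mk inferInstance
  -- rational point
  let σ₀ : Spec (S.residueField (f p')) ⟶ X :=
    pullback.lift (j ≫ η[G].left) (𝟙 _) (by rw [Category.assoc, unit_hom, Category.comp_id,
      Category.id_comp])
  have hσ₀ : Set.range σ₀ ⊆ (Zc : Set X) := by
    rintro _ ⟨t, rfl⟩
    show iX (σ₀ t) ∈ C
    have h1 : iX (σ₀ t) = (σ₀ ≫ iX) t := rfl
    have h2 : σ₀ ≫ iX = j ≫ η[G].left := pullback.lift_fst _ _ _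
    have h3 : j t = f p' := by
      have : j t ∈ Set.range j := ⟨t, rfl⟩
      rw [Scheme.range_fromSpecResidueField] at this
      exact this
    rw [h1, h2]
    show η[G].left (j t) ∈ C
    rw [h3]
    exact mem_connectedComponentIn heF
  obtain ⟨σ, hσ⟩ := exists_lift_vanishingIdeal Zc σ₀ hσ₀
  let h : Z ⟶ Spec (S.residueField (f p')) := iZ ≫ pullback.snd G.hom j
  have hσh : σ ≫ h = 𝟙 _ := by
    show σ ≫ iZ ≫ _ = _
    rw [← Category.assoc, hσ]
    exact pullback.lift_snd _ _ _
  let r : Spec (S'.residueField p') ⟶ Spec (S.residueField (f p')) :=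
    Spec.map (f.residueFieldMap p')
  haveI : ConnectedSpace ↥(pullback h r) :=
    Groth.Agent.S5342.result (S.residueField (f p')) Z (Spec (S'.residueField p')) h r σ hσh
  have e₁ : h ≫ j = (iZ ≫ iX) ≫ G.hom := by
    show (iZ ≫ pullback.snd G.hom j) ≫ j = (iZ ≫ pullback.fst G.hom j) ≫ G.hom
    rw [Category.assoc, Category.assoc, pullback.condition]
  have e₂ : r ≫ j = S'.fromSpecResidueField p' ≫ f :=
    Scheme.Hom.SpecMap_residueFieldMap_fromSpecResidueField f p'
  let w := pullback.map h r G.hom f (iZ ≫ iX) (S'.fromSpecResidueField p') j e₁ e₂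
  have hw : Set.range w = (pullback.fst G.hom f) ⁻¹' C ∩ (pullback.snd G.hom f) ⁻¹' {p'} := by
    rw [Scheme.Pullback.range_map, hrZ, Scheme.range_fromSpecResidueField]
  show _root_.IsPreconnected ((pullback.fst G.hom f) ⁻¹' C ∩ (pullback.snd G.hom f) ⁻¹' {p'})
  rw [← hw]
  exact isPreconnected_range w.continuous

/-- the neutral component commutes with base change -/
theorem neutralSet_bc :
    SGA3x.neutralSet (Red.bc f G) = (pullback.fst G.hom f).base ⁻¹' SGA3x.neutralSet G := by
  rw [neutralSet_eq, neutralSet_eq]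
  have hhom : (Red.bc f G).hom = pullback.snd G.hom f := rfl
  ext x'
  simp only [Set.mem_iUnion, Set.mem_preimage]
  constructor
  · rintro ⟨p', hp'⟩
    refine ⟨f p', ?_⟩
    have hmem : η[Red.bc f G].left p' ∈ (Red.bc f G).hom ⁻¹' {p'} := hom_unit (Red.bc f G) p'
    have h1 := (pullback.fst G.hom f).continuous.continuousOn.image_connectedComponentIn_subset
      (s := (Red.bc f G).hom ⁻¹' {p'}) hmem
    have h2 : (pullback.fst G.hom f) (η[Red.bc f G].left p') = η[G].left (f p') :=
      congrArg (fun m : S' ⟶ G.left => m p') (unit_bc_fst f G)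
    have h3 : (pullback.fst G.hom f) '' ((Red.bc f G).hom ⁻¹' {p'}) ⊆ G.hom ⁻¹' {f p'} := by
      rintro _ ⟨y, hy, rfl⟩
      have hy' : (pullback.snd G.hom f) y = p' := hy
      show G.hom ((pullback.fst G.hom f) y) = f p'
      rw [← hy']
      exact congrArg (fun m : pullback G.hom f ⟶ S => m y) pullback.condition
    have h4 := h1 ⟨x', hp', rfl⟩
    rw [h2] at h4
    exact connectedComponentIn_mono _ h3 h4
  · rintro ⟨p, hp⟩
    have hp1 : G.hom ((pullback.fst G.hom f) x') = p :=
      (connectedComponentIn_subset (G.hom ⁻¹' {p}) (η[G].left p) hp : _ ∈ G.hom ⁻¹' {p})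
    have hp2 : G.hom ((pullback.fst G.hom f) x') = f ((pullback.snd G.hom f) x') :=
      congrArg (fun m : pullback G.hom f ⟶ S => m x') pullback.condition
    obtain rfl : p = f ((pullback.snd G.hom f) x') := hp1.symm.trans hp2
    refine ⟨(pullback.snd G.hom f) x', ?_⟩
    have hmem : η[Red.bc f G].left ((pullback.snd G.hom f) x') ∈
        (Red.bc f G).hom ⁻¹' {(pullback.snd G.hom f) x'} := hom_unit (Red.bc f G) _
    have h2 : (pullback.fst G.hom f) (η[Red.bc f G].left ((pullback.snd G.hom f) x')) =
        η[G].left (f ((pullback.snd G.hom f) x')) :=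
      congrArg (fun m : S' ⟶ G.left => m ((pullback.snd G.hom f) x')) (unit_bc_fst f G)
    refine (isPreconnected_inter f G ((pullback.snd G.hom f) x')).subset_connectedComponentIn
      ⟨?_, hmem⟩ Set.inter_subset_right ⟨hp, rfl⟩
    show (pullback.fst G.hom f) (η[Red.bc f G].left ((pullback.snd G.hom f) x')) ∈
      connectedComponentIn (G.hom ⁻¹' {f ((pullback.snd G.hom f) x')})
        (η[G].left (f ((pullback.snd G.hom f) x')))
    rw [h2]
    exact mem_connectedComponentIn (hom_unit G _)

end Groth.Agent.Lib.Helper79.NeutralBC
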