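import Mathlib
import Groth.Prelude.Def_SGA3x
import Groth.Prelude.Def_Red
import Groth.Prelude.Def_AutSch
import Groth.Agent.Lib.Helper79.NeutralBC
import Groth.Agent.Lib.Helper62.GrpComp

/-!
# A quasi-compact open containing the neutral components of the fibres (helper79)
-/

set_option autoImplicit false
set_option linter.style.haveILetI false
set_option linter.unusedSectionVars false

universe u

open CategoryTheory CategoryTheory.Limits MonoidalCategory CartesianMonoidalCategory MonObj GrpObj
  AlgebraicGeometry TopologicalSpace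

namespace Groth.Agent.Lib.Helper79.NeutralQC

open Groth.Agent.Lib.Helper79.NeutralBC

/-- a compact subset of a scheme is contained in a quasi-compact open -/
theorem exists_compact_open_superset {X : Scheme.{u}} {K : Set X} (hK : IsCompact K) :
    ∃ U : X.Opens, IsCompact (U : Set X) ∧ K ⊆ U := by
  have h : ∀ x : X, ∃ W : X.Opens, IsAffineOpen W ∧ x ∈ W := by
    intro x
    obtain ⟨W, hW, hxW, -⟩ := exists_isAffineOpen_mem_and_subset (U := ⊤) (x := x) (by simp)
    exact ⟨W, hW, hxW⟩
  choose W hWaff hxW using h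
  obtain ⟨t, -, ht⟩ := hK.elim_nhds_subcover (fun x => (W x : Set X))
    (fun x _ => (W x).isOpen.mem_nhds (hxW x))
  refine ⟨⟨⋃ x ∈ t, (W x : Set X), isOpen_biUnion fun x _ => (W x).isOpen⟩, ?_, ht⟩
  exact t.isCompact_biUnion (fun x _ => (hWaff x).isCompact)

variable {S : Scheme.{u}} (G : Over S) [GrpObj G]

/-- every point of the neutral components is a product of two points of any open neighbourhood of
the unit section -/
theorem exists_mul_eq (V : G.left.Opens) (hV : ∀ s : S, η[G].left s ∈ V) (x : G.left)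
    (hx : x ∈ SGA3x.neutralSet G) :
    ∃ z : ↥(G ⊗ G).left, (fst G G).left z ∈ V ∧ (snd G G).left z ∈ V ∧ μ[G].left z = x := by
  let t : Spec (G.left.residueField x) ⟶ G.left := G.left.fromSpecResidueField x
  have ht : ∀ q, t q = x := by
    intro q
    have : t q ∈ Set.range t := ⟨q, rfl⟩
    rw [Scheme.range_fromSpecResidueField] at this
    exact this
  let φ : Spec (G.left.residueField x) ⟶ S := t ≫ G.hom
  let GT : Over (Spec (G.left.residueField x)) := Red.bc φ G
  let pr₁ : GT.left ⟶ G.left := pullback.fst G.hom φ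
  let pr₂ : GT.left ⟶ Spec (G.left.residueField x) := pullback.snd G.hom φ
  let P : Over S := Over.mk (pr₂ ≫ φ)
  let a : P ⟶ G := Over.homMk pr₁ pullback.condition
  let b : P ⟶ G := Over.homMk (pr₂ ≫ t) (by simp [P, φ])
  let β : P ⟶ G := a⁻¹ * b
  let gm : P ⟶ G ⊗ G := lift a β
  have hgmμ : gm ≫ μ[G] = b := by
    have h1 : gm ≫ μ[G] = a * β := rfl
    rw [h1]
    exact mul_inv_cancel_left a b
  have hgm₁ : gm ≫ fst G G = a := lift_fst _ _
  have hgm₂ : gm ≫ snd G G = β := lift_snd _ _
  let pt : Spec (G.left.residueField x) := IsLocalRing.closedPoint (G.left.residueField x)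
  let u : GT.left := η[GT].left pt
  -- `pr₁ u ∈ V`
  have hu : pr₁ u ∈ V := by
    have h1 : pr₁ u = (η[GT].left ≫ pr₁) pt := rfl
    rw [h1, unit_bc_fst φ G]
    exact hV (φ pt)
  -- the rational point `t̃`
  let tt : Spec (G.left.residueField x) ⟶ GT.left :=
    pullback.lift t (𝟙 _) (by rw [Category.id_comp])
  have htt₁ : tt ≫ pr₁ = t := pullback.lift_fst _ _ _
  have htt₂ : tt ≫ pr₂ = 𝟙 _ := pullback.lift_snd _ _ _
  let v : GT.left := tt pt
  let tt' : Over.mk φ ⟶ P := Over.homMk tt (by
    show tt ≫ pr₂ ≫ φ = φ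
    rw [← Category.assoc, htt₂, Category.id_comp])
  have hab : tt' ≫ a = tt' ≫ b := by
    apply Over.OverMorphism.ext
    show tt ≫ pr₁ = tt ≫ pr₂ ≫ t
    rw [htt₁, ← Category.assoc, htt₂, Category.id_comp]
  have hβ1 : tt' ≫ β = 1 := by
    show tt' ≫ (a⁻¹ * b) = 1
    rw [MonObj.comp_mul, GrpObj.comp_inv, hab, inv_mul_cancel]
  have hv : β.left v ∈ V := by
    have h1 : β.left v = (tt' ≫ β).left pt := rfl
    rw [h1, hβ1, Hom.one_def]
    show η[G].left ((toUnit (Over.mk φ)).left pt) ∈ V
    exact hV _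
  -- both points lie in the connected component of the unit
  have hcc : SGA3x.neutralSet GT = connectedComponent u :=
    AutSch.neutralSet_eq_connectedComponent (k := G.left.residueField x) GT
  have hvcc : v ∈ connectedComponent u := by
    rw [← hcc, neutralSet_bc φ G]
    show pr₁ v ∈ SGA3x.neutralSet G
    have h1 : pr₁ v = (tt ≫ pr₁) pt := rfl
    rw [h1, htt₁, ht]
    exact hx
  have hirr : IsIrreducible (connectedComponent u) :=
    (Groth.Agent.Lib.Helper62.GrpComp.main (k := G.left.residueField x) GT).1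
  obtain ⟨y, -, hyA, hyB⟩ := hirr.2 (pr₁ ⁻¹' (V : Set G.left)) (β.left ⁻¹' (V : Set G.left))
    (V.isOpen.preimage pr₁.continuous) (V.isOpen.preimage β.left.continuous)
    ⟨u, mem_connectedComponent, hu⟩ ⟨v, hvcc, hv⟩
  refine ⟨gm.left y, ?_, ?_, ?_⟩
  · have h1 : (fst G G).left (gm.left y) = (gm ≫ fst G G).left y := rfl
    rw [h1, hgm₁]
    exact hyA
  · have h1 : (snd G G).left (gm.left y) = (gm ≫ snd G G).left y := rfl
    rw [h1, hgm₂]
    exact hyB
  · have h1 : μ[G].left (gm.left y) = (gm ≫ μ[G]).left y := rfl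
    rw [h1, hgmμ]
    exact ht _

/-- the "box" of a quasi-compact open over a quasi-separated base is quasi-compact -/
theorem isCompact_box [QuasiSeparatedSpace S] (V : G.left.Opens)
    (hV : IsCompact (V : Set G.left)) :
    IsCompact ((fst G G).left ⁻¹' (V : Set G.left) ∩ (snd G G).left ⁻¹' (V : Set G.left)) := by
  haveI : CompactSpace ↥(V : Scheme.{u}) := isCompact_iff_compactSpace.mp hV
  haveI : QuasiCompact (V.ι ≫ G.hom) := quasiCompact_of_compactSpace _
  haveI : CompactSpace ↥(pullback (V.ι ≫ G.hom) (V.ι ≫ G.hom)) :=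
    QuasiCompact.compactSpace_of_compactSpace (pullback.fst (V.ι ≫ G.hom) (V.ι ≫ G.hom))
  let ω : pullback (V.ι ≫ G.hom) (V.ι ≫ G.hom) ⟶ pullback G.hom G.hom :=
    pullback.map _ _ _ _ V.ι V.ι (𝟙 S) (by rw [Category.comp_id]) (by rw [Category.comp_id])
  have hω : Set.range ω = (pullback.fst G.hom G.hom) ⁻¹' (V : Set G.left) ∩
      (pullback.snd G.hom G.hom) ⁻¹' (V : Set G.left) := by
    rw [Scheme.Pullback.range_map, Scheme.Opens.range_ι]
  show IsCompact ((pullback.fst G.hom G.hom) ⁻¹' (V : Set G.left) ∩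
      (pullback.snd G.hom G.hom) ⁻¹' (V : Set G.left))
  rw [← hω]
  exact isCompact_range ω.continuous

/-- a quasi-compact open containing the neutral components -/
theorem exists_compact_open_neutralSet [CompactSpace S] [QuasiSeparatedSpace S] :
    ∃ U : G.left.Opens, IsCompact (U : Set G.left) ∧ SGA3x.neutralSet G ⊆ U := by
  haveI : CompactSpace ↥(𝟙_ (Over S)).left := ‹CompactSpace S›
  obtain ⟨V, hVc, hVe⟩ := exists_compact_open_superset (isCompact_range η[G].left.continuous)
  have hV : ∀ s : S, η[G].left s ∈ V := fun s => hVe ⟨s, rfl⟩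
  have hK := (isCompact_box G V hVc).image μ[G].left.continuous
  obtain ⟨U, hUc, hUK⟩ := exists_compact_open_superset hK
  refine ⟨U, hUc, fun x hx => hUK ?_⟩
  obtain ⟨z, hz1, hz2, hz3⟩ := exists_mul_eq G V hV x hx
  exact ⟨z, ⟨hz1, hz2⟩, hz3⟩

/-- if all fibres are connected the neutral set is everything -/
theorem neutralSet_eq_univ (hconn : ∀ s : S, _root_.IsConnected (G.hom.base ⁻¹' {s})) :
    SGA3x.neutralSet G = Set.univ := by
  rw [neutralSet_eq]
  apply Set.eq_univ_of_forall
  intro x
  simp only [Set.mem_iUnion]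
  refine ⟨G.hom x, ?_⟩
  rw [(hconn (G.hom x)).isPreconnected.connectedComponentIn (hom_unit G _)]
  rfl

/-- a group scheme with connected fibres is quasi-compact over its base -/
theorem quasiCompact_of_connected (hconn : ∀ s : S, _root_.IsConnected (G.hom.base ⁻¹' {s})) :
    QuasiCompact G.hom := by
  rw [quasiCompact_iff_forall_isAffineOpen]
  intro W hW
  haveI : IsAffine (W : Scheme.{u}) := hW
  have h1 : SGA3x.neutralSet (Red.bc W.ι G) = Set.univ := by
    rw [neutralSet_bc W.ι G, neutralSet_eq_univ G hconn]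
    rfl
  obtain ⟨U, hUc, hU⟩ := exists_compact_open_neutralSet (Red.bc W.ι G)
  rw [h1] at hU
  have huniv : IsCompact (Set.univ : Set ↥(pullback G.hom W.ι)) :=
    hUc.of_isClosed_subset isClosed_univ hU
  have h2 : (G.hom ⁻¹ᵁ W : Set G.left) = Set.range (pullback.fst G.hom W.ι) := by
    rw [Scheme.Pullback.range_fst, Scheme.Opens.range_ι]
    rfl
  rw [h2, ← Set.image_univ]
  exact huniv.image (pullback.fst G.hom W.ι).continuous

end Groth.Agent.Lib.Helper79.NeutralQC
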