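import Mathlib.RingTheory.Ideal.Operations
import Mathlib.RingTheory.Ideal.MinimalPrime.Localization
import Mathlib.RingTheory.Ideal.AssociatedPrime.Finiteness

/-!
# Coset version of prime avoidance

If `x + I` is contained in a finite union of prime ideals then `x` and `I` both lie in one
of them.
-/

namespace Groth.Agent.Lib.Helper79

open Ideal

/-- Coset prime avoidance: for a finite set `s` of prime ideals, either some `z ∈ I` has
`x + z` outside all of them, or one of them contains both `x` and `I`. -/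
theorem exists_add_notMem_or_exists_le {R : Type*} [CommRing R] (s : Finset (Ideal R))
    (hs : ∀ p ∈ s, p.IsPrime) (I : Ideal R) (x : R) :
    (∃ z ∈ I, ∀ p ∈ s, x + z ∉ p) ∨ ∃ p ∈ s, x ∈ p ∧ I ≤ p := by
  classical
  by_cases hcase : ∃ p ∈ s, x ∈ p ∧ I ≤ p
  · exact Or.inr hcase
  left
  push Not at hcase
  -- `S`: primes containing `x`; `T`: primes not containing `x` and not below any member of `S`.
  set S : Finset (Ideal R) := s.filter (fun p => x ∈ p) with hS
  set T : Finset (Ideal R) := s.filter (fun q => x ∉ q ∧ ∀ p ∈ S, ¬ q ≤ p) with hT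
  set J : Ideal R := I * ∏ q ∈ T, q with hJ
  have hJS : ¬ ((J : Set R) ⊆ ⋃ p ∈ (↑S : Set (Ideal R)), (id p : Ideal R)) := by
    rw [Ideal.subset_union_prime (f := id) ⊥ ⊥ (fun p hp _ _ => hs p (Finset.mem_filter.mp hp).1)]
    rintro ⟨p, hpS, hJp⟩
    have hp := Finset.mem_filter.mp hpS
    have hpprime : p.IsPrime := hs p hp.1
    rcases (hpprime.mul_le).1 hJp with h | h
    · exact hcase p hp.1 hp.2 h
    · obtain ⟨q, hqT, hq⟩ := (hpprime.prod_le).1 h
      exact (Finset.mem_filter.mp hqT).2.2 p hpS hq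
  rw [Set.not_subset] at hJS
  obtain ⟨z, hzJ, hz⟩ := hJS
  have hzI : z ∈ I := Ideal.mul_le_right (I := ∏ q ∈ T, q) (J := I) (by
    rw [mul_comm]; exact hzJ)
  have hzT : ∀ q ∈ T, z ∈ q := by
    intro q hq
    have h1 : z ∈ ∏ q ∈ T, q := Ideal.mul_le_left (I := ∏ q ∈ T, q) (J := I) (by
      rw [mul_comm]; exact hzJ)
    exact (Ideal.prod_le_inf.trans (Finset.inf_le hq)) h1
  have hzS : ∀ p ∈ S, z ∉ p := by
    intro p hp hzp
    apply hz
    simp only [Set.mem_iUnion]
    exact ⟨p, hp, hzp⟩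
  refine ⟨z, hzI, fun p hp hxz => ?_⟩
  by_cases hxp : x ∈ p
  · have hpS : p ∈ S := Finset.mem_filter.mpr ⟨hp, hxp⟩
    exact hzS p hpS ((Ideal.add_mem_iff_right p hxp).mp hxz)
  · by_cases hpT : p ∈ T
    · exact hxp ((Ideal.add_mem_iff_left p (hzT p hpT)).mp hxz)
    · have : ∃ p' ∈ S, p ≤ p' := by
        by_contra hcon
        push Not at hcon
        exact hpT (Finset.mem_filter.mpr ⟨hp, hxp, hcon⟩)
      obtain ⟨p', hp'S, hpp'⟩ := this
      have hxp' : x ∈ p' := (Finset.mem_filter.mp hp'S).2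
      exact hzS p' hp'S ((Ideal.add_mem_iff_right p' hxp').mp (hpp' hxz))

/-- In a Noetherian ring whose associated primes are all minimal, a non-zero-divisor of `A ⧸ I`
lifts to a non-zero-divisor of `A`. -/
theorem exists_nonZeroDivisor_lift {A : Type*} [CommRing A] [IsNoetherianRing A]
    (hS1 : ∀ p ∈ associatedPrimes A A, p ∈ minimalPrimes A) (I : Ideal A)
    (b : A ⧸ I) (hb : b ∈ nonZeroDivisors (A ⧸ I)) :
    ∃ a : A, a ∈ nonZeroDivisors A ∧ Ideal.Quotient.mk I a = b := by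
  classical
  obtain ⟨a₀, rfl⟩ := Ideal.Quotient.mk_surjective b
  have hfin := associatedPrimes.finite A A
  rcases exists_add_notMem_or_exists_le hfin.toFinset
    (fun p hp => ((hfin.mem_toFinset).1 hp).isPrime) I a₀ with ⟨z, hzI, hz⟩ | ⟨p, hp, ha₀p, hIp⟩
  · refine ⟨a₀ + z, ?_, ?_⟩
    · by_contra hnz
      have hmem : a₀ + z ∈ (nonZeroDivisors A : Set A)ᶜ := hnz
      rw [← biUnion_associatedPrimes_eq_compl_nonZeroDivisors A] at hmem
      simp only [Set.mem_iUnion] at hmem
      obtain ⟨p, hp, hzp⟩ := hmem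
      exact hz p ((hfin.mem_toFinset).2 hp) hzp
    · rw [map_add, (Ideal.Quotient.eq_zero_iff_mem).2 hzI, add_zero]
  · exfalso
    have hpass : p ∈ associatedPrimes A A := (hfin.mem_toFinset).1 hp
    have hpmin : p ∈ minimalPrimes A := hS1 p hpass
    have hpI : p ∈ I.minimalPrimes := by
      refine ⟨⟨hpmin.1.1, hIp⟩, fun q hq hqp => hpmin.2 ⟨hq.1, bot_le⟩ hqp⟩
    rw [Ideal.minimalPrimes_eq_comap] at hpI
    obtain ⟨q, hq, rfl⟩ := hpI
    exact notMem_nonZeroDivisors_of_mem_mem_minimalPrimes (x := Ideal.Quotient.mk I a₀)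
      (Ideal.mem_comap.mp ha₀p) hq hb

end Groth.Agent.Lib.Helper79
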