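import Groth.Prelude.Def_SGA1
import Mathlib

/-!
# Invariant sections over a union of translates (helper79)

A group `G` acts on a scheme `X`; `Y'` is an open subset stable under a subgroup `H`, whose
`G`-translates cover the `G`-stable open `W`, two translates meeting only if they agree.  Then
`G`-invariant sections over `W` correspond to `H`-invariant sections over `Y'` by restriction.
-/

set_option autoImplicit false

namespace Groth.Agent.Lib.Helper79.QuotCoset

open CategoryTheory AlgebraicGeometry TopologicalSpace Opposite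

universe u

variable {X : Scheme.{u}} {G : Type u} [Group G] (ρ : G →* Aut X)

theorem hom_mul (a g : G) : (ρ (g * a)).hom = (ρ a).hom ≫ (ρ g).hom := by
  rw [map_mul]; rfl

theorem appLE_congr_hom {X Y : Scheme.{u}} {f f' : X ⟶ Y} (h : f = f') (U : Y.Opens)
    (V : X.Opens) (e : V ≤ f ⁻¹ᵁ U) (e' : V ≤ f' ⁻¹ᵁ U) : f.appLE U V e = f'.appLE U V e' := by
  subst h
  rfl

/-- `appLE` of a product of group elements. -/
theorem appLE_mul (a g : G) (U V V' : X.Opens) (e₁ : V ≤ (ρ g).hom ⁻¹ᵁ U)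
    (e₂ : V' ≤ (ρ a).hom ⁻¹ᵁ V) (e : V' ≤ (ρ (g * a)).hom ⁻¹ᵁ U) :
    (ρ (g * a)).hom.appLE U V' e = (ρ g).hom.appLE U V e₁ ≫ (ρ a).hom.appLE V V' e₂ := by
  rw [Scheme.Hom.appLE_comp_appLE]
  exact appLE_congr_hom (hom_mul ρ a g) _ _ _ _

section

variable (Y' W : X.Opens) (H : Subgroup G)
  (hW : ∀ g : G, W ≤ (ρ g).hom ⁻¹ᵁ W)
  (hYW : Y' ≤ W)
  (hH : ∀ h : G, h ∈ H → Y' ≤ (ρ h).hom ⁻¹ᵁ Y')
  (hdisj : ∀ (g : G) (x : X), x ∈ Y' → (ρ g).hom.base x ∈ Y' → g ∈ H)
  (hcov : ∀ x : X, x ∈ W → ∃ g : G, (ρ g).hom.base x ∈ Y')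

include hcov in
/-- two `G`-invariant sections over `W` agreeing on `Y'` are equal -/
theorem eq_of_res_eq (s t : Γ(X, W))
    (hs : ∀ g, ((ρ g).hom.appLE W W (hW g)).hom s = s)
    (ht : ∀ g, ((ρ g).hom.appLE W W (hW g)).hom t = t)
    (hst : (X.presheaf.map (homOfLE hYW).op).hom s = (X.presheaf.map (homOfLE hYW).op).hom t) :
    s = t := by
  refine X.IsSheaf.section_ext (U := op W) fun x hx => ?_
  obtain ⟨g, hg⟩ := hcov x hx
  have hV : W ⊓ (ρ g).hom ⁻¹ᵁ Y' ≤ W := inf_le_left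
  refine ⟨W ⊓ (ρ g).hom ⁻¹ᵁ Y', hV, ⟨hx, hg⟩, ?_⟩
  have key : ∀ r : Γ(X, W), ((ρ g).hom.appLE W W (hW g)).hom r = r →
      (X.presheaf.map (homOfLE hV).op).hom r =
        ((ρ g).hom.appLE Y' (W ⊓ (ρ g).hom ⁻¹ᵁ Y') inf_le_right).hom
          ((X.presheaf.map (homOfLE hYW).op).hom r) := by
    intro r hr
    have e1 : (ρ g).hom.appLE W W (hW g) ≫ X.presheaf.map (homOfLE hV).op =
        X.presheaf.map (homOfLE hYW).op ≫
          (ρ g).hom.appLE Y' (W ⊓ (ρ g).hom ⁻¹ᵁ Y') inf_le_right := by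
      rw [Scheme.Hom.appLE_map, Scheme.Hom.map_appLE]
    have := congrArg (fun k => k.hom r) e1
    simp only [CommRingCat.hom_comp, RingHom.comp_apply] at this
    rw [hr] at this
    exact this
  exact (key s (hs g)).trans ((congrArg _ hst).trans (key t (ht g)).symm)

include hW hH hdisj hcov in
/-- an `H`-invariant section over `Y'` extends to a `G`-invariant section over `W` -/
theorem exists_invariant_extension (s : Γ(X, Y'))
    (hs : ∀ (h : G) (hh : h ∈ H), ((ρ h).hom.appLE Y' Y' (hH h hh)).hom s = s) :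
    ∃ t : Γ(X, W), (∀ g, ((ρ g).hom.appLE W W (hW g)).hom t = t) ∧
      (X.presheaf.map (homOfLE hYW).op).hom t = s := by
  let Wg : G → X.Opens := fun g => W ⊓ (ρ g).hom ⁻¹ᵁ Y'
  let sf : ∀ g : G, Γ(X, Wg g) := fun g => ((ρ g).hom.appLE Y' (Wg g) inf_le_right).hom s
  have hWgW : ∀ g, Wg g ≤ W := fun g => inf_le_left
  have hcover : W ≤ iSup Wg := by
    intro x hx
    obtain ⟨g, hg⟩ := hcov x hx
    exact Opens.mem_iSup.2 ⟨g, hx, hg⟩
  -- restriction of `sf g` to a smaller open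
  have hres : ∀ (g : G) (V : X.Opens) (hV : V ≤ Wg g),
      (X.presheaf.map (homOfLE hV).op).hom (sf g) =
        ((ρ g).hom.appLE Y' V (hV.trans inf_le_right)).hom s := by
    intro g V hV
    have e1 : (ρ g).hom.appLE Y' (Wg g) inf_le_right ≫ X.presheaf.map (homOfLE hV).op =
        (ρ g).hom.appLE Y' V (hV.trans inf_le_right) := Scheme.Hom.appLE_map _ _ _
    exact congrArg (fun k => k.hom s) e1
  -- if two members of the cover meet, the sections agree on every common smaller open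
  have hagree : ∀ (g g' : G) (x : X), x ∈ Wg g → x ∈ Wg g' → ∀ (V : X.Opens)
      (h1 : V ≤ (ρ g).hom ⁻¹ᵁ Y') (h2 : V ≤ (ρ g').hom ⁻¹ᵁ Y'),
      ((ρ g).hom.appLE Y' V h1).hom s = ((ρ g').hom.appLE Y' V h2).hom s := by
    intro g g' x hx hx' V h1 h2
    have hh : g' * g⁻¹ ∈ H := by
      apply hdisj (g' * g⁻¹) ((ρ g).hom.base x) hx.2
      have : (ρ (g' * g⁻¹)).hom.base ((ρ g).hom.base x) = (ρ g').hom.base x := by
        have h3 : (ρ g).hom ≫ (ρ (g' * g⁻¹)).hom = (ρ g').hom := by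
          rw [← hom_mul, inv_mul_cancel_right]
        exact congrArg (fun k => k.base x) h3
      rw [this]
      exact hx'.2
    have e2 : (ρ (g' * g⁻¹ * g)).hom.appLE Y' V (by rw [inv_mul_cancel_right]; exact h2) =
        (ρ (g' * g⁻¹)).hom.appLE Y' Y' (hH _ hh) ≫ (ρ g).hom.appLE Y' V h1 :=
      appLE_mul ρ g (g' * g⁻¹) Y' Y' V _ _ _
    have e3 : (ρ g').hom.appLE Y' V h2 =
        (ρ (g' * g⁻¹)).hom.appLE Y' Y' (hH _ hh) ≫ (ρ g).hom.appLE Y' V h1 := by
      rw [← e2]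
      exact appLE_congr_hom (by rw [inv_mul_cancel_right]) _ _ _ _
    have e4 := congrArg (fun k => k.hom s) e3
    simp only [CommRingCat.hom_comp, RingHom.comp_apply] at e4
    rw [hs _ hh] at e4
    exact e4.symm
  have hcompat : TopCat.Presheaf.IsCompatible X.presheaf Wg sf := by
    intro g g'
    refine X.IsSheaf.section_ext (U := op (Wg g ⊓ Wg g')) fun x hx => ?_
    refine ⟨Wg g ⊓ Wg g', le_rfl, hx, congrArg _ ?_⟩
    have h1 := hres g (Wg g ⊓ Wg g') inf_le_left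
    have h2 := hres g' (Wg g ⊓ Wg g') inf_le_right
    exact (h1.trans (hagree g g' x hx.1 hx.2 _ _ _)).trans h2.symm
  obtain ⟨t', ht', -⟩ :=
    X.sheaf.existsUnique_gluing' Wg W (fun g => homOfLE (hWgW g)) hcover sf hcompat
  let t : Γ(X, W) := t'
  have ht : ∀ g, (X.presheaf.map (homOfLE (hWgW g)).op).hom t = sf g := ht'
  refine ⟨t, fun a => ?_, ?_⟩
  · -- invariance
    refine X.IsSheaf.section_ext (U := op W) fun x hx => ?_
    obtain ⟨g, hg⟩ := hcov x hx
    refine ⟨Wg g, hWgW g, ⟨hx, hg⟩, ?_⟩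
    -- the image of `Wg g` under `a` lies in `Wg (g * a⁻¹)`
    have hsub : Wg g ≤ (ρ a).hom ⁻¹ᵁ (Wg (g * a⁻¹)) := by
      intro z hz
      refine ⟨hW a hz.1, ?_⟩
      have h3 : (ρ a).hom ≫ (ρ (g * a⁻¹)).hom = (ρ g).hom := by
        rw [← hom_mul, inv_mul_cancel_right]
      have : (ρ (g * a⁻¹)).hom.base ((ρ a).hom.base z) = (ρ g).hom.base z :=
        congrArg (fun k => k.base z) h3
      show (ρ (g * a⁻¹)).hom.base ((ρ a).hom.base z) ∈ Y'
      rw [this]
      exact hz.2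
    have e1 : (ρ a).hom.appLE W W (hW a) ≫ X.presheaf.map (homOfLE (hWgW g)).op =
        X.presheaf.map (homOfLE (hWgW (g * a⁻¹))).op ≫
          (ρ a).hom.appLE (Wg (g * a⁻¹)) (Wg g) hsub := by
      rw [Scheme.Hom.appLE_map, Scheme.Hom.map_appLE]
    have e2 := congrArg (fun k => k.hom t) e1
    simp only [CommRingCat.hom_comp, RingHom.comp_apply] at e2
    rw [ht (g * a⁻¹)] at e2
    have e3 : (ρ (g * a⁻¹ * a)).hom.appLE Y' (Wg g)
        (by rw [inv_mul_cancel_right]; exact inf_le_right) =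
        (ρ (g * a⁻¹)).hom.appLE Y' (Wg (g * a⁻¹)) inf_le_right ≫
          (ρ a).hom.appLE (Wg (g * a⁻¹)) (Wg g) hsub :=
      appLE_mul ρ a (g * a⁻¹) Y' (Wg (g * a⁻¹)) (Wg g) _ _ _
    have e4 : (ρ g).hom.appLE Y' (Wg g) inf_le_right =
        (ρ (g * a⁻¹)).hom.appLE Y' (Wg (g * a⁻¹)) inf_le_right ≫
          (ρ a).hom.appLE (Wg (g * a⁻¹)) (Wg g) hsub := by
      rw [← e3]
      exact appLE_congr_hom (by rw [inv_mul_cancel_right]) _ _ _ _
    have e5 := congrArg (fun k => k.hom s) e4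
    simp only [CommRingCat.hom_comp, RingHom.comp_apply] at e5
    show (X.presheaf.map (homOfLE (hWgW g)).op).hom (((ρ a).hom.appLE W W (hW a)).hom t) =
      (X.presheaf.map (homOfLE (hWgW g)).op).hom t
    rw [e2, ht g]
    exact e5.symm
  · -- restriction to `Y'`
    have h1 : Y' ≤ Wg 1 := by
      intro z hz
      refine ⟨hYW hz, ?_⟩
      show (ρ 1).hom.base z ∈ Y'
      have : (ρ 1).hom = 𝟙 X := by rw [map_one]; rfl
      rw [this]
      exact hz
    have e1 : X.presheaf.map (homOfLE hYW).op =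
        X.presheaf.map (homOfLE (hWgW 1)).op ≫ X.presheaf.map (homOfLE h1).op := by
      rw [← Functor.map_comp]; rfl
    have e2 := congrArg (fun k => k.hom t) e1
    simp only [CommRingCat.hom_comp, RingHom.comp_apply] at e2
    rw [e2, ht 1, hres 1 Y' h1]
    exact hs 1 H.one_mem

end

end Groth.Agent.Lib.Helper79.QuotCoset
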