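import Groth.Prelude.Def_SGA1
import Groth.Agent.Lib.Helper79.QuotCoset
import Groth.Agent.S2925
import Mathlib

/-!
# Transporting `SGA1.IsQuot` along isomorphisms; uniqueness of quotients
-/

set_option autoImplicit false
open CategoryTheory CategoryTheory.Limits AlgebraicGeometry
universe u

namespace Groth.Agent.Lib.Helper79.QuotTransport

open Groth.Agent.Lib.Helper79.QuotCoset

variable {X Y : Scheme.{u}} {G : Type u} [Group G]

/-- composing a quotient map with an isomorphism of the target. -/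
theorem isQuot_comp_iso (ρ : G →* Aut X) (p : X ⟶ Y) (hp : SGA1.IsQuot ρ p) {Y' : Scheme.{u}}
    (b : Y ⟶ Y') [IsIso b] : SGA1.IsQuot ρ (p ≫ b) := by
  have haff := hp.affine
  have hinv : ∀ g : G, (ρ g).hom ≫ p ≫ b = p ≫ b := fun g => by
    rw [← Category.assoc, hp.inv]
  have happ : ∀ U : Y'.Opens, ((p ≫ b).app U).hom = (p.app (b ⁻¹ᵁ U)).hom.comp (b.app U).hom := by
    intro U
    rw [Scheme.Hom.comp_app]
    rfl
  have hbij : ∀ U : Y'.Opens, Function.Bijective (b.app U).hom := fun U =>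
    ConcreteCategory.bijective_of_isIso (b.app U)
  refine ⟨inferInstance, hinv, ?_, ?_⟩
  · intro U
    rw [happ]
    exact (hp.injective _).comp (hbij U).1
  · intro U s
    have h1 : s ∈ Set.range ((p ≫ b).app U).hom ↔ s ∈ Set.range (p.app (b ⁻¹ᵁ U)).hom := by
      rw [happ]
      constructor
      · rintro ⟨t, rfl⟩
        exact ⟨_, rfl⟩
      · rintro ⟨t, rfl⟩
        obtain ⟨t', rfl⟩ := (hbij U).2 t
        exact ⟨t', rfl⟩
    rw [h1]
    exact hp.range_iff (b ⁻¹ᵁ U) s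

/-- precomposing a quotient map with an equivariant isomorphism of the source. -/
theorem isQuot_iso_comp (ρ : G →* Aut X) (p : X ⟶ Y) (hp : SGA1.IsQuot ρ p) {X' : Scheme.{u}}
    (a : X' ⟶ X) [IsIso a] (ρ' : G →* Aut X')
    (hρ' : ∀ g : G, (ρ' g).hom ≫ a = a ≫ (ρ g).hom) : SGA1.IsQuot ρ' (a ≫ p) := by
  have haff := hp.affine
  have hinv : ∀ g : G, (ρ' g).hom ≫ a ≫ p = a ≫ p := fun g => by
    rw [← Category.assoc, hρ', Category.assoc, hp.inv]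
  have happ : ∀ U : Y.Opens, ((a ≫ p).app U).hom = (a.app (p ⁻¹ᵁ U)).hom.comp (p.app U).hom := by
    intro U
    rw [Scheme.Hom.comp_app]
    rfl
  have hbij : ∀ W : X.Opens, Function.Bijective (a.app W).hom := fun W =>
    ConcreteCategory.bijective_of_isIso (a.app W)
  -- conjugation of the actions on sections
  have hconj : ∀ (g : G) (U : Y.Opens) (t : Γ(X, p ⁻¹ᵁ U)),
      ((ρ' g).hom.appLE ((a ≫ p) ⁻¹ᵁ U) ((a ≫ p) ⁻¹ᵁ U)
        (SGA1.preimage_le_of_inv ρ' (a ≫ p) hinv g U)).hom ((a.app (p ⁻¹ᵁ U)).hom t) =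
      (a.app (p ⁻¹ᵁ U)).hom (((ρ g).hom.appLE (p ⁻¹ᵁ U) (p ⁻¹ᵁ U)
        (SGA1.preimage_le_of_inv ρ p hp.inv g U)).hom t) := by
    intro g U t
    have e1 : a.app (p ⁻¹ᵁ U) ≫ (ρ' g).hom.appLE (a ⁻¹ᵁ p ⁻¹ᵁ U) (a ⁻¹ᵁ p ⁻¹ᵁ U)
        (SGA1.preimage_le_of_inv ρ' (a ≫ p) hinv g U) =
        (ρ g).hom.appLE (p ⁻¹ᵁ U) (p ⁻¹ᵁ U) (SGA1.preimage_le_of_inv ρ p hp.inv g U) ≫
          a.app (p ⁻¹ᵁ U) := by
      have l1 := Scheme.Hom.appLE_comp_appLE (ρ' g).hom a (p ⁻¹ᵁ U) (a ⁻¹ᵁ p ⁻¹ᵁ U)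
        (a ⁻¹ᵁ p ⁻¹ᵁ U) le_rfl (SGA1.preimage_le_of_inv ρ' (a ≫ p) hinv g U)
      have l2 := Scheme.Hom.appLE_comp_appLE a (ρ g).hom (p ⁻¹ᵁ U) (p ⁻¹ᵁ U) (a ⁻¹ᵁ p ⁻¹ᵁ U)
        (SGA1.preimage_le_of_inv ρ p hp.inv g U) le_rfl
      rw [Scheme.Hom.app_eq_appLE]
      exact l1.trans ((appLE_congr_hom (hρ' g) _ _ _ _).trans l2.symm)
    exact congrArg (fun k => k.hom t) e1
  refine ⟨inferInstance, hinv, ?_, ?_⟩
  · intro U
    rw [happ]
    exact (hbij _).1.comp (hp.injective U)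
  · intro U s
    obtain ⟨t, rfl⟩ := (hbij (p ⁻¹ᵁ U)).2 s
    have h1 : (a.app (p ⁻¹ᵁ U)).hom t ∈ Set.range ((a ≫ p).app U).hom ↔
        t ∈ Set.range (p.app U).hom := by
      rw [happ]
      constructor
      · rintro ⟨r, hr⟩
        exact ⟨r, (hbij _).1 hr⟩
      · rintro ⟨r, rfl⟩
        exact ⟨r, rfl⟩
    refine h1.trans ((hp.range_iff U t).trans (forall_congr' fun g => ?_))
    constructor
    · intro h
      exact (hconj g U t).trans (congrArg _ h)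
    · intro h
      exact (hbij _).1 ((hconj g U t).symm.trans h)

/-- two quotients of the same action are uniquely isomorphic. -/
theorem isIso_of_isQuot [Finite G] (ρ : G →* Aut X) (p : X ⟶ Y) (hp : SGA1.IsQuot ρ p)
    {Y' : Scheme.{u}} (p' : X ⟶ Y') (hp' : SGA1.IsQuot ρ p') (h : Y ⟶ Y') (hh : p ≫ h = p') :
    IsIso h := by
  obtain ⟨h', hh', -⟩ := Groth.Agent.S2925.result ρ p' hp' Y p hp.inv
  have h1 : h ≫ h' = 𝟙 Y := by
    obtain ⟨k, -, hk⟩ := Groth.Agent.S2925.result ρ p hp Y p hp.inv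
    rw [hk (h ≫ h') (by show p ≫ h ≫ h' = p; rw [← Category.assoc, hh, hh']),
      hk (𝟙 Y) (Category.comp_id p)]
  have h2 : h' ≫ h = 𝟙 Y' := by
    obtain ⟨k, -, hk⟩ := Groth.Agent.S2925.result ρ p' hp' Y' p' hp'.inv
    rw [hk (h' ≫ h) (by show p' ≫ h' ≫ h = p'; rw [← Category.assoc, hh', hh]),
      hk (𝟙 Y') (Category.comp_id p')]
  exact ⟨h', h1, h2⟩

/-- quotient maps are epimorphisms (uniqueness of descent). -/
theorem hom_ext_of_isQuot [Finite G] (ρ : G →* Aut X) (p : X ⟶ Y) (hp : SGA1.IsQuot ρ p)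
    {Z : Scheme.{u}} (a b : Y ⟶ Z) (h : p ≫ a = p ≫ b) : a = b := by
  obtain ⟨k, -, hk⟩ := Groth.Agent.S2925.result ρ p hp Z (p ≫ a) (fun g => by
    rw [← Category.assoc, hp.inv])
  rw [hk a rfl, hk b h.symm]

end Groth.Agent.Lib.Helper79.QuotTransport
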