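import Groth.Prelude.Def_SGA1
import Mathlib

/-!
# Restricting a group action to a stable open subscheme
-/

set_option autoImplicit false
open CategoryTheory CategoryTheory.Limits AlgebraicGeometry
universe u

namespace Groth.Agent.Lib.Helper79.RestrictAut

variable {X : Scheme.{u}} {G : Type u} [Group G]

theorem hom_mul (ρ : G →* Aut X) (a g : G) : (ρ (g * a)).hom = (ρ a).hom ≫ (ρ g).hom := by
  rw [map_mul]; rfl

theorem hom_one (ρ : G →* Aut X) : (ρ 1).hom = 𝟙 X := by
  rw [map_one]; rfl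

/-- the restriction of `ρ g` to a stable open. -/
noncomputable def restrictHom (ρ : G →* Aut X) (U : X.Opens)
    (hU : ∀ (g : G) (x : X), x ∈ U → (ρ g).hom.base x ∈ U) (g : G) :
    (U : Scheme.{u}) ⟶ (U : Scheme.{u}) :=
  IsOpenImmersion.lift U.ι (U.ι ≫ (ρ g).hom) (by
    rintro _ ⟨x, rfl⟩
    rw [Scheme.Opens.range_ι]
    exact hU g x.1 x.2)

@[reassoc]
theorem restrictHom_ι (ρ : G →* Aut X) (U : X.Opens)
    (hU : ∀ (g : G) (x : X), x ∈ U → (ρ g).hom.base x ∈ U) (g : G) :
    restrictHom ρ U hU g ≫ U.ι = U.ι ≫ (ρ g).hom :=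
  IsOpenImmersion.lift_fac _ _ _

theorem restrictHom_mul (ρ : G →* Aut X) (U : X.Opens)
    (hU : ∀ (g : G) (x : X), x ∈ U → (ρ g).hom.base x ∈ U) (a g : G) :
    restrictHom ρ U hU (g * a) = restrictHom ρ U hU a ≫ restrictHom ρ U hU g := by
  rw [← cancel_mono U.ι, Category.assoc, restrictHom_ι, restrictHom_ι, restrictHom_ι_assoc, hom_mul]

theorem restrictHom_one (ρ : G →* Aut X) (U : X.Opens)
    (hU : ∀ (g : G) (x : X), x ∈ U → (ρ g).hom.base x ∈ U) :
    restrictHom ρ U hU 1 = 𝟙 _ := by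
  rw [← cancel_mono U.ι, restrictHom_ι, hom_one, Category.comp_id, Category.id_comp]

/-- the restricted action. -/
noncomputable def restrictAut (ρ : G →* Aut X) (U : X.Opens)
    (hU : ∀ (g : G) (x : X), x ∈ U → (ρ g).hom.base x ∈ U) : G →* Aut (U : Scheme.{u}) where
  toFun g :=
    { hom := restrictHom ρ U hU g
      inv := restrictHom ρ U hU g⁻¹
      hom_inv_id := by rw [← restrictHom_mul, inv_mul_cancel, restrictHom_one]
      inv_hom_id := by rw [← restrictHom_mul, mul_inv_cancel, restrictHom_one] }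
  map_one' := by
    apply Iso.ext
    exact restrictHom_one ρ U hU
  map_mul' g a := by
    apply Iso.ext
    exact restrictHom_mul ρ U hU a g

@[reassoc]
theorem restrictAut_ι (ρ : G →* Aut X) (U : X.Opens)
    (hU : ∀ (g : G) (x : X), x ∈ U → (ρ g).hom.base x ∈ U) (g : G) :
    (restrictAut ρ U hU g).hom ≫ U.ι = U.ι ≫ (ρ g).hom :=
  restrictHom_ι ρ U hU g

theorem restrictAut_base (ρ : G →* Aut X) (U : X.Opens)
    (hU : ∀ (g : G) (x : X), x ∈ U → (ρ g).hom.base x ∈ U) (g : G) (x : U) :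
    U.ι.base ((restrictAut ρ U hU g).hom.base x) = (ρ g).hom.base (U.ι.base x) :=
  congrArg (fun k => k.base x) (restrictAut_ι ρ U hU g)

end Groth.Agent.Lib.Helper79.RestrictAut
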