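import Groth.Prelude.Def_SGA1
import Groth.Agent.Lib.Helper79.QuotTransport
import Groth.Agent.Lib.Helper79.RestrictAut
import Groth.Agent.S12059
import Mathlib

/-!
# Quotients of affine schemes by finite groups exist
-/

set_option autoImplicit false
open CategoryTheory CategoryTheory.Limits AlgebraicGeometry
universe u

namespace Groth.Agent.Lib.Helper79.QuotAffineExists

open Groth.Agent.Lib.Helper79.RestrictAut

variable {G : Type u} [Group G]

theorem exists_isQuot_of_isAffine [Finite G] (X : Scheme.{u}) [IsAffine X] (ρ : G →* Aut X) :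
    ∃ (Q : Scheme.{u}) (q : X ⟶ Q), IsAffine Q ∧ SGA1.IsQuot ρ q := by
  -- the action on global sections
  let φ : G →* (Γ(X, ⊤) →+* Γ(X, ⊤)) :=
    { toFun := fun g => (ρ g⁻¹).hom.appTop.hom
      map_one' := by
        rw [inv_one, hom_one, Scheme.Hom.id_appTop]
        rfl
      map_mul' := fun g h => by
        rw [mul_inv_rev, hom_mul, Scheme.Hom.comp_appTop]
        rfl }
  letI : MulSemiringAction G Γ(X, ⊤) := MulSemiringAction.compHom _ φ
  have hsmul : ∀ (g : G) (a : Γ(X, ⊤)), g • a = (ρ g⁻¹).hom.appTop.hom a := fun g a => rfl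
  haveI : SMulCommClass G (FixedPoints.subring Γ(X, ⊤) G) Γ(X, ⊤) :=
    ⟨fun g b a => by
      show g • ((b : Γ(X, ⊤)) * a) = (b : Γ(X, ⊤)) * g • a
      rw [smul_mul', b.2 g]⟩
  haveI : Algebra.IsInvariant (FixedPoints.subring Γ(X, ⊤) G) Γ(X, ⊤) G :=
    ⟨fun b hb => ⟨⟨b, hb⟩, rfl⟩⟩
  let ρS : G →* Aut (Spec (CommRingCat.of Γ(X, ⊤))) := (X.isoSpec.conjAut).toMonoidHom.comp ρ
  have hρS : ∀ g : G, (ρS g).hom = X.isoSpec.inv ≫ (ρ g).hom ≫ X.isoSpec.hom := fun g => rfl
  have hρS' : ∀ g : G, (ρS g).hom = Spec.map ((ρ g).hom.appTop) := by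
    intro g
    rw [hρS, ← Scheme.isoSpec_hom_naturality, Iso.inv_hom_id_assoc]
  have hrange : Set.range (fun g : G => (ρS g).hom) =
      Set.range (fun g : G => Spec.map (CommRingCat.ofHom
        (MulSemiringAction.toRingHom G Γ(X, ⊤) g))) := by
    ext m
    constructor
    · rintro ⟨g, rfl⟩
      refine ⟨g⁻¹, ?_⟩
      show Spec.map (CommRingCat.ofHom (MulSemiringAction.toRingHom G Γ(X, ⊤) g⁻¹)) = (ρS g).hom
      rw [hρS' g]
      congr 1
      apply CommRingCat.hom_ext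
      apply RingHom.ext
      intro a
      show g⁻¹ • a = _
      rw [hsmul, inv_inv]
    · rintro ⟨g, rfl⟩
      refine ⟨g⁻¹, ?_⟩
      show (ρS g⁻¹).hom = Spec.map (CommRingCat.ofHom (MulSemiringAction.toRingHom G Γ(X, ⊤) g))
      rw [hρS' g⁻¹]
      congr 1
  have hQ := Groth.Agent.S12059.result G Γ(X, ⊤) (FixedPoints.subring Γ(X, ⊤) G) ρS hrange
  refine ⟨Spec (CommRingCat.of (FixedPoints.subring Γ(X, ⊤) G)),
    X.isoSpec.hom ≫ Spec.map (CommRingCat.ofHom
      (algebraMap (FixedPoints.subring Γ(X, ⊤) G) Γ(X, ⊤))), inferInstance, ?_⟩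
  refine Groth.Agent.Lib.Helper79.QuotTransport.isQuot_iso_comp ρS _ hQ X.isoSpec.hom ρ ?_
  intro g
  rw [hρS, Iso.hom_inv_id_assoc]

end Groth.Agent.Lib.Helper79.QuotAffineExists
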