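import Groth.Prelude.Def_SGA1
import Groth.Agent.Lib.Helper67.QuotAffine
import Groth.Agent.Lib.Helper79.RestrictAut
import Mathlib

/-!
# Stable affine neighbourhoods of orbits
-/

set_option autoImplicit false
open CategoryTheory CategoryTheory.Limits AlgebraicGeometry TopologicalSpace
universe u

namespace Groth.Agent.Lib.Helper79.QuotStable

open Groth.Agent.Lib.Helper79.RestrictAut

variable {X : Scheme.{u}} {G : Type u} [Group G]

theorem base_mul (ρ : G →* Aut X) (g a : G) (x : X) :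
    (ρ (g * a)).hom.base x = (ρ g).hom.base ((ρ a).hom.base x) := by
  rw [hom_mul]
  rfl

theorem base_one (ρ : G →* Aut X) (x : X) : (ρ 1).hom.base x = x := by
  rw [hom_one]
  rfl

/-- an orbit contained in an affine open `U` and an open `W` has a stable affine open
neighbourhood inside `U ⊓ W`. -/
theorem exists_stable_affine [Finite G] (ρ : G →* Aut X) (U : X.Opens) (hU : IsAffineOpen U)
    (W : X.Opens) (x : X) (hx : ∀ g : G, (ρ g).hom.base x ∈ U ⊓ W) :
    ∃ V : X.Opens, IsAffineOpen V ∧ (∀ (g : G) (y : X), y ∈ V → (ρ g).hom.base y ∈ V) ∧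
      x ∈ V ∧ V ≤ U ⊓ W := by
  classical
  cases nonempty_fintype G
  -- the stable open `W' = ⋂ g, (ρ g)⁻¹ (U ⊓ W)`
  let W' : X.Opens := ⟨⋂ g : G, (ρ g).hom.base ⁻¹' ((U ⊓ W : X.Opens) : Set X),
    isOpen_iInter_of_finite fun g => (U ⊓ W).isOpen.preimage (ρ g).hom.continuous⟩
  have hW'mem : ∀ y : X, y ∈ W' ↔ ∀ g : G, (ρ g).hom.base y ∈ U ⊓ W := by
    intro y
    show y ∈ ⋂ g : G, (ρ g).hom.base ⁻¹' ((U ⊓ W : X.Opens) : Set X) ↔ _
    rw [Set.mem_iInter]
    rfl
  have hxU : ∀ g : G, (ρ g).hom.base x ∈ U := fun g => (hx g).1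
  let F : Finset U := Finset.univ.image (fun g : G => (⟨(ρ g).hom.base x, hxU g⟩ : U))
  obtain ⟨f, hfW', hfF⟩ := Groth.Agent.Lib.Helper67.QuotAffine.exists_basicOpen_finset hU W' F (by
    intro y hy
    obtain ⟨g, -, rfl⟩ := Finset.mem_image.1 hy
    rw [hW'mem]
    intro a
    show (ρ a).hom.base ((ρ g).hom.base x) ∈ U ⊓ W
    rw [← base_mul]
    exact hx _)
  have hfx : ∀ g : G, (ρ g).hom.base x ∈ X.basicOpen f := fun g =>
    hfF ⟨(ρ g).hom.base x, hxU g⟩ (Finset.mem_image.2 ⟨g, Finset.mem_univ _, rfl⟩)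
  have hle : ∀ g : G, X.basicOpen f ≤ (ρ g).hom ⁻¹ᵁ U := by
    intro g y hy
    exact ((hW'mem y).1 (hfW' hy) g).1
  let fg : G → Γ(X, X.basicOpen f) := fun g => ((ρ g).hom.appLE U (X.basicOpen f) (hle g)).hom f
  have hfg : ∀ g : G, X.basicOpen (fg g) = X.basicOpen f ⊓ (ρ g).hom ⁻¹ᵁ (X.basicOpen f) :=
    fun g => Scheme.basicOpen_appLE (ρ g).hom (X.basicOpen f) U (hle g) f
  have hV : ∀ y : X, y ∈ X.basicOpen (∏ g : G, fg g) ↔
      ∀ g : G, (ρ g).hom.base y ∈ X.basicOpen f := by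
    intro y
    constructor
    · intro hy g
      have hyf : y ∈ X.basicOpen f := X.basicOpen_le _ hy
      have h1 := (Groth.Agent.Lib.Helper67.QuotAffine.mem_basicOpen_prod Finset.univ fg y hyf).1
        hy g (Finset.mem_univ _)
      rw [hfg] at h1
      exact h1.2
    · intro hy
      have hyf : y ∈ X.basicOpen f := by
        have := hy 1
        rwa [base_one] at this
      refine (Groth.Agent.Lib.Helper67.QuotAffine.mem_basicOpen_prod Finset.univ fg y hyf).2 ?_
      intro g _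
      rw [hfg]
      exact ⟨hyf, hy g⟩
  refine ⟨X.basicOpen (∏ g : G, fg g), (hU.basicOpen f).basicOpen _, ?_, ?_, ?_⟩
  · intro g y hy
    rw [hV] at hy ⊢
    intro a
    rw [← base_mul]
    exact hy _
  · rw [hV]
    exact hfx
  · intro y hy
    have hyf : y ∈ X.basicOpen f := X.basicOpen_le _ hy
    have := (hW'mem y).1 (hfW' hyf) 1
    rwa [base_one] at this

end Groth.Agent.Lib.Helper79.QuotStable
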