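import Groth.Prelude.Def_SGA1
import Groth.Agent.Lib.Helper79.QuotStable
import Groth.Agent.Lib.Helper79.QuotTransport
import Groth.Agent.Lib.Helper79.QuotAffineExists
import Groth.Agent.S2908
import Groth.Agent.S13606
import Mathlib

/-!
# The diagram of affine quotients of the stable affine opens
-/

set_option autoImplicit false
open CategoryTheory CategoryTheory.Limits AlgebraicGeometry TopologicalSpace
universe u

namespace Groth.Agent.Lib.Helper79.QuotGlueF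

open Groth.Agent.Lib.Helper79.RestrictAut Groth.Agent.Lib.Helper79.QuotTransport
  Groth.Agent.Lib.Helper79.QuotStable

variable {X : Scheme.{u}} {G : Type u} [Group G]

/-- stable affine opens. -/
def IsStableAffine (ρ : G →* Aut X) (V : X.Opens) : Prop :=
  IsAffineOpen V ∧ ∀ (g : G) (y : X), y ∈ V → (ρ g).hom.base y ∈ V

/-- the index category: stable affine opens ordered by inclusion. -/
abbrev J (ρ : G →* Aut X) : Type u := {V : X.Opens // IsStableAffine ρ V}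

variable (ρ : G →* Aut X)

instance isAffine_J (V : J ρ) : IsAffine (V.1 : Scheme.{u}) := V.2.1

/-- the restricted action on a stable affine open. -/
noncomputable def ρV (V : J ρ) : G →* Aut (V.1 : Scheme.{u}) := restrictAut ρ V.1 V.2.2

theorem ρV_ι (V : J ρ) (g : G) : (ρV ρ V g).hom ≫ V.1.ι = V.1.ι ≫ (ρ g).hom :=
  restrictAut_ι ρ V.1 V.2.2 g

theorem homOfLE_equiv {V' V : J ρ} (hle : V'.1 ≤ V.1) (g : G) :
    (ρV ρ V' g).hom ≫ X.homOfLE hle = X.homOfLE hle ≫ (ρV ρ V g).hom := by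
  rw [← cancel_mono V.1.ι, Category.assoc, Category.assoc, X.homOfLE_ι, ρV_ι, ρV_ι,
    ← Category.assoc, X.homOfLE_ι]

theorem ρV_base (V : J ρ) (g : G) (x : (V.1 : Scheme.{u})) :
    V.1.ι.base ((ρV ρ V g).hom.base x) = (ρ g).hom.base (V.1.ι.base x) :=
  restrictAut_base ρ V.1 V.2.2 g x

variable [Finite G]

/-- the chosen affine quotient of a stable affine open. -/
noncomputable def Q (V : J ρ) : Scheme.{u} :=
  (Groth.Agent.Lib.Helper79.QuotAffineExists.exists_isQuot_of_isAffine (V.1 : Scheme.{u})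
    (ρV ρ V)).choose

/-- the chosen quotient map. -/
noncomputable def q (V : J ρ) : (V.1 : Scheme.{u}) ⟶ Q ρ V :=
  (Groth.Agent.Lib.Helper79.QuotAffineExists.exists_isQuot_of_isAffine (V.1 : Scheme.{u})
    (ρV ρ V)).choose_spec.choose

instance isAffine_Q (V : J ρ) : IsAffine (Q ρ V) :=
  (Groth.Agent.Lib.Helper79.QuotAffineExists.exists_isQuot_of_isAffine (V.1 : Scheme.{u})
    (ρV ρ V)).choose_spec.choose_spec.1

theorem hq (V : J ρ) : SGA1.IsQuot (ρV ρ V) (q ρ V) :=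
  (Groth.Agent.Lib.Helper79.QuotAffineExists.exists_isQuot_of_isAffine (V.1 : Scheme.{u})
    (ρV ρ V)).choose_spec.choose_spec.2

theorem exists_Fmap {V' V : J ρ} (hle : V'.1 ≤ V.1) :
    ∃! k : Q ρ V' ⟶ Q ρ V, q ρ V' ≫ k = X.homOfLE hle ≫ q ρ V :=
  Groth.Agent.S2925.result (ρV ρ V') (q ρ V') (hq ρ V') _ (X.homOfLE hle ≫ q ρ V) (fun g => by
    rw [← Category.assoc, homOfLE_equiv, Category.assoc, (hq ρ V).inv])

/-- the transition maps. -/
noncomputable def Fmap {V' V : J ρ} (hle : V'.1 ≤ V.1) : Q ρ V' ⟶ Q ρ V :=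
  (exists_Fmap ρ hle).exists.choose

@[reassoc]
theorem q_Fmap {V' V : J ρ} (hle : V'.1 ≤ V.1) :
    q ρ V' ≫ Fmap ρ hle = X.homOfLE hle ≫ q ρ V :=
  (exists_Fmap ρ hle).exists.choose_spec

theorem q_hom_ext (V : J ρ) {Z : Scheme.{u}} (a b : Q ρ V ⟶ Z) (h : q ρ V ≫ a = q ρ V ≫ b) :
    a = b :=
  hom_ext_of_isQuot (ρV ρ V) (q ρ V) (hq ρ V) a b h

/-- the diagram of affine quotients. -/
noncomputable def functorF : J ρ ⥤ Scheme.{u} where
  obj V := Q ρ V
  map f := Fmap ρ (leOfHom f)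
  map_id V := by
    apply q_hom_ext
    rw [q_Fmap, Category.comp_id, X.homOfLE_rfl, Category.id_comp]
  map_comp f g := by
    apply q_hom_ext
    rw [q_Fmap, q_Fmap_assoc, q_Fmap, ← Category.assoc, X.homOfLE_homOfLE]

theorem functorF_obj (V : J ρ) : (functorF ρ).obj V = Q ρ V := rfl

theorem functorF_map {V' V : J ρ} (f : V' ⟶ V) : (functorF ρ).map f = Fmap ρ (leOfHom f) := rfl

/-- surjectivity, fibres and quotient topology of the chosen quotient maps. -/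
theorem q_surjective (V : J ρ) : Function.Surjective (q ρ V).base :=
  (Groth.Agent.S2908.result (ρV ρ V) (q ρ V) (hq ρ V)).1

theorem q_eq_iff (V : J ρ) (x x' : (V.1 : Scheme.{u})) :
    (q ρ V).base x = (q ρ V).base x' ↔ ∃ g : G, (ρV ρ V g).hom.base x = x' :=
  (Groth.Agent.S2908.result (ρV ρ V) (q ρ V) (hq ρ V)).2.1 x x'

theorem q_isQuotientMap (V : J ρ) : Topology.IsQuotientMap (q ρ V).base :=
  (Groth.Agent.S2908.result (ρV ρ V) (q ρ V) (hq ρ V)).2.2

/-- a stable open is the preimage of an open of the quotient. -/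
theorem exists_opens_preimage_eq {X Y : Scheme.{u}} (ρ : G →* Aut X) (p : X ⟶ Y)
    (hp : SGA1.IsQuot ρ p) (S : X.Opens)
    (hS : ∀ (g : G) (y : X), y ∈ S → (ρ g).hom.base y ∈ S) : ∃ W : Y.Opens, p ⁻¹ᵁ W = S := by
  obtain ⟨-, hfib, hquot⟩ := Groth.Agent.S2908.result ρ p hp
  have hpre : p.base ⁻¹' (p.base '' (S : Set X)) = (S : Set X) := by
    apply Set.Subset.antisymm
    · rintro y ⟨s, hs, hsy⟩
      obtain ⟨g, rfl⟩ := (hfib s y).1 hsy
      exact hS g s hs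
    · exact Set.subset_preimage_image _ _
  have hopen : IsOpen (p.base '' (S : Set X)) := by
    rw [← hquot.isOpen_preimage, hpre]
    exact S.isOpen
  refine ⟨⟨_, hopen⟩, ?_⟩
  apply Opens.ext
  exact hpre

/-- a map between quotients induced by an equivariant open immersion onto the preimage of an
open is an open immersion. -/
theorem isOpenImmersion_of_isQuot {X Y X' Y' : Scheme.{u}} (ρ : G →* Aut X) (p : X ⟶ Y)
    (hp : SGA1.IsQuot ρ p) (W : Y.Opens) (ρ' : G →* Aut X') (j : X' ⟶ X) [IsOpenImmersion j]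
    (hj : ∀ g : G, (ρ' g).hom ≫ j = j ≫ (ρ g).hom)
    (hrange : Set.range j.base = ((p ⁻¹ᵁ W : X.Opens) : Set X))
    (p' : X' ⟶ Y') (hp' : SGA1.IsQuot ρ' p') (k : Y' ⟶ Y) (hk : p' ≫ k = j ≫ p) :
    IsOpenImmersion k := by
  have hstab : ∀ (g : G) (x : X), x ∈ p ⁻¹ᵁ W → (ρ g).hom.base x ∈ p ⁻¹ᵁ W := by
    intro g x hx
    show p.base ((ρ g).hom.base x) ∈ W
    rw [← Scheme.Hom.comp_apply, hp.inv g]
    exact hx
  have hQ : SGA1.IsQuot (restrictAut ρ (p ⁻¹ᵁ W) hstab) (p ∣_ W) :=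
    Groth.Agent.S13606.result ρ p hp W _ (restrictAut_ι ρ (p ⁻¹ᵁ W) hstab)
  have hr : Set.range j.base = Set.range (p ⁻¹ᵁ W).ι.base := by
    rw [hrange, Scheme.Opens.range_ι]
  let e := IsOpenImmersion.isoOfRangeEq j (p ⁻¹ᵁ W).ι hr
  have he : e.hom ≫ (p ⁻¹ᵁ W).ι = j := IsOpenImmersion.isoOfRangeEq_hom_fac _ _ _
  have hQ' : SGA1.IsQuot ρ' (e.hom ≫ p ∣_ W) := by
    refine isQuot_iso_comp _ _ hQ e.hom ρ' ?_
    intro g
    rw [← cancel_mono (p ⁻¹ᵁ W).ι, Category.assoc, Category.assoc, he, restrictAut_ι,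
      ← Category.assoc, he]
    exact hj g
  obtain ⟨h, hh, -⟩ := Groth.Agent.S2925.result ρ' p' hp' _ (e.hom ≫ p ∣_ W) hQ'.inv
  have hiso : IsIso h := isIso_of_isQuot ρ' p' hp' _ hQ' h hh
  have hfac : h ≫ W.ι = k := by
    apply hom_ext_of_isQuot ρ' p' hp'
    rw [← Category.assoc, hh, Category.assoc, morphismRestrict_ι, ← Category.assoc, he, hk]
  rw [← hfac]
  infer_instance

theorem range_homOfLE {U V : X.Opens} (hle : U ≤ V) :
    Set.range (X.homOfLE hle).base = ((V.ι ⁻¹ᵁ U : V.toScheme.Opens) : Set V.toScheme) := by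
  ext y
  constructor
  · rintro ⟨z, rfl⟩
    show V.ι.base ((X.homOfLE hle).base z) ∈ U
    rw [← Scheme.Hom.comp_apply, X.homOfLE_ι]
    exact z.2
  · intro hy
    have hy' : V.ι.base y ∈ U := hy
    refine ⟨⟨V.ι.base y, hy'⟩, ?_⟩
    apply V.ι.isOpenEmbedding.injective
    have h1 : (X.homOfLE hle ≫ V.ι).base ⟨V.ι.base y, hy'⟩ = U.ι.base ⟨V.ι.base y, hy'⟩ := by
      rw [X.homOfLE_ι]
    exact h1

instance isOpenImmersion_Fmap {V' V : J ρ} (hle : V'.1 ≤ V.1) : IsOpenImmersion (Fmap ρ hle) := by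
  obtain ⟨W, hW⟩ := exists_opens_preimage_eq (ρV ρ V) (q ρ V) (hq ρ V) (V.1.ι ⁻¹ᵁ V'.1) (by
    intro g y hy
    show V.1.ι.base ((ρV ρ V g).hom.base y) ∈ V'.1
    rw [ρV_base]
    exact V'.2.2 g _ hy)
  refine isOpenImmersion_of_isQuot (ρV ρ V) (q ρ V) (hq ρ V) W (ρV ρ V') (X.homOfLE hle)
    (homOfLE_equiv ρ hle) ?_ (q ρ V') (hq ρ V') (Fmap ρ hle) (q_Fmap ρ hle)
  rw [hW]
  exact range_homOfLE hle

instance isOpenImmersion_functorF_map {V' V : J ρ} (f : V' ⟶ V) :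
    IsOpenImmersion ((functorF ρ).map f) :=
  isOpenImmersion_Fmap ρ (leOfHom f)

theorem ι_homOfLE_apply {U V : X.Opens} (hle : U ≤ V) (z : (U : Scheme.{u})) :
    V.ι.base ((X.homOfLE hle).base z) = U.ι.base z := by
  have h1 : (X.homOfLE hle ≫ V.ι).base z = U.ι.base z := by rw [X.homOfLE_ι]
  exact h1

theorem q_Fmap_apply {V' V : J ρ} (hle : V'.1 ≤ V.1) (z : (V'.1 : Scheme.{u})) :
    (Fmap ρ hle).base ((q ρ V').base z) = (q ρ V).base ((X.homOfLE hle).base z) := by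
  have h1 : (q ρ V' ≫ Fmap ρ hle).base z = (X.homOfLE hle ≫ q ρ V).base z := by rw [q_Fmap]
  exact h1

theorem q_ρV_apply (V : J ρ) (g : G) (z : (V.1 : Scheme.{u})) :
    (q ρ V).base ((ρV ρ V g).hom.base z) = (q ρ V).base z := by
  have h1 : ((ρV ρ V g).hom ≫ q ρ V).base z = (q ρ V).base z := by rw [(hq ρ V).inv]
  exact h1

/-- the key local directedness: two points of stable affine opens with the same image in a
common quotient come from a common smaller stable affine open. -/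
theorem exists_common {Vi Vj Vk : J ρ} (hik : Vi.1 ≤ Vk.1) (hjk : Vj.1 ≤ Vk.1)
    (a : (Vi.1 : Scheme.{u})) (b : (Vj.1 : Scheme.{u}))
    (hab : (q ρ Vk).base ((X.homOfLE hik).base a) = (q ρ Vk).base ((X.homOfLE hjk).base b)) :
    ∃ (Vl : J ρ) (hli : Vl.1 ≤ Vi.1) (hlj : Vl.1 ≤ Vj.1) (c : (Vl.1 : Scheme.{u})),
      (q ρ Vi).base ((X.homOfLE hli).base c) = (q ρ Vi).base a ∧ (X.homOfLE hlj).base c = b := by
  obtain ⟨g, hg⟩ := (q_eq_iff ρ Vk _ _).1 hab
  have hg' : (ρ g).hom.base (Vi.1.ι.base a) = Vj.1.ι.base b := by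
    have h1 := congrArg Vk.1.ι.base hg
    rwa [ρV_base, ι_homOfLE_apply, ι_homOfLE_apply] at h1
  have haVi : Vi.1.ι.base a ∈ Vi.1 := a.2
  have hbVj : Vj.1.ι.base b ∈ Vj.1 := b.2
  have horb : ∀ h : G, (ρ h).hom.base (Vj.1.ι.base b) ∈ Vi.1 ⊓ Vj.1 := by
    intro h
    refine ⟨?_, Vj.2.2 h _ hbVj⟩
    rw [← hg', ← base_mul]
    exact Vi.2.2 _ _ haVi
  obtain ⟨Vl, hVl, hstab, hbl, hle⟩ := exists_stable_affine ρ Vi.1 Vi.2.1 Vj.1 _ horb
  refine ⟨⟨Vl, hVl, hstab⟩, hle.trans inf_le_left, hle.trans inf_le_right,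
    ⟨Vj.1.ι.base b, hbl⟩, ?_, ?_⟩
  · rw [← q_ρV_apply ρ Vi g a]
    congr 1
    apply Vi.1.ι.isOpenEmbedding.injective
    have e1 : Vl.ι.base (⟨Vj.1.ι.base b, hbl⟩ : Vl.toScheme) = Vj.1.ι.base b := rfl
    exact (ι_homOfLE_apply (hle.trans inf_le_left) _).trans
      (e1.trans (hg'.symm.trans (ρV_base ρ Vi g a).symm))
  · apply Vj.1.ι.isOpenEmbedding.injective
    have e1 : Vl.ι.base (⟨Vj.1.ι.base b, hbl⟩ : Vl.toScheme) = Vj.1.ι.base b := rfl
    exact (ι_homOfLE_apply (hle.trans inf_le_right) _).trans e1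

instance isLocallyDirected_functorF : (functorF ρ ⋙ Scheme.forget).IsLocallyDirected where
  cond {i j k} fi fj xi xj hx := by
    change (Fmap ρ (leOfHom fi)).base xi = (Fmap ρ (leOfHom fj)).base xj at hx
    obtain ⟨a, rfl⟩ := q_surjective ρ i xi
    obtain ⟨b, rfl⟩ := q_surjective ρ j xj
    rw [q_Fmap_apply, q_Fmap_apply] at hx
    obtain ⟨l, hli, hlj, c, hc1, hc2⟩ := exists_common ρ (leOfHom fi) (leOfHom fj) a b hx
    refine ⟨l, homOfLE hli, homOfLE hlj, (q ρ l).base c, ?_, ?_⟩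
    · change (Fmap ρ hli).base ((q ρ l).base c) = (q ρ i).base a
      rw [q_Fmap_apply, hc1]
    · change (Fmap ρ hlj).base ((q ρ l).base c) = (q ρ j).base b
      rw [q_Fmap_apply, hc2]

end Groth.Agent.Lib.Helper79.QuotGlueF
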