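import Mathlib

/-!
# Algebra for the Artin–Schreier sequence: rings in which `p = 0`
-/

set_option autoImplicit false
set_option linter.style.haveILetI false
open Polynomial
universe u

namespace Groth.Agent.Lib.Helper79.ASAlg

variable (p : ℕ) [Fact p.Prime]

/-- the canonical homomorphism `𝔽_p → R` when `p = 0` in `R`. -/
noncomputable def zmodHom (R : Type*) [CommRing R] (hp : (p : R) = 0) : ZMod p →+* R :=
  ZMod.castHom (ringChar.dvd hp) R

theorem zmodHom_comp {R R' : Type*} [CommRing R] [CommRing R'] (hp : (p : R) = 0)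
    (hp' : (p : R') = 0) (f : R →+* R') : f.comp (zmodHom p R hp) = zmodHom p R' hp' :=
  RingHom.ext_zmod _ _

theorem zmodHom_apply_comp {R R' : Type*} [CommRing R] [CommRing R'] (hp : (p : R) = 0)
    (hp' : (p : R') = 0) (f : R →+* R') (a : ZMod p) :
    f (zmodHom p R hp a) = zmodHom p R' hp' a :=
  RingHom.congr_fun (zmodHom_comp p hp hp' f) a

theorem zmodHom_pow {R : Type*} [CommRing R] (hp : (p : R) = 0) (a : ZMod p) :
    (zmodHom p R hp a) ^ p = zmodHom p R hp a := by
  rw [← map_pow, ZMod.pow_card]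

theorem zmodHom_one_val {R : Type*} [CommRing R] (hp : (p : R) = 0) (k : ℕ) :
    zmodHom p R hp (k : ZMod p) = (k : R) := map_natCast _ _

theorem zmodHom_injective {R : Type*} [CommRing R] [Nontrivial R] (hp : (p : R) = 0) :
    Function.Injective (zmodHom p R hp) := (zmodHom p R hp).injective

/-- `X ^ p - X = ∏ (X - a)` over `𝔽_p`. -/
theorem X_pow_sub_X_eq_prod :
    (X ^ p - X : (ZMod p)[X]) = ∏ a : ZMod p, (X - C a) := by
  have h1 : (X ^ p - X : (ZMod p)[X]).roots = Finset.univ.val := by
    have := FiniteField.roots_X_pow_card_sub_X (ZMod p)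
    rwa [ZMod.card p] at this
  have hp1 : 1 < p := (Fact.out : p.Prime).one_lt
  have hmonic : (X ^ p - X : (ZMod p)[X]).Monic := by
    apply monic_X_pow_sub
    rw [degree_X]
    exact_mod_cast hp1
  have hdeg : (X ^ p - X : (ZMod p)[X]).natDegree = p :=
    FiniteField.X_pow_card_sub_X_natDegree_eq (ZMod p) hp1
  have h2 := prod_multiset_X_sub_C_of_monic_of_roots_card_eq hmonic (by
    rw [h1, hdeg]
    show Finset.univ.card = p
    rw [Finset.card_univ, ZMod.card p])
  rw [h1] at h2
  exact h2.symm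

variable {p}
variable {R : Type*} [CommRing R] (hp : (p : R) = 0) (z : R)

include hp in
theorem prod_sub_eq : ∏ a : ZMod p, (z - zmodHom p R hp a) = z ^ p - z := by
  have h := congrArg (eval₂ (zmodHom p R hp) z) (X_pow_sub_X_eq_prod p)
  rw [eval₂_sub, eval₂_pow, eval₂_X, eval₂_finsetProd] at h
  rw [h]
  refine Finset.prod_congr rfl (fun a _ => ?_)
  rw [eval₂_sub, eval₂_X, eval₂_C]

/-- the `m`-th partial product. -/
noncomputable def e (m : ZMod p) : R := ∏ n ∈ Finset.univ.erase m, (z - zmodHom p R hp n)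

theorem mul_e (m : ZMod p) : (z - zmodHom p R hp m) * e hp z m = z ^ p - z := by
  unfold e
  rw [Finset.mul_prod_erase Finset.univ (fun n => z - zmodHom p R hp n) (Finset.mem_univ m)]
  exact prod_sub_eq hp z

theorem e_mul_e (m n : ZMod p) (hmn : m ≠ n) :
    e hp z m * e hp z n = (z ^ p - z) *
      ∏ k ∈ (Finset.univ.erase m).erase n, (z - zmodHom p R hp k) := by
  have hn : n ∈ Finset.univ.erase m := Finset.mem_erase.2 ⟨hmn.symm, Finset.mem_univ n⟩
  have h1 : e hp z m = (z - zmodHom p R hp n) *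
      ∏ k ∈ (Finset.univ.erase m).erase n, (z - zmodHom p R hp k) := by
    unfold e
    rw [Finset.mul_prod_erase _ (fun k => z - zmodHom p R hp k) hn]
  rw [h1, ← mul_e hp z n]
  ring

/-- Lagrange interpolation: the partial products generate the unit ideal. -/
theorem exists_sum_e : ∃ u : ZMod p → R, ∑ m : ZMod p, u m * e hp z m = 1 := by
  have h := Lagrange.sum_basis (F := ZMod p) (s := Finset.univ) (v := id)
    (Set.injOn_id _) Finset.univ_nonempty
  have h2 := congrArg (eval₂ (zmodHom p R hp) z) h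
  rw [eval₂_finsetSum, eval₂_one] at h2
  refine ⟨fun m => ∏ n ∈ Finset.univ.erase m, zmodHom p R hp ((m - n)⁻¹), ?_⟩
  rw [← h2]
  refine Finset.sum_congr rfl (fun m _ => ?_)
  unfold e Lagrange.basis
  rw [eval₂_finsetProd, ← Finset.prod_mul_distrib]
  refine Finset.prod_congr rfl (fun n _ => ?_)
  unfold Lagrange.basisDivisor
  rw [eval₂_mul, eval₂_C, eval₂_sub, eval₂_X, eval₂_C]
  rfl

end Groth.Agent.Lib.Helper79.ASAlg
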