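import Mathlib

/-!
Automorphisms of `k⟦X⟧` and the order of `σ y - y`.
-/

namespace Groth.Agent.Lib.Helper79.ASCond

open PowerSeries

variable {k : Type*} [Field k]

/-- order zero iff nonzero constant coefficient -/
theorem order_eq_zero_of_constantCoeff_ne_zero {φ : k⟦X⟧} (h : constantCoeff φ ≠ 0) :
    φ.order = 0 := by
  by_contra hne
  exact h (order_ne_zero_iff_constCoeff_eq_zero.mp hne)

/-- `order (X^n * w) = n` if `w` has nonzero constant coefficient -/
theorem order_X_pow_mul {n : ℕ} {w : k⟦X⟧} (h : constantCoeff w ≠ 0) :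
    ((X : k⟦X⟧) ^ n * w).order = (n : ℕ∞) := by
  rw [order_mul, order_X_pow, order_eq_zero_of_constantCoeff_ne_zero h, add_zero]

/-- decomposition `y = X^n * w` with `w` of nonzero constant coefficient -/
theorem exists_eq_X_pow_mul {y : k⟦X⟧} {n : ℕ} (h : y.order = n) :
    ∃ w : k⟦X⟧, constantCoeff w ≠ 0 ∧ y = X ^ n * w := by
  have hy : y ≠ 0 := by
    rintro rfl
    rw [order_zero] at h
    exact ENat.top_ne_natCast n h
  refine ⟨divXPowOrder y, ?_, ?_⟩
  · rw [Ne, constantCoeff_divXPowOrder_eq_zero_iff]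
    exact hy
  · have := X_pow_order_mul_divXPowOrder (f := y)
    rw [h] at this
    simpa using this.symm

variable (σ : k⟦X⟧ ≃ₐ[k] k⟦X⟧)

theorem constantCoeff_map_X : constantCoeff (σ X) = 0 := by
  by_contra h
  have hu : IsUnit (σ (X : k⟦X⟧)) := by
    rw [isUnit_iff_constantCoeff]
    exact isUnit_iff_ne_zero.mpr h
  have : IsUnit (X : k⟦X⟧) := by
    have := hu.map σ.symm
    simpa using this
  rw [isUnit_iff_constantCoeff] at this
  simp at this

theorem map_C (a : k) : σ (C a) = C a := by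
  have := σ.commutes a
  simpa [PowerSeries.algebraMap_eq] using this

theorem constantCoeff_map (y : k⟦X⟧) : constantCoeff (σ y) = constantCoeff y := by
  have h := eq_X_mul_shift_add_const y
  have h2 : σ y = σ X * σ (mk fun p ↦ coeff (p + 1) y) + C (constantCoeff y) := by
    conv_lhs => rw [h]
    rw [map_add, map_mul, map_C]
  rw [h2, map_add, map_mul, constantCoeff_map_X, zero_mul, zero_add, constantCoeff_C]

theorem one_le_order_map_X : 1 ≤ (σ (X : k⟦X⟧)).order :=
  one_le_order_iff_constCoeff_eq_zero.mpr (constantCoeff_map_X σ)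

theorem order_le_order_map (y : k⟦X⟧) : y.order ≤ (σ y).order := by
  by_cases hy : y = 0
  · simp [hy]
  · obtain ⟨n, hn⟩ : ∃ n : ℕ, y.order = n := by
      refine ⟨y.order.toNat, (coe_toNat_order hy).symm⟩
    obtain ⟨w, hw, rfl⟩ := exists_eq_X_pow_mul hn
    rw [hn, map_mul, map_pow, order_mul, order_pow]
    have h1 := one_le_order_map_X σ
    calc (n : ℕ∞) = n • 1 := by simp
      _ ≤ n • (σ X).order := nsmul_le_nsmul_right h1 n
      _ ≤ n • (σ X).order + (σ w).order := le_self_add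

theorem order_map (y : k⟦X⟧) : (σ y).order = y.order := by
  apply le_antisymm
  · have := order_le_order_map σ.symm (σ y)
    simpa using this
  · exact order_le_order_map σ y

/-- `X^N ∣ σ w - w` if `X^N ∣ σ X - X` -/
theorem X_pow_dvd_map_sub (N : ℕ) (h : (X : k⟦X⟧) ^ N ∣ σ X - X) :
    ∀ w : k⟦X⟧, (X : k⟦X⟧) ^ N ∣ σ w - w := by
  induction N with
  | zero => intro w; simp
  | succ M ih =>
    intro w
    have hM : (X : k⟦X⟧) ^ M ∣ σ X - X := dvd_trans (pow_dvd_pow X (Nat.le_succ M)) h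
    obtain ⟨c, w₁, rfl⟩ : ∃ (c : k) (w₁ : k⟦X⟧), w = X * w₁ + C c :=
      ⟨_, _, eq_X_mul_shift_add_const w⟩
    have e : σ (X * w₁ + C c) - (X * w₁ + C c) = (σ X - X) * σ w₁ + X * (σ w₁ - w₁) := by
      rw [map_add, map_mul, map_C]
      ring
    rw [e]
    apply dvd_add
    · exact Dvd.dvd.mul_right h _
    · rw [pow_succ']
      exact mul_dvd_mul_left X (ih hM w₁)

/-- Key lemma: if `σ X - X` has order `m + 1` with `m ≥ 1`, and `y` has order `n` prime to the
characteristic, then `σ y - y` has order `n + m`. -/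
theorem order_map_sub (m : ℕ) (hm1 : 1 ≤ m) (hm : (σ X - X : k⟦X⟧).order = ((m + 1 : ℕ) : ℕ∞))
    (y : k⟦X⟧) (n : ℕ) (hn : y.order = n) (hnk : (n : k) ≠ 0) :
    (σ y - y).order = ((n + m : ℕ) : ℕ∞) := by
  obtain ⟨ε, hε, hδ⟩ := exists_eq_X_pow_mul hm
  obtain ⟨w, hw, rfl⟩ := exists_eq_X_pow_mul hn
  have hdvd : (X : k⟦X⟧) ^ (m + 1) ∣ σ X - X := ⟨ε, hδ⟩
  obtain ⟨v, hv⟩ := X_pow_dvd_map_sub σ (m + 1) hdvd w
  -- σ X = X (1 + X^m ε)
  obtain ⟨t, ht⟩ : ∃ t : k⟦X⟧, t = X ^ m * ε := ⟨_, rfl⟩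
  have hσX : σ X = X * (1 + t) := by
    have h1 : σ X = X + (σ X - X) := by ring
    rw [h1, hδ, ht, pow_succ]; ring
  obtain ⟨P, hP⟩ := Polynomial.powAddExpansion (1 : k⟦X⟧) t n
  have hsw : σ w = w + X ^ (m + 1) * v := by rw [← hv]; ring
  have e : σ (X ^ n * w) - X ^ n * w =
      X ^ (n + m) * (X * v + ε * ((n : k⟦X⟧) + P * t) * σ w) := by
    rw [map_mul, map_pow, hσX, mul_pow, hP]
    simp only [one_pow, mul_one]
    have e2 : (X : k⟦X⟧) ^ n * (1 + (n : k⟦X⟧) * t + P * t ^ 2) * σ w - X ^ n * w =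
        X ^ n * (σ w - w) + X ^ n * t * (((n : k⟦X⟧) + P * t) * σ w) := by ring
    rw [e2, hv, ht, pow_add, pow_succ]
    ring
  rw [e]
  have hc : constantCoeff (X * v + ε * ((n : k⟦X⟧) + P * t) * σ w) ≠ 0 := by
    have ht0 : constantCoeff t = 0 := by
      rw [ht, map_mul, map_pow, constantCoeff_X, zero_pow (by omega), zero_mul]
    have hn' : constantCoeff ((n : k⟦X⟧)) = (n : k) := by
      have : ((n : k⟦X⟧)) = C (n : k) := by simp
      rw [this, constantCoeff_C]
    rw [map_add, map_mul, constantCoeff_X, zero_mul, zero_add, map_mul, map_mul, map_add, map_mul,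
      ht0, mul_zero, add_zero, hn', constantCoeff_map]
    exact mul_ne_zero (mul_ne_zero hε hnk) hw
  exact order_X_pow_mul hc

end Groth.Agent.Lib.Helper79.ASCond

namespace Groth.Agent.Lib.Helper79.ASCond

open PowerSeries

variable {k : Type*} [Field k]

/-- the linear coefficient is multiplied by `c = coeff 1 (σ X)` -/
theorem coeff_one_map (σ : k⟦X⟧ ≃ₐ[k] k⟦X⟧) (y : k⟦X⟧) (hy : constantCoeff y = 0) :
    coeff 1 (σ y) = coeff 1 (σ X) * coeff 1 y := by
  obtain ⟨c, w₁, rfl⟩ : ∃ (c : k) (w₁ : k⟦X⟧), y = X * w₁ + C c :=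
    ⟨_, _, eq_X_mul_shift_add_const y⟩
  have hc : c = 0 := by simpa using hy
  subst hc
  have h0 := constantCoeff_map_X σ
  have h1 : coeff 1 (σ X * σ w₁) = coeff 1 (σ X) * constantCoeff w₁ := by
    rw [coeff_mul, Finset.Nat.sum_antidiagonal_succ]
    simp [h0, constantCoeff_map]
  simp only [map_zero, add_zero, map_mul, h1]
  have h2 : coeff 1 (X * w₁) = constantCoeff w₁ := by
    have := coeff_succ_X_mul 0 w₁
    simpa using this
  rw [h2]

theorem coeff_one_pow_map (σ : k⟦X⟧ ≃ₐ[k] k⟦X⟧) (i : ℕ) :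
    coeff 1 ((σ ^ i) X) = coeff 1 (σ X) ^ i := by
  induction i with
  | zero => simp
  | succ j ih =>
    rw [pow_succ', AlgEquiv.mul_apply, coeff_one_map σ _ (constantCoeff_map_X (σ ^ j)), ih, pow_succ']

/-- the ramification break of an automorphism of order `p` in characteristic `p` is positive -/
theorem one_le_break (p : ℕ) [Fact p.Prime] [CharP k p] (σ : k⟦X⟧ ≃ₐ[k] k⟦X⟧) (hσp : σ ^ p = 1)
    (m : ℕ) (hm : (σ X - X : k⟦X⟧).order = ((m + 1 : ℕ) : ℕ∞)) : 1 ≤ m := by
  by_contra hcon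
  have hm0 : m = 0 := by omega
  subst hm0
  have h1 : coeff 1 (σ X - X : k⟦X⟧) ≠ 0 := by
    have := coeff_order (φ := (σ X - X : k⟦X⟧)) (by
      intro h0
      rw [h0, order_zero] at hm
      exact ENat.top_ne_natCast _ hm)
    rw [hm] at this
    simpa using this
  have hc : coeff 1 (σ X) ^ p = 1 := by
    rw [← coeff_one_pow_map, hσp]
    simp
  have hc1 : (coeff 1 (σ X) - 1) ^ p = 0 := by
    rw [sub_pow_char, hc, one_pow, sub_self]
  have hc2 : coeff 1 (σ X) = 1 := by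
    have := pow_eq_zero_iff (Fact.out : p.Prime).ne_zero |>.mp hc1
    exact sub_eq_zero.mp this
  apply h1
  rw [map_sub, hc2, coeff_one_X, sub_self]

end Groth.Agent.Lib.Helper79.ASCond
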