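import Mathlib

/-!
# A fibre criterion for bijectivity of maps of finite projective modules, and split algebras
-/

set_option autoImplicit false
set_option linter.style.haveILetI false
open TensorProduct
universe u v w

namespace Groth.Agent.Lib.Helper79.GalAlg1

section Fibres

variable {R : Type u} [CommRing R]

theorem subsingleton_of_fibres (Q : Type*) [AddCommGroup Q] [Module R Q] [Module.Finite R Q]
    (h : ∀ 𝔭 : PrimeSpectrum R, Subsingleton (𝔭.asIdeal.ResidueField ⊗[R] Q)) :
    Subsingleton Q := by
  rw [← Module.support_eq_empty_iff (R := R)]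
  ext 𝔭
  simp only [Set.mem_empty_iff_false, iff_false]
  rw [Module.mem_support_iff_nontrivial_residueField_tensorProduct, not_nontrivial_iff_subsingleton]
  exact h 𝔭

variable {M : Type v} {N : Type w} [AddCommGroup M] [AddCommGroup N] [Module R M] [Module R N]

/-- bijectivity on geometric fibres implies bijectivity on fibres. -/
theorem bijective_residueField (φ : M →ₗ[R] N)
    (H : ∀ (Ω : Type u) [Field Ω] [IsAlgClosed Ω] [Algebra R Ω],
      Function.Bijective (φ.baseChange Ω)) (𝔭 : PrimeSpectrum R) :
    Function.Bijective (φ.baseChange 𝔭.asIdeal.ResidueField) := by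
  let κ := 𝔭.asIdeal.ResidueField
  let Ω := AlgebraicClosure κ
  have h1 := H Ω
  have h2 := LinearMap.baseChange_baseChange (R := R) (A := κ) (B := Ω) φ
  have h3 : Function.Bijective ((φ.baseChange κ).baseChange Ω) := by
    rw [h2]
    exact ((AlgebraTensorModule.cancelBaseChange R κ Ω Ω N).symm.bijective.comp
      (h1.comp (AlgebraTensorModule.cancelBaseChange R κ Ω Ω M).bijective))
  have h4 : Function.Bijective ((φ.baseChange κ).lTensor Ω) := by
    have : ((φ.baseChange κ).baseChange Ω : Ω ⊗[κ] (κ ⊗[R] M) → Ω ⊗[κ] (κ ⊗[R] N)) =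
        (φ.baseChange κ).lTensor Ω := LinearMap.baseChange_eq_ltensor _
    rw [← this]
    exact h3
  haveI : Module.Free κ Ω := Module.Free.of_divisionRing κ Ω
  haveI : Nontrivial Ω := inferInstance
  haveI : Module.FaithfullyFlat κ Ω := Module.FaithfullyFlat.instOfNontrivialOfFree κ Ω
  exact (Module.FaithfullyFlat.lTensor_bijective_iff_bijective κ Ω _).1 h4

/-- a map of finite projective modules which is bijective on geometric fibres is bijective. -/
theorem bijective_of_fibres [Module.Finite R M] [Module.Finite R N] [Module.Projective R N]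
    (φ : M →ₗ[R] N)
    (H : ∀ (Ω : Type u) [Field Ω] [IsAlgClosed Ω] [Algebra R Ω],
      Function.Bijective (φ.baseChange Ω)) : Function.Bijective φ := by
  have hκ := bijective_residueField φ H
  -- surjectivity
  have hsurj : Function.Surjective φ := by
    rw [← LinearMap.range_eq_top]
    rw [← Submodule.Quotient.subsingleton_iff]
    apply subsingleton_of_fibres (R := R)
    intro 𝔭
    refine ⟨fun x y => ?_⟩
    suffices h : ∀ x : 𝔭.asIdeal.ResidueField ⊗[R] (N ⧸ LinearMap.range φ), x = 0 by
      rw [h x, h y]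
    intro x
    obtain ⟨y, rfl⟩ := LinearMap.lTensor_surjective 𝔭.asIdeal.ResidueField
      (Submodule.mkQ_surjective (LinearMap.range φ)) x
    obtain ⟨z, rfl⟩ := (hκ 𝔭).2 y
    have h1 : (LinearMap.range φ).mkQ ∘ₗ φ = 0 := by
      ext m
      simp
    have h2 : (LinearMap.lTensor 𝔭.asIdeal.ResidueField (LinearMap.range φ).mkQ)
        ((φ.baseChange 𝔭.asIdeal.ResidueField) z) =
        (LinearMap.lTensor 𝔭.asIdeal.ResidueField ((LinearMap.range φ).mkQ ∘ₗ φ)) z := by
      rw [LinearMap.lTensor_comp]
      rfl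
    rw [h2, h1, LinearMap.lTensor_zero]
    rfl
  refine ⟨?_, hsurj⟩
  -- injectivity
  obtain ⟨s, hs⟩ := Module.projective_lifting_property φ LinearMap.id hsurj
  let r : M →ₗ[R] LinearMap.ker φ :=
    LinearMap.codRestrict (LinearMap.ker φ) (LinearMap.id - s ∘ₗ φ) (fun m => by
      have := LinearMap.congr_fun hs (φ m)
      simp only [LinearMap.mem_ker, LinearMap.sub_apply, LinearMap.id_coe, id_eq,
        LinearMap.coe_comp, Function.comp_apply, map_sub]
      simp only [LinearMap.coe_comp, Function.comp_apply, LinearMap.id_coe, id_eq] at this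
      rw [this, sub_self])
  have hr : r ∘ₗ (LinearMap.ker φ).subtype = LinearMap.id := by
    ext ⟨m, hm⟩
    simp only [LinearMap.mem_ker] at hm
    simp [r, hm]
  haveI : Module.Finite R (LinearMap.ker φ) :=
    Module.Finite.of_surjective r (fun k => ⟨k.1, LinearMap.congr_fun hr k⟩)
  have hK : Subsingleton (LinearMap.ker φ) := by
    apply subsingleton_of_fibres (R := R)
    intro 𝔭
    refine ⟨fun x y => ?_⟩
    suffices h : ∀ x : 𝔭.asIdeal.ResidueField ⊗[R] (LinearMap.ker φ), x = 0 by
      rw [h x, h y]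
    intro x
    have h1 : (LinearMap.lTensor 𝔭.asIdeal.ResidueField r)
        ((LinearMap.lTensor 𝔭.asIdeal.ResidueField (LinearMap.ker φ).subtype) x) = x := by
      rw [← LinearMap.comp_apply, ← LinearMap.lTensor_comp, hr, LinearMap.lTensor_id]
      rfl
    have h2 : (LinearMap.lTensor 𝔭.asIdeal.ResidueField (LinearMap.ker φ).subtype) x = 0 := by
      apply (hκ 𝔭).1
      rw [map_zero]
      have h3 : φ ∘ₗ (LinearMap.ker φ).subtype = 0 := by
        ext ⟨m, hm⟩
        exact hm
      have h4 : (φ.baseChange 𝔭.asIdeal.ResidueField)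
          ((LinearMap.lTensor 𝔭.asIdeal.ResidueField (LinearMap.ker φ).subtype) x) =
          (LinearMap.lTensor 𝔭.asIdeal.ResidueField (φ ∘ₗ (LinearMap.ker φ).subtype)) x := by
        rw [LinearMap.lTensor_comp]
        rfl
      rw [h4, h3, LinearMap.lTensor_zero]
      rfl
    rw [← h1, h2, map_zero]
  rw [← LinearMap.ker_eq_bot]
  exact Submodule.eq_bot_of_subsingleton

end Fibres

section Split

variable {k : Type*} [Field k]

/-- characters of `k ^ n` are evaluations. -/
theorem pi_algHom_eq_eval {n : ℕ} (χ : (Fin n → k) →ₐ[k] k) : ∃ i, ∀ x, χ x = x i := by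
  classical
  have h1 : ∑ i, χ (Pi.single i 1) = 1 := by
    rw [← map_sum, Finset.univ_sum_single (fun _ : Fin n => (1 : k))]
    exact map_one χ
  obtain ⟨i, hi⟩ : ∃ i, χ (Pi.single i 1) ≠ 0 := by
    by_contra h
    push Not at h
    simp [h] at h1
  refine ⟨i, fun x => ?_⟩
  have h2 : x * Pi.single i 1 = x i • Pi.single i (1 : k) := by
    ext j
    by_cases hj : j = i
    · subst hj
      simp
    · simp [hj]
  have h3 := congrArg χ h2
  rw [map_mul, map_smul, smul_eq_mul] at h3
  exact mul_right_cancel₀ hi h3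

/-- a finite split algebra is the algebra of functions on its set of characters. -/
theorem bijective_eval_of_isFiniteSplit (C : Type*) [CommRing C] [Algebra k C]
    [Algebra.IsFiniteSplit k C] :
    Function.Bijective (fun (c : C) (χ : C →ₐ[k] k) => χ c) := by
  obtain ⟨n, ⟨e⟩⟩ := Algebra.IsFiniteSplit.nonempty_algEquiv_fun k C
  have hχ : ∀ χ : C →ₐ[k] k, ∃ i, χ = (Pi.evalAlgHom k (fun _ : Fin n => k) i).comp e.toAlgHom := by
    intro χ
    obtain ⟨i, hi⟩ := pi_algHom_eq_eval (χ.comp e.symm.toAlgHom)
    refine ⟨i, AlgHom.ext (fun y => ?_)⟩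
    have := hi (e y)
    simpa using this
  constructor
  · intro c c' h
    apply e.injective
    funext i
    exact congrFun h ((Pi.evalAlgHom k (fun _ : Fin n => k) i).comp e.toAlgHom)
  · intro F
    refine ⟨e.symm (fun i => F ((Pi.evalAlgHom k (fun _ : Fin n => k) i).comp e.toAlgHom)), ?_⟩
    funext χ
    obtain ⟨i, rfl⟩ := hχ χ
    simp

end Split

end Groth.Agent.Lib.Helper79.GalAlg1
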