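import Mathlib
import Groth.Agent.Lib.Helper79.GalAlg1

/-!
# Galois algebras: `B ⊗ B ≅ ∏_G B`, invariants, and elements of trace one
-/

set_option autoImplicit false
set_option linter.style.haveILetI false
set_option linter.unusedSectionVars false
open TensorProduct
universe u v

namespace Groth.Agent.Lib.Helper79.GalAlg2

open Groth.Agent.Lib.Helper79.GalAlg1

variable {A B : Type u} [CommRing A] [CommRing B] [Algebra A B]
  {G : Type v} [Group G] [Fintype G] [DecidableEq G] (σ : G →* (B →ₐ[A] B))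

/-- the `g`-component of the Galois map. -/
noncomputable def PhiC (g : G) : B ⊗[A] B →ₐ[B] B :=
  Algebra.TensorProduct.lift (AlgHom.id B B) (σ g) (fun _ _ => Commute.all _ _)

/-- the Galois map `x ⊗ y ↦ (x σ_g(y))_g`. -/
noncomputable def Phi : B ⊗[A] B →ₐ[B] (G → B) :=
  AlgHom.pi (PhiC σ)

@[simp] theorem Phi_tmul (x y : B) (g : G) : Phi σ (x ⊗ₜ[A] y) g = x * σ g y := by
  simp [Phi, PhiC]

/-- the action is simply transitive on geometric fibres. -/
def IsSimplyTransitive : Prop :=
  ∀ (Ω : Type u) [Field Ω] [IsAlgClosed Ω] (f f' : B →+* Ω),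
    f.comp (algebraMap A B) = f'.comp (algebraMap A B) →
    ∃! g : G, f.comp (σ g : B →+* B) = f'

section Fibre

variable {σ}
variable (hG : IsSimplyTransitive σ) (Ω : Type u) [Field Ω] [IsAlgClosed Ω] [Algebra B Ω]
  [Algebra A Ω] [IsScalarTower A B Ω]

/-- the characters of the geometric fibre. -/
noncomputable def chi (g : G) : Ω ⊗[A] B →ₐ[Ω] Ω :=
  Algebra.TensorProduct.lift (AlgHom.id Ω Ω) ((IsScalarTower.toAlgHom A B Ω).comp (σ g))
    (fun _ _ => Commute.all _ _)

omit [IsAlgClosed Ω] in
@[simp] theorem chi_tmul (g : G) (ω : Ω) (y : B) :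
    chi (σ := σ) Ω g (ω ⊗ₜ[A] y) = ω * algebraMap B Ω (σ g y) := by
  simp [chi]

include hG in
theorem chi_bijective : Function.Bijective (chi (σ := σ) Ω) := by
  constructor
  · intro g h hgh
    have h1 : ∀ y : B, algebraMap B Ω (σ g y) = algebraMap B Ω (σ h y) := by
      intro y
      have := congrArg (fun χ : Ω ⊗[A] B →ₐ[Ω] Ω => χ (1 ⊗ₜ[A] y)) hgh
      simpa using this
    obtain ⟨g₀, -, huniq⟩ := hG Ω (algebraMap B Ω) ((algebraMap B Ω).comp (σ g : B →+* B))
      (by
        ext a
        simp)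
    have e1 := huniq g rfl
    have e2 := huniq h (by
      ext y
      exact (h1 y).symm)
    rw [e1, e2]
  · intro χ
    let f' : B →+* Ω := (χ : Ω ⊗[A] B →+* Ω).comp
      (Algebra.TensorProduct.includeRight : B →ₐ[A] Ω ⊗[A] B).toRingHom
    have hf' : ∀ y : B, f' y = χ (1 ⊗ₜ[A] y) := fun y => rfl
    obtain ⟨g, hg, -⟩ := hG Ω (algebraMap B Ω) f' (by
      ext a
      rw [RingHom.comp_apply, RingHom.comp_apply, hf',
        ← IsScalarTower.algebraMap_apply A B Ω]
      have h2 : (1 : Ω) ⊗ₜ[A] (algebraMap A B a) = algebraMap Ω (Ω ⊗[A] B) (algebraMap A Ω a) := by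
        rw [Algebra.TensorProduct.algebraMap_apply, Algebra.algebraMap_eq_smul_one (A := B),
          TensorProduct.tmul_smul, TensorProduct.smul_tmul']
        simp [Algebra.smul_def]
      rw [h2, AlgHom.commutes]
      rfl)
    refine ⟨g, ?_⟩
    apply Algebra.TensorProduct.ext
    · apply AlgHom.ext
      intro ω
      simp only [AlgHom.coe_comp, Function.comp_apply,
        Algebra.TensorProduct.includeLeft_apply, chi_tmul, map_one, mul_one]
      rw [show ω ⊗ₜ[A] (1 : B) = algebraMap Ω (Ω ⊗[A] B) ω from rfl, AlgHom.commutes]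
      rfl
    · apply AlgHom.ext
      intro y
      have := RingHom.congr_fun hg y
      simp only [AlgHom.coe_comp, AlgHom.coe_restrictScalars', Function.comp_apply,
        Algebra.TensorProduct.includeRight_apply, chi_tmul, one_mul]
      rw [← hf']
      exact this

end Fibre

section Gal

variable {σ}
variable [Algebra.Etale A B] [Module.Finite A B]

/-- the fibre of the Galois map. -/
noncomputable def Psi (Ω : Type u) [Field Ω] [Algebra B Ω] [Algebra A Ω] [IsScalarTower A B Ω] :
    Ω ⊗[A] B → (G → Ω) := fun c g => chi (σ := σ) Ω g c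

theorem Psi_bijective (hG : IsSimplyTransitive σ) (Ω : Type u) [Field Ω] [IsAlgClosed Ω]
    [Algebra B Ω] [Algebra A Ω] [IsScalarTower A B Ω] :
    Function.Bijective (Psi (σ := σ) Ω) := by
  haveI : Algebra.IsFiniteSplit Ω (Ω ⊗[A] B) := inferInstance
  have h1 := bijective_eval_of_isFiniteSplit (k := Ω) (Ω ⊗[A] B)
  have h2 := chi_bijective hG Ω
  let E : G ≃ (Ω ⊗[A] B →ₐ[Ω] Ω) := Equiv.ofBijective _ h2
  have h3 : Psi (σ := σ) Ω = (fun F : (Ω ⊗[A] B →ₐ[Ω] Ω) → Ω => F ∘ E) ∘
      (fun (c : Ω ⊗[A] B) (χ : Ω ⊗[A] B →ₐ[Ω] Ω) => χ c) := rfl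
  rw [h3]
  exact (Equiv.arrowCongr E (Equiv.refl Ω)).symm.bijective.comp h1

theorem baseChange_Phi_eq (Ω : Type u) [Field Ω] [Algebra B Ω] [Algebra A Ω]
    [IsScalarTower A B Ω] (w : Ω ⊗[B] (B ⊗[A] B)) :
    TensorProduct.piScalarRight B Ω Ω G ((Phi σ).toLinearMap.baseChange Ω w) =
      Psi (σ := σ) Ω (AlgebraTensorModule.cancelBaseChange A B Ω Ω B w) := by
  induction w using TensorProduct.induction_on with
  | zero =>
    simp only [map_zero]
    funext g
    simp [Psi]
  | add x y hx hy =>
    rw [map_add, map_add, hx, hy, map_add]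
    funext g
    simp [Psi]
  | tmul ω z =>
    induction z using TensorProduct.induction_on with
    | zero =>
      simp only [TensorProduct.tmul_zero, map_zero]
      funext g
      simp [Psi]
    | add x y hx hy =>
      rw [TensorProduct.tmul_add, map_add, map_add, hx, hy, map_add]
      funext g
      simp [Psi]
    | tmul x y =>
      funext g
      simp only [LinearMap.baseChange_tmul, AlgHom.toLinearMap_apply,
        TensorProduct.piScalarRight_apply, TensorProduct.piScalarRightHom_tmul, Phi_tmul,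
        AlgebraTensorModule.cancelBaseChange_tmul, Psi, chi_tmul]
      rw [Algebra.smul_def, Algebra.smul_def, map_mul]
      ring

/-- **The Galois property**: `B ⊗_A B ≅ ∏_G B`. -/
theorem Phi_bijective (hG : IsSimplyTransitive σ) : Function.Bijective (Phi σ) := by
  have key := bijective_of_fibres (R := B) (M := B ⊗[A] B) (N := G → B) (Phi σ).toLinearMap
    (fun Ω _ _ _ => by
      letI : Algebra A Ω := ((algebraMap B Ω).comp (algebraMap A B)).toAlgebra
      haveI : IsScalarTower A B Ω := IsScalarTower.of_algebraMap_eq (fun _ => rfl)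
      have h1 := Psi_bijective hG Ω
      have h2 : ((Phi σ).toLinearMap.baseChange Ω : Ω ⊗[B] (B ⊗[A] B) → Ω ⊗[B] (G → B)) =
          (TensorProduct.piScalarRight B Ω Ω G).symm ∘ Psi (σ := σ) Ω ∘
            (AlgebraTensorModule.cancelBaseChange A B Ω Ω B) := by
        funext w
        simp only [Function.comp_apply]
        rw [← baseChange_Phi_eq, LinearEquiv.symm_apply_apply]
      rw [h2]
      exact (TensorProduct.piScalarRight B Ω Ω G).symm.bijective.comp
        (h1.comp (AlgebraTensorModule.cancelBaseChange A B Ω Ω B).bijective))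
  exact key

end Gal

section Invariants

variable {σ}
variable [Algebra.Etale A B] [Module.Finite A B] [Module.FaithfullyFlat A B]

/-- the invariants of a Galois algebra are the base ring. -/
theorem mem_range_of_invariant (hG : IsSimplyTransitive σ) (b : B) (hb : ∀ g, σ g b = b) :
    b ∈ Set.range (algebraMap A B) := by
  have h1 : Phi σ (b ⊗ₜ[A] 1) = Phi σ (1 ⊗ₜ[A] b) := by
    funext g
    simp [hb g]
  have h2 := (Phi_bijective hG).1 h1
  have h3 : Algebra.TensorProduct.includeLeftSubRight A B b = 0 := by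
    rw [Algebra.TensorProduct.includeLeftSubRight_apply, h2, sub_self]
  have h4 := (Algebra.IsEffective.of_faithfullyFlat (R := A) (S := B) b).1 h3
  obtain ⟨a, ha⟩ := h4
  exact ⟨a, ha⟩

/-- the trace of the group action. -/
noncomputable def Tr (σ : G →* (B →ₐ[A] B)) : B →ₗ[A] B := ∑ g, (σ g).toLinearMap

theorem Tr_apply (b : B) : Tr σ b = ∑ g, σ g b := by
  simp [Tr]

theorem sigma_Tr (h : G) (b : B) : σ h (Tr σ b) = Tr σ b := by
  rw [Tr_apply, map_sum]
  have : ∀ g, σ h (σ g b) = σ (h * g) b := fun g => by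
    rw [map_mul]
    rfl
  simp_rw [this]
  exact Fintype.sum_bijective (fun g => h * g) (Group.mulLeft_bijective h) _ _ (fun _ => rfl)

theorem sigma_inv_apply (g : G) (y : B) : σ g (σ g⁻¹ y) = y := by
  have h1 : σ g (σ g⁻¹ y) = (σ g * σ g⁻¹) y := rfl
  rw [h1, ← map_mul, mul_inv_cancel, map_one]
  rfl

/-- a Galois algebra has an element of trace one. -/
theorem exists_Tr_eq_one (hG : IsSimplyTransitive σ) : ∃ c : B, Tr σ c = 1 := by
  classical
  obtain ⟨w₀, hw₀⟩ := (Phi_bijective hG).2 (Pi.single 1 1)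
  let Θ : B ⊗[A] B →ₗ[A] B := (LinearMap.mul' A B) ∘ₗ (TensorProduct.map (Tr σ) LinearMap.id)
  have hΘ : ∀ x y : B, Θ (x ⊗ₜ[A] y) = Tr σ x * y := fun x y => by
    simp [Θ]
  have claim1 : ∀ w : B ⊗[A] B, Θ w = ∑ g, σ g (Phi σ w g⁻¹) := by
    intro w
    induction w using TensorProduct.induction_on with
    | zero => simp
    | add x y hx hy =>
      rw [map_add, hx, hy, map_add, ← Finset.sum_add_distrib]
      refine Finset.sum_congr rfl (fun g _ => ?_)
      rw [Pi.add_apply, map_add]
    | tmul x y =>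
      rw [hΘ, Tr_apply, Finset.sum_mul]
      refine Finset.sum_congr rfl (fun g _ => ?_)
      rw [Phi_tmul, map_mul, sigma_inv_apply]
  let J : Ideal A := Submodule.comap (Algebra.linearMap A B) (LinearMap.range (Tr σ))
  have claim2 : ∀ w : B ⊗[A] B, Θ w ∈ Ideal.map (algebraMap A B) J := by
    intro w
    induction w using TensorProduct.induction_on with
    | zero =>
      rw [map_zero]
      exact Ideal.zero_mem _
    | add x y hx hy =>
      rw [map_add]
      exact Ideal.add_mem _ hx hy
    | tmul x y =>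
      rw [hΘ]
      obtain ⟨a, ha⟩ := mem_range_of_invariant hG (Tr σ x) (fun g => sigma_Tr g x)
      have haJ : a ∈ J := by
        show Algebra.linearMap A B a ∈ LinearMap.range (Tr σ)
        exact ⟨x, ha.symm⟩
      rw [← ha]
      exact Ideal.mul_mem_right _ _ (Ideal.mem_map_of_mem _ haJ)
  have h1 : Θ w₀ = 1 := by
    rw [claim1, hw₀]
    rw [Finset.sum_eq_single (1 : G)]
    · simp
    · intro g _ hg
      have : g⁻¹ ≠ 1 := fun h => hg (inv_eq_one.1 h)
      simp [Pi.single_apply, this]
    · intro h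
      exact absurd (Finset.mem_univ _) h
  have h2 : Ideal.map (algebraMap A B) J = ⊤ := by
    rw [Ideal.eq_top_iff_one, ← h1]
    exact claim2 w₀
  have h3 : J = ⊤ := by
    rw [← Ideal.comap_map_eq_self_of_faithfullyFlat (B := B) J, h2, Ideal.comap_top]
  have h4 : (1 : A) ∈ J := by
    rw [h3]
    trivial
  obtain ⟨c, hc⟩ := h4
  refine ⟨c, ?_⟩
  rw [hc]
  simp

end Invariants

end Groth.Agent.Lib.Helper79.GalAlg2
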