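import Mathlib
import Groth.Prelude.Def_SGA1t
import Groth.Agent.Lib.Helper79.GalAlg2

/-!
# A `ℤ/p`-Galois algebra in characteristic `p` is an Artin–Schreier algebra
-/

set_option autoImplicit false
set_option linter.style.haveILetI false
set_option linter.unusedSectionVars false
open TensorProduct Polynomial
universe u

namespace Groth.Agent.Lib.Helper79.ASCover

open Groth.Agent.Lib.Helper79.GalAlg2

variable {p : ℕ} [Fact p.Prime] {A B : Type u} [CommRing A] [CommRing B] [Algebra A B]
  [CharP A p] (σ : Multiplicative (ZMod p) →* (B →ₐ[A] B))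

/-- the image of `j ∈ 𝔽_p` in `B`. -/
noncomputable def cc (j : ZMod p) : B := algebraMap A B (ZMod.castHom (dvd_refl p) A j)

theorem cc_add (j k : ZMod p) : (cc (A := A) (B := B) (j + k)) = cc (A := A) j + cc (A := A) k := by
  simp [cc]

theorem cc_zero : (cc (A := A) (B := B) (0 : ZMod p)) = 0 := by
  simp [cc]

theorem cc_pow (j : ZMod p) : (cc (A := A) (B := B) j) ^ p = cc (A := A) j := by
  unfold cc
  rw [← map_pow, ← map_pow, ZMod.pow_card]

theorem sigma_cc (g : Multiplicative (ZMod p)) (j : ZMod p) :
    σ g (cc (A := A) j) = cc (A := A) j := (σ g).commutes _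

variable [Algebra.Etale A B] [Module.Finite A B] [Module.FaithfullyFlat A B]
variable {σ}

/-- additive Hilbert 90. -/
theorem exists_shift (hG : IsSimplyTransitive σ) :
    ∃ t : B, ∀ g : Multiplicative (ZMod p), σ g t = t + cc (A := A) (Multiplicative.toAdd g) := by
  obtain ⟨c₀, hc₀⟩ := exists_Tr_eq_one hG
  rw [Tr_apply] at hc₀
  refine ⟨-∑ h : Multiplicative (ZMod p), cc (A := A) (Multiplicative.toAdd h) * σ h c₀, ?_⟩
  intro g
  rw [map_neg, map_sum]
  have h1 : ∀ h : Multiplicative (ZMod p),
      σ g (cc (A := A) (Multiplicative.toAdd h) * σ h c₀) =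
        (cc (A := A) (Multiplicative.toAdd (g * h)) - cc (A := A) (Multiplicative.toAdd g)) *
          σ (g * h) c₀ := by
    intro h
    rw [map_mul, sigma_cc, toAdd_mul, cc_add, add_sub_cancel_left, map_mul (f := σ)]
    rfl
  simp_rw [h1]
  rw [Fintype.sum_bijective (fun h => g * h) (Group.mulLeft_bijective g)
    (fun h => (cc (A := A) (Multiplicative.toAdd (g * h)) - cc (A := A) (Multiplicative.toAdd g)) *
      σ (g * h) c₀)
    (fun k => (cc (A := A) (Multiplicative.toAdd k) - cc (A := A) (Multiplicative.toAdd g)) *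
      σ k c₀) (fun _ => rfl)]
  simp_rw [sub_mul]
  rw [Finset.sum_sub_distrib, ← Finset.mul_sum, hc₀]
  ring

theorem charP_B (p : ℕ) (A B : Type u) [CommRing A] [CommRing B] [Algebra A B] [CharP A p]
    [Module.FaithfullyFlat A B] : CharP B p :=
  charP_of_injective_algebraMap (FaithfulSMul.algebraMap_injective A B) p

/-- the Artin–Schreier constant. -/
theorem exists_const (hG : IsSimplyTransitive σ) (t : B)
    (ht : ∀ g : Multiplicative (ZMod p), σ g t = t + cc (A := A) (Multiplicative.toAdd g)) :
    ∃ a : A, algebraMap A B a = t ^ p - t := by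
  haveI := charP_B p A B
  obtain ⟨a, ha⟩ := mem_range_of_invariant hG (t ^ p - t) (fun g => by
    rw [map_sub, map_pow, ht, add_pow_char, cc_pow]
    ring)
  exact ⟨a, ha⟩

section Vandermonde

variable (p) in
/-- an enumeration of the group. -/
noncomputable def enum : Fin p ≃ Multiplicative (ZMod p) :=
  (Fintype.equivFinOfCardEq (by
    rw [Fintype.card_multiplicative, ZMod.card])).symm

/-- `cc` as a ring homomorphism. -/
noncomputable def ccHom (A B : Type u) [CommRing A] [CommRing B] [Algebra A B] [CharP A p] :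
    ZMod p →+* B := (algebraMap A B).comp (ZMod.castHom (dvd_refl p) A)

theorem ccHom_apply (j : ZMod p) : ccHom (p := p) A B j = cc (A := A) j := rfl

variable (t : B)

/-- the Vandermonde matrix of the conjugates of `t`. -/
noncomputable def VV (A : Type u) [CommRing A] [Algebra A B] [CharP A p] (t : B) :
    Matrix (Fin p) (Fin p) B :=
  Matrix.vandermonde (fun i => t + cc (A := A) (Multiplicative.toAdd (enum p i)))

theorem VV_apply (i k : Fin p) :
    VV A t i k = (t + cc (A := A) (Multiplicative.toAdd (enum p i))) ^ (k : ℕ) := by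
  simp [VV, Matrix.vandermonde_apply]

theorem isUnit_det_VV : IsUnit (VV A t).det := by
  unfold VV
  rw [Matrix.det_vandermonde]
  apply Finset.prod_induction _ IsUnit (fun _ _ => IsUnit.mul) isUnit_one
  intro i _
  apply Finset.prod_induction _ IsUnit (fun _ _ => IsUnit.mul) isUnit_one
  intro j hj
  have hij : i ≠ j := (Finset.mem_Ioi.1 hj).ne
  have h1 : t + cc (A := A) (Multiplicative.toAdd (enum p j)) -
      (t + cc (A := A) (Multiplicative.toAdd (enum p i))) =
      ccHom (p := p) A B (Multiplicative.toAdd (enum p j) - Multiplicative.toAdd (enum p i)) := by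
    rw [map_sub, ccHom_apply, ccHom_apply]
    ring
  rw [h1]
  apply IsUnit.map
  apply Ne.isUnit
  intro h
  have h2 : Multiplicative.toAdd (enum p j) = Multiplicative.toAdd (enum p i) := sub_eq_zero.1 h
  exact hij ((enum p).injective (Multiplicative.toAdd.injective h2)).symm

theorem VV_mulVec_injective (y : Fin p → B) (hy : (VV A t).mulVec y = 0) : y = 0 := by
  have h1 := Matrix.nonsing_inv_mul (VV A t) (isUnit_det_VV (A := A) t)
  have h2 : ((VV A t)⁻¹ * VV A t).mulVec y = 0 := by
    rw [← Matrix.mulVec_mulVec, hy, Matrix.mulVec_zero]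
  rwa [h1, Matrix.one_mulVec] at h2

variable {t}
variable (ht : ∀ g : Multiplicative (ZMod p), σ g t = t + cc (A := A) (Multiplicative.toAdd g))

include ht in
theorem sigma_VV (h : Multiplicative (ZMod p)) (i k : Fin p) :
    σ h (VV A t i k) = VV A t ((enum p).symm (h * enum p i)) k := by
  rw [VV_apply, VV_apply, map_pow, map_add, sigma_cc, ht, Equiv.apply_symm_apply, toAdd_mul,
    cc_add]
  ring

include ht in
/-- `1, t, …, t ^ (p - 1)` generate `B`. -/
theorem exists_coeffs (hG : IsSimplyTransitive σ) (b : B) :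
    ∃ a : Fin p → A, b = ∑ k : Fin p, algebraMap A B (a k) * t ^ (k : ℕ) := by
  let rhs : Fin p → B := fun i => σ (enum p i) b
  let x : Fin p → B := (VV A t)⁻¹.mulVec rhs
  have hx : (VV A t).mulVec x = rhs := by
    show (VV A t).mulVec ((VV A t)⁻¹.mulVec rhs) = rhs
    rw [Matrix.mulVec_mulVec, Matrix.mul_nonsing_inv _ (isUnit_det_VV (A := A) t),
      Matrix.one_mulVec]
  have hxi : ∀ i, ∑ k, VV A t i k * x k = σ (enum p i) b := fun i => congrFun hx i
  have hinv : ∀ (h : Multiplicative (ZMod p)) (k : Fin p), σ h (x k) = x k := by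
    intro h
    have h1 : (VV A t).mulVec (fun k => σ h (x k) - x k) = 0 := by
      funext i'
      obtain ⟨i, rfl⟩ : ∃ i, (enum p).symm (h * enum p i) = i' :=
        ⟨(enum p).symm (h⁻¹ * enum p i'), by simp⟩
      show ∑ k, VV A t _ k * (σ h (x k) - x k) = 0
      simp_rw [mul_sub]
      rw [Finset.sum_sub_distrib, hxi, Equiv.apply_symm_apply]
      have h2 := congrArg (σ h) (hxi i)
      rw [map_sum] at h2
      simp_rw [map_mul, sigma_VV ht] at h2
      rw [h2, sub_eq_zero]
      show σ h (σ (enum p i) b) = σ (h * enum p i) b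
      rw [map_mul (f := σ)]
      rfl
    have h2 := VV_mulVec_injective (A := A) t _ h1
    intro k
    exact sub_eq_zero.1 (congrFun h2 k)
  have hrange : ∀ k, x k ∈ Set.range (algebraMap A B) := fun k =>
    mem_range_of_invariant hG (x k) (fun g => hinv g k)
  choose a ha using hrange
  refine ⟨a, ?_⟩
  have h1 := hxi ((enum p).symm 1)
  rw [Equiv.apply_symm_apply, map_one σ] at h1
  have h2 : ∀ k, VV A t ((enum p).symm 1) k = t ^ (k : ℕ) := by
    intro k
    rw [VV_apply, Equiv.apply_symm_apply, toAdd_one, cc_zero, add_zero]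
  simp_rw [h2] at h1
  have h3 : (1 : B →ₐ[A] B) b = b := rfl
  rw [h3] at h1
  rw [← h1]
  refine Finset.sum_congr rfl (fun k _ => ?_)
  rw [ha, mul_comm]

include ht in
/-- `1, t, …, t ^ (p - 1)` are linearly independent. -/
theorem coeffs_eq_zero (a : Fin p → A)
    (h : ∑ k : Fin p, algebraMap A B (a k) * t ^ (k : ℕ) = 0) : a = 0 := by
  have h1 : (VV A t).mulVec (fun k => algebraMap A B (a k)) = 0 := by
    funext i
    show ∑ k, VV A t i k * algebraMap A B (a k) = 0
    have h2 := congrArg (σ (enum p i)) h
    rw [map_sum, map_zero] at h2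
    rw [← h2]
    refine Finset.sum_congr rfl (fun k _ => ?_)
    rw [map_mul, AlgHom.commutes, map_pow, ht, VV_apply, mul_comm]
  have h2 := VV_mulVec_injective (A := A) t _ h1
  funext k
  exact FaithfulSMul.algebraMap_injective A B ((congrFun h2 k).trans (map_zero _).symm)

end Vandermonde

section Main

variable {t : B} {a : A}

/-- the Artin–Schreier polynomial. -/
noncomputable abbrev ff (A : Type u) [CommRing A] (p : ℕ) (a : A) : A[X] :=
  (X : A[X]) ^ p - X - C a

theorem ff_monic (a : A) : (ff A p a).Monic := by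
  have hp1 : 1 < p := (Fact.out : p.Prime).one_lt
  have h1 : ff A p a = X ^ p - (X + C a) := by
    unfold ff
    ring
  haveI : Nontrivial A := CharP.nontrivial_of_char_ne_one (R := A) (v := p) (by omega)
  rw [h1]
  apply monic_X_pow_sub
  rw [degree_X_add_C]
  exact_mod_cast hp1

theorem ff_natDegree (a : A) : (ff A p a).natDegree = p := by
  have hp1 : 1 < p := (Fact.out : p.Prime).one_lt
  have h1 : ff A p a = X ^ p - (X + C a) := by
    unfold ff
    ring
  haveI : Nontrivial A := CharP.nontrivial_of_char_ne_one (R := A) (v := p) (by omega)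
  rw [h1, natDegree_sub_eq_left_of_natDegree_lt, natDegree_X_pow]
  rw [natDegree_X_add_C, natDegree_X_pow]
  exact hp1

/-- the comparison homomorphism. -/
noncomputable def psi0 (t : B) (a : A) (hta : algebraMap A B a = t ^ p - t) :
    SGA1t.artinSchreier A p a →ₐ[A] B :=
  Ideal.Quotient.liftₐ (Ideal.span {ff A p a}) (aeval t) (by
    intro q hq
    obtain ⟨r, rfl⟩ := Ideal.mem_span_singleton.1 hq
    rw [map_mul]
    have : aeval t (ff A p a) = 0 := by
      simp only [ff, map_sub, map_pow, aeval_X, aeval_C]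
      rw [hta]
      ring
    rw [this, zero_mul])

theorem psi0_mk (hta : algebraMap A B a = t ^ p - t) (q : A[X]) :
    psi0 t a hta (Ideal.Quotient.mk _ q) = aeval t q := rfl

variable (ht : ∀ g : Multiplicative (ZMod p), σ g t = t + cc (A := A) (Multiplicative.toAdd g))

include ht in
theorem psi0_bijective (hG : IsSimplyTransitive σ) (hta : algebraMap A B a = t ^ p - t) :
    Function.Bijective (psi0 t a hta) := by
  constructor
  · rw [injective_iff_map_eq_zero]
    intro y hy
    obtain ⟨q, rfl⟩ := Ideal.Quotient.mk_surjective y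
    rw [psi0_mk] at hy
    have hmod := modByMonic_add_div q (ff A p a)
    set r := q %ₘ ff A p a with hr
    have hdeg : r.natDegree < p := by
      have := natDegree_modByMonic_lt q (ff_monic (p := p) a) (by
        intro h
        have h2 := ff_natDegree (p := p) a
        rw [h, natDegree_one] at h2
        exact (Fact.out : p.Prime).ne_zero h2.symm)
      rwa [ff_natDegree] at this
    have hqr : aeval t q = aeval t r := by
      rw [← hmod, map_add, map_mul]
      have : aeval t (ff A p a) = 0 := by
        simp only [ff, map_sub, map_pow, aeval_X, aeval_C]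
        rw [hta]
        ring
      rw [this, zero_mul, add_zero]
    rw [hqr, aeval_eq_sum_range' hdeg, Finset.sum_range] at hy
    have h1 := coeffs_eq_zero ht (fun k : Fin p => r.coeff k) (by
      rw [← hy]
      refine Finset.sum_congr rfl (fun k _ => ?_)
      rw [Algebra.smul_def])
    have hr0 : r = 0 := by
      ext k
      rw [coeff_zero]
      by_cases hk : k < p
      · exact congrFun h1 ⟨k, hk⟩
      · exact coeff_eq_zero_of_natDegree_lt (lt_of_lt_of_le hdeg (not_lt.1 hk))
    rw [Ideal.Quotient.eq_zero_iff_mem, Ideal.mem_span_singleton]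
    refine ⟨q /ₘ ff A p a, ?_⟩
    have h5 := hmod
    rw [hr0, zero_add] at h5
    exact h5.symm
  · intro b
    obtain ⟨c, hc⟩ := exists_coeffs ht hG b
    refine ⟨Ideal.Quotient.mk _ (∑ k : Fin p, C (c k) * X ^ (k : ℕ)), ?_⟩
    rw [psi0_mk, map_sum, hc]
    refine Finset.sum_congr rfl (fun k _ => ?_)
    rw [map_mul, aeval_C, map_pow, aeval_X]

include ht in
/-- **A `ℤ/p`-Galois algebra in characteristic `p` is an Artin–Schreier algebra.** -/
theorem psi0_shift (hta : algebraMap A B a = t ^ p - t) (j : ZMod p)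
    (y : SGA1t.artinSchreier A p a) :
    psi0 t a hta (SGA1t.artinSchreierShift A p a j y) =
      σ (Multiplicative.ofAdd j) (psi0 t a hta y) := by
  obtain ⟨q, rfl⟩ := Ideal.Quotient.mk_surjective y
  have h1 : SGA1t.artinSchreierShift A p a j (Ideal.Quotient.mk _ q) =
      Ideal.Quotient.mk _ (aeval (R := A) (X + C ((ZMod.castHom (dvd_refl p) A) j)) q) := rfl
  rw [h1, psi0_mk, psi0_mk]
  have h2 : aeval t (aeval (R := A) (X + C ((ZMod.castHom (dvd_refl p) A) j)) q) =
      aeval (t + cc (A := A) j) q := by
    rw [← aeval_algHom_apply]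
    congr 1
    simp [cc]
  rw [h2, ← aeval_algHom_apply, ht]
  rfl

end Main

/-- the main algebraic theorem. -/
theorem exists_artinSchreier (hG : IsSimplyTransitive σ) :
    ∃ (a : A) (ψ : SGA1t.artinSchreier A p a →ₐ[A] B), Function.Bijective ψ ∧
      ∀ (j : ZMod p) (y : SGA1t.artinSchreier A p a),
        ψ (SGA1t.artinSchreierShift A p a j y) = σ (Multiplicative.ofAdd j) (ψ y) := by
  obtain ⟨t, ht⟩ := exists_shift hG
  obtain ⟨a, ha⟩ := exists_const hG t ht
  exact ⟨a, psi0 t a ha, psi0_bijective ht hG ha, psi0_shift ht ha⟩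

end Groth.Agent.Lib.Helper79.ASCover
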