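import Mathlib
import Groth.Prelude.Def_SGA1t
import Groth.Agent.Lib.Helper79.GalAlg2

/-!
# From principal covers of an affine scheme to Galois algebras
-/

set_option autoImplicit false
set_option linter.style.haveILetI false
set_option linter.unusedSectionVars false
open CategoryTheory CategoryTheory.Limits AlgebraicGeometry
universe u v

namespace Groth.Agent.Lib.Helper79.GalSch

open Groth.Agent.Lib.Helper79.GalAlg2

variable {A : Type u} [CommRing A] (P : FEt.Cat (Spec (CommRingCat.of A)))

/-- the structure morphism, with its target in syntactic form. -/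
abbrev hom' : P.left ⟶ Spec (CommRingCat.of A) := P.hom

instance isAffine_left : IsAffine P.left := by
  haveI : IsFinite (hom' P) := P.prop.1
  exact isAffine_of_isAffineHom (hom' P)

/-- the structure homomorphism on global sections. -/
noncomputable def phi : CommRingCat.of A ⟶ Γ(P.left, ⊤) :=
  (Scheme.ΓSpecIso (CommRingCat.of A)).inv ≫ (hom' P).appTop

theorem hom_eq : hom' P = P.left.isoSpec.hom ≫ Spec.map (phi P) := by
  unfold phi
  rw [Spec.map_comp, Scheme.isoSpec_hom_naturality_assoc, ← Scheme.isoSpec_Spec_inv,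
    Iso.hom_inv_id, Category.comp_id]

theorem SpecMap_phi : Spec.map (phi P) = P.left.isoSpec.inv ≫ hom' P := by
  rw [hom_eq, Iso.inv_hom_id_assoc]

/-- the algebra structure on global sections. -/
@[reducible] noncomputable def algebraΓ : Algebra A Γ(P.left, ⊤) := (phi P).hom.toAlgebra

theorem etale_SpecMap : Etale (Spec.map (phi P)) := by
  haveI : Etale (hom' P) := P.prop.2
  rw [SpecMap_phi]
  infer_instance

theorem isFinite_SpecMap : IsFinite (Spec.map (phi P)) := by
  haveI : IsFinite (hom' P) := P.prop.1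
  rw [SpecMap_phi]
  infer_instance

theorem algebra_etale : @Algebra.Etale A Γ(P.left, ⊤) _ _ (algebraΓ P) :=
  (HasRingHomProperty.Spec_iff (P := @Etale)).1 (etale_SpecMap P)

theorem module_finite : @Module.Finite A Γ(P.left, ⊤) _ _ (algebraΓ P).toModule :=
  (IsFinite.SpecMap_iff (phi P)).1 (isFinite_SpecMap P)

theorem faithfullyFlat (hsurj : Function.Surjective (hom' P).base) :
    @Module.FaithfullyFlat A Γ(P.left, ⊤) _ _ (algebraΓ P).toModule := by
  haveI := etale_SpecMap P
  haveI : Surjective (hom' P) := ⟨hsurj⟩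
  haveI : Surjective (Spec.map (phi P)) := by
    rw [SpecMap_phi]
    infer_instance
  have h2 := (flat_and_surjective_SpecMap_iff (phi P)).1 ⟨inferInstance, inferInstance⟩
  exact h2

section Action

variable {P}
variable {G : Type v} [CommGroup G] (ρ : G →* Aut P)

/-- the automorphism of the total space. -/
noncomputable abbrev tau (g : G) : P.left ⟶ P.left := (ρ g).hom.left

theorem tau_hom (g : G) : tau ρ g ≫ hom' P = hom' P := Over.w (ρ g).hom.hom

theorem tau_one : tau ρ 1 = 𝟙 _ := by
  show (ρ 1).hom.left = 𝟙 _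
  rw [map_one]
  rfl

theorem tau_mul (g h : G) : tau ρ (g * h) = tau ρ h ≫ tau ρ g := by
  show (ρ (g * h)).hom.left = (ρ h).hom.left ≫ (ρ g).hom.left
  rw [map_mul]
  rfl

theorem phi_comp_appTop (g : G) : phi P ≫ (tau ρ g).appTop = phi P := by
  unfold phi
  rw [Category.assoc, ← Scheme.Hom.comp_appTop, tau_hom]

/-- the action on global sections. -/
noncomputable def sigma : G →* (letI := algebraΓ P; Γ(P.left, ⊤) →ₐ[A] Γ(P.left, ⊤)) :=
  letI := algebraΓ P
  { toFun := fun g =>
      { toRingHom := (tau ρ g).appTop.hom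
        commutes' := fun a => congrArg (fun k => k.hom a) (phi_comp_appTop ρ g) }
    map_one' := by
      apply AlgHom.ext
      intro b
      show (tau ρ 1).appTop.hom b = b
      rw [tau_one]
      simp
    map_mul' := fun g h => by
      apply AlgHom.ext
      intro b
      show (tau ρ (g * h)).appTop.hom b = (tau ρ g).appTop.hom ((tau ρ h).appTop.hom b)
      rw [mul_comm, tau_mul, Scheme.Hom.comp_appTop]
      rfl }

theorem sigma_apply (g : G) (b : Γ(P.left, ⊤)) :
    letI := algebraΓ P
    sigma ρ g b = (tau ρ g).appTop.hom b := rfl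

/-- the point of `P` defined by a homomorphism to a field. -/
noncomputable def pt {Ω : Type u} [Field Ω] (f : Γ(P.left, ⊤) →+* Ω) :
    Spec (CommRingCat.of Ω) ⟶ P.left :=
  Spec.map (CommRingCat.ofHom f) ≫ P.left.isoSpec.inv

theorem pt_hom {Ω : Type u} [Field Ω] (f : Γ(P.left, ⊤) →+* Ω) :
    pt f ≫ hom' P = Spec.map (phi P ≫ CommRingCat.ofHom f) := by
  unfold pt
  rw [Category.assoc, hom_eq, Iso.inv_hom_id_assoc, Spec.map_comp]

theorem pt_tau {Ω : Type u} [Field Ω] (f : Γ(P.left, ⊤) →+* Ω) (g : G) :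
    pt f ≫ tau ρ g = pt (f.comp (tau ρ g).appTop.hom) := by
  unfold pt
  rw [Category.assoc, ← Scheme.isoSpec_inv_naturality, ← Category.assoc, ← Spec.map_comp]
  rfl

theorem pt_injective {Ω : Type u} [Field Ω] (f f' : Γ(P.left, ⊤) →+* Ω) (h : pt f = pt f') :
    f = f' := by
  unfold pt at h
  have h1 := (cancel_mono _).1 h
  have h2 := Spec.map_injective h1
  exact congrArg CommRingCat.Hom.hom h2

/-- a principal cover gives a Galois algebra. -/
theorem isSimplyTransitive (hP : SGA1t.IsPrincipal G P ρ) :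
    letI := algebraΓ P
    IsSimplyTransitive (sigma ρ) := by
  letI := algebraΓ P
  intro Ω _ _ f f' hff'
  have hφ : phi P ≫ CommRingCat.ofHom f = phi P ≫ CommRingCat.ofHom f' := by
    apply CommRingCat.hom_ext
    exact hff'
  let ξ : Spec (CommRingCat.of Ω) ⟶ Spec (CommRingCat.of A) := pt f ≫ hom' P
  let s : FEt.fiberObj ξ P := ⟨pt f, rfl⟩
  let s' : FEt.fiberObj ξ P := ⟨pt f', by
    show pt f' ≫ hom' P = pt f ≫ hom' P
    rw [pt_hom, pt_hom, hφ]⟩
  obtain ⟨g, hg, huniq⟩ := hP.2 Ω ξ s s'
  have key : ∀ g : G, (FEt.fiber ξ).map (ρ g).hom s = s' ↔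
      f.comp (sigma ρ g : Γ(P.left, ⊤) →+* Γ(P.left, ⊤)) = f' := by
    intro g
    have h1 : ((FEt.fiber ξ).map (ρ g).hom s).1 = pt f ≫ tau ρ g := rfl
    constructor
    · intro h
      have h2 : pt f ≫ tau ρ g = pt f' := h1.symm.trans (congrArg Subtype.val h)
      rw [pt_tau] at h2
      exact pt_injective _ _ h2
    · intro h
      apply Subtype.ext
      refine h1.trans ?_
      rw [pt_tau]
      show pt (f.comp (tau ρ g).appTop.hom) = pt f'
      rw [← h]
      rfl
  refine ⟨g, (key g).1 hg, fun g' hg' => huniq g' ((key g').2 hg')⟩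

end Action

end Groth.Agent.Lib.Helper79.GalSch
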