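import Mathlib
import Groth.Prelude.Def_SGA1t
import Groth.Agent.Lib.Helper79.GalSch
import Groth.Agent.Lib.Helper79.ASCover

/-!
# Principal `ℤ/p`-covers of affine schemes of characteristic `p` are Artin–Schreier covers
-/

set_option autoImplicit false
set_option linter.style.haveILetI false
set_option linter.unusedSectionVars false
open CategoryTheory CategoryTheory.Limits AlgebraicGeometry
universe u

namespace Groth.Agent.Lib.Helper79.ASCoverSch

open Groth.Agent.Lib.Helper79.GalAlg2 Groth.Agent.Lib.Helper79.GalSch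
  Groth.Agent.Lib.Helper79.ASCover

theorem principal_is_artinSchreier (A : Type u) [CommRing A] (p : ℕ) [Fact p.Prime] [CharP A p]
    (P : FEt.Cat (Spec (CommRingCat.of A))) (ρ : Multiplicative (ZMod p) →* Aut P)
    (hP : SGA1t.IsPrincipal (Multiplicative (ZMod p)) P ρ) :
    ∃ (a : A) (e : P.left ≅ Spec (CommRingCat.of (SGA1t.artinSchreier A p a))),
      e.hom ≫ Spec.map (CommRingCat.ofHom (algebraMap A (SGA1t.artinSchreier A p a))) = P.hom ∧
      ∀ j : ZMod p, (ρ (Multiplicative.ofAdd j)).hom.left ≫ e.hom =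
        e.hom ≫ Spec.map (CommRingCat.ofHom (SGA1t.artinSchreierShift A p a j)) := by
  letI := algebraΓ P
  haveI := algebra_etale P
  haveI := module_finite P
  haveI := faithfullyFlat P hP.1
  obtain ⟨a, ψ, hψ, hshift⟩ := exists_artinSchreier (isSimplyTransitive ρ hP)
  let ψe : SGA1t.artinSchreier A p a ≃+* Γ(P.left, ⊤) := RingEquiv.ofBijective ψ hψ
  let e : P.left ≅ Spec (CommRingCat.of (SGA1t.artinSchreier A p a)) :=
    P.left.isoSpec ≪≫ Scheme.Spec.mapIso (ψe.toCommRingCatIso).op
  have he : e.hom = P.left.isoSpec.hom ≫ Spec.map (CommRingCat.ofHom (ψ : _ →+* _)) := rfl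
  refine ⟨a, e, ?_, ?_⟩
  · show _ = hom' P
    rw [he, Category.assoc, ← Spec.map_comp, hom_eq]
    congr 2
    apply CommRingCat.hom_ext
    apply RingHom.ext
    intro x
    exact ψ.commutes x
  · intro j
    show tau ρ (Multiplicative.ofAdd j) ≫ e.hom = _
    rw [he, ← Scheme.isoSpec_hom_naturality_assoc, Category.assoc, ← Spec.map_comp,
      ← Spec.map_comp]
    congr 2
    apply CommRingCat.hom_ext
    apply RingHom.ext
    intro y
    exact (hshift j y).symm

end Groth.Agent.Lib.Helper79.ASCoverSch
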