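import Mathlib

/-!
# Morphisms into a disjoint union of copies of `S`
-/

set_option autoImplicit false
set_option linter.style.haveILetI false
open CategoryTheory CategoryTheory.Limits AlgebraicGeometry TopologicalSpace
universe u v

namespace Groth.Agent.Lib.Helper79.ConstPts

variable {S X : Scheme.{u}} {M : Type v} [Small.{u} M]

/-- the open locus which `g` maps into the `m`-th copy of `S`. -/
noncomputable def locus (g : X ⟶ ∐ fun _ : M => S) (m : M) : X.Opens :=
  g ⁻¹ᵁ (Sigma.ι (fun _ : M => S) m).opensRange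

theorem exists_mem_locus (g : X ⟶ ∐ fun _ : M => S) (x : X) : ∃ m, x ∈ locus g m := by
  obtain ⟨m, y, hy⟩ := (sigmaOpenCover (fun _ : M => S)).exists_eq (g.base x)
  exact ⟨m, y, hy⟩

theorem locus_ι_comp (g : X ⟶ ∐ fun _ : M => S) (f : X ⟶ S)
    (hg : g ≫ Sigma.desc (fun _ : M => 𝟙 S) = f) (m : M) :
    (locus g m).ι ≫ g = ((locus g m).ι ≫ f) ≫ Sigma.ι (fun _ : M => S) m := by
  have hrange : Set.range ((locus g m).ι ≫ g).base ⊆
      Set.range (Sigma.ι (fun _ : M => S) m).base := by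
    rintro _ ⟨y, rfl⟩
    exact y.2
  have h1 := IsOpenImmersion.lift_fac (Sigma.ι (fun _ : M => S) m) ((locus g m).ι ≫ g) hrange
  have h2 : IsOpenImmersion.lift (Sigma.ι (fun _ : M => S) m) ((locus g m).ι ≫ g) hrange =
      (locus g m).ι ≫ f := by
    have h3 := congrArg (fun k => k ≫ Sigma.desc (fun _ : M => 𝟙 S)) h1
    simp only [Category.assoc, colimit.ι_desc, Cofan.mk_ι_app, Category.comp_id] at h3
    rw [h3, hg]
  rw [← h2, h1]

/-- a morphism to the disjoint union over `S` is determined by its loci. -/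
theorem hom_ext_of_locus_le (g g' : X ⟶ ∐ fun _ : M => S) (f : X ⟶ S)
    (hg : g ≫ Sigma.desc (fun _ : M => 𝟙 S) = f) (hg' : g' ≫ Sigma.desc (fun _ : M => 𝟙 S) = f)
    (h : ∀ m, locus g m ≤ locus g' m) : g = g' := by
  apply Scheme.hom_ext_of_forall
  intro x
  obtain ⟨m, hm⟩ := exists_mem_locus g x
  refine ⟨locus g m, hm, ?_⟩
  rw [locus_ι_comp g f hg m]
  have h1 : (locus g m).ι = X.homOfLE (h m) ≫ (locus g' m).ι := (X.homOfLE_ι _).symm
  rw [h1]
  simp only [Category.assoc]
  rw [locus_ι_comp g' f hg' m]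
  simp only [Category.assoc]

/-- a morphism to the disjoint union from a disjoint open cover. -/
theorem exists_of_cover (U : M → X.Opens) (hcov : ∀ x : X, ∃ m, x ∈ U m)
    (hdisj : ∀ m n, m ≠ n → U m ⊓ U n = ⊥) (f : X ⟶ S) :
    ∃ g : X ⟶ ∐ fun _ : M => S, g ≫ Sigma.desc (fun _ : M => 𝟙 S) = f ∧
      ∀ m, (U m).ι ≫ g = ((U m).ι ≫ f) ≫ Sigma.ι (fun _ : M => S) m := by
  let d : (∐ fun m : M => (U m).toScheme) ⟶ X := Sigma.desc (fun m => (U m).ι)
  have hd : ∀ m, Sigma.ι (fun m : M => (U m).toScheme) m ≫ d = (U m).ι := fun m => by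
    simp [d]
  haveI : IsOpenImmersion d := by
    apply isOpenImmersion_sigmaDesc
    intro m n hmn
    show Disjoint (Set.range (U m).ι.base) (Set.range (U n).ι.base)
    rw [Scheme.Opens.range_ι, Scheme.Opens.range_ι, Set.disjoint_iff_inter_eq_empty]
    have := congrArg (fun W : X.Opens => (W : Set X)) (hdisj m n hmn)
    simpa using this
  haveI : Surjective d := by
    constructor
    intro x
    obtain ⟨m, hm⟩ := hcov x
    let y : (U m).toScheme := ⟨x, hm⟩
    refine ⟨(Sigma.ι (fun m : M => (U m).toScheme) m).base y, ?_⟩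
    have h1 := congrArg (fun k : (U m).toScheme ⟶ X => k.base y) (hd m)
    exact h1
  haveI : IsIso d := (isIso_iff_isOpenImmersion_and_surjective d).2 ⟨inferInstance, inferInstance⟩
  let k : (∐ fun m : M => (U m).toScheme) ⟶ ∐ fun _ : M => S :=
    Sigma.desc (fun m => ((U m).ι ≫ f) ≫ Sigma.ι (fun _ : M => S) m)
  have hk : ∀ m, Sigma.ι (fun m : M => (U m).toScheme) m ≫ k =
      ((U m).ι ≫ f) ≫ Sigma.ι (fun _ : M => S) m := fun m => by simp [k]
  refine ⟨inv d ≫ k, ?_, ?_⟩
  · rw [← cancel_epi d, Category.assoc, IsIso.hom_inv_id_assoc]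
    apply Sigma.hom_ext
    intro m
    rw [reassoc_of% (hk m), reassoc_of% (hd m)]
    simp
  · intro m
    rw [← hd m, Category.assoc, IsIso.hom_inv_id_assoc, hk m, hd m]

end Groth.Agent.Lib.Helper79.ConstPts
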