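import Mathlib
import Groth.Prelude.Def_NonAbH2
import Groth.Prelude.Def_Red2
import Groth.Prelude.Def_TwC
import Groth.Agent.Lib.Helper43.GaGm
import Groth.Agent.Lib.Helper40.GrpKer
import Groth.Agent.Lib.Helper40.LocTrivCov
import Groth.Agent.Lib.Helper79.ASAlg
import Groth.Agent.Lib.Helper79.ConstPts

/-!
# The Artin–Schreier sequence `0 → (ℤ/p)_S → 𝔾_a → 𝔾_a → 0` is exact for the fpqc topology
-/

set_option autoImplicit false
set_option linter.style.haveILetI false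
set_option linter.unusedSectionVars false
open CategoryTheory CategoryTheory.Limits AlgebraicGeometry MonoidalCategory
open CartesianMonoidalCategory MonObj GrpObj TopologicalSpace
universe u

namespace Groth.Agent.Lib.Helper79.ASSeq

open Groth.Agent.Lib.Helper43 Groth.Agent.Lib.Helper79.ASAlg Groth.Agent.Lib.Helper79.ConstPts

variable {p : ℕ} [Fact p.Prime] {S : Scheme.{u}}

/-- `p = 0` on every `S`-scheme. -/
theorem hpT (hp : (p : Γ(S, ⊤)) = 0) {X : Scheme.{u}} (f : X ⟶ S) : (p : Γ(X, ⊤)) = 0 := by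
  have h := congrArg f.appTop.hom hp
  rwa [map_natCast, map_zero] at h

theorem add_pow_eq {R : Type*} [CommRing R] (hp : (p : R) = 0) (a b : R) :
    (a + b) ^ p = a ^ p + b ^ p := by
  rcases subsingleton_or_nontrivial R with h | h
  · exact Subsingleton.elim _ _
  · haveI : CharP R p := (CharP.charP_iff_prime_eq_zero (Fact.out : p.Prime)).2 hp
    exact add_pow_char a b p

section P

variable (F : Red.Ga S ⟶ Red.Ga S)
  (hF : ∀ (T : Over S) (x : T ⟶ Red.Ga S), Red.gaFn (x ≫ F) = Red.gaFn x ^ p)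

include hF in
theorem gaFn_comp_P (T : Over S) (x : T ⟶ Red.Ga S) :
    Red.gaFn (x ≫ (𝟙 (Red.Ga S) * F⁻¹)) = Red.gaFn x - Red.gaFn x ^ p := by
  rw [MonObj.comp_mul, Category.comp_id, GrpObj.comp_inv, gaFn_mul, gaFn_inv, hF, sub_eq_add_neg]

include hF in
theorem isMonHom_P (hp : (p : Γ(S, ⊤)) = 0) : IsMonHom (𝟙 (Red.Ga S) * F⁻¹) := by
  have hp0 : p ≠ 0 := (Fact.out : p.Prime).ne_zero
  constructor
  · apply gaFn_injective
    rw [gaFn_comp_P F hF, MonObj.one_eq_one, gaFn_one, zero_pow hp0, sub_zero]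
  · apply gaFn_injective
    have h1 : ((𝟙 (Red.Ga S) * F⁻¹) ⊗ₘ (𝟙 (Red.Ga S) * F⁻¹)) ≫ μ[Red.Ga S] =
        (fst (Red.Ga S) (Red.Ga S) ≫ (𝟙 (Red.Ga S) * F⁻¹)) *
          (snd (Red.Ga S) (Red.Ga S) ≫ (𝟙 (Red.Ga S) * F⁻¹)) := by
      rw [Hom.mul_def]
      congr 1
    rw [h1, gaFn_comp_P F hF, gaFn_mul, gaFn_comp_P F hF, gaFn_comp_P F hF, MonObj.mul_eq_mul,
      gaFn_mul, add_pow_eq (hpT hp (Red.Ga S ⊗ Red.Ga S).hom)]
    ring

end P

section Const

/-- the index group -/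
abbrev MM (p : ℕ) : Type := Multiplicative (ZMod p)

variable (hp : (p : Γ(S, ⊤)) = 0) (c : TwC.const S (MM p) ⟶ Red.Ga S)
  (hc : ∀ m : MM p, Red.gaFn (TwC.pt S (MM p) m ≫ c) =
    zmodHom p Γ(S, ⊤) hp (Multiplicative.toAdd m))

include hc in
/-- the value of `c` on the part of `T` mapped to the `m`-th copy. -/
theorem gaFn_on_locus (T T' : Over S) (g : T ⟶ TwC.const S (MM p)) (m : MM p)
    (V : T.left.Opens)
    (hV : V.ι ≫ g.left = (V.ι ≫ T.hom) ≫ Sigma.ι (fun _ : MM p => S) m)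
    (j : T' ⟶ T) (a : T'.left ⟶ V.toScheme) (ha : a ≫ V.ι = j.left) :
    Red.gaFn (j ≫ g ≫ c) =
      zmodHom p Γ(T'.left, ⊤) (hpT hp T'.hom) (Multiplicative.toAdd m) := by
  have h1 : j ≫ g = toUnit T' ≫ TwC.pt S (MM p) m := by
    apply Over.OverMorphism.ext
    have h2 : (toUnit T').left = T'.hom := by
      simp
    rw [Over.comp_left, Over.comp_left, h2, ← ha, Category.assoc, hV, ← Category.assoc,
      ← Category.assoc, ha, Over.w j]
    rfl
  rw [← Category.assoc, h1, Category.assoc, gaFn_comp, hc]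
  exact zmodHom_apply_comp p hp (hpT hp T'.hom) (toUnit T').left.appTop.hom _

include hc in
/-- `c` is a monomorphism on points. -/
theorem comp_c_injective (T : Over S) (g g' : T ⟶ TwC.const S (MM p))
    (h : g ≫ c = g' ≫ c) : g = g' := by
  apply Over.OverMorphism.ext
  refine hom_ext_of_locus_le g.left g'.left T.hom (Over.w g) (Over.w g') (fun m x hx => ?_)
  obtain ⟨n, hn⟩ := exists_mem_locus g'.left x
  suffices hmn : m = n by rw [hmn]; exact hn
  -- evaluate at the residue field of `x`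
  let T' : Over S := Over.mk (T.left.fromSpecResidueField x ≫ T.hom)
  let j : T' ⟶ T := Over.homMk (T.left.fromSpecResidueField x) rfl
  have hr : ∀ (V : T.left.Opens), x ∈ V →
      Set.range (T.left.fromSpecResidueField x).base ⊆ Set.range V.ι.base := by
    intro V hxV
    rw [Scheme.range_fromSpecResidueField, Scheme.Opens.range_ι]
    exact Set.singleton_subset_iff.2 hxV
  have e1 := gaFn_on_locus hp c hc T T' g m (locus g.left m)
    (locus_ι_comp g.left T.hom (Over.w g) m) j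
    (IsOpenImmersion.lift (locus g.left m).ι (T.left.fromSpecResidueField x) (hr _ hx))
    (IsOpenImmersion.lift_fac _ _ _)
  have e2 := gaFn_on_locus hp c hc T T' g' n (locus g'.left n)
    (locus_ι_comp g'.left T.hom (Over.w g') n) j
    (IsOpenImmersion.lift (locus g'.left n).ι (T.left.fromSpecResidueField x) (hr _ hn))
    (IsOpenImmersion.lift_fac _ _ _)
  rw [h] at e1
  have e3 := e1.symm.trans e2
  haveI : Nonempty (⊤ : T'.left.Opens) :=
    ⟨⟨(Classical.arbitrary (Spec (T.left.residueField x)) : _), trivial⟩⟩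
  have e4 := zmodHom_injective p (hpT hp T'.hom) e3
  exact Multiplicative.toAdd.injective e4

end Const

section Surj

theorem basicOpen_sum_le {X : Scheme.{u}} {J : Type*} (s : Finset J) (f : J → Γ(X, ⊤)) :
    X.basicOpen (∑ i ∈ s, f i) ≤ ⨆ i ∈ s, X.basicOpen (f i) := by
  classical
  induction s using Finset.induction_on with
  | empty => simp
  | insert a s ha ih =>
    rw [Finset.sum_insert ha, Finset.iSup_insert]
    exact (X.basicOpen_add_le _ _).trans (sup_le_sup le_rfl ih)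

variable (hp : (p : Γ(S, ⊤)) = 0) (c : TwC.const S (MM p) ⟶ Red.Ga S)
  (hc : ∀ m : MM p, Red.gaFn (TwC.pt S (MM p) m ≫ c) =
    zmodHom p Γ(S, ⊤) hp (Multiplicative.toAdd m))

include hc in
/-- every point of `𝔾_a` killed by `x ↦ x - x ^ p` comes from the constant group. -/
theorem exists_comp_c_eq (T : Over S) (x : T ⟶ Red.Ga S)
    (hx : Red.gaFn x ^ p - Red.gaFn x = 0) : ∃ g : T ⟶ TwC.const S (MM p), g ≫ c = x := by
  have hpX := hpT hp T.hom
  set z := Red.gaFn x with hz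
  let U : MM p → T.left.Opens := fun m => T.left.basicOpen (e hpX z (Multiplicative.toAdd m))
  have hcov : ∀ y : T.left, ∃ m, y ∈ U m := by
    intro y
    obtain ⟨u, hu⟩ := exists_sum_e hpX z
    have h1 : y ∈ T.left.basicOpen (∑ a : ZMod p, u a * e hpX z a) := by
      rw [hu, Scheme.basicOpen_one]
      trivial
    have h2 := basicOpen_sum_le Finset.univ (fun a : ZMod p => u a * e hpX z a) h1
    simp only [Finset.mem_univ, iSup_pos] at h2
    obtain ⟨a, ha⟩ := Opens.mem_iSup.1 h2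
    rw [Scheme.basicOpen_mul] at ha
    exact ⟨Multiplicative.ofAdd a, ha.2⟩
  have hdisj : ∀ m n : MM p, m ≠ n → U m ⊓ U n = ⊥ := by
    intro m n hmn
    show T.left.basicOpen _ ⊓ T.left.basicOpen _ = ⊥
    rw [← Scheme.basicOpen_mul, e_mul_e hpX z _ _ (fun h => hmn (Multiplicative.toAdd.injective h)),
      hx, zero_mul, Scheme.basicOpen_zero]
  obtain ⟨g₀, hg₀, hg₀U⟩ := exists_of_cover U hcov hdisj T.hom
  let g : T ⟶ TwC.const S (MM p) := Over.homMk g₀ hg₀
  refine ⟨g, ?_⟩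
  apply Over.OverMorphism.ext
  apply Scheme.hom_ext_of_forall
  intro y
  obtain ⟨m, hm⟩ := hcov y
  refine ⟨U m, hm, ?_⟩
  let T' : Over S := Over.mk ((U m).ι ≫ T.hom)
  let j : T' ⟶ T := Over.homMk (U m).ι rfl
  suffices h : j ≫ g ≫ c = j ≫ x from congrArg CommaMorphism.left h
  apply gaFn_injective
  rw [gaFn_on_locus hp c hc T T' g m (U m) (hg₀U m) j (𝟙 _) (Category.id_comp _), gaFn_comp]
  -- `z = m` on `U m`
  have hpX' := hpT hp T'.hom
  set a := Multiplicative.toAdd m with ha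
  let r : Γ(T.left, ⊤) →+* Γ(T'.left, ⊤) := j.left.appTop.hom
  have h1 : (r z - zmodHom p Γ(T'.left, ⊤) hpX' a) * r (e hpX z a) = 0 := by
    rw [← zmodHom_apply_comp p hpX hpX' r a, ← map_sub, ← map_mul, mul_e, hx, map_zero]
  have h2 : IsUnit (r (e hpX z a)) := by
    apply RingedSpace.isUnit_of_isUnit_germ (X := T'.left.toRingedSpace) ⊤
    intro w hw
    have h3 : w ∈ T'.left.basicOpen (r (e hpX z a)) := by
      have h4 := Scheme.preimage_basicOpen_top j.left (e hpX z a)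
      have h5 : w ∈ j.left ⁻¹ᵁ T.left.basicOpen (e hpX z a) := w.2
      rw [h4] at h5
      exact h5
    exact (T'.left.mem_basicOpen_top _ w).1 h3
  have h3 := (h2.mul_left_eq_zero).1 h1
  exact (sub_eq_zero.1 h3).symm

end Surj

section Kernel

variable (hp : (p : Γ(S, ⊤)) = 0) (F : Red.Ga S ⟶ Red.Ga S)
  (hF : ∀ (T : Over S) (x : T ⟶ Red.Ga S), Red.gaFn (x ≫ F) = Red.gaFn x ^ p)
  {G' : Over S} [GrpObj G'] (e : G' ≅ TwC.const S (MM p))
  (he : TwC.IsConstGrp (MM p) G' e)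
  (i : G' ⟶ Red.Ga S) [IsMonHom i]
  (hi : Red.gaFn (TwC.pt S (MM p) (Multiplicative.ofAdd 1) ≫ e.inv ≫ i) = 1)

include he hi in
theorem gaFn_pt (m : MM p) : Red.gaFn (TwC.pt S (MM p) m ≫ e.inv ≫ i) =
    zmodHom p Γ(S, ⊤) hp (Multiplicative.toAdd m) := by
  -- the homomorphism `m ↦ pt m ≫ e.inv`
  let a : MM p →* (𝟙_ (Over S) ⟶ G') :=
    MonoidHom.mk' (fun m => TwC.pt S (MM p) m ≫ e.inv) (fun m n => (he m n).symm)
  let β : MM p →* Multiplicative Γ((𝟙_ (Over S)).left, ⊤) :=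
    ((gaEquiv (𝟙_ (Over S))).toMonoidHom.comp (IsMonHom.monoidHom i (𝟙_ (Over S)))).comp a
  have hβ : ∀ m : MM p, β m = Multiplicative.ofAdd
      (Red.gaFn (TwC.pt S (MM p) m ≫ e.inv ≫ i)) := by
    intro m
    show Multiplicative.ofAdd (Red.gaFn ((TwC.pt S (MM p) m ≫ e.inv) ≫ i)) = _
    rw [Category.assoc]
  have hβ1 : β (Multiplicative.ofAdd 1) = Multiplicative.ofAdd (1 : Γ((𝟙_ (Over S)).left, ⊤)) := by
    rw [hβ, hi]
  have hm : m = (Multiplicative.ofAdd (1 : ZMod p)) ^ (Multiplicative.toAdd m).val := by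
    rw [← ofAdd_nsmul, nsmul_one, ZMod.natCast_zmod_val]
    rfl
  have h1 : β m = Multiplicative.ofAdd
      (((Multiplicative.toAdd m).val : ℕ) : Γ((𝟙_ (Over S)).left, ⊤)) := by
    conv_lhs => rw [hm]
    rw [map_pow, hβ1, ← ofAdd_nsmul, nsmul_one]
  have h2 := (hβ m).symm.trans h1
  have h3 := Multiplicative.ofAdd.injective h2
  rw [h3]
  have h4 := zmodHom_one_val p hp (Multiplicative.toAdd m).val
  rw [ZMod.natCast_zmod_val] at h4
  exact h4.symm

include hp hF he hi in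
/-- the constant group is the kernel of `x ↦ x - x ^ p`. -/
theorem isKernel : AlgGrp.IsKernel i (𝟙 (Red.Ga S) * F⁻¹) := by
  have hp0 : p ≠ 0 := (Fact.out : p.Prime).ne_zero
  have hc := gaFn_pt hp e he i hi
  -- points of the kernel
  have hker : ∀ (T : Over S) (x : T ⟶ Red.Ga S), x ≫ (𝟙 (Red.Ga S) * F⁻¹) = 1 →
      Red.gaFn x ^ p - Red.gaFn x = 0 := by
    intro T x hx
    have h1 := gaFn_comp_P F hF T x
    rw [hx, gaFn_one] at h1
    rw [← neg_sub, ← h1, neg_zero]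
  have hw : i ≫ (𝟙 (Red.Ga S) * F⁻¹) = toUnit G' ≫ η[Red.Ga S] := by
    show _ = (1 : G' ⟶ Red.Ga S)
    rw [← cancel_epi e.inv]
    rw [MonObj.comp_one]
    apply Over.OverMorphism.ext
    apply Sigma.hom_ext
    intro m
    have h1 : TwC.pt S (MM p) m ≫ e.inv ≫ i ≫ (𝟙 (Red.Ga S) * F⁻¹) =
        TwC.pt S (MM p) m ≫ (1 : TwC.const S (MM p) ⟶ Red.Ga S) := by
      rw [MonObj.comp_one]
      apply gaFn_injective
      rw [← Category.assoc, ← Category.assoc, gaFn_comp_P F hF, Category.assoc, hc, gaFn_one,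
        zmodHom_pow p hp, sub_self]
    exact congrArg CommaMorphism.left h1
  choose gT hgT using fun (T : Over S) (x : T ⟶ Red.Ga S)
      (hx : x ≫ (𝟙 (Red.Ga S) * F⁻¹) = 1) =>
    exists_comp_c_eq hp (e.inv ≫ i) hc T x (hker T x hx)
  have hcone : ∀ s : PullbackCone (𝟙 (Red.Ga S) * F⁻¹) η[Red.Ga S],
      s.fst ≫ (𝟙 (Red.Ga S) * F⁻¹) = 1 := by
    intro s
    rw [s.condition, Hom.one_def]
    congr 1
    exact toUnit_unique _ _
  refine ⟨⟨hw⟩, ⟨PullbackCone.IsLimit.mk hw (fun s => gT _ s.fst (hcone s) ≫ e.inv) ?_ ?_ ?_⟩⟩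
  · intro s
    rw [Category.assoc]
    exact hgT _ s.fst (hcone s)
  · intro s
    exact toUnit_unique _ _
  · intro s m hm1 _
    rw [← cancel_mono e.hom, Category.assoc, Iso.inv_hom_id, Category.comp_id]
    apply comp_c_injective hp (e.inv ≫ i) hc
    rw [hgT _ s.fst (hcone s), Category.assoc, Iso.hom_inv_id_assoc, hm1]

end Kernel

section LocTriv

open Polynomial

/-- the coordinate ring of `𝔾_a` over `ℤ`. -/
abbrev AA : Type u := SymmetricAlgebra (ULift.{u} ℤ) (ULift.{u} ℤ)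

instance nontrivial_AA : Nontrivial AA.{u} := by
  obtain ⟨ρ, -⟩ := symm_ringHom_exists.{u} (B := ULift.{u} ℤ) 0
  exact ρ.domain_nontrivial

variable (p)

/-- the Artin–Schreier polynomial `Y ^ p - Y + x` over `ℤ[x]`. -/
noncomputable def PP : AA.{u}[X] := X ^ p - (X - C gaGen.{u})

theorem PP_monic : (PP.{u} p).Monic := by
  have hp1 : 1 < p := (Fact.out : p.Prime).one_lt
  apply monic_X_pow_sub
  rw [degree_X_sub_C]
  exact_mod_cast hp1

theorem PP_natDegree : (PP.{u} p).natDegree = p := by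
  have hp1 : 1 < p := (Fact.out : p.Prime).one_lt
  unfold PP
  rw [natDegree_sub_eq_left_of_natDegree_lt, natDegree_X_pow]
  rw [natDegree_X_sub_C, natDegree_X_pow]
  exact hp1

/-- the cover -/
abbrev BB : Type u := AdjoinRoot (PP.{u} p)

theorem nontrivial_BB : Nontrivial (BB.{u} p) := by
  have hP := PP_monic.{u} p
  have hnu : ¬ IsUnit (PP.{u} p) := fun hu => by
    have h1 := hP.eq_one_of_isUnit hu
    have h2 := PP_natDegree.{u} p
    rw [h1, natDegree_one] at h2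
    exact (Fact.out : p.Prime).ne_zero h2.symm
  exact Ideal.Quotient.nontrivial_iff.mpr (by simpa [Ideal.span_singleton_eq_top] using hnu)

theorem faithfullyFlat_BB : Module.FaithfullyFlat AA.{u} (BB.{u} p) := by
  haveI := (PP_monic.{u} p).free_adjoinRoot
  haveI := nontrivial_BB.{u} p
  infer_instance

/-- the cover of `Spec ℤ[x]`. -/
noncomputable abbrev qB : Spec (CommRingCat.of (BB.{u} p)) ⟶ Spec (CommRingCat.of AA.{u}) :=
  Spec.map (CommRingCat.ofHom (algebraMap AA.{u} (BB.{u} p)))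

theorem qB_flat_surj : Flat (qB.{u} p) ∧ Surjective (qB.{u} p) :=
  (flat_and_surjective_SpecMap_iff _).mpr
    (RingHom.faithfullyFlat_algebraMap_iff.mpr (faithfullyFlat_BB p))

theorem qB_lfp : LocallyOfFinitePresentation (qB.{u} p) :=
  (LocallyOfFinitePresentation.SpecMap_iff _).mpr
    (RingHom.finitePresentation_algebraMap.mpr inferInstance)

/-- `x ↦ x - x ^ p` on the coordinate ring. -/
noncomputable def psi : AA.{u} →+* AA.{u} :=
  (symm_ringHom_exists.{u} (B := AA.{u}) (gaGen.{u} - gaGen.{u} ^ p)).choose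

theorem psi_gen : psi.{u} p gaGen.{u} = gaGen.{u} - gaGen.{u} ^ p :=
  (symm_ringHom_exists.{u} (B := AA.{u}) (gaGen.{u} - gaGen.{u} ^ p)).choose_spec

/-- `x ↦ root`. -/
noncomputable def rho : AA.{u} →+* BB.{u} p :=
  (symm_ringHom_exists.{u} (B := BB.{u} p) (AdjoinRoot.root (PP.{u} p))).choose

theorem rho_gen : rho.{u} p gaGen.{u} = AdjoinRoot.root (PP.{u} p) :=
  (symm_ringHom_exists.{u} (B := BB.{u} p) (AdjoinRoot.root (PP.{u} p))).choose_spec

theorem rho_comp_psi : (rho.{u} p).comp (psi.{u} p) = algebraMap AA.{u} (BB.{u} p) := by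
  apply symm_ringHom_ext
  show rho.{u} p (psi.{u} p gaGen.{u}) = algebraMap AA.{u} (BB.{u} p) gaGen.{u}
  rw [psi_gen, map_sub, map_pow, rho_gen]
  have h1 : eval₂ (AdjoinRoot.of (PP.{u} p)) (AdjoinRoot.root (PP.{u} p))
      (X ^ p - (X - C gaGen.{u})) = 0 := AdjoinRoot.eval₂_root (PP.{u} p)
  rw [eval₂_sub, eval₂_pow, eval₂_X, eval₂_sub, eval₂_X, eval₂_C] at h1
  have h2 : AdjoinRoot.of (PP.{u} p) gaGen.{u} =
      AdjoinRoot.root (PP.{u} p) - AdjoinRoot.root (PP.{u} p) ^ p := by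
    linear_combination h1
  exact h2.symm

variable {p}

theorem P_locallyTrivial (F : Red.Ga S ⟶ Red.Ga S)
    (hF : ∀ (T : Over S) (x : T ⟶ Red.Ga S), Red.gaFn (x ≫ F) = Red.gaFn x ^ p) :
    NonAbH1.IsLocallyTrivialFor Scheme.fppfPrecoverage
      (Over.mk (𝟙 (Red.Ga S) * F⁻¹).left : Over (Red.Ga S).left) := by
  let fS : S ⟶ Spec (CommRingCat.of (ULift.{u} ℤ)) := toZ S
  let p₁ : pullback Red.GaZ.{u}.hom fS ⟶ Spec (CommRingCat.of AA.{u}) := pullback.fst _ _
  haveI : Flat (qB.{u} p) := (qB_flat_surj p).1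
  haveI : Surjective (qB.{u} p) := (qB_flat_surj p).2
  haveI : LocallyOfFinitePresentation (qB.{u} p) := qB_lfp p
  let w : pullback p₁ (qB.{u} p) ⟶ pullback Red.GaZ.{u}.hom fS := pullback.fst p₁ (qB.{u} p)
  have hv1 : (𝟙 (Red.Ga S) * F⁻¹).left ≫ p₁ =
      p₁ ≫ Spec.map (CommRingCat.ofHom (psi.{u} p)) := by
    apply ptHom_injective
    apply symm_ringHom_ext
    have h1 : ptHom ((𝟙 (Red.Ga S) * F⁻¹).left ≫ p₁) gaGen.{u} =
        Red.gaFn (𝟙 (Red.Ga S) ≫ (𝟙 (Red.Ga S) * F⁻¹)) := by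
      rw [Category.id_comp]
      rfl
    have h2 : ptHom p₁ gaGen.{u} = Red.gaFn (𝟙 (Red.Ga S)) := by
      rw [gaFn_eq, toBase_left]
      show _ = ptHom (𝟙 _ ≫ p₁) gaGen.{u}
      rw [Category.id_comp]
    show ptHom ((𝟙 (Red.Ga S) * F⁻¹).left ≫ p₁) gaGen.{u} =
      ptHom (p₁ ≫ Spec.map (CommRingCat.ofHom (psi.{u} p))) gaGen.{u}
    rw [h1, gaFn_comp_P F hF, ptHom_comp_SpecMap, RingHom.comp_apply, psi_gen, map_sub, map_pow,
      h2]
  have hv2 : (𝟙 (Red.Ga S) * F⁻¹).left ≫ pullback.snd Red.GaZ.{u}.hom fS =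
      pullback.snd Red.GaZ.{u}.hom fS := Over.w (𝟙 (Red.Ga S) * F⁻¹)
  let s : pullback p₁ (qB.{u} p) ⟶ pullback Red.GaZ.{u}.hom fS :=
    pullback.lift (pullback.snd p₁ (qB.{u} p) ≫ Spec.map (CommRingCat.ofHom (rho.{u} p)))
      (w ≫ pullback.snd _ _) (specULiftZIsTerminal.hom_ext _ _)
  have hs1 : s ≫ pullback.fst Red.GaZ.{u}.hom fS =
      pullback.snd p₁ (qB.{u} p) ≫ Spec.map (CommRingCat.ofHom (rho.{u} p)) :=
    pullback.lift_fst _ _ _
  have hs2 : s ≫ pullback.snd Red.GaZ.{u}.hom fS = w ≫ pullback.snd _ _ :=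
    pullback.lift_snd _ _ _
  have hρψ : Spec.map (CommRingCat.ofHom (rho.{u} p)) ≫
      Spec.map (CommRingCat.ofHom (psi.{u} p)) = qB.{u} p := by
    rw [← Spec.map_comp, ← CommRingCat.ofHom_comp, rho_comp_psi]
  have hs : s ≫ (𝟙 (Red.Ga S) * F⁻¹).left = w := by
    apply pullback.hom_ext
    · exact (Category.assoc _ _ _).trans ((congrArg (s ≫ ·) hv1).trans
        ((Category.assoc _ _ _).symm.trans
        ((congrArg (· ≫ Spec.map (CommRingCat.ofHom (psi.{u} p))) hs1).trans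
          ((Category.assoc _ _ _).trans
            ((congrArg (pullback.snd p₁ (qB.{u} p) ≫ ·) hρψ).trans
              pullback.condition.symm)))))
    · exact (Category.assoc _ _ _).trans ((congrArg (s ≫ ·) hv2).trans hs2)
  refine ⟨Presieve.singleton w, w.singleton_mem_fppfPrecoverage, ?_⟩
  intro T g hg
  obtain ⟨⟩ := hg
  exact ⟨s, hs⟩

end LocTriv

/-- The Artin–Schreier sequence is exact for the fpqc topology. -/
theorem artinSchreier_fpqc (hp : (p : Γ(S, ⊤)) = 0) (F : Red.Ga S ⟶ Red.Ga S)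
    (hF : ∀ (T : Over S) (x : T ⟶ Red.Ga S), Red.gaFn (x ≫ F) = Red.gaFn x ^ p)
    {G' : Over S} [GrpObj G'] (e : G' ≅ TwC.const S (Multiplicative (ZMod p)))
    (he : TwC.IsConstGrp (Multiplicative (ZMod p)) G' e)
    (i : G' ⟶ Red.Ga S) [IsMonHom i]
    (hi : Red.gaFn (TwC.pt S (Multiplicative (ZMod p)) (Multiplicative.ofAdd 1) ≫ e.inv ≫ i) = 1) :
    NonAbH1.IsExactSeq Scheme.fpqcPrecoverage i (𝟙 (Red.Ga S) * F⁻¹) := by
  have hK := isKernel hp F hF e he i hi
  haveI hv : IsMonHom (𝟙 (Red.Ga S) * F⁻¹) := isMonHom_P F hF hp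
  refine ⟨inferInstance, hv, ?_, Groth.Agent.Lib.Helper40.GrpKer.isKernelPair_of_isKernel hK,
    Groth.Agent.Lib.Helper40.FpqcCov.isLocallyTrivialFor_fpqc_of_fppf _ (P_locallyTrivial F hF)⟩
  have := Groth.Agent.Lib.Helper40.GrpKer.comp_i_comp_f hK (𝟙 _)
  rwa [Category.id_comp] at this

end Groth.Agent.Lib.Helper79.ASSeq
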