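import Mathlib
import Groth.Prelude.Def_NonAbH2
import Groth.Agent.Lib.Helper40.ActPts
import Groth.Agent.Lib.Helper23.GeomConnGroup
import Groth.Agent.Lib.Helper69.ReducedSmoothLocal

/-!
# A smooth connected group scheme acts trivially on a reduced zero-dimensional scheme (helper79)
-/

set_option autoImplicit false
set_option linter.style.haveILetI false
set_option linter.unusedSectionVars false

universe u

open CategoryTheory Limits AlgebraicGeometry MonoidalCategory CartesianMonoidalCategory MonObj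

namespace Groth.Agent.Lib.Helper79.ActDiscrete

open Groth.Agent.Lib.Helper40.ActPts

/-- a surjective immersion into a reduced scheme is an isomorphism -/
theorem isIso_of_isImmersion_of_surjective {X Y : Scheme.{u}} (f : X ⟶ Y) [IsImmersion f]
    [Surjective f] [IsReduced Y] : IsIso f := by
  obtain ⟨Z, g₁, g₂, h₁, h₂, rfl⟩ := (IsImmersion.isImmersion_iff_exists (f := f)).mp inferInstance
  have hsurj := (inferInstance : Surjective (g₁ ≫ g₂)).surj
  haveI : Epi g₂.base := (TopCat.epi_iff_surjective _).mpr (fun y => by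
    obtain ⟨x, hx⟩ := hsurj y
    exact ⟨g₁ x, by rw [← hx]; rfl⟩)
  haveI : IsIso g₂ := IsOpenImmersion.isIso g₂
  haveI : IsReduced Z := isReduced_of_isOpenImmersion g₂
  haveI : Surjective g₁ := ⟨fun z => by
    obtain ⟨x, hx⟩ := hsurj (g₂ z)
    exact ⟨x, g₂.isOpenEmbedding.injective hx⟩⟩
  haveI : IsIso g₁ := isIso_of_isClosedImmersion_of_surjective g₁
  infer_instance

theorem act_eq_snd (k : Type u) [Field k]
    (G Z : Over (Spec (CommRingCat.of k))) [GrpObj G] [Smooth G.hom] [ConnectedSpace ↥G.left]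
    [LocallyOfFiniteType Z.hom] [QuasiCompact Z.hom] [IsReduced Z.left]
    (hdim : topologicalKrullDim ↥Z.left ≤ 0)
    (a : AlgGrp.Action G Z) : a.act = CartesianMonoidalCategory.snd G Z := by
  haveI : IsLocallyNoetherian Z.left := LocallyOfFiniteType.isLocallyNoetherian Z.hom
  haveI : IsLocallyArtinian Z.left := .of_topologicalKrullDim_le_zero hdim
  haveI : DiscreteTopology Z.left := inferInstance
  haveI : CompactSpace Z.left := QuasiCompact.compactSpace_of_compactSpace Z.hom
  haveI : Finite Z.left := finite_of_compact_of_discrete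
  haveI : LocallyQuasiFinite Z.hom :=
    locallyQuasiFinite_iff_finite_preimage_singleton.mpr (fun x => Set.toFinite _)
  haveI : DiscreteTopology ↥(pullback Z.hom Z.hom) := by
    have h := (pullback.fst Z.hom Z.hom).isDiscrete_preimage (s := Set.univ)
      (isDiscrete_univ_iff.mpr inferInstance)
    rw [Set.preimage_univ] at h
    exact isDiscrete_univ_iff.mp h
  haveI : GeometricallyConnected G.hom :=
    Groth.Agent.Lib.Helper23.GeomConnGroup.geometricallyConnected_of_section G.hom
      (η[G]).left (Over.w η[G])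
  haveI : IsReduced (pullback G.hom Z.hom) :=
    Groth.Agent.Lib.Helper69.ReducedSmoothLocal.isReduced_of_smooth (pullback.snd G.hom Z.hom)
  let f₁ : pullback G.hom Z.hom ⟶ Z.left := a.act.left
  let f₂ : pullback G.hom Z.hom ⟶ Z.left := pullback.snd G.hom Z.hom
  have hf₂ : (CartesianMonoidalCategory.snd G Z).left = f₂ := Over.snd_left
  have hw₁ : f₁ ≫ Z.hom = f₂ ≫ Z.hom := by
    have h1 := Over.w a.act
    have h2 := Over.w (CartesianMonoidalCategory.snd G Z)
    rw [hf₂] at h2
    exact h1.trans h2.symm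
  let θ : pullback G.hom Z.hom ⟶ pullback Z.hom Z.hom := pullback.lift f₁ f₂ hw₁
  let Δ : Z.left ⟶ pullback Z.hom Z.hom := pullback.diagonal Z.hom
  -- the unit section
  let σ : Z ⟶ G ⊗ Z := lift (1 : Z ⟶ G) (𝟙 Z)
  have hσ₁ : σ ≫ a.act = 𝟙 Z := Groth.Agent.Lib.Helper40.ActPts.one_smul a (𝟙 Z)
  have hσ₂ : σ ≫ CartesianMonoidalCategory.snd G Z = 𝟙 Z := lift_snd _ _
  have hσθ : σ.left ≫ θ = Δ := by
    apply pullback.hom_ext
    · rw [Category.assoc, pullback.lift_fst, pullback.diagonal_fst]
      exact congrArg (fun m => m.left) hσ₁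
    · rw [Category.assoc, pullback.lift_snd, pullback.diagonal_snd, ← hf₂]
      exact congrArg (fun m => m.left) hσ₂
  have hmem : ∀ w : ↥(pullback G.hom Z.hom), θ w ∈ Set.range Δ := by
    intro w
    have hU : IsClopen (θ ⁻¹' (Set.range Δ)) := (isClopen_discrete _).preimage θ.continuous
    have hF := (pullback.snd G.hom Z.hom).isConnected_preimage_singleton (f₂ w)
    have hσF : σ.left (f₂ w) ∈ f₂ ⁻¹' {f₂ w} ∩ θ ⁻¹' (Set.range Δ) := by
      constructor
      · change (σ.left ≫ f₂) (f₂ w) = f₂ w
        rw [← hf₂]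
        have := congrArg (fun m => m.left) hσ₂
        change σ.left ≫ (CartesianMonoidalCategory.snd G Z).left = 𝟙 _ at this
        rw [this]
        rfl
      · change (σ.left ≫ θ) (f₂ w) ∈ Set.range Δ
        rw [hσθ]
        exact ⟨_, rfl⟩
    exact hF.isPreconnected.subset_isClopen hU ⟨_, hσF⟩ rfl
  let p := pullback.fst θ Δ
  haveI : Surjective p := ⟨fun w => by
    obtain ⟨z', hz'⟩ := hmem w
    obtain ⟨e, he, -⟩ := Scheme.Pullback.exists_preimage_pullback (f := θ) (g := Δ) w z' hz'.symm
    exact ⟨e, he⟩⟩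
  haveI : IsIso p := isIso_of_isImmersion_of_surjective p
  have hθ : θ = inv p ≫ pullback.snd θ Δ ≫ Δ := by
    rw [IsIso.eq_inv_comp]
    exact pullback.condition
  have h12 : f₁ = f₂ := by
    have e1 : θ ≫ pullback.fst Z.hom Z.hom = f₁ := pullback.lift_fst _ _ _
    have e2 : θ ≫ pullback.snd Z.hom Z.hom = f₂ := pullback.lift_snd _ _ _
    rw [← e1, ← e2, hθ]
    simp only [Category.assoc, Δ, pullback.diagonal_fst, pullback.diagonal_snd]
  apply Over.OverMorphism.ext
  rw [hf₂]
  exact h12

end Groth.Agent.Lib.Helper79.ActDiscrete
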