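import Mathlib

/-!
Helper lemmas for S16572: roots of monic polynomials after scaling, integrality of residue fields.
-/

namespace Groth.Agent.Lib.Helper79

open Polynomial

/-- If every element of the field `k` is a quotient of images of elements of `A`, and every monic
polynomial of positive degree over `A` has a root in the field `L` (through `σ ∘ algebraMap`), then
every monic polynomial of positive degree over `k` has a root in `L`. -/
theorem exists_root_of_exists_root_lifts {A k L : Type*} [CommRing A] [Field k] [Field L]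
    (φ : A →+* k) (σ : k →+* L)
    (hfrac : ∀ x : k, ∃ a s : A, φ s ≠ 0 ∧ x = φ a / φ s)
    (hroot : ∀ G : A[X], G.Monic → 0 < G.natDegree → ∃ y : L, eval₂ (σ.comp φ) y G = 0)
    (f : k[X]) (hf : f.Monic) (hdeg : 0 < f.natDegree) : ∃ x : L, eval₂ σ x f = 0 := by
  classical
  -- common denominator
  have hden : ∀ S : Finset k, ∃ s : A, φ s ≠ 0 ∧ ∀ x ∈ S, ∃ a : A, x * φ s = φ a := by
    intro S
    induction S using Finset.induction_on with
    | empty => exact ⟨1, by simp, by simp⟩
    | insert x S _ ih =>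
      obtain ⟨s, hs, hS⟩ := ih
      obtain ⟨a, t, ht, hx⟩ := hfrac x
      refine ⟨s * t, by simpa [map_mul] using ⟨hs, ht⟩, ?_⟩
      intro y hy
      rcases Finset.mem_insert.mp hy with rfl | hy
      · refine ⟨a * s, ?_⟩
        rw [hx, map_mul, map_mul]
        field_simp
      · obtain ⟨b, hb⟩ := hS y hy
        refine ⟨b * t, ?_⟩
        rw [map_mul, map_mul, ← hb]
        ring
  obtain ⟨s, hs, hS⟩ := hden (f.support.image f.coeff)
  have hcoeff : ∀ i, ∃ a : A, f.coeff i * φ s = φ a := by
    intro i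
    by_cases hi : i ∈ f.support
    · exact hS _ (Finset.mem_image_of_mem _ hi)
    · rw [notMem_support_iff] at hi
      exact ⟨0, by simp [hi]⟩
  set g := scaleRoots f (φ s) with hg
  have hglift : g ∈ lifts φ := by
    rw [lifts_iff_coeff_lifts]
    intro i
    rw [hg, coeff_scaleRoots]
    rcases lt_trichotomy i f.natDegree with h | h | h
    · obtain ⟨a, ha⟩ := hcoeff i
      refine ⟨a * s ^ (f.natDegree - i - 1), ?_⟩
      rw [map_mul, map_pow, ← ha, mul_assoc, ← pow_succ']
      congr 2
      omega
    · refine ⟨1, ?_⟩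
      rw [h, Nat.sub_self, pow_zero, mul_one, map_one]
      exact hf.coeff_natDegree.symm
    · refine ⟨0, ?_⟩
      rw [coeff_eq_zero_of_natDegree_lt h, zero_mul, map_zero]
  have hgmonic : g.Monic := (monic_scaleRoots_iff (φ s)).mpr hf
  obtain ⟨G, hGmap, hGdeg, hGmonic⟩ := lifts_and_natDegree_eq_and_monic hglift hgmonic
  have hGpos : 0 < G.natDegree := by
    rw [hGdeg, hg, natDegree_scaleRoots]; exact hdeg
  obtain ⟨y, hy⟩ := hroot G hGmonic hGpos
  have h1 : eval₂ σ y g = 0 := by
    rw [← hGmap, eval₂_map]; exact hy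
  have hσs : σ (φ s) ≠ 0 := by
    intro h
    exact hs ((map_eq_zero σ).mp h)
  refine ⟨y / σ (φ s), ?_⟩
  have h2 := scaleRoots_eval₂_mul (p := f) σ (y / σ (φ s)) (φ s)
  rw [mul_div_cancel₀ _ hσs, ← hg, h1] at h2
  have h3 := h2.symm
  rcases mul_eq_zero.mp h3 with h | h
  · exact absurd (pow_eq_zero_iff (natDegree_pos_iff_degree_pos.mp hdeg |> fun _ => (by omega : f.natDegree ≠ 0)) |>.mp h) hσs
  · exact h

end Groth.Agent.Lib.Helper79
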