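import Mathlib

/-!
# Vanishing of the first Amitsur cohomology of the additive group (helper79)

For `A → B` faithfully flat, an element `γ ∈ B ⊗ B` with
`1 ⊗ γ - γ₁₃ + γ ⊗ 1 = 0` in `B ⊗ (B ⊗ B)` is of the form `1 ⊗ b - b ⊗ 1`.
-/

set_option autoImplicit false
set_option linter.style.haveILetI false
set_option linter.unusedSectionVars false

universe u

open TensorProduct

namespace Groth.Agent.Lib.Helper79.AmitsurH1

variable (A B : Type u) [CommRing A] [CommRing B] [Algebra A B]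

/-- `b ↦ 1 ⊗ b - b ⊗ 1` -/
noncomputable def d0 : B →ₗ[A] B ⊗[A] B :=
  (Algebra.TensorProduct.includeRight : B →ₐ[A] B ⊗[A] B).toLinearMap -
    (Algebra.TensorProduct.includeLeft : B →ₐ[A] B ⊗[A] B).toLinearMap

/-- `γ ↦ 1 ⊗ γ - γ₁₃ + γ ⊗ 1` -/
noncomputable def d1 : B ⊗[A] B →ₗ[A] B ⊗[A] (B ⊗[A] B) :=
  (Algebra.TensorProduct.includeRight : B ⊗[A] B →ₐ[A] B ⊗[A] (B ⊗[A] B)).toLinearMap -
    (Algebra.TensorProduct.map (AlgHom.id A B)
      (Algebra.TensorProduct.includeRight : B →ₐ[A] B ⊗[A] B)).toLinearMap +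
    (Algebra.TensorProduct.map (AlgHom.id A B)
      (Algebra.TensorProduct.includeLeft : B →ₐ[A] B ⊗[A] B)).toLinearMap

@[simp] theorem d0_apply (b : B) : d0 A B b = (1 : B) ⊗ₜ[A] b - b ⊗ₜ[A] (1 : B) := by
  simp [d0]

@[simp] theorem d1_tmul (b c : B) :
    d1 A B (b ⊗ₜ[A] c) = (1 : B) ⊗ₜ[A] (b ⊗ₜ[A] c) - b ⊗ₜ[A] ((1 : B) ⊗ₜ[A] c)
      + b ⊗ₜ[A] (c ⊗ₜ[A] (1 : B)) := by
  simp [d1]

theorem d1_d0 (b : B) : d1 A B (d0 A B b) = 0 := by
  rw [d0_apply, map_sub, d1_tmul, d1_tmul]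
  abel

/-- the contracting homotopy `a ⊗ (b ⊗ m) ↦ ab ⊗ m` -/
noncomputable def kk (M : Type u) [AddCommGroup M] [Module A M] :
    B ⊗[A] (B ⊗[A] M) →ₗ[A] B ⊗[A] M :=
  (TensorProduct.map (LinearMap.mul' A B) LinearMap.id) ∘ₗ
    (TensorProduct.assoc A B B M).symm.toLinearMap

@[simp] theorem kk_tmul (M : Type u) [AddCommGroup M] [Module A M] (a b : B) (m : M) :
    kk A B M (a ⊗ₜ[A] (b ⊗ₜ[A] m)) = (a * b) ⊗ₜ[A] m := by
  simp [kk]

theorem homotopy (y : B ⊗[A] (B ⊗[A] B)) :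
    (d0 A B).lTensor B (kk A B B y) + kk A B (B ⊗[A] B) ((d1 A B).lTensor B y) = y := by
  induction y with
  | zero => simp
  | add y₁ y₂ h₁ h₂ =>
    simp only [map_add]
    rw [add_add_add_comm, h₁, h₂]
  | tmul a z =>
    induction z with
    | zero => simp
    | add z₁ z₂ h₁ h₂ =>
      simp only [tmul_add, map_add]
      rw [add_add_add_comm, h₁, h₂]
    | tmul b c =>
      simp only [kk_tmul, LinearMap.lTensor_tmul, d0_apply, d1_tmul, tmul_sub, tmul_add, map_sub,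
        map_add, mul_one]
      abel

variable [Module.FaithfullyFlat A B]

theorem exact_d0_d1 : Function.Exact (d0 A B) (d1 A B) := by
  rw [← Module.FaithfullyFlat.lTensor_exact_iff_exact A B]
  intro y
  constructor
  · intro hy
    refine ⟨kk A B B y, ?_⟩
    have h := homotopy A B y
    rw [hy, map_zero, add_zero] at h
    exact h
  · rintro ⟨x, rfl⟩
    induction x with
    | zero => simp
    | add x₁ x₂ h₁ h₂ => simp only [map_add, h₁, h₂, add_zero]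
    | tmul a b =>
      rw [LinearMap.lTensor_tmul, LinearMap.lTensor_tmul, d1_d0, tmul_zero]

/-- vanishing of `H¹` of the Amitsur complex -/
theorem exists_eq_d0 (γ : B ⊗[A] B) (h : d1 A B γ = 0) :
    ∃ b : B, γ = (1 : B) ⊗ₜ[A] b - b ⊗ₜ[A] (1 : B) := by
  obtain ⟨b, hb⟩ := (exact_d0_d1 A B γ).mp h
  exact ⟨b, by rw [← hb, d0_apply]⟩

end Groth.Agent.Lib.Helper79.AmitsurH1
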