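import Groth.Agent.Lib.Helper79.BMExact3
import Groth.Agent.S15883
import Mathlib

/-!
# Additivity of a Borel–Moore theory on finite clopen covers (helper79, BMCoh family)
-/

set_option autoImplicit false
universe u

noncomputable section

namespace Groth.Agent.Lib.Helper79.BM

open AlgebraicGeometry CategoryTheory CategoryTheory.Limits Opposite TopologicalSpace BMCoh

variable {V : ObjectProperty Scheme.{u}} [IsConstructible V]
variable {R : Type u} [CommRing R] {A : Coefs R}

theorem relCodim_of_hom {G Z : Obj V} (g : G ⟶ Z) : relCodim G.scheme Z.scheme = 0 := by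
  simp [relCodim, g.dim_eq]

/-- restriction along a surjective morphism of objects is injective -/
theorem pull_injective_of_surjective (T : PreTheory V R A) {G Z : Obj V} (g : G ⟶ Z)
    (hs : Function.Surjective g.hom) (M : A.Cat) (i n : ℤ) :
    Function.Injective (T.pull g M i n).hom := by
  haveI : Epi g.hom.base := (TopCat.epi_iff_surjective _).2 hs
  haveI : IsIso g.hom := IsOpenImmersion.isIso g.hom
  let ginv : Z ⟶ G := ⟨inv g.hom, inferInstance, g.dim_eq.symm⟩
  have h1 : ginv ≫ g = 𝟙 Z := Hom.ext (IsIso.inv_hom_id g.hom)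
  intro a b hab
  have := congrArg (T.pull ginv M i n).hom hab
  rw [← pull_comp_apply, ← pull_comp_apply, h1, pull_id_apply, pull_id_apply] at this
  exact this

/-- dimension of the source of an open immersion into an open of an object -/
theorem dim_le_of_openImmersion {Z : Obj V} {G : Scheme.{u}} (O : Z.scheme.Opens)
    (f : G ⟶ (O : Scheme.{u})) [IsOpenImmersion f] :
    WeilCoh.dim G ≤ WeilCoh.dim (O : Scheme.{u}) :=
  BMTop.natDim_le_of_isInducing f.isOpenEmbedding.isInducing
    (BMTop.dim_subtype_lt_top _ (finDim Z))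

/-- a class vanishing on every piece of a finite clopen cover vanishes (`Fin`-indexed version) -/
theorem eq_zero_of_pull_eq_zero_fin (T : TheoryOn V R A) (M : A.Cat) (i n' : ℤ) :
    ∀ (n : ℕ) (Z : Obj V) (G : Fin (n + 1) → Obj V) (g : ∀ k, G k ⟶ Z),
      (∀ z : Z.scheme, ∃ k, z ∈ Set.range (g k).hom) →
      (∀ k l, k ≠ l → Disjoint (Set.range (g k).hom) (Set.range (g l).hom)) →
      ∀ c : T.gp Z M i n', (∀ k, (T.pull (g k) M i n').hom c = 0) → c = 0 := by
  intro n
  induction n with
  | zero =>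
    intro Z G g hcov _ c hc
    have hs : Function.Surjective (g 0).hom := by
      intro z
      obtain ⟨k, hk⟩ := hcov z
      have : k = 0 := by
        have := k.2
        apply Fin.ext
        simp only [Fin.val_zero]
        omega
      subst this
      exact hk
    apply pull_injective_of_surjective T.toPreTheory (g 0) hs M i n'
    rw [hc 0, map_zero]
  | succ n ih =>
    intro Z G g hcov hdisj c hc
    have hcompl : (Set.range (g 0).hom)ᶜ = ⋃ k : Fin (n + 1), Set.range (g k.succ).hom := by
      ext z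
      constructor
      · intro hz
        obtain ⟨k, hk⟩ := hcov z
        rcases Fin.eq_zero_or_eq_succ k with rfl | ⟨k', rfl⟩
        · exact absurd hk hz
        · exact Set.mem_iUnion.2 ⟨k', hk⟩
      · intro hz h0
        obtain ⟨k', hk'⟩ := Set.mem_iUnion.1 hz
        exact (hdisj 0 k'.succ (Fin.succ_ne_zero k').symm).le_bot ⟨h0, hk'⟩
    have hopen : IsOpen (Set.range (g 0).hom)ᶜ := by
      rw [hcompl]
      exact isOpen_iUnion (fun k => (g k.succ).hom.isOpenEmbedding.isOpen_range)
    let O : Z.scheme.Opens := ⟨(Set.range (g 0).hom)ᶜ, hopen⟩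
    have hsub : ∀ k : Fin (n + 1), Set.range (g k.succ).hom ⊆ Set.range O.ι := by
      intro k z hz
      rw [Scheme.Opens.range_ι]
      change z ∈ (Set.range (g 0).hom)ᶜ
      rw [hcompl]
      exact Set.mem_iUnion.2 ⟨k, hz⟩
    let l : ∀ k : Fin (n + 1), (G k.succ).scheme ⟶ (O : Scheme.{u}) := fun k =>
      IsOpenImmersion.lift O.ι (g k.succ).hom (hsub k)
    have hl : ∀ k : Fin (n + 1), l k ≫ O.ι = (g k.succ).hom :=
      fun k => IsOpenImmersion.lift_fac _ _ _
    have hloi : ∀ k : Fin (n + 1), IsOpenImmersion (l k) := fun k => by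
      have : IsOpenImmersion (l k ≫ O.ι) := by rw [hl k]; infer_instance
      exact IsOpenImmersion.of_comp (l k) O.ι
    have hdl : ∀ k : Fin (n + 1),
        WeilCoh.dim (G k.succ).scheme = WeilCoh.dim (O : Scheme.{u}) := fun k => by
      have := hloi k
      apply le_antisymm (dim_le_of_openImmersion O (l k))
      rw [(g k.succ).dim_eq]
      exact dim_opens_le Z O
    have hdO : WeilCoh.dim (O : Scheme.{u}) = WeilCoh.dim Z.scheme := by
      rw [← hdl 0, (g (0 : Fin (n + 1)).succ).dim_eq]
    let g' : ∀ k : Fin (n + 1), G k.succ ⟶ Z.res O := fun k => ⟨l k, hloi k, hdl k⟩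
    let iX : Z.res O ⟶ Z := Z.resι O hdO
    have hg' : ∀ k : Fin (n + 1), g' k ≫ iX = g k.succ := fun k => Hom.ext (hl k)
    have hrange : Set.range iX.hom = (Set.range (g 0).hom)ᶜ := Scheme.Opens.range_ι O
    have hX : (T.pull iX M i n').hom c = 0 := by
      apply ih (Z.res O) (fun k => G k.succ) g'
      · intro z
        have hz : O.ι z ∈ (Set.range (g 0).hom)ᶜ := z.2
        rw [hcompl] at hz
        obtain ⟨k, hk⟩ := Set.mem_iUnion.1 hz
        exact ⟨k, (mem_range_iff_of_fac (l k) _ (hl k) z).2 hk⟩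
      · intro k k' hkk'
        rw [Set.disjoint_left]
        intro z hz hz'
        have h1 := (mem_range_iff_of_fac (l k) _ (hl k) z).1 hz
        have h2 := (mem_range_iff_of_fac (l k') _ (hl k') z).1 hz'
        exact (hdisj k.succ k'.succ (fun h => hkk' (Fin.succ_injective _ h))).le_bot ⟨h1, h2⟩
      · intro k
        rw [← pull_comp_apply, hg' k]
        exact hc k.succ
    have inj := (Groth.Agent.S15883.result V R A T iX (g 0) hrange M i n').1
    apply inj
    simp only [map_zero]
    rw [hX, hc 0]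

/-- a class vanishing on every piece of a finite clopen cover vanishes -/
theorem eq_zero_of_pull_eq_zero (T : TheoryOn V R A) {κ : Type*} [Finite κ] [Nonempty κ]
    (M : A.Cat) (i n' : ℤ) (Z : Obj V) (G : κ → Obj V) (g : ∀ k, G k ⟶ Z)
    (hcov : ∀ z : Z.scheme, ∃ k, z ∈ Set.range (g k).hom)
    (hdisj : ∀ k l, k ≠ l → Disjoint (Set.range (g k).hom) (Set.range (g l).hom))
    (c : T.gp Z M i n') (hc : ∀ k, (T.pull (g k) M i n').hom c = 0) : c = 0 := by
  haveI := Fintype.ofFinite κ
  obtain ⟨n, hn⟩ : ∃ n, Fintype.card κ = n + 1 :=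
    ⟨Fintype.card κ - 1, by have := Fintype.card_pos (α := κ); omega⟩
  let e : Fin (n + 1) ≃ κ := (Fintype.equivFinOfCardEq hn).symm
  apply eq_zero_of_pull_eq_zero_fin T M i n' n Z (fun k => G (e k)) (fun k => g (e k))
  · intro z
    obtain ⟨k, hk⟩ := hcov z
    refine ⟨e.symm k, ?_⟩
    rw [Equiv.apply_symm_apply]
    exact hk
  · intro k l hkl
    exact hdisj _ _ (fun h => hkl (e.injective h))
  · intro k
    exact hc _

section Cover

variable {κ : Type*} {Z : Obj V} {G : κ → Obj V} (g : ∀ k, G k ⟶ Z)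

theorem compl_range_eq (hcov : ∀ z : Z.scheme, ∃ k, z ∈ Set.range (g k).hom)
    (hdisj : ∀ k l, k ≠ l → Disjoint (Set.range (g k).hom) (Set.range (g l).hom)) (k : κ) :
    (Set.range (g k).hom)ᶜ = ⋃ l : {l : κ // l ≠ k}, Set.range (g l.1).hom := by
  ext z
  constructor
  · intro hz
    obtain ⟨l, hl⟩ := hcov z
    have : l ≠ k := by rintro rfl; exact hz hl
    exact Set.mem_iUnion.2 ⟨⟨l, this⟩, hl⟩
  · intro hz h0
    obtain ⟨l, hl⟩ := Set.mem_iUnion.1 hz
    exact (hdisj k l.1 l.2.symm).le_bot ⟨h0, hl⟩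

theorem isClosed_range_of_cover (hcov : ∀ z : Z.scheme, ∃ k, z ∈ Set.range (g k).hom)
    (hdisj : ∀ k l, k ≠ l → Disjoint (Set.range (g k).hom) (Set.range (g l).hom)) (k : κ) :
    IsClosed (Set.range (g k).hom) := by
  rw [← isOpen_compl_iff, compl_range_eq g hcov hdisj k]
  exact isOpen_iUnion (fun l => (g l.1).hom.isOpenEmbedding.isOpen_range)

theorem isClosedImmersion_of_cover (hcov : ∀ z : Z.scheme, ∃ k, z ∈ Set.range (g k).hom)
    (hdisj : ∀ k l, k ≠ l → Disjoint (Set.range (g k).hom) (Set.range (g l).hom)) (k : κ) :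
    IsClosedImmersion (g k).hom :=
  IsClosedImmersion.of_isPreimmersion _ (isClosed_range_of_cover g hcov hdisj k)

/-- restriction to a different piece kills the push-forward from a piece -/
theorem pull_push_of_ne (T : PreTheory V R A)
    (hcov : ∀ z : Z.scheme, ∃ k, z ∈ Set.range (g k).hom)
    (hdisj : ∀ k l, k ≠ l → Disjoint (Set.range (g k).hom) (Set.range (g l).hom)) (k l : κ)
    (hkl : k ≠ l) [IsProper (g k).hom] (M : A.Cat) (i n : ℤ)
    (hi : i = i + 2 * relCodim (G k).scheme Z.scheme) (hn : n = n + relCodim (G k).scheme Z.scheme)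
    (c : T.gp (G k) M i n) :
    (T.pull (g l) M i n).hom ((T.push (g k).hom M i n i n hi hn).hom c) = 0 := by
  obtain ⟨m, rfl⟩ : ∃ m, i = m + 1 := ⟨i - 1, by ring⟩
  have hopen : IsOpen (Set.range (g k).hom)ᶜ :=
    (isClosed_range_of_cover g hcov hdisj k).isOpen_compl
  let O : Z.scheme.Opens := ⟨(Set.range (g k).hom)ᶜ, hopen⟩
  have hsub : Set.range (g l).hom ⊆ Set.range O.ι := by
    intro z hz
    rw [Scheme.Opens.range_ι]
    exact fun h0 => (hdisj k l hkl).le_bot ⟨h0, hz⟩
  let lf : (G l).scheme ⟶ (O : Scheme.{u}) := IsOpenImmersion.lift O.ι (g l).hom hsub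
  have hl : lf ≫ O.ι = (g l).hom := IsOpenImmersion.lift_fac _ _ _
  have hloi : IsOpenImmersion lf := by
    have : IsOpenImmersion (lf ≫ O.ι) := by rw [hl]; infer_instance
    exact IsOpenImmersion.of_comp lf O.ι
  have hdl : WeilCoh.dim (G l).scheme = WeilCoh.dim (O : Scheme.{u}) := by
    apply le_antisymm (dim_le_of_openImmersion O lf)
    rw [(g l).dim_eq]
    exact dim_opens_le Z O
  have hdO : WeilCoh.dim (O : Scheme.{u}) = WeilCoh.dim Z.scheme := by
    rw [← hdl, (g l).dim_eq]
  let gl' : G l ⟶ Z.res O := ⟨lf, hloi, hdl⟩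
  have hci : IsClosedImmersion (g k).hom := isClosedImmersion_of_cover g hcov hdisj k
  let D : Decomp Z := ⟨G k, Z.res O, (g k).hom, hci, Z.resι O hdO, Scheme.Opens.range_ι O⟩
  have hgl : gl' ≫ D.j = g l := Hom.ext hl
  have h0 := (T.exact_push_pull D M m n (m + 1) n hi hn).apply_apply_eq_zero c
  rw [← hgl, pull_comp_apply]
  have h1 : (T.pull D.j M (m + 1) n).hom ((T.push (g k).hom M (m + 1) n (m + 1) n hi hn).hom c)
      = 0 := h0
  rw [h1, map_zero]

theorem pull_push_self (T : PreTheory V R A) (k : κ) [IsProper (g k).hom] (M : A.Cat) (i n : ℤ)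
    (hi : i = i + 2 * relCodim (G k).scheme Z.scheme) (hn : n = n + relCodim (G k).scheme Z.scheme)
    (c : T.gp (G k) M i n) :
    (T.pull (g k) M i n).hom ((T.push (g k).hom M i n i n hi hn).hom c) = c := by
  have := Groth.Agent.S15883.push_pull_self T (g k) M i n hi hn
  exact congrArg (fun φ => φ.hom c) this

/-- every class is the sum of the push-forwards of its restrictions to the pieces of a finite
clopen cover -/
theorem sum_push_pull (T : TheoryOn V R A) [Fintype κ] [DecidableEq κ] [Nonempty κ]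
    (hcov : ∀ z : Z.scheme, ∃ k, z ∈ Set.range (g k).hom)
    (hdisj : ∀ k l, k ≠ l → Disjoint (Set.range (g k).hom) (Set.range (g l).hom))
    [∀ k, IsProper (g k).hom] (M : A.Cat) (i n : ℤ)
    (hi : ∀ k, i = i + 2 * relCodim (G k).scheme Z.scheme)
    (hn : ∀ k, n = n + relCodim (G k).scheme Z.scheme) (c : T.gp Z M i n) :
    ∑ k, (T.push (g k).hom M i n i n (hi k) (hn k)).hom ((T.pull (g k) M i n).hom c) = c := by
  rw [← sub_eq_zero]
  apply eq_zero_of_pull_eq_zero T M i n Z G g hcov hdisj
  intro l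
  rw [map_sub, map_sum, Finset.sum_eq_single l]
  · rw [pull_push_self g T.toPreTheory l M i n (hi l) (hn l), sub_self]
  · intro k _ hkl
    exact pull_push_of_ne g T.toPreTheory hcov hdisj k l hkl M i n (hi k) (hn k) _
  · intro h
    exact absurd (Finset.mem_univ l) h

end Cover

end Groth.Agent.Lib.Helper79.BM

end
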