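import Groth.Agent.Lib.Helper79.BMExact3
import Groth.Agent.Lib.Helper81.BMLevels
import Mathlib

/-!
# Comparison of `H(U)` with `H(F_j X)` for an open `U` containing `F_j X`
(helper79, BMCoh family)
-/

set_option autoImplicit false
universe u

noncomputable section

namespace Groth.Agent.Lib.Helper79.BM

open AlgebraicGeometry CategoryTheory CategoryTheory.Limits Opposite TopologicalSpace BMCoh
open Groth.Agent.Lib.Helper79.BMTop

theorem pd_le_pd_map {S T : Type u} [TopologicalSpace S] [TopologicalSpace T] {f : S → T}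
    (hf : Topology.IsEmbedding f) (hfin : topologicalKrullDim T < ⊤) (y : S) :
    pd y ≤ pd (f y) := by
  have h1 : WeilCoh.natDim ↥(closure ({y} : Set S)) = WeilCoh.natDim ↥(f '' closure {y}) :=
    natDim_homeomorph (hf.homeomorphImage _)
  have h2 : f '' closure {y} ⊆ closure {f y} := by
    have := image_closure_subset_closure_image hf.continuous (s := {y})
    rwa [Set.image_singleton] at this
  unfold pd
  rw [h1]
  exact natDim_mono h2 hfin

variable {V : ObjectProperty Scheme.{u}} [IsConstructible V]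
variable {R : Type u} [CommRing R] {A : Coefs R}

namespace BigOpen

variable {U X : Obj V} (f : U ⟶ X)

/-- the range of a morphism of objects, as an open -/
def rng : X.scheme.Opens := f.hom.opensRange

theorem range_ι_rng : Set.range (rng f).ι = Set.range f.hom := by
  rw [Scheme.Opens.range_ι]; rfl

def toRng : U.scheme ⟶ (rng f : Scheme.{u}) :=
  IsOpenImmersion.lift (rng f).ι f.hom (range_ι_rng f).ge

@[reassoc]
theorem toRng_ι : toRng f ≫ (rng f).ι = f.hom := IsOpenImmersion.lift_fac _ _ _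

def ofRng : (rng f : Scheme.{u}) ⟶ U.scheme :=
  IsOpenImmersion.lift f.hom (rng f).ι (range_ι_rng f).le

@[reassoc]
theorem ofRng_f : ofRng f ≫ f.hom = (rng f).ι := IsOpenImmersion.lift_fac _ _ _

instance : IsOpenImmersion (toRng f) := by
  have : IsOpenImmersion (toRng f ≫ (rng f).ι) := by rw [toRng_ι]; infer_instance
  exact IsOpenImmersion.of_comp _ (rng f).ι

instance : IsOpenImmersion (ofRng f) := by
  have : IsOpenImmersion (ofRng f ≫ f.hom) := by rw [ofRng_f]; infer_instance
  exact IsOpenImmersion.of_comp _ f.hom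

theorem dim_rng : WeilCoh.dim (rng f : Scheme.{u}) = WeilCoh.dim X.scheme := by
  apply le_antisymm (dim_opens_le X (rng f))
  rw [← f.dim_eq]
  exact natDim_le_of_isInducing (toRng f).isOpenEmbedding.isInducing
    (dim_subtype_lt_top _ (finDim X))

def eTo : U ⟶ X.res (rng f) := ⟨toRng f, inferInstance, f.dim_eq.trans (dim_rng f).symm⟩

def eOf : X.res (rng f) ⟶ U := ⟨ofRng f, inferInstance, (dim_rng f).trans f.dim_eq.symm⟩

theorem eOf_f : eOf f ≫ f = X.resι (rng f) (dim_rng f) := Hom.ext (ofRng_f f)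

theorem codim_map_le (y : U.scheme) :
    WeilCoh.codim X.scheme (f.hom y) ≤ WeilCoh.codim U.scheme y := by
  have h1 : WeilCoh.pdim U.scheme y ≤ WeilCoh.pdim X.scheme (f.hom y) :=
    pd_le_pd_map f.hom.isOpenEmbedding.isEmbedding (finDim X) y
  have h2 := f.dim_eq
  unfold WeilCoh.codim
  omega

variable (T : PreTheory V R A)

/-- `H^i(U) → H^i(F_j X)` for an open `U` containing `F_j X` -/
def phi {j : ℕ} (hF : ContainsFj X j (rng f)) (M : A.Cat) (i n : ℤ) :
    T.gp U M i n →ₗ[R] T.fjGp X j M i n :=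
  ((T.fjι X j i n ⟨rng f, hF, dim_rng f⟩).app M).hom.comp (T.pull (eOf f) M i n).hom

theorem phi_pull {j : ℕ} (hF : ContainsFj X j (rng f)) (M : A.Cat) (i n : ℤ)
    (a : T.gp X M i n) :
    phi f T hF M i n ((T.pull f M i n).hom a) = ((T.toFj X j i n).app M).hom a := by
  have happ : ((T.toFj X j i n).app M).hom a =
      ((T.fjι X j i n ⟨⊤, fun _ _ => trivial, dim_top X.scheme⟩).app M).hom
        ((T.pull X.resTop M i n).hom a) := rfl
  rw [happ]
  have h1 := ocolimι_pull T X (ContainsFj X j) i n M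
    (U := ⟨⊤, fun _ _ => trivial, dim_top X.scheme⟩) (U' := ⟨rng f, hF, dim_rng f⟩) le_top
    ((dim_rng f).trans (dim_top X.scheme).symm) ((T.pull X.resTop M i n).hom a)
  rw [← h1, ← pull_comp_apply]
  have h2 : X.resLE (le_top : rng f ≤ ⊤) ((dim_rng f).trans (dim_top X.scheme).symm) ≫ X.resTop =
      eOf f ≫ f := by
    rw [eOf_f]
    exact Hom.ext (X.scheme.homOfLE_ι (le_top : rng f ≤ ⊤))
  rw [h2, pull_comp_apply]
  rfl

theorem toFj_eq_zero_of_phi {j : ℕ} (hF : ContainsFj X j (rng f)) (M : A.Cat) (i n : ℤ)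
    (b : T.gp U M i n) (hb : phi f T hF M i n b = 0) :
    ((T.toFj U j i n).app M).hom b = 0 := by
  obtain ⟨U'', h, hz⟩ := (ocolim_eq_zero_iff T X (ContainsFj X j) i n M
    (U := ⟨rng f, hF, dim_rng f⟩) _).1 hb
  let V'' : U.scheme.Opens := f.hom ⁻¹ᵁ U''.1
  have hV'' : ContainsFj U j V'' := fun y hy => U''.2.1 _ ((codim_map_le f y).trans hy)
  have hdV : WeilCoh.dim (V'' : Scheme.{u}) = WeilCoh.dim U.scheme :=
    dim_eq_of_containsFj U j V'' hV''
  have hsub : Set.range (V''.ι ≫ f.hom) ⊆ Set.range U''.1.ι := by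
    rintro _ ⟨v, rfl⟩
    rw [Scheme.Opens.range_ι]
    exact v.2
  let g'' : U.res V'' ⟶ X.res U''.1 :=
    ⟨IsOpenImmersion.lift U''.1.ι (V''.ι ≫ f.hom) hsub, by
      have : IsOpenImmersion (IsOpenImmersion.lift U''.1.ι (V''.ι ≫ f.hom) hsub ≫ U''.1.ι) := by
        rw [IsOpenImmersion.lift_fac]; infer_instance
      exact IsOpenImmersion.of_comp _ U''.1.ι, hdV.trans (f.dim_eq.trans U''.2.2.symm)⟩
  have hcomm : g'' ≫ X.resLE h (U''.2.2.trans (dim_rng f).symm) ≫ eOf f = U.resι V'' hdV := by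
    apply Hom.ext
    rw [← cancel_mono f.hom]
    change (IsOpenImmersion.lift U''.1.ι (V''.ι ≫ f.hom) hsub ≫ X.scheme.homOfLE h ≫ ofRng f) ≫
      f.hom = V''.ι ≫ f.hom
    rw [Category.assoc, Category.assoc, ofRng_f, Scheme.homOfLE_ι, IsOpenImmersion.lift_fac]
  have hzero : (T.pull (U.resι V'' hdV) M i n).hom b = 0 := by
    rw [← hcomm, pull_comp_apply, pull_comp_apply]
    have hz' : (T.pull (X.resLE h (U''.2.2.trans (dim_rng f).symm)) M i n).hom
        ((T.pull (eOf f) M i n).hom b) = 0 := hz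
    rw [hz', map_zero]
  have happ : ((T.toFj U j i n).app M).hom b =
      ((T.fjι U j i n ⟨⊤, fun _ _ => trivial, dim_top U.scheme⟩).app M).hom
        ((T.pull U.resTop M i n).hom b) := rfl
  rw [happ]
  have h1 := ocolimι_pull T U (ContainsFj U j) i n M
    (U := ⟨⊤, fun _ _ => trivial, dim_top U.scheme⟩) (U' := ⟨V'', hV'', hdV⟩) le_top
    (hdV.trans (dim_top U.scheme).symm) ((T.pull U.resTop M i n).hom b)
  rw [← h1, ← pull_comp_apply]
  have h2 : U.resLE (le_top : V'' ≤ ⊤) (hdV.trans (dim_top U.scheme).symm) ≫ U.resTop =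
      U.resι V'' hdV := Hom.ext (U.scheme.homOfLE_ι (le_top : V'' ≤ ⊤))
  rw [h2, hzero, map_zero]

/-- if `toFj` is bijective for `X` and injective for `U` at level `j` and `U ⊇ F_j X`, then
restriction `H^i(X) → H^i(U)` is bijective -/
theorem pull_bijective {j : ℕ} (hF : ContainsFj X j (rng f)) (M : A.Cat) (i n : ℤ)
    (hX : Function.Bijective ((T.toFj X j i n).app M).hom)
    (hU : Function.Injective ((T.toFj U j i n).app M).hom) :
    Function.Bijective (T.pull f M i n).hom := by
  constructor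
  · rw [injective_iff_map_eq_zero]
    intro a ha
    apply hX.1
    rw [map_zero, ← phi_pull f T hF M i n a, ha, map_zero]
  · intro b
    obtain ⟨a, ha⟩ := hX.2 (phi f T hF M i n b)
    refine ⟨a, ?_⟩
    rw [← sub_eq_zero]
    apply hU
    rw [map_zero]
    apply toFj_eq_zero_of_phi f T hF M i n
    rw [map_sub, phi_pull f T hF M i n a, ha, sub_self]

end BigOpen

end Groth.Agent.Lib.Helper79.BM

end
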