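import Groth.Agent.S2285
import Mathlib

/-!
# Scheme-theoretic lemmas on reduced closed subschemes (helper79, BMCoh family)
-/

set_option autoImplicit false
universe u

namespace Groth.Agent.Lib.Helper79.BM

open AlgebraicGeometry CategoryTheory TopologicalSpace

/-- a closed immersion with open range into a reduced scheme is an open immersion -/
theorem isOpenImmersion_of_isClosedImmersion_of_isOpen_range {A B : Scheme.{u}} (f : A ⟶ B)
    [IsClosedImmersion f] [IsReduced B] (h : IsOpen (Set.range f)) : IsOpenImmersion f := by
  let O : B.Opens := ⟨Set.range f, h⟩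
  have hsub : Set.range f ⊆ Set.range O.ι := by rw [Scheme.Opens.range_ι]; exact le_rfl
  let f' : A ⟶ (O : Scheme.{u}) := IsOpenImmersion.lift O.ι f hsub
  have hf' : f' ≫ O.ι = f := IsOpenImmersion.lift_fac _ _ _
  have hpre : IsPreimmersion f' := by
    have : IsPreimmersion (f' ≫ O.ι) := by rw [hf']; infer_instance
    exact IsPreimmersion.of_comp f' O.ι
  have hsurj : Function.Surjective f' := by
    intro y
    obtain ⟨a, ha⟩ : O.ι y ∈ Set.range f := y.2
    refine ⟨a, ?_⟩
    apply O.ι.isOpenEmbedding.injective
    rw [← Scheme.Hom.comp_apply, hf', ha]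
  have hci : IsClosedImmersion f' := by
    apply IsClosedImmersion.of_isPreimmersion
    rw [hsurj.range_eq]
    exact isClosed_univ
  have : Surjective f' := ⟨hsurj⟩
  have : IsReduced (O : Scheme.{u}) := isReduced_of_isOpenImmersion O.ι
  have : IsIso f' := isIso_of_isClosedImmersion_of_surjective f'
  rw [← hf']
  infer_instance

end Groth.Agent.Lib.Helper79.BM
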