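import Groth.Agent.Lib.Helper79.BMBig
import Groth.Agent.Lib.Helper79.BMScheme
import Mathlib

/-!
# Reduced closed subschemes as objects, and their pieces (helper79, BMCoh family)
-/

set_option autoImplicit false
universe u

noncomputable section

namespace Groth.Agent.Lib.Helper79.BM

open AlgebraicGeometry CategoryTheory CategoryTheory.Limits Opposite TopologicalSpace BMCoh
open Groth.Agent.Lib.Helper79.BMTop

section Top

variable {T : Type u} [TopologicalSpace T]

/-- points of every dimension up to the dimension of the space exist -/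
theorem exists_pd_eq_of_le [Nonempty T] [QuasiSober T] [T0Space T]
    (hfin : topologicalKrullDim T < ⊤) (k : ℕ) (hk : k ≤ WeilCoh.natDim T) :
    ∃ x : T, pd x = k := by
  have hT := coe_natDim (T := T) hfin
  obtain ⟨l, hl⟩ := (Order.le_krullDim_iff (α := IrreducibleCloseds T)
    (n := WeilCoh.natDim T)).1 (by rw [← topologicalKrullDim]; exact hT.le)
  let x : Fin (l.length + 1) → T := fun m => (l m).isIrreducible.genericPoint
  have hx : ∀ m, closure ({x m} : Set T) = (l m : Set T) := fun m => by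
    have := (l m).isIrreducible.isGenericPoint_genericPoint_closure
    rw [(l m).isClosed.closure_eq] at this
    exact this
  have hlt : ∀ m m' : Fin (l.length + 1), m < m' → pd (x m) < pd (x m') := by
    intro m m' hmm'
    have h1 : l m < l m' := l.strictMono hmm'
    apply pd_lt hfin
    · rw [specializes_iff_mem_closure, hx m']
      apply h1.le
      change x m ∈ (l m : Set T)
      rw [← hx m]
      exact subset_closure rfl
    · intro heq
      apply h1.ne
      apply IrreducibleCloseds.ext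
      rw [← hx m, ← hx m', heq]
  have hlow : ∀ (m : ℕ) (hm : m < l.length + 1), m ≤ pd (x ⟨m, hm⟩) := by
    intro m
    induction m with
    | zero => intro _; exact Nat.zero_le _
    | succ m ih =>
      intro hm
      have h1 := ih (by omega)
      have h2 := hlt ⟨m, by omega⟩ ⟨m + 1, hm⟩ (by simp [Fin.lt_def])
      omega
  have hup : ∀ (t m : ℕ) (hm : m < l.length + 1), m + t = l.length →
      pd (x ⟨m, hm⟩) + t ≤ l.length := by
    intro t
    induction t with
    | zero =>
      intro m hm _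
      have := pd_le_natDim hfin (x ⟨m, hm⟩)
      omega
    | succ t ih =>
      intro m hm h
      have h1 := ih (m + 1) (by omega) (by omega)
      have h2 := hlt ⟨m, hm⟩ ⟨m + 1, by omega⟩ (by simp [Fin.lt_def])
      omega
  refine ⟨x ⟨k, by omega⟩, ?_⟩
  have h1 := hlow k (by omega)
  have h2 := hup (l.length - k) k (by omega) (by omega)
  omega

theorem pd_closedEmbedding {S : Type u} [TopologicalSpace S] {f : S → T}
    (hf : Topology.IsClosedEmbedding f) (y : S) : pd y = pd (f y) := by
  have h1 : WeilCoh.natDim ↥(closure ({y} : Set S)) = WeilCoh.natDim ↥(f '' closure {y}) :=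
    natDim_homeomorph (hf.isEmbedding.homeomorphImage _)
  have h2 : f '' closure {y} = closure {f y} := by
    rw [← hf.closure_image_eq, Set.image_singleton]
  unfold pd
  rw [h1, h2]

end Top

variable {V : ObjectProperty Scheme.{u}} [IsConstructible V]

/-- the reduced closed subscheme on a closed subset of an object -/
def clSch (X : Obj V) (C : Closeds X.scheme) : Scheme.{u} :=
  (Scheme.IdealSheafData.vanishingIdeal C).subscheme

def clι (X : Obj V) (C : Closeds X.scheme) : clSch X C ⟶ X.scheme :=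
  (Scheme.IdealSheafData.vanishingIdeal C).subschemeι

instance (X : Obj V) (C : Closeds X.scheme) : IsClosedImmersion (clι X C) :=
  inferInstanceAs (IsClosedImmersion (Scheme.IdealSheafData.vanishingIdeal C).subschemeι)

instance (X : Obj V) (C : Closeds X.scheme) : IsReduced (clSch X C) :=
  Groth.Agent.S2285.isReduced_vanishingIdeal_subscheme C

theorem range_clι (X : Obj V) (C : Closeds X.scheme) :
    Set.range (clι X C) = (C : Set X.scheme) := by
  have := (Scheme.IdealSheafData.vanishingIdeal C).range_subschemeι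
  rw [Scheme.IdealSheafData.coe_support_vanishingIdeal] at this
  exact this

theorem clι_mem (X : Obj V) (C : Closeds X.scheme) (z : clSch X C) :
    (clι X C) z ∈ (C : Set X.scheme) := by
  rw [← range_clι]; exact ⟨z, rfl⟩

/-- the reduced closed subscheme as an object -/
abbrev clObj (X : Obj V) (C : Closeds X.scheme) : Obj V :=
  ⟨clSch X C, IsConstructible.of_isClosedImmersion (clι X C) (h := inferInstance) X.mem⟩

/-- the open complement of a closed subset -/
def cU (X : Obj V) (C : Closeds X.scheme) : X.scheme.Opens :=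
  ⟨(C : Set X.scheme)ᶜ, C.isClosed.isOpen_compl⟩

theorem pdim_clι (X : Obj V) (C : Closeds X.scheme) (z : clSch X C) :
    WeilCoh.pdim (clSch X C) z = WeilCoh.pdim X.scheme ((clι X C) z) :=
  pd_closedEmbedding (clι X C).isClosedEmbedding z

theorem codim_clι (X : Obj V) (C : Closeds X.scheme) {j : ℕ}
    (hd : WeilCoh.dim (clSch X C) + (j + 1) = WeilCoh.dim X.scheme) (z : clSch X C) :
    WeilCoh.codim X.scheme ((clι X C) z) = WeilCoh.codim (clSch X C) z + (j + 1) := by
  have h1 := pdim_clι X C z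
  have h2 := pdim_le_dim (clObj X C) z
  change WeilCoh.pdim (clSch X C) z ≤ WeilCoh.dim (clSch X C) at h2
  unfold WeilCoh.codim
  omega

/-- the dimension of the reduced closed subscheme on a closed subset all of whose points have
codimension at least `j + 1` and which contains a point of codimension `j + 1` -/
theorem dim_clSch (X : Obj V) (C : Closeds X.scheme) {j : ℕ}
    (hC : ∀ y ∈ C, j + 1 ≤ WeilCoh.codim X.scheme y) (x₀ : X.scheme) (hx₀ : x₀ ∈ C)
    (hcx₀ : WeilCoh.codim X.scheme x₀ = j + 1) :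
    WeilCoh.dim (clSch X C) + (j + 1) = WeilCoh.dim X.scheme := by
  obtain ⟨z₀, hz₀⟩ : ∃ z₀, (clι X C) z₀ = x₀ := by
    have : x₀ ∈ Set.range (clι X C) := by rw [range_clι]; exact hx₀
    exact this
  haveI : Nonempty (clSch X C) := ⟨z₀⟩
  have h1 := pdim_le_dim X x₀
  have h2 : WeilCoh.pdim X.scheme x₀ ≤ WeilCoh.dim (clSch X C) := by
    rw [← hz₀, ← pdim_clι]
    exact pdim_le_dim (clObj X C) z₀
  obtain ⟨z, hz⟩ := exists_pd_eq (T := clSch X C) (finDim (clObj X C))
  have h3 : WeilCoh.pdim (clSch X C) z = WeilCoh.dim (clSch X C) := hz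
  rw [pdim_clι] at h3
  have h4 := hC _ (clι_mem X C z)
  have h5 := pdim_le_dim X ((clι X C) z)
  unfold WeilCoh.codim at hcx₀ h4
  omega

/-- A piece for a closed subset `C`: an open `Y` containing the complement of `C`, with the trace
of `C` on `Y` as an open of the reduced closed subscheme. -/
structure KPiece (X : Obj V) (C : Closeds X.scheme) where
  Y : X.scheme.Opens
  W : (clSch X C).Opens
  hW : ∀ z : clSch X C, z ∈ W ↔ (clι X C) z ∈ Y
  hUY : cU X C ≤ Y

namespace KPiece

variable {X : Obj V} {C : Closeds X.scheme} (P : KPiece X C)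

/-- the closed part as an object -/
abbrev G : Obj V := (clObj X C).res P.W

theorem range_subset : Set.range (P.W.ι ≫ clι X C) ⊆ Set.range P.Y.ι := by
  rintro _ ⟨w, rfl⟩
  rw [Scheme.Opens.range_ι]
  exact (P.hW w.1).1 w.2

/-- the closed immersion of the closed part into `Y` -/
def i : (P.W : Scheme.{u}) ⟶ (P.Y : Scheme.{u}) :=
  IsOpenImmersion.lift P.Y.ι (P.W.ι ≫ clι X C) P.range_subset

@[reassoc]
theorem i_fac : P.i ≫ P.Y.ι = P.W.ι ≫ clι X C := IsOpenImmersion.lift_fac _ _ _

theorem range_comp : Set.range (P.W.ι ≫ clι X C) = (P.Y : Set X.scheme) ∩ C := by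
  ext y
  constructor
  · rintro ⟨w, rfl⟩
    exact ⟨(P.hW w.1).1 w.2, clι_mem X C _⟩
  · rintro ⟨hy, hyC⟩
    obtain ⟨z, rfl⟩ : y ∈ Set.range (clι X C) := by rw [range_clι]; exact hyC
    exact ⟨⟨z, (P.hW z).2 hy⟩, rfl⟩

theorem mem_range_i (y : (P.Y : Scheme.{u})) :
    y ∈ Set.range P.i ↔ P.Y.ι y ∈ (C : Set X.scheme) := by
  rw [mem_range_iff_of_fac P.i _ P.i_fac, P.range_comp]
  exact ⟨fun h => h.2, fun h => ⟨y.2, h⟩⟩

instance : IsPreimmersion P.i := by
  have : IsPreimmersion (P.i ≫ P.Y.ι) := by rw [P.i_fac]; infer_instance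
  exact IsPreimmersion.of_comp P.i P.Y.ι

instance : IsClosedImmersion P.i := by
  apply IsClosedImmersion.of_isPreimmersion
  have : Set.range P.i = P.Y.ι ⁻¹' (C : Set X.scheme) := by
    ext y; exact P.mem_range_i y
  rw [this]
  exact C.isClosed.preimage P.Y.ι.continuous

theorem dimY (hdU : WeilCoh.dim (cU X C : Scheme.{u}) = WeilCoh.dim X.scheme) :
    WeilCoh.dim (P.Y : Scheme.{u}) = WeilCoh.dim X.scheme :=
  le_antisymm (dim_opens_le X P.Y) (hdU ▸ dim_opens_mono X P.hUY)

/-- the decomposition of `Y` attached to a piece -/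
def decomp (hdU : WeilCoh.dim (cU X C : Scheme.{u}) = WeilCoh.dim X.scheme) :
    Decomp (X.res P.Y) where
  Z := P.G
  U := X.res (cU X C)
  i := P.i
  closedImm := inferInstance
  j := X.resLE P.hUY (hdU.trans (P.dimY hdU).symm)
  range_eq := by
    ext y
    have h1 : y ∈ Set.range (X.scheme.homOfLE P.hUY) ↔ P.Y.ι y ∈ (cU X C : Set X.scheme) := by
      have := mem_range_iff_of_fac (X.scheme.homOfLE P.hUY) _ (X.scheme.homOfLE_ι P.hUY) y
      rw [Scheme.Opens.range_ι] at this
      exact this
    change y ∈ Set.range (X.scheme.homOfLE P.hUY) ↔ y ∈ (Set.range P.i)ᶜ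
    rw [h1, Set.mem_compl_iff, P.mem_range_i]
    rfl

/-- the piece cut out by an open containing the complement of `C` -/
def ofOpen (Y₀ : X.scheme.Opens) (h : cU X C ≤ Y₀) : KPiece X C where
  Y := Y₀
  W := (clι X C) ⁻¹ᵁ Y₀
  hW _ := Iff.rfl
  hUY := h

/-- the piece cut out by an open of the reduced closed subscheme inside an open -/
def ofWIn (W₀ : (clSch X C).Opens) (Y₀ : X.scheme.Opens) (h : ∀ z ∈ W₀, (clι X C) z ∈ Y₀)
    (hU : cU X C ≤ Y₀) : KPiece X C where
  Y := Y₀ ⊓ ⟨((clι X C) '' ((W₀ : Set (clSch X C))ᶜ))ᶜ,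
    ((clι X C).isClosedEmbedding.isClosedMap _ W₀.isOpen.isClosed_compl).isOpen_compl⟩
  W := W₀
  hW z := by
    constructor
    · intro hz
      refine ⟨h z hz, ?_⟩
      rintro ⟨z', hz', e⟩
      have := (clι X C).isClosedEmbedding.injective e
      subst this
      exact hz' hz
    · rintro ⟨_, hz⟩
      by_contra hz'
      exact hz ⟨z, hz', rfl⟩
  hUY := by
    intro y hy
    refine ⟨hU hy, ?_⟩
    rintro ⟨z, _, rfl⟩
    exact hy (clι_mem X C z)

theorem ofWIn_Y_le (W₀ : (clSch X C).Opens) (Y₀ : X.scheme.Opens) (h) (hU) :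
    (ofWIn (X := X) (C := C) W₀ Y₀ h hU).Y ≤ Y₀ := inf_le_left

theorem containsFj_ofWIn {j m : ℕ}
    (hd : WeilCoh.dim (clSch X C) + (j + 1) = WeilCoh.dim X.scheme)
    (W₀ : (clSch X C).Opens) (hW₀ : ContainsFj (clObj X C) m W₀) (Y₀ : X.scheme.Opens) (h) (hU)
    (hY₀ : ContainsFj X (j + 1 + m) Y₀) :
    ContainsFj X (j + 1 + m) (ofWIn (X := X) (C := C) W₀ Y₀ h hU).Y := by
  intro y hy
  refine ⟨hY₀ y hy, ?_⟩
  rintro ⟨z, hz, rfl⟩
  apply hz
  apply hW₀
  have := codim_clι X C hd z
  change WeilCoh.codim (clSch X C) z ≤ m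
  omega

theorem containsFj_ofOpen {j m : ℕ}
    (hd : WeilCoh.dim (clSch X C) + (j + 1) = WeilCoh.dim X.scheme)
    (Y₀ : X.scheme.Opens) (h : cU X C ≤ Y₀) (hY₀ : ContainsFj X (j + 1 + m) Y₀) :
    ContainsFj (clObj X C) m (ofOpen (X := X) (C := C) Y₀ h).W := by
  intro z hz
  apply hY₀
  have := codim_clι X C hd z
  change WeilCoh.codim (clSch X C) z ≤ m at hz
  omega

end KPiece

end Groth.Agent.Lib.Helper79.BM

end
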