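import Groth.Agent.Lib.Helper79.BMClosed
import Mathlib

/-!
# Pieces for closed subsets: restriction, and the bijectivity criterion (helper79, BMCoh family)
-/

set_option autoImplicit false
universe u

noncomputable section

namespace Groth.Agent.Lib.Helper79.BM

open AlgebraicGeometry CategoryTheory CategoryTheory.Limits Opposite TopologicalSpace BMCoh
open Groth.Agent.Lib.Helper79.BMTop

variable {V : ObjectProperty Scheme.{u}} [IsConstructible V]
variable {R : Type u} [CommRing R] {A : Coefs R} {T : PreTheory V R A}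

namespace KPiece

variable {X : Obj V} {C : Closeds X.scheme}

theorem W_le_of_Y_le (P P' : KPiece X C) (hY : P'.Y ≤ P.Y) : P'.W ≤ P.W :=
  fun z hz => (P.hW z).2 (hY ((P'.hW z).1 hz))

/-- the restriction morphism between the closed parts -/
def gW (P P' : KPiece X C) (hY : P'.Y ≤ P.Y)
    (hdW : WeilCoh.dim (P'.W : Scheme.{u}) = WeilCoh.dim (P.W : Scheme.{u})) : P'.G ⟶ P.G :=
  (clObj X C).resLE (W_le_of_Y_le P P' hY) hdW

theorem i_comm (P P' : KPiece X C) (hY : P'.Y ≤ P.Y) (hdW) :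
    (gW P P' hY hdW).hom ≫ P.i = P'.i ≫ X.scheme.homOfLE hY := by
  rw [← cancel_mono P.Y.ι, Category.assoc, Category.assoc, P.i_fac, Scheme.homOfLE_ι, P'.i_fac]
  change (clSch X C).homOfLE (W_le_of_Y_le P P' hY) ≫ _ = _
  rw [← Category.assoc, Scheme.homOfLE_ι]

theorem isPullback_restrict (P P' : KPiece X C) (hY : P'.Y ≤ P.Y) (hdW) :
    IsPullback (gW P P' hY hdW).hom P'.i P.i (X.scheme.homOfLE hY) := by
  have : IsOpenImmersion (gW P P' hY hdW).hom := inferInstance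
  apply isPullback_of_isOpenImmersion _ _ _ _ (i_comm P P' hY hdW)
  intro w hw
  have h1 := (mem_range_iff_of_fac (X.scheme.homOfLE hY) _ (X.scheme.homOfLE_ι hY) (P.i w)).1 hw
  rw [Scheme.Opens.range_ι] at h1
  have h2 : P.Y.ι (P.i w) = (clι X C) (P.W.ι w) := by
    rw [← Scheme.Hom.comp_apply, P.i_fac, Scheme.Hom.comp_apply]
  rw [h2] at h1
  have h3 : P.W.ι w ∈ P'.W := (P'.hW _).2 h1
  have := (mem_range_iff_of_fac ((clSch X C).homOfLE (W_le_of_Y_le P P' hY)) _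
    ((clSch X C).homOfLE_ι _) w).2 (by rw [Scheme.Opens.range_ι]; exact h3)
  exact this

/-- push-forward from the closed part commutes with restriction to a smaller piece -/
theorem push_restrict (P P' : KPiece X C) (hY : P'.Y ≤ P.Y) (hdW)
    (hd : WeilCoh.dim (P'.Y : Scheme.{u}) = WeilCoh.dim (P.Y : Scheme.{u}))
    (M : A.Cat) (i n i' n' : ℤ)
    (hi : i' = i + 2 * relCodim P.G.scheme (X.res P.Y).scheme)
    (hn : n' = n + relCodim P.G.scheme (X.res P.Y).scheme)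
    (hi' : i' = i + 2 * relCodim P'.G.scheme (X.res P'.Y).scheme)
    (hn' : n' = n + relCodim P'.G.scheme (X.res P'.Y).scheme)
    (c : T.gp P.G M i n) :
    (T.pull (X.resLE hY hd) M i' n').hom
        ((T.push (X := P.G) (Y := X.res P.Y) P.i M i n i' n' hi hn).hom c) =
      (T.push (X := P'.G) (Y := X.res P'.Y) P'.i M i n i' n' hi' hn').hom
        ((T.pull (gW P P' hY hdW) M i n).hom c) := by
  have := T.push_pull (X := P.G) (Y := X.res P.Y) (X' := P'.G) (Y' := X.res P'.Y) P.i P'.i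
    (X.resLE hY hd) (gW P P' hY hdW) (isPullback_restrict P P' hY hdW) M i n i' n' hi hn hi' hn'
  exact congrArg (fun φ => φ.hom c) this

/-- residues of pieces commute with restriction to a smaller piece -/
theorem res_restrict (P P' : KPiece X C) (hY : P'.Y ≤ P.Y) (hdW)
    (hdU : WeilCoh.dim (cU X C : Scheme.{u}) = WeilCoh.dim X.scheme)
    (M : A.Cat) (i n i' n' : ℤ)
    (hi : i' = i + 1 - 2 * (P.decomp hdU).codim) (hn : n' = n - (P.decomp hdU).codim)
    (hi' : i' = i + 1 - 2 * (P'.decomp hdU).codim) (hn' : n' = n - (P'.decomp hdU).codim)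
    (a : T.gp (X.res (cU X C)) M i n) :
    (T.pull (gW P P' hY hdW) M i' n').hom
        ((T.res (P.decomp hdU) M i n i' n' hi hn).hom a) =
      (T.res (P'.decomp hdU) M i n i' n' hi' hn').hom a := by
  have hZ : (gW P P' hY hdW : (P'.decomp hdU).Z ⟶ (P.decomp hdU).Z).hom ≫ (P.decomp hdU).i =
      (P'.decomp hdU).i ≫ (X.resLE hY ((P'.dimY hdU).trans (P.dimY hdU).symm)).hom :=
    i_comm P P' hY hdW
  have hUU : (𝟙 (X.res (cU X C)) : (P'.decomp hdU).U ⟶ (P.decomp hdU).U) ≫ (P.decomp hdU).j =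
      (P'.decomp hdU).j ≫ X.resLE hY ((P'.dimY hdU).trans (P.dimY hdU).symm) := by
    apply Hom.ext
    change 𝟙 _ ≫ X.scheme.homOfLE P.hUY = X.scheme.homOfLE P'.hUY ≫ X.scheme.homOfLE hY
    rw [Category.id_comp, Scheme.homOfLE_homOfLE]
  have := T.res_pull (P.decomp hdU) (P'.decomp hdU)
    (X.resLE hY ((P'.dimY hdU).trans (P.dimY hdU).symm))
    (gW P P' hY hdW) (𝟙 _) hZ hUU M i n i' n' hi hn hi' hn'
  have h2 := congrArg (fun φ => φ.hom a) this
  change (T.pull (gW P P' hY hdW) M i' n').hom ((T.res (P.decomp hdU) M i n i' n' hi hn).hom a) =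
    (T.res (P'.decomp hdU) M i n i' n' hi' hn').hom
      ((T.pull (𝟙 (X.res (cU X C))) M i n).hom a) at h2
  rw [pull_id_apply] at h2
  exact h2

theorem relCodim_eq (P : KPiece X C) {j : ℕ}
    (hdZ : WeilCoh.dim (clSch X C) + (j + 1) = WeilCoh.dim X.scheme)
    (hdU : WeilCoh.dim (cU X C : Scheme.{u}) = WeilCoh.dim X.scheme)
    (hdW : WeilCoh.dim (P.W : Scheme.{u}) = WeilCoh.dim (clSch X C)) :
    relCodim P.G.scheme (X.res P.Y).scheme = (j : ℤ) + 1 := by
  have h1 := P.dimY hdU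
  unfold relCodim
  change ((WeilCoh.dim (P.Y : Scheme.{u}) : ℕ) : ℤ) - ((WeilCoh.dim (P.W : Scheme.{u}) : ℕ) : ℤ) = _
  omega

end KPiece

theorem isCofiltered_fj (Z : Obj V) (m : ℕ) : IsCofiltered (Idx Z (ContainsFj Z m)) :=
  inferInstance

/-- surjectivity step: a class on the complement of `C` extends to `F_{j+1+m} X` when the groups
of `F_m C` vanish in the residue bidegree -/
theorem exists_lift_of_closed {X : Obj V} (C : Closeds X.scheme) {j : ℕ} (m : ℕ)
    (hdZ : WeilCoh.dim (clSch X C) + (j + 1) = WeilCoh.dim X.scheme)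
    (hFU : ContainsFj X j (cU X C)) (M : A.Cat) (i n i' n' : ℤ)
    (hi : i' = i + 1 - 2 * ((j : ℤ) + 1)) (hn : n' = n - ((j : ℤ) + 1))
    (hvan : ∀ β : T.fjGp (clObj X C) m M i' n', β = 0)
    (a₁ : T.gp (X.res (cU X C)) M i n) :
    ∃ β : T.fjGp X (j + 1 + m) M i n,
      ((T.fjRes X ((Nat.le_succ j).trans (Nat.le_add_right (j + 1) m)) i n).app M).hom β =
        ((T.fjι X j i n ⟨cU X C, hFU, dim_eq_of_containsFj X j _ hFU⟩).app M).hom a₁ := by
  have hdU := dim_eq_of_containsFj X j _ hFU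
  let P₀ : KPiece X C := KPiece.ofWIn ⊤ ⊤ (fun _ _ => trivial) le_top
  have hdW₀ : WeilCoh.dim (P₀.W : Scheme.{u}) = WeilCoh.dim (clSch X C) := dim_top _
  have hc₀ := P₀.relCodim_eq hdZ hdU hdW₀
  have hiD : i' = i + 1 - 2 * (P₀.decomp hdU).codim := by
    change i' = i + 1 - 2 * relCodim P₀.G.scheme (X.res P₀.Y).scheme
    rw [hc₀]; exact hi
  have hnD : n' = n - (P₀.decomp hdU).codim := by
    change n' = n - relCodim P₀.G.scheme (X.res P₀.Y).scheme
    rw [hc₀]; exact hn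
  haveI := isCofiltered_fj (clObj X C) m
  have hr := hvan (((T.fjι (clObj X C) m i' n' ⟨⊤, fun _ _ => trivial, dim_top _⟩).app M).hom
    ((T.res (P₀.decomp hdU) M i n i' n' hiD hnD).hom a₁))
  obtain ⟨Z', hle, hz⟩ := (ocolim_eq_zero_iff T (clObj X C) (ContainsFj (clObj X C) m) i' n' M
    (U := ⟨⊤, fun _ _ => trivial, dim_top _⟩) _).1 hr
  let P₁ : KPiece X C := KPiece.ofWIn Z'.1 ⊤ (fun _ _ => trivial) le_top
  have hY : P₁.Y ≤ P₀.Y := fun y _ => ⟨trivial, by rintro ⟨z, hz, _⟩; exact hz trivial⟩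
  have hdW₁ : WeilCoh.dim (P₁.W : Scheme.{u}) = WeilCoh.dim (clSch X C) := Z'.2.2
  have hdW : WeilCoh.dim (P₁.W : Scheme.{u}) = WeilCoh.dim (P₀.W : Scheme.{u}) :=
    hdW₁.trans hdW₀.symm
  have hc₁ := P₁.relCodim_eq hdZ hdU hdW₁
  have hiD' : i' = i + 1 - 2 * (P₁.decomp hdU).codim := by
    change i' = i + 1 - 2 * relCodim P₁.G.scheme (X.res P₁.Y).scheme
    rw [hc₁]; exact hi
  have hnD' : n' = n - (P₁.decomp hdU).codim := by
    change n' = n - relCodim P₁.G.scheme (X.res P₁.Y).scheme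
    rw [hc₁]; exact hn
  have h1 := KPiece.res_restrict (T := T) P₀ P₁ hY hdW hdU M i n i' n' hiD hnD hiD' hnD' a₁
  have hz' : (T.pull (KPiece.gW P₀ P₁ hY hdW) M i' n').hom
      ((T.res (P₀.decomp hdU) M i n i' n' hiD hnD).hom a₁) = 0 := hz
  rw [hz'] at h1
  obtain ⟨a', ha'⟩ := (T.exact_pull_res (P₁.decomp hdU) M i n i' n' hiD' hnD' a₁).1 h1.symm
  have hF₁ : ContainsFj X (j + 1 + m) P₁.Y :=
    KPiece.containsFj_ofWIn hdZ Z'.1 Z'.2.1 ⊤ _ _ (fun _ _ => trivial)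
  refine ⟨((T.fjι X (j + 1 + m) i n ⟨P₁.Y, hF₁, P₁.dimY hdU⟩).app M).hom a', ?_⟩
  have h2 := ocolimMap_ι T X
    (containsFj_mono X ((Nat.le_succ j).trans (Nat.le_add_right (j + 1) m))) i n M
    ⟨P₁.Y, hF₁, P₁.dimY hdU⟩ a'
  refine h2.trans ?_
  have h3 := ocolimι_pull T X (ContainsFj X j) i n M
    (U := ⟨P₁.Y, containsFj_mono X ((Nat.le_succ j).trans (Nat.le_add_right (j + 1) m)) _ hF₁,
      P₁.dimY hdU⟩)
    (U' := ⟨cU X C, hFU, hdU⟩) P₁.hUY (hdU.trans (P₁.dimY hdU).symm) a'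
  rw [← h3]
  congr 1

/-- injectivity step: a class on `Y₀ ⊇ F_{j+1+m} X` vanishing on the complement of `C` vanishes in
`H(F_{j+1+m} X)` when the groups of `F_m C` vanish in the source bidegree of the push-forward -/
theorem fjι_eq_zero_of_closed {X : Obj V} (C : Closeds X.scheme) {j : ℕ} (m : ℕ)
    (hdZ : WeilCoh.dim (clSch X C) + (j + 1) = WeilCoh.dim X.scheme)
    (hFU : ContainsFj X j (cU X C)) (M : A.Cat) (k n i' n' : ℤ)
    (hi : i' = k + 1 - 2 * ((j : ℤ) + 1)) (hn : n' = n - ((j : ℤ) + 1))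
    (hvan : ∀ β : T.fjGp (clObj X C) m M i' n', β = 0)
    (Y₀ : Idx X (ContainsFj X (j + 1 + m))) (hUY : cU X C ≤ Y₀.1)
    (b : T.gp (X.res Y₀.1) M (k + 1) n)
    (hb : (T.pull (X.resLE hUY ((dim_eq_of_containsFj X j _ hFU).trans Y₀.2.2.symm)) M
      (k + 1) n).hom b = 0) :
    ((T.fjι X (j + 1 + m) (k + 1) n Y₀).app M).hom b = 0 := by
  have hdU := dim_eq_of_containsFj X j _ hFU
  let P₀ : KPiece X C := KPiece.ofOpen Y₀.1 hUY
  have hFW₀ : ContainsFj (clObj X C) m P₀.W := KPiece.containsFj_ofOpen hdZ _ _ Y₀.2.1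
  have hdW₀ : WeilCoh.dim (P₀.W : Scheme.{u}) = WeilCoh.dim (clSch X C) :=
    dim_eq_of_containsFj (clObj X C) m _ hFW₀
  have hc₀ := P₀.relCodim_eq hdZ hdU hdW₀
  have hi' : k + 1 = i' + 2 * relCodim (P₀.decomp hdU).Z.scheme (X.res P₀.Y).scheme := by
    change k + 1 = i' + 2 * relCodim P₀.G.scheme (X.res P₀.Y).scheme
    rw [hc₀, hi]; ring
  have hn' : n = n' + relCodim (P₀.decomp hdU).Z.scheme (X.res P₀.Y).scheme := by
    change n = n' + relCodim P₀.G.scheme (X.res P₀.Y).scheme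
    rw [hc₀, hn]; ring
  obtain ⟨c, hc⟩ := (T.exact_push_pull (P₀.decomp hdU) M k n i' n' hi' hn' b).1 hb
  haveI := isCofiltered_fj (clObj X C) m
  have hr := hvan (((T.fjι (clObj X C) m i' n' ⟨P₀.W, hFW₀, hdW₀⟩).app M).hom c)
  obtain ⟨Z'', hle, hz⟩ := (ocolim_eq_zero_iff T (clObj X C) (ContainsFj (clObj X C) m) i' n' M
    (U := ⟨P₀.W, hFW₀, hdW₀⟩) _).1 hr
  let P₁ : KPiece X C := KPiece.ofWIn Z''.1 Y₀.1 (fun z hz => hle hz) hUY
  have hY : P₁.Y ≤ P₀.Y := inf_le_left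
  have hdW₁ : WeilCoh.dim (P₁.W : Scheme.{u}) = WeilCoh.dim (clSch X C) := Z''.2.2
  have hdW : WeilCoh.dim (P₁.W : Scheme.{u}) = WeilCoh.dim (P₀.W : Scheme.{u}) :=
    hdW₁.trans hdW₀.symm
  have hc₁ := P₁.relCodim_eq hdZ hdU hdW₁
  have hi'' : k + 1 = i' + 2 * relCodim P₁.G.scheme (X.res P₁.Y).scheme := by
    rw [hc₁, hi]; ring
  have hn'' : n = n' + relCodim P₁.G.scheme (X.res P₁.Y).scheme := by
    rw [hc₁, hn]; ring
  have hF₁ : ContainsFj X (j + 1 + m) P₁.Y :=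
    KPiece.containsFj_ofWIn hdZ Z''.1 Z''.2.1 Y₀.1 _ _ Y₀.2.1
  have hd : WeilCoh.dim (P₁.Y : Scheme.{u}) = WeilCoh.dim (P₀.Y : Scheme.{u}) :=
    (P₁.dimY hdU).trans (P₀.dimY hdU).symm
  have h1 := KPiece.push_restrict (T := T) P₀ P₁ hY hdW hd M i' n' (k + 1) n hi' hn' hi'' hn'' c
  have hz' : (T.pull (KPiece.gW P₀ P₁ hY hdW) M i' n').hom c = 0 := hz
  rw [hz', map_zero] at h1
  have hc' : (T.push (X := P₀.G) (Y := X.res P₀.Y) P₀.i M i' n' (k + 1) n hi' hn').hom c = b := hc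
  rw [hc'] at h1
  have h3 := ocolimι_pull T X (ContainsFj X (j + 1 + m)) (k + 1) n M (U := Y₀)
    (U' := ⟨P₁.Y, hF₁, P₁.dimY hdU⟩) hY hd b
  rw [← h3]
  exact (congrArg (fun t => ((T.ocolimι X (ContainsFj X (j + 1 + m)) (k + 1) n
    ⟨P₁.Y, hF₁, P₁.dimY hdU⟩).app M).hom t) h1).trans (map_zero _)

/-- the bijectivity criterion for `H^i(F_{j+1+m} X) → H^i(F_j X)` in terms of the groups of
`F_m Z` for the reduced closed subschemes `Z` of codimension `j + 1` -/
theorem fjRes_bijective_of_closed (T : PreTheory V R A) (X : Obj V) (M : A.Cat) (j m : ℕ)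
    (i n : ℤ)
    (hZ : ∀ C : Closeds X.scheme, WeilCoh.dim (clSch X C) + (j + 1) = WeilCoh.dim X.scheme →
      (∀ β : T.fjGp (clObj X C) m M (i - 2 * ((j : ℤ) + 1)) (n - ((j : ℤ) + 1)), β = 0) ∧
      (∀ β : T.fjGp (clObj X C) m M (i + 1 - 2 * ((j : ℤ) + 1)) (n - ((j : ℤ) + 1)), β = 0)) :
    Function.Bijective
      ((T.fjRes X ((Nat.le_succ j).trans (Nat.le_add_right (j + 1) m)) i n).app M).hom := by
  by_cases hd : WeilCoh.dim X.scheme ≤ j
  · have h1 := Groth.Agent.Lib.Helper81.BMLevels.toFj_bijective_of_dim_le T X M j hd i n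
    have h2 := Groth.Agent.Lib.Helper81.BMLevels.toFj_bijective_of_dim_le T X M (j + 1 + m)
      (by omega) i n
    have h3 : ((T.fjRes X ((Nat.le_succ j).trans (Nat.le_add_right (j + 1) m)) i n).app M).hom ∘
        ((T.toFj X (j + 1 + m) i n).app M).hom = ((T.toFj X j i n).app M).hom :=
      funext (fun a => Groth.Agent.Lib.Helper81.BMLevels.fjRes_toFj T X _ i n M a)
    exact (Function.Bijective.of_comp_iff _ h2).1 (h3 ▸ h1)
  · push Not at hd
    haveI : Nonempty X.scheme := by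
      by_contra hne
      rw [not_nonempty_iff] at hne
      have : WeilCoh.dim X.scheme = 0 := natDim_of_isEmpty _
      omega
    obtain ⟨x₀, hx₀⟩ := exists_pd_eq_of_le (T := X.scheme) (finDim X)
      (WeilCoh.dim X.scheme - (j + 1)) (Nat.sub_le _ _)
    have hcx₀ : WeilCoh.codim X.scheme x₀ = j + 1 := by
      have : WeilCoh.pdim X.scheme x₀ = WeilCoh.dim X.scheme - (j + 1) := hx₀
      unfold WeilCoh.codim
      omega
    have key : ∀ U : Idx X (ContainsFj X j), ∃ C : Closeds X.scheme,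
        WeilCoh.dim (clSch X C) + (j + 1) = WeilCoh.dim X.scheme ∧ ContainsFj X j (cU X C) ∧
          cU X C ≤ U.1 := by
      intro U
      let C : Closeds X.scheme := ⟨(U.1 : Set X.scheme)ᶜ ∪ closure {x₀},
        U.1.isOpen.isClosed_compl.union isClosed_closure⟩
      have hC : ∀ y ∈ C, j + 1 ≤ WeilCoh.codim X.scheme y := by
        rintro y (hy | hy)
        · by_contra h
          exact hy (U.2.1 y (by omega))
        · have := codim_le_of_specializes X (specializes_iff_mem_closure.2 hy)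
          omega
      refine ⟨C, dim_clSch X C hC x₀ (Or.inr (subset_closure rfl)) hcx₀, ?_, ?_⟩
      · intro y hy hyC
        have := hC y hyC
        omega
      · intro y hy
        by_contra h
        exact hy (Or.inl h)
    constructor
    · rw [injective_iff_map_eq_zero]
      intro β hβ
      obtain ⟨k, rfl⟩ : ∃ k, i = k + 1 := ⟨i - 1, by ring⟩
      obtain ⟨Y₀, b, rfl⟩ := ocolim_rep T X (ContainsFj X (j + 1 + m)) (k + 1) n M β
      have h1 := ocolimMap_ι T X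
        (containsFj_mono X ((Nat.le_succ j).trans (Nat.le_add_right (j + 1) m))) (k + 1) n M Y₀ b
      have h2 := h1.symm.trans hβ
      obtain ⟨U, hUle, hz⟩ := (ocolim_eq_zero_iff T X (ContainsFj X j) (k + 1) n M
        (U := ⟨Y₀.1, containsFj_mono X ((Nat.le_succ j).trans (Nat.le_add_right (j + 1) m)) _
          Y₀.2.1, Y₀.2.2⟩) b).1 h2
      obtain ⟨C, hdZ, hFU, hCU⟩ := key U
      have hdU := dim_eq_of_containsFj X j _ hFU
      apply fjι_eq_zero_of_closed C m hdZ hFU M k n _ _ rfl rfl (hZ C hdZ).1 Y₀ (hCU.trans hUle) b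
      have h3 : X.resLE (hCU.trans hUle) (hdU.trans Y₀.2.2.symm) =
          X.resLE hCU (hdU.trans U.2.2.symm) ≫ X.resLE hUle (U.2.2.trans Y₀.2.2.symm) :=
        (resLE_comp X _ _ _ _ _).symm
      rw [h3, pull_comp_apply]
      exact (congrArg _ hz).trans (map_zero _)
    · intro α
      obtain ⟨U, a, rfl⟩ := ocolim_rep T X (ContainsFj X j) i n M α
      obtain ⟨C, hdZ, hFU, hCU⟩ := key U
      have hdU := dim_eq_of_containsFj X j _ hFU
      obtain ⟨β, hβ⟩ := exists_lift_of_closed (T := T) C m hdZ hFU M i n _ _ rfl rfl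
        (hZ C hdZ).2 ((T.pull (X.resLE hCU (hdU.trans U.2.2.symm)) M i n).hom a)
      refine ⟨β, hβ.trans ?_⟩
      exact ocolimι_pull T X (ContainsFj X j) i n M (U := U) (U' := ⟨cU X C, hFU, hdU⟩) hCU
        (hdU.trans U.2.2.symm) a

end Groth.Agent.Lib.Helper79.BM

end
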