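import Groth.Prelude.Def_WeilCoh
import Groth.Agent.Lib.Helper29.TopDim
import Groth.Agent.Lib.Helper29.TopDimZero
import Mathlib

/-!
# Topological dimension lemmas for `WeilCoh.natDim` (helper79, BMCoh family)
-/

set_option autoImplicit false
universe u

namespace Groth.Agent.Lib.Helper79.BMTop

open TopologicalSpace Order Set Topology

variable {T : Type u} [TopologicalSpace T]

theorem unbotD_toNat_mono {s t : WithBot ℕ∞} (h : s ≤ t) (ht : t < ⊤) :
    (s.unbotD 0).toNat ≤ (t.unbotD 0).toNat := by
  induction s using WithBot.recBotCoe with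
  | bot => simp
  | coe a =>
    induction t using WithBot.recBotCoe with
    | bot => simp at h
    | coe b =>
      have hb : b ≠ ⊤ := by
        rintro rfl; exact (lt_irrefl _ ht)
      have hab : a ≤ b := by exact_mod_cast h
      simpa using ENat.toNat_le_toNat hab hb

/-- `natDim` is monotone along inducing maps into finite-dimensional spaces. -/
theorem natDim_le_of_isInducing {S : Type u} [TopologicalSpace S] {f : S → T}
    (hf : IsInducing f) (hfin : topologicalKrullDim T < ⊤) :
    WeilCoh.natDim S ≤ WeilCoh.natDim T :=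
  unbotD_toNat_mono hf.topologicalKrullDim_le hfin

theorem natDim_subtype_le (S : Set T) (hfin : topologicalKrullDim T < ⊤) :
    WeilCoh.natDim S ≤ WeilCoh.natDim T :=
  natDim_le_of_isInducing IsInducing.subtypeVal hfin

theorem dim_subtype_lt_top (S : Set T) (hfin : topologicalKrullDim T < ⊤) :
    topologicalKrullDim S < ⊤ :=
  lt_of_le_of_lt (topologicalKrullDim_subspace_le T S) hfin

theorem natDim_mono {A B : Set T} (h : A ⊆ B) (hfin : topologicalKrullDim T < ⊤) :
    WeilCoh.natDim A ≤ WeilCoh.natDim B :=
  natDim_le_of_isInducing (f := Set.inclusion h) (IsInducing.of_comp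
    (continuous_inclusion h) continuous_subtype_val (by
      have : (Subtype.val : B → T) ∘ Set.inclusion h = (Subtype.val : A → T) := rfl
      rw [this]; exact IsInducing.subtypeVal)) (dim_subtype_lt_top B hfin)

/-- the dimension as an element of `WithBot ℕ∞` is the cast of `natDim`, for nonempty
finite-dimensional spaces. -/
theorem coe_natDim [Nonempty T] (hfin : topologicalKrullDim T < ⊤) :
    ((WeilCoh.natDim T : ℕ) : WithBot ℕ∞) = topologicalKrullDim T := by
  unfold WeilCoh.natDim
  have h0 : (0 : WithBot ℕ∞) ≤ topologicalKrullDim T :=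
    Groth.Agent.Lib.Helper29.topologicalKrullDim_nonneg
  generalize topologicalKrullDim T = t at *
  induction t using WithBot.recBotCoe with
  | bot => simp at h0
  | coe b =>
    have hb : b ≠ ⊤ := by
      rintro rfl; exact (lt_irrefl _ hfin)
    lift b to ℕ using hb
    simp

theorem natDim_homeomorph {S : Type u} [TopologicalSpace S] (e : S ≃ₜ T) :
    WeilCoh.natDim S = WeilCoh.natDim T := by
  unfold WeilCoh.natDim
  rw [IsHomeomorph.topologicalKrullDim_eq _ e.isHomeomorph]

/-- the dimension of the closure of a point -/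
noncomputable def pd (x : T) : ℕ := WeilCoh.natDim ↥(closure ({x} : Set T))

theorem pd_le_natDim (hfin : topologicalKrullDim T < ⊤) (x : T) : pd x ≤ WeilCoh.natDim T :=
  natDim_subtype_le _ hfin

theorem pd_mono (hfin : topologicalKrullDim T < ⊤) {x y : T} (h : x ⤳ y) : pd y ≤ pd x :=
  natDim_mono (isClosed_closure.closure_subset_iff.2 (by
      intro z hz; rw [Set.mem_singleton_iff] at hz; subst hz; exact h.mem_closure)) hfin

theorem pd_lt [T0Space T] (hfin : topologicalKrullDim T < ⊤) {x y : T} (h : x ⤳ y)
    (hne : x ≠ y) : pd y < pd x := by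
  have hAB : closure ({y} : Set T) ⊆ closure ({x} : Set T) :=
    isClosed_closure.closure_subset_iff.2 (by
      intro z hz; rw [Set.mem_singleton_iff] at hz; subst hz; exact h.mem_closure)
  have hne' : closure ({y} : Set T) ≠ closure ({x} : Set T) := by
    intro heq
    apply hne
    have h2 : y ⤳ x := by
      rw [specializes_iff_mem_closure, heq]; exact subset_closure rfl
    exact (h.antisymm h2).eq
  have : Nonempty ↥(closure ({y} : Set T)) := ⟨⟨y, subset_closure rfl⟩⟩
  have : Nonempty ↥(closure ({x} : Set T)) := ⟨⟨x, subset_closure rfl⟩⟩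
  have hA := coe_natDim (T := ↥(closure ({y} : Set T))) (dim_subtype_lt_top _ hfin)
  have hB := coe_natDim (T := ↥(closure ({x} : Set T))) (dim_subtype_lt_top _ hfin)
  obtain ⟨l, hl⟩ := (Order.le_krullDim_iff (α := IrreducibleCloseds ↥(closure ({y} : Set T)))
    (n := WeilCoh.natDim ↥(closure ({y} : Set T)))).1 (by
      rw [← topologicalKrullDim] ; exact hA.le)
  let l' : LTSeries (IrreducibleCloseds T) :=
    l.map (IrreducibleCloseds.map Subtype.val continuous_subtype_val)
      (IrreducibleCloseds.map_strictMono_of_isInducing IsInducing.subtypeVal)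
  let B' : IrreducibleCloseds T :=
    ⟨closure {x}, isIrreducible_singleton.closure, isClosed_closure⟩
  have hlast : l'.last < B' := by
    have hsub : (l'.last : Set T) ⊆ closure ({y} : Set T) := by
      change closure (Subtype.val '' (l.last : Set ↥(closure ({y} : Set T)))) ⊆ _
      apply isClosed_closure.closure_subset_iff.2
      rintro _ ⟨z, _, rfl⟩
      exact z.2
    refine lt_of_le_of_ne (fun z hz => hAB (hsub hz)) ?_
    intro heq
    apply hne'
    apply Set.Subset.antisymm hAB
    have : (B' : Set T) = (l'.last : Set T) := by rw [heq]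
    intro z hz
    apply hsub
    rw [← this]; exact hz
  let p : LTSeries (IrreducibleCloseds T) := l'.snoc B' hlast
  have hp : (p.length : WithBot ℕ∞) ≤ topologicalKrullDim ↥(closure ({x} : Set T)) := by
    apply Groth.Agent.Lib.Helper29.length_le_dim_of_subset
    simp [p, B']
  rw [← hB] at hp
  have : p.length = l.length + 1 := by simp [p, l']
  rw [this, hl] at hp
  unfold pd
  have h3 : ((WeilCoh.natDim ↥(closure ({y} : Set T)) + 1 : ℕ) : WithBot ℕ∞) ≤
      ((WeilCoh.natDim ↥(closure ({x} : Set T)) : ℕ) : WithBot ℕ∞) := by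
    simpa using hp
  have h4 : WeilCoh.natDim ↥(closure ({y} : Set T)) + 1 ≤ WeilCoh.natDim ↥(closure ({x} : Set T)) := by
    exact_mod_cast h3
  omega

theorem exists_pd_eq [Nonempty T] [QuasiSober T] (hfin : topologicalKrullDim T < ⊤) :
    ∃ x : T, pd x = WeilCoh.natDim T := by
  have hT := coe_natDim (T := T) hfin
  obtain ⟨l, hl⟩ := (Order.le_krullDim_iff (α := IrreducibleCloseds T)
    (n := WeilCoh.natDim T)).1 (by rw [← topologicalKrullDim]; exact hT.le)
  let x : T := l.last.isIrreducible.genericPoint
  have hx : closure ({x} : Set T) = (l.last : Set T) := by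
    have := l.last.isIrreducible.isGenericPoint_genericPoint_closure
    rw [l.last.isClosed.closure_eq] at this
    exact this
  refine ⟨x, le_antisymm (pd_le_natDim hfin x) ?_⟩
  have : Nonempty ↥(closure ({x} : Set T)) := ⟨⟨x, subset_closure rfl⟩⟩
  have hB := coe_natDim (T := ↥(closure ({x} : Set T))) (dim_subtype_lt_top _ hfin)
  have hp : (l.length : WithBot ℕ∞) ≤ topologicalKrullDim ↥(closure ({x} : Set T)) := by
    apply Groth.Agent.Lib.Helper29.length_le_dim_of_subset
    rw [hx]
  rw [← hB, hl] at hp
  unfold pd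
  exact_mod_cast hp

/-- Local structure of a closed set near a point of maximal dimension. -/
theorem exists_closed_compl [QuasiSober T] [T0Space T] [NoetherianSpace T]
    (hfin : topologicalKrullDim T < ⊤) {C : Set T} (hC : IsClosed C) {x : T} (hx : x ∈ C)
    (hmax : ∀ y ∈ C, pd y ≤ pd x) :
    ∃ C' : Set T, IsClosed C' ∧ C' ⊆ C ∧ x ∉ C' ∧ C \ closure {x} ⊆ C' := by
  obtain ⟨S, hSf, hSc, hSi, hSU⟩ := NoetherianSpace.exists_finite_set_isClosed_irreducible hC
  refine ⟨⋃₀ {t ∈ S | x ∉ t}, ?_, ?_, ?_, ?_⟩
  · rw [Set.sUnion_eq_biUnion]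
    exact (hSf.subset (fun t (ht : t ∈ {t ∈ S | x ∉ t}) => ht.1)).isClosed_biUnion
      (fun t ht => hSc t ht.1)
  · rw [hSU]
    exact Set.sUnion_subset_sUnion (fun t ht => ht.1)
  · rintro ⟨t, ⟨_, hxt⟩, hxt'⟩
    exact hxt hxt'
  · rintro y ⟨hyC, hyx⟩
    rw [hSU] at hyC
    obtain ⟨t, htS, hyt⟩ := hyC
    refine ⟨t, ⟨htS, ?_⟩, hyt⟩
    intro hxt
    apply hyx
    let η : T := (hSi t htS).genericPoint
    have hη : closure ({η} : Set T) = t := by
      have := (hSi t htS).isGenericPoint_genericPoint_closure
      rw [(hSc t htS).closure_eq] at this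
      exact this
    have hηC : η ∈ C := by
      rw [hSU]; exact ⟨t, htS, by rw [← hη]; exact subset_closure rfl⟩
    have hsp : η ⤳ x := by
      rw [specializes_iff_mem_closure, hη]; exact hxt
    have : η = x := by
      by_contra hne
      have := pd_lt hfin hsp hne
      have := hmax η hηC
      omega
    rw [← this, hη]; exact hyt

theorem finite_pd_eq [QuasiSober T] [T0Space T] [NoetherianSpace T]
    (hfin : topologicalKrullDim T < ⊤) {C : Set T} (hC : IsClosed C) (d : ℕ)
    (hmax : ∀ y ∈ C, pd y ≤ d) : {x ∈ C | pd x = d}.Finite := by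
  obtain ⟨S, hSf, hSc, hSi, hSU⟩ := NoetherianSpace.exists_finite_set_isClosed_irreducible hC
  have hsub : {x ∈ C | pd x = d} ⊆ ⋃ t ∈ S, {x | closure ({x} : Set T) = t} := by
    rintro x ⟨hxC, hxd⟩
    rw [hSU] at hxC
    obtain ⟨t, htS, hxt⟩ := hxC
    simp only [Set.mem_iUnion, Set.mem_ofPred_eq]
    refine ⟨t, htS, ?_⟩
    let η : T := (hSi t htS).genericPoint
    have hη : closure ({η} : Set T) = t := by
      have := (hSi t htS).isGenericPoint_genericPoint_closure
      rw [(hSc t htS).closure_eq] at this
      exact this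
    have hηC : η ∈ C := by
      rw [hSU]; exact ⟨t, htS, by rw [← hη]; exact subset_closure rfl⟩
    have hsp : η ⤳ x := by
      rw [specializes_iff_mem_closure, hη]; exact hxt
    have : η = x := by
      by_contra hne
      have := pd_lt hfin hsp hne
      have := hmax η hηC
      omega
    rw [← this, hη]
  refine (hSf.biUnion (fun t _ => ?_)).subset hsub
  apply Set.Subsingleton.finite
  intro a ha b hb
  simp only [Set.mem_ofPred_eq] at ha hb
  have h1 : a ⤳ b := by rw [specializes_iff_mem_closure, ha, ← hb]; exact subset_closure rfl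
  have h2 : b ⤳ a := by rw [specializes_iff_mem_closure, hb, ← ha]; exact subset_closure rfl
  exact (h1.antisymm h2).eq

end Groth.Agent.Lib.Helper79.BMTop
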