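import Groth.Prelude.Def_BMCoh3
import Groth.Agent.Lib.Helper79.BMTop
import Mathlib

/-!
# Dimension and codimension in objects of a constructible class (helper79, BMCoh family)
-/

set_option autoImplicit false
universe u

namespace Groth.Agent.Lib.Helper79.BM

open AlgebraicGeometry CategoryTheory CategoryTheory.Limits Opposite TopologicalSpace BMCoh
open Groth.Agent.Lib.Helper79.BMTop

variable {V : ObjectProperty Scheme.{u}} [IsConstructible V]

theorem finDim (X : Obj V) : topologicalKrullDim X.scheme < ⊤ := IsConstructible.finiteDim X.mem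

instance instNoeth (X : Obj V) : IsNoetherian X.scheme := IsConstructible.isNoetherian X.mem

instance instIrr (X : Obj V) (x : X.scheme) : IrreducibleSpace (X.ptSub x).scheme :=
  Subtype.irreducibleSpace (isIrreducible_singleton (x := x)).closure

theorem natDim_of_isEmpty (T : Type u) [TopologicalSpace T] [IsEmpty T] : WeilCoh.natDim T = 0 := by
  unfold WeilCoh.natDim
  have : IsEmpty (IrreducibleCloseds T) := ⟨fun Z => by
    obtain ⟨z, _⟩ := Z.isIrreducible.nonempty
    exact isEmptyElim z⟩
  rw [topologicalKrullDim, Order.krullDim_eq_bot]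
  simp

theorem dim_opens_le (X : Obj V) (U : X.scheme.Opens) :
    WeilCoh.dim (U : Scheme.{u}) ≤ WeilCoh.dim X.scheme :=
  natDim_subtype_le (U : Set X.scheme) (finDim X)

theorem dim_opens_mono (X : Obj V) {U U' : X.scheme.Opens} (h : U ≤ U') :
    WeilCoh.dim (U : Scheme.{u}) ≤ WeilCoh.dim (U' : Scheme.{u}) :=
  natDim_mono (A := (U : Set X.scheme)) (B := (U' : Set X.scheme)) h (finDim X)

theorem pdim_le_dim (X : Obj V) (x : X.scheme) : WeilCoh.pdim X.scheme x ≤ WeilCoh.dim X.scheme :=
  pd_le_natDim (finDim X) x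

/-- the generic point of the reduced closure of `x` -/
def gen (X : Obj V) (x : X.scheme) : (X.ptSub x).scheme := ⟨x, subset_closure rfl⟩

theorem gen_mem_of_nonempty (X : Obj V) (x : X.scheme) (W : (X.ptSub x).scheme.Opens)
    (hW : (W : Set (X.ptSub x).scheme).Nonempty) : gen X x ∈ W := by
  obtain ⟨z, hz⟩ := hW
  have hsp : gen X x ⤳ z :=
    (Topology.IsInducing.subtypeVal.specializes_iff
      (x := (⟨x, subset_closure rfl⟩ : ↥(closure ({x} : Set X.scheme)))) (y := z)).1
      (specializes_iff_mem_closure.2 z.2)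
  exact hsp.mem_open W.isOpen hz

theorem dim_ptOpens (X : Obj V) (x : X.scheme) (W : (X.ptSub x).scheme.Opens)
    (hW : (W : Set (X.ptSub x).scheme).Nonempty) :
    WeilCoh.dim (W : Scheme.{u}) = WeilCoh.pdim X.scheme x :=
  IsConstructible.dim_open (X.ptSub x).mem (instIrr X x) W hW

theorem dim_ptOpens_le (X : Obj V) (U : X.scheme.Opens) (x : X.scheme)
    (W : (X.ptSub x).scheme.Opens) (hWU : ∀ z ∈ W, (X.ptSubι x) z ∈ U) :
    WeilCoh.dim (W : Scheme.{u}) ≤ WeilCoh.dim (U : Scheme.{u}) := by
  let φ : ↥W → ↥U := fun z => ⟨(X.ptSubι x) z.1, hWU z.1 z.2⟩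
  have hc : Continuous φ :=
    ((X.ptSubι x).continuous.comp continuous_subtype_val).subtype_mk _
  have hφ : Topology.IsInducing φ := by
    apply Topology.IsInducing.of_comp hc continuous_subtype_val
    have : (Subtype.val : ↥U → X.scheme) ∘ φ =
        (X.ptSubι x) ∘ (Subtype.val : ↥W → (X.ptSub x).scheme) := rfl
    rw [this]
    exact (X.ptSubι x).isClosedEmbedding.isEmbedding.isInducing.comp
      Topology.IsInducing.subtypeVal
  exact natDim_le_of_isInducing hφ (dim_subtype_lt_top _ (finDim X))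

theorem pdim_le_dim_opens (X : Obj V) (U : X.scheme.Opens) (x : X.scheme) (hx : x ∈ U) :
    WeilCoh.pdim X.scheme x ≤ WeilCoh.dim (U : Scheme.{u}) := by
  have hW : (((X.ptSubι x) ⁻¹ᵁ U : (X.ptSub x).scheme.Opens) :
      Set (X.ptSub x).scheme).Nonempty := ⟨gen X x, hx⟩
  rw [← dim_ptOpens X x _ hW]
  exact dim_ptOpens_le X U x _ (fun z hz => hz)

theorem exists_codim_zero (X : Obj V) [Nonempty X.scheme] :
    ∃ x : X.scheme, WeilCoh.pdim X.scheme x = WeilCoh.dim X.scheme :=
  exists_pd_eq (finDim X)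

theorem dim_eq_of_containsFj (X : Obj V) (j : ℕ) (U : X.scheme.Opens) (hU : ContainsFj X j U) :
    WeilCoh.dim (U : Scheme.{u}) = WeilCoh.dim X.scheme := by
  apply le_antisymm (dim_opens_le X U)
  rcases isEmpty_or_nonempty X.scheme with h | h
  · have : WeilCoh.dim X.scheme = 0 := natDim_of_isEmpty _
    omega
  · obtain ⟨x, hx⟩ := exists_codim_zero X
    rw [← hx]
    apply pdim_le_dim_opens
    apply hU
    unfold WeilCoh.codim
    omega

theorem codim_lt_of_specializes (X : Obj V) {x y : X.scheme} (h : x ⤳ y) (hne : x ≠ y) :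
    WeilCoh.codim X.scheme x < WeilCoh.codim X.scheme y := by
  have h1 : WeilCoh.pdim X.scheme y < WeilCoh.pdim X.scheme x := pd_lt (finDim X) h hne
  have h2 := pdim_le_dim X x
  unfold WeilCoh.codim
  omega

theorem codim_le_of_specializes (X : Obj V) {x y : X.scheme} (h : x ⤳ y) :
    WeilCoh.codim X.scheme x ≤ WeilCoh.codim X.scheme y := by
  by_cases hne : x = y
  · rw [hne]
  · exact (codim_lt_of_specializes X h hne).le

end Groth.Agent.Lib.Helper79.BM
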