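import Groth.Prelude.Def_BMCoh3
import Groth.Agent.Lib.Helper79.BMDim
import Mathlib

/-!
# Elementwise API for the open-system colimits `T.ocolim` (helper79, BMCoh family)
-/

set_option autoImplicit false
universe u

namespace Groth.Agent.Lib.Helper79.BM

open AlgebraicGeometry CategoryTheory CategoryTheory.Limits Opposite TopologicalSpace BMCoh

variable {V : ObjectProperty Scheme.{u}} [IsConstructible V]

instance instNonemptyFj (X : Obj V) (j : ℕ) : Nonempty (Idx X (ContainsFj X j)) :=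
  ⟨⟨⊤, fun _ _ => trivial, dim_top X.scheme⟩⟩

instance instDirectedFj (X : Obj V) (j : ℕ) : IsDirected (Idx X (ContainsFj X j)) (· ≥ ·) :=
  ⟨fun U U' => ⟨⟨U.1 ⊓ U'.1, fun y hy => ⟨U.2.1 y hy, U'.2.1 y hy⟩,
    dim_eq_of_containsFj X j _ (fun y hy => ⟨U.2.1 y hy, U'.2.1 y hy⟩)⟩,
    (inf_le_left : U.1 ⊓ U'.1 ≤ U.1), (inf_le_right : U.1 ⊓ U'.1 ≤ U'.1)⟩⟩

instance instNonemptyPt (X : Obj V) (x : X.scheme) : Nonempty (ptIdx X x) :=
  ⟨⟨⊤, ⟨gen X x, trivial⟩, dim_top _⟩⟩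

instance instDirectedPt (X : Obj V) (x : X.scheme) : IsDirected (ptIdx X x) (· ≥ ·) :=
  ⟨fun U U' =>
    have hne : ((U.1 ⊓ U'.1 : (X.ptSub x).scheme.Opens) : Set (X.ptSub x).scheme).Nonempty :=
      ⟨gen X x, gen_mem_of_nonempty X x U.1 U.2.1, gen_mem_of_nonempty X x U'.1 U'.2.1⟩
    ⟨⟨U.1 ⊓ U'.1, hne, dim_ptOpens X x _ hne⟩,
      (inf_le_left : U.1 ⊓ U'.1 ≤ U.1), (inf_le_right : U.1 ⊓ U'.1 ≤ U'.1)⟩⟩

variable {R : Type u} [CommRing R] {A : Coefs R} (T : PreTheory V R A)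

section General

variable (X : Obj V) (P : X.scheme.Opens → Prop) (i n : ℤ) (M : A.Cat)

/-- the colimit cocone evaluated at `M` -/
noncomputable def evalCocone :
    Cocone (((idxDiag X P).op ⋙ T.H i n) ⋙ (evaluation A.Cat (ModuleCat.{u} R)).obj M) :=
  ((evaluation A.Cat (ModuleCat.{u} R)).obj M).mapCocone
    (colimit.cocone ((idxDiag X P).op ⋙ T.H i n))

noncomputable def evalIsColimit : IsColimit (evalCocone T X P i n M) :=
  isColimitOfPreserves _ (colimit.isColimit _)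

theorem ocolimι_pull {U U' : Idx X P} (h : U'.1 ≤ U.1)
    (hd : WeilCoh.dim (U'.1 : Scheme.{u}) = WeilCoh.dim (U.1 : Scheme.{u}))
    (b : T.gp (X.res U.1) M i n) :
    ((T.ocolimι X P i n U').app M).hom ((T.pull (X.resLE h hd) M i n).hom b) =
      ((T.ocolimι X P i n U).app M).hom b := by
  have hle : U' ≤ U := h
  have := colimit.w ((idxDiag X P).op ⋙ T.H i n) (homOfLE hle).op
  have h2 := congrArg (fun φ => (φ.app M).hom b) this
  exact h2

variable [IsCofiltered (Idx X P)]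

theorem ocolim_rep (a : (T.ocolim X P i n).obj M) :
    ∃ (U : Idx X P) (b : T.gp (X.res U.1) M i n),
      ((T.ocolimι X P i n U).app M).hom b = a := by
  obtain ⟨U, b, hb⟩ := Concrete.isColimit_exists_rep _ (evalIsColimit T X P i n M) a
  exact ⟨U.unop, b, hb⟩

theorem ocolim_eq_iff {U U' : Idx X P} (b : T.gp (X.res U.1) M i n)
    (b' : T.gp (X.res U'.1) M i n) :
    ((T.ocolimι X P i n U).app M).hom b = ((T.ocolimι X P i n U').app M).hom b' ↔
      ∃ (U'' : Idx X P) (h : U''.1 ≤ U.1) (h' : U''.1 ≤ U'.1),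
        (T.pull (X.resLE h (U''.2.2.trans U.2.2.symm)) M i n).hom b =
          (T.pull (X.resLE h' (U''.2.2.trans U'.2.2.symm)) M i n).hom b' := by
  constructor
  · intro h
    obtain ⟨k, f, g, hfg⟩ := (Concrete.isColimit_rep_eq_iff_exists _
      (evalIsColimit T X P i n M) (i := op U) (j := op U') b b').1 h
    exact ⟨k.unop, f.unop.le, g.unop.le, hfg⟩
  · rintro ⟨U'', h, h', e⟩
    rw [← ocolimι_pull T X P i n M h (U''.2.2.trans U.2.2.symm) b,
      ← ocolimι_pull T X P i n M h' (U''.2.2.trans U'.2.2.symm) b', e]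

theorem ocolim_eq_zero_iff {U : Idx X P} (b : T.gp (X.res U.1) M i n) :
    ((T.ocolimι X P i n U).app M).hom b = 0 ↔
      ∃ (U'' : Idx X P) (h : U''.1 ≤ U.1),
        (T.pull (X.resLE h (U''.2.2.trans U.2.2.symm)) M i n).hom b = 0 := by
  have := ocolim_eq_iff T X P i n M b (0 : T.gp (X.res U.1) M i n)
  rw [map_zero] at this
  rw [this]
  constructor
  · rintro ⟨U'', h, h', e⟩
    exact ⟨U'', h, by rw [e, map_zero]⟩
  · rintro ⟨U'', h, e⟩
    exact ⟨U'', h, h, by rw [e, map_zero]⟩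

end General

end Groth.Agent.Lib.Helper79.BM
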