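import Groth.Agent.Lib.Helper79.BMZero
import Mathlib

/-!
# Generalities for the first differential: additivity for pre-theories, restriction of a morphism
to opens, finitely supported elements of direct sums (helper79, BMCoh family)
-/

set_option autoImplicit false
universe u

noncomputable section

namespace Groth.Agent.Lib.Helper79.BM

open AlgebraicGeometry CategoryTheory CategoryTheory.Limits Opposite TopologicalSpace BMCoh

section ResHom

variable {A B : Scheme.{u}} (f : A ⟶ B) (UA : A.Opens) (UB : B.Opens)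
  (h : ∀ a : A, a ∈ UA ↔ f a ∈ UB)

include h in
theorem resHom_range_subset : Set.range (UA.ι ≫ f) ⊆ Set.range UB.ι := by
  rintro _ ⟨a, rfl⟩
  rw [Scheme.Opens.range_ι]
  exact (h a.1).1 a.2

/-- the restriction of a morphism to an open and its preimage (given by a membership criterion) -/
def resHom : (UA : Scheme.{u}) ⟶ (UB : Scheme.{u}) :=
  IsOpenImmersion.lift UB.ι (UA.ι ≫ f) (resHom_range_subset f UA UB h)

@[reassoc]
theorem resHom_ι : resHom f UA UB h ≫ UB.ι = UA.ι ≫ f := IsOpenImmersion.lift_fac _ _ _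

theorem isPullback_resHom : IsPullback UA.ι (resHom f UA UB h) f UB.ι := by
  apply isPullback_of_isOpenImmersion _ _ _ _ (resHom_ι f UA UB h).symm
  intro a ha
  rw [Scheme.Opens.range_ι] at ha ⊢
  exact (h a).2 ha

instance [IsProper f] : IsProper (resHom f UA UB h) :=
  MorphismProperty.of_isPullback (P := @IsProper) (isPullback_resHom f UA UB h) inferInstance

theorem isPullback_resHom_le (UA' : A.Opens) (UB' : B.Opens)
    (h' : ∀ a : A, a ∈ UA' ↔ f a ∈ UB') (hA : UA' ≤ UA) (hB : UB' ≤ UB) :
    IsPullback (A.homOfLE hA) (resHom f UA' UB' h') (resHom f UA UB h) (B.homOfLE hB) := by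
  apply isPullback_of_isOpenImmersion
  · rw [← cancel_mono UB.ι, Category.assoc, Category.assoc, resHom_ι, Scheme.homOfLE_ι,
      resHom_ι, ← Category.assoc, Scheme.homOfLE_ι]
  · intro a ha
    have h1 := (mem_range_iff_of_fac (B.homOfLE hB) _ (B.homOfLE_ι hB) _).1 ha
    rw [Scheme.Opens.range_ι] at h1
    have h2 : UB.ι ((resHom f UA UB h) a) = f (UA.ι a) := by
      rw [← Scheme.Hom.comp_apply, resHom_ι, Scheme.Hom.comp_apply]
    rw [h2] at h1
    refine (mem_range_iff_of_fac (A.homOfLE hA) _ (A.homOfLE_ι hA) a).2 ?_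
    rw [Scheme.Opens.range_ι]
    exact (h' _).2 h1

end ResHom

section DSum

/-- an element of a direct sum vanishing outside a finite set is the sum of its components there -/
theorem dsum_eq_sum {ι : Type*} [DecidableEq ι] {R : Type*} [Semiring R] {β : ι → Type*}
    [∀ i, AddCommMonoid (β i)] [∀ i, Module R (β i)] (ξ : DirectSum ι β) (B : Finset ι)
    (hB : ∀ x, x ∉ B → ξ x = 0) :
    ξ = ∑ x ∈ B, DirectSum.lof R ι β x (ξ x) := by
  classical
  have h := DirectSum.sum_support_of (β := β) ξ
  conv_lhs => rw [← h]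
  have h2 : ∀ x ∈ DFinsupp.support ξ, DirectSum.of β x (ξ x) = DirectSum.lof R ι β x (ξ x) :=
    fun x _ => (DirectSum.lof_eq_of R ι β x (ξ x)).symm
  rw [Finset.sum_congr rfl h2]
  apply Finset.sum_subset
  · intro x hx
    by_contra hxB
    exact (DFinsupp.mem_support_iff.1 hx) (hB x hxB)
  · intro x _ hx
    rw [DFinsupp.notMem_support_iff.1 hx, map_zero]

end DSum

variable {V : ObjectProperty Scheme.{u}} [IsConstructible V]
variable {R : Type u} [CommRing R] {A : Coefs R}

section Additivity

/-- restriction to the two pieces of a clopen decomposition is jointly injective (pre-theories) -/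
theorem pull_prod_injective_pre (T : PreTheory V R A) {X Y W : Obj V} (iX : X ⟶ W) (iY : Y ⟶ W)
    (h : Set.range iX.hom = (Set.range iY.hom)ᶜ) (M : A.Cat) (i n : ℤ)
    (a : T.gp W M i n) (hX : (T.pull iX M i n).hom a = 0) (hY : (T.pull iY M i n).hom a = 0) :
    a = 0 := by
  obtain ⟨k, rfl⟩ : ∃ k, i = k + 1 := ⟨i - 1, by ring⟩
  have hclosed : IsClosed (Set.range iY.hom) := by
    rw [← isOpen_compl_iff, ← h]
    exact iX.hom.isOpenEmbedding.isOpen_range
  have hci : IsClosedImmersion iY.hom := IsClosedImmersion.of_isPreimmersion _ hclosed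
  have hproper : IsProper iY.hom := inferInstance
  let D : BMCoh.Decomp W := ⟨Y, X, iY.hom, hci, iX, h⟩
  have hc : BMCoh.relCodim Y.scheme W.scheme = 0 := relCodim_of_hom iY
  have e1 : k + 1 = k + 1 + 2 * BMCoh.relCodim D.Z.scheme W.scheme := by rw [hc]; ring
  have e2 : n = n + BMCoh.relCodim D.Z.scheme W.scheme := by rw [hc]; ring
  have E1 := T.exact_push_pull D M k n (k + 1) n e1 e2
  have r1 : ∀ c, (T.pull iY M (k + 1) n).hom
      ((T.push iY.hom M (k + 1) n (k + 1) n e1 e2).hom c) = c := fun c =>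
    congrArg (fun φ => φ.hom c) (Groth.Agent.S15883.push_pull_self T iY M (k + 1) n e1 e2)
  obtain ⟨c, hc'⟩ := (E1 a).mp hX
  have h3 : c = 0 := by
    rw [← r1 c]
    change (T.pull iY M (k + 1) n).hom ((T.push D.i M (k + 1) n (k + 1) n e1 e2).hom c) = 0
    rw [hc', hY]
  rw [h3, map_zero] at hc'
  exact hc'.symm

/-- a class vanishing on every piece of a finite clopen cover vanishes (`Fin`-indexed version,
pre-theories) -/
theorem eq_zero_of_pull_eq_zero_fin_pre (T : PreTheory V R A) (M : A.Cat) (i n' : ℤ) :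
    ∀ (n : ℕ) (Z : Obj V) (G : Fin (n + 1) → Obj V) (g : ∀ k, G k ⟶ Z),
      (∀ z : Z.scheme, ∃ k, z ∈ Set.range (g k).hom) →
      (∀ k l, k ≠ l → Disjoint (Set.range (g k).hom) (Set.range (g l).hom)) →
      ∀ c : T.gp Z M i n', (∀ k, (T.pull (g k) M i n').hom c = 0) → c = 0 := by
  intro n
  induction n with
  | zero =>
    intro Z G g hcov _ c hc
    have hs : Function.Surjective (g 0).hom := by
      intro z
      obtain ⟨k, hk⟩ := hcov z
      have : k = 0 := by
        have := k.2
        apply Fin.ext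
        simp only [Fin.val_zero]
        omega
      subst this
      exact hk
    apply pull_injective_of_surjective T (g 0) hs M i n'
    rw [hc 0, map_zero]
  | succ n ih =>
    intro Z G g hcov hdisj c hc
    have hcompl : (Set.range (g 0).hom)ᶜ = ⋃ k : Fin (n + 1), Set.range (g k.succ).hom := by
      ext z
      constructor
      · intro hz
        obtain ⟨k, hk⟩ := hcov z
        rcases Fin.eq_zero_or_eq_succ k with rfl | ⟨k', rfl⟩
        · exact absurd hk hz
        · exact Set.mem_iUnion.2 ⟨k', hk⟩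
      · intro hz h0
        obtain ⟨k', hk'⟩ := Set.mem_iUnion.1 hz
        exact (hdisj 0 k'.succ (Fin.succ_ne_zero k').symm).le_bot ⟨h0, hk'⟩
    have hopen : IsOpen (Set.range (g 0).hom)ᶜ := by
      rw [hcompl]
      exact isOpen_iUnion (fun k => (g k.succ).hom.isOpenEmbedding.isOpen_range)
    let O : Z.scheme.Opens := ⟨(Set.range (g 0).hom)ᶜ, hopen⟩
    have hsub : ∀ k : Fin (n + 1), Set.range (g k.succ).hom ⊆ Set.range O.ι := by
      intro k z hz
      rw [Scheme.Opens.range_ι]
      change z ∈ (Set.range (g 0).hom)ᶜ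
      rw [hcompl]
      exact Set.mem_iUnion.2 ⟨k, hz⟩
    let l : ∀ k : Fin (n + 1), (G k.succ).scheme ⟶ (O : Scheme.{u}) := fun k =>
      IsOpenImmersion.lift O.ι (g k.succ).hom (hsub k)
    have hl : ∀ k : Fin (n + 1), l k ≫ O.ι = (g k.succ).hom :=
      fun k => IsOpenImmersion.lift_fac _ _ _
    have hloi : ∀ k : Fin (n + 1), IsOpenImmersion (l k) := fun k => by
      have : IsOpenImmersion (l k ≫ O.ι) := by rw [hl k]; infer_instance
      exact IsOpenImmersion.of_comp (l k) O.ι
    have hdl : ∀ k : Fin (n + 1),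
        WeilCoh.dim (G k.succ).scheme = WeilCoh.dim (O : Scheme.{u}) := fun k => by
      have := hloi k
      apply le_antisymm (dim_le_of_openImmersion O (l k))
      rw [(g k.succ).dim_eq]
      exact dim_opens_le Z O
    have hdO : WeilCoh.dim (O : Scheme.{u}) = WeilCoh.dim Z.scheme := by
      rw [← hdl 0, (g (0 : Fin (n + 1)).succ).dim_eq]
    let g' : ∀ k : Fin (n + 1), G k.succ ⟶ Z.res O := fun k => ⟨l k, hloi k, hdl k⟩
    let iX : Z.res O ⟶ Z := Z.resι O hdO
    have hg' : ∀ k : Fin (n + 1), g' k ≫ iX = g k.succ := fun k => Hom.ext (hl k)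
    have hrange : Set.range iX.hom = (Set.range (g 0).hom)ᶜ := Scheme.Opens.range_ι O
    have hX : (T.pull iX M i n').hom c = 0 := by
      apply ih (Z.res O) (fun k => G k.succ) g'
      · intro z
        have hz : O.ι z ∈ (Set.range (g 0).hom)ᶜ := z.2
        rw [hcompl] at hz
        obtain ⟨k, hk⟩ := Set.mem_iUnion.1 hz
        exact ⟨k, (mem_range_iff_of_fac (l k) _ (hl k) z).2 hk⟩
      · intro k k' hkk'
        rw [Set.disjoint_left]
        intro z hz hz'
        have h1 := (mem_range_iff_of_fac (l k) _ (hl k) z).1 hz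
        have h2 := (mem_range_iff_of_fac (l k') _ (hl k') z).1 hz'
        exact (hdisj k.succ k'.succ (fun h => hkk' (Fin.succ_injective _ h))).le_bot ⟨h1, h2⟩
      · intro k
        rw [← pull_comp_apply, hg' k]
        exact hc k.succ
    exact pull_prod_injective_pre T iX (g 0) hrange M i n' c hX (hc 0)

/-- a class vanishing on every piece of a finite clopen cover vanishes (pre-theories) -/
theorem eq_zero_of_pull_eq_zero_pre (T : PreTheory V R A) {κ : Type*} [Finite κ]
    (M : A.Cat) (i n' : ℤ) (Z : Obj V) (G : κ → Obj V) (g : ∀ k, G k ⟶ Z)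
    (hcov : ∀ z : Z.scheme, ∃ k, z ∈ Set.range (g k).hom)
    (hdisj : ∀ k l, k ≠ l → Disjoint (Set.range (g k).hom) (Set.range (g l).hom))
    (c : T.gp Z M i n') (hc : ∀ k, (T.pull (g k) M i n').hom c = 0) : c = 0 := by
  rcases isEmpty_or_nonempty κ with hκ | hκ
  · have : IsEmpty Z.scheme := ⟨fun z => hκ.false (hcov z).choose⟩
    exact gp_eq_zero_of_isEmpty T Z M i n' c
  have := Fintype.ofFinite κ
  obtain ⟨n, hn⟩ : ∃ n, Fintype.card κ = n + 1 :=
    ⟨Fintype.card κ - 1, by have := Fintype.card_pos (α := κ); omega⟩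
  let e : Fin (n + 1) ≃ κ := (Fintype.equivFinOfCardEq hn).symm
  apply eq_zero_of_pull_eq_zero_fin_pre T M i n' n Z (fun k => G (e k)) (fun k => g (e k))
  · intro z
    obtain ⟨k, hk⟩ := hcov z
    refine ⟨e.symm k, ?_⟩
    rw [Equiv.apply_symm_apply]
    exact hk
  · intro k l hkl
    exact hdisj _ _ (fun h => hkl (e.injective h))
  · intro k
    exact hc _

/-- every class is the sum of the push-forwards of its restrictions to the pieces of a finite
clopen cover (pre-theories) -/
theorem sum_push_pull_pre (T : PreTheory V R A) {κ : Type*} {Z : Obj V} {G : κ → Obj V}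
    (g : ∀ k, G k ⟶ Z) [Fintype κ] [DecidableEq κ]
    (hcov : ∀ z : Z.scheme, ∃ k, z ∈ Set.range (g k).hom)
    (hdisj : ∀ k l, k ≠ l → Disjoint (Set.range (g k).hom) (Set.range (g l).hom))
    [∀ k, IsProper (g k).hom] (M : A.Cat) (i n : ℤ)
    (hi : ∀ k, i = i + 2 * relCodim (G k).scheme Z.scheme)
    (hn : ∀ k, n = n + relCodim (G k).scheme Z.scheme) (c : T.gp Z M i n) :
    ∑ k, (T.push (g k).hom M i n i n (hi k) (hn k)).hom ((T.pull (g k) M i n).hom c) = c := by
  rw [← sub_eq_zero]
  apply eq_zero_of_pull_eq_zero_pre T M i n Z G g hcov hdisj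
  intro l
  rw [map_sub, map_sum, Finset.sum_eq_single l]
  · rw [pull_push_self g T l M i n (hi l) (hn l), sub_self]
  · intro k _ hkl
    exact pull_push_of_ne g T hcov hdisj k l hkl M i n (hi k) (hn k) _
  · intro h
    exact absurd (Finset.mem_univ l) h

end Additivity

end Groth.Agent.Lib.Helper79.BM

end
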