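import Groth.Agent.Lib.Helper79.BMMulti
import Mathlib

/-!
# Multi-pieces: dimensions, the decomposition and the formulas (helper79, BMCoh family)
-/

set_option autoImplicit false
universe u

noncomputable section

namespace Groth.Agent.Lib.Helper79.BM

open AlgebraicGeometry CategoryTheory CategoryTheory.Limits Opposite TopologicalSpace BMCoh
open Groth.Agent.Lib.Helper79.BMTop

variable {V : ObjectProperty Scheme.{u}} [IsConstructible V]

namespace MPiece

variable {X : Obj V} {c : ℕ} (MP : MPiece X c)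

theorem c_le (k : MP.B) : c ≤ WeilCoh.dim X.scheme := by
  have := k.1.2
  unfold WeilCoh.codim at this
  omega

theorem dimG (k : MP.B) : WeilCoh.dim (MP.cp k).G.scheme = WeilCoh.dim X.scheme - c := by
  rw [dim_ptOpens X _ _ (MP.cp k).nonempty]
  have h1 := k.1.2
  have h2 := pdim_le_dim X k.1.1
  unfold WeilCoh.codim at h1
  omega

theorem finDimZs : topologicalKrullDim MP.Zs < ⊤ :=
  lt_of_le_of_lt MP.Zι.isClosedEmbedding.isEmbedding.isInducing.topologicalKrullDim_le
    (dim_subtype_lt_top _ (finDim X))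

theorem dimZs_le : WeilCoh.dim MP.Zs ≤ WeilCoh.dim X.scheme - c := by
  rcases isEmpty_or_nonempty MP.Zs with h | h
  · rw [show WeilCoh.dim MP.Zs = 0 from natDim_of_isEmpty _]; omega
  · obtain ⟨z, hz⟩ := exists_pd_eq MP.finDimZs
    obtain ⟨k, hk⟩ := MP.exists_mem_range_gs z
    change WeilCoh.natDim MP.Zs ≤ _
    rw [← hz, ← MP.dimG k]
    have h1 : closure ({z} : Set MP.Zs) ⊆ Set.range (MP.gs k) :=
      (MP.gs k).isClosedEmbedding.isClosed_range.closure_subset_iff.2
        (Set.singleton_subset_iff.2 hk)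
    have h2 := natDim_mono h1 MP.finDimZs
    have h3 : WeilCoh.natDim (MP.cp k).G.scheme = WeilCoh.natDim ↥(Set.range (MP.gs k)) :=
      natDim_homeomorph (MP.gs k).isOpenEmbedding.isEmbedding.toHomeomorph
    change pd z ≤ WeilCoh.natDim (MP.cp k).G.scheme
    rw [h3]
    exact h2

theorem dimZs (k : MP.B) : WeilCoh.dim (MP.cp k).G.scheme = WeilCoh.dim MP.Zs := by
  apply le_antisymm
  · exact natDim_le_of_isInducing (MP.gs k).isOpenEmbedding.isInducing MP.finDimZs
  · rw [MP.dimG k]; exact MP.dimZs_le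

/-- the closed pieces as morphisms of objects into the reduced closed part -/
abbrev gObj (k : MP.B) : (MP.cp k).G ⟶ MP.ZObj := ⟨MP.gs k, inferInstance, MP.dimZs k⟩

/-- the decomposition of `Y` with the reduced closed part -/
def decomp : Decomp (X.res MP.Y) where
  Z := MP.ZObj
  U := X.res MP.U
  i := MP.Zι
  closedImm := inferInstance
  j := X.resLE MP.hUY (MP.hdim.trans MP.dimY.symm)
  range_eq := by
    ext y
    have h1 : y ∈ Set.range (X.scheme.homOfLE MP.hUY) ↔ MP.Y.ι y ∈ (MP.U : Set X.scheme) := by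
      have := mem_range_iff_of_fac (X.scheme.homOfLE MP.hUY) _ (X.scheme.homOfLE_ι MP.hUY) y
      rw [Scheme.Opens.range_ι] at this
      exact this
    change y ∈ Set.range (X.scheme.homOfLE MP.hUY) ↔ y ∈ (Set.range MP.Zι)ᶜ
    rw [h1, MP.range_Zι]
    simp

theorem codim_eq (k : MP.B) : MP.decomp.codim = (c : ℤ) := by
  have h1 := MP.dimZs k
  have h2 := MP.dimG k
  have h3 := MP.c_le k
  have h4 := MP.dimY
  unfold Decomp.codim relCodim
  change ((WeilCoh.dim (MP.Y : Scheme.{u}) : ℕ) : ℤ) - ((WeilCoh.dim MP.Zs : ℕ) : ℤ) = _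
  omega

theorem relCodim_G (k : MP.B) :
    relCodim (MP.cp k).G.scheme (X.res MP.Y).scheme = (c : ℤ) := by
  rw [(MP.cp k).relCodim_eq MP.dimY, k.1.2]

variable {R : Type u} [CommRing R] {A : Coefs R} {T : PreTheory V R A}

omit [IsConstructible V] in
theorem _root_.Groth.Agent.Lib.Helper79.BM.push_congr [IsConstructible V] (T : PreTheory V R A)
    {X' Y' : Obj V} {f f' : X'.scheme ⟶ Y'.scheme}
    (h : f = f') [IsProper f] [IsProper f'] (M : A.Cat) (i n i' n' : ℤ) (hi hn) :
    T.push f M i n i' n' hi hn = T.push f' M i n i' n' hi hn := by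
  subst h
  rfl

/-- push-forward from a closed piece factors through the reduced closed part -/
theorem push_comp (k : MP.B) [IsProper (MP.gObj k).hom] (M : A.Cat) (i n i' n' : ℤ)
    (h1 : i = i + 2 * relCodim (MP.cp k).G.scheme MP.ZObj.scheme)
    (h2 : n = n + relCodim (MP.cp k).G.scheme MP.ZObj.scheme)
    (h3 : i' = i + 2 * relCodim MP.ZObj.scheme (X.res MP.Y).scheme)
    (h4 : n' = n + relCodim MP.ZObj.scheme (X.res MP.Y).scheme)
    (h5 : i' = i + 2 * relCodim (MP.cp k).G.scheme (X.res MP.Y).scheme)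
    (h6 : n' = n + relCodim (MP.cp k).G.scheme (X.res MP.Y).scheme)
    (c₀ : T.gp (MP.cp k).G M i n) :
    (T.push (X := MP.ZObj) (Y := X.res MP.Y) MP.Zι M i n i' n' h3 h4).hom
        ((T.push (MP.gObj k).hom M i n i n h1 h2).hom c₀) =
      (T.push (X := (MP.cp k).G) (Y := X.res MP.Y) (MP.cp k).i M i n i' n' h5 h6).hom c₀ := by
  have hfac : (MP.gObj k).hom ≫ MP.Zι = (MP.cp k).i := MP.gs_fac k
  have := T.push_comp (X := (MP.cp k).G) (Y := MP.ZObj) (Z := X.res MP.Y) (MP.gObj k).hom MP.Zι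
    M i n i n i' n' h1 h2 h3 h4
    (by rw [h5]) (by rw [h6])
  have h7 := congrArg (fun φ => φ.hom c₀) this
  simp only [ModuleCat.hom_comp, LinearMap.coe_comp, Function.comp_apply] at h7
  rw [h7]
  exact congrArg (fun φ => φ.hom c₀) (push_congr T (X' := (MP.cp k).G) (Y' := X.res MP.Y) hfac M i n i' n' _ _)

end MPiece

end Groth.Agent.Lib.Helper79.BM

end
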