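import Groth.Prelude.Def_BMCoh3
import Groth.Agent.Lib.Helper79.BMColim
import Mathlib

/-!
# Pieces: decompositions `Y = U ⊔ (cl{x} ∩ Y)` of opens of an object (helper79, BMCoh family)
-/

set_option autoImplicit false
universe u

noncomputable section

namespace Groth.Agent.Lib.Helper79.BM

open AlgebraicGeometry CategoryTheory CategoryTheory.Limits Opposite TopologicalSpace BMCoh

variable {V : ObjectProperty Scheme.{u}} [IsConstructible V]

/-- A general categorical fact: composing with a mono gives a pullback square. -/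
theorem isPullback_of_mono {C : Type*} [Category C] {W Y' Y : C} (f' : W ⟶ Y') (g : Y' ⟶ Y)
    [Mono g] (f : W ⟶ Y) (h : f = f' ≫ g) : IsPullback (𝟙 W) f' f g := by
  refine ⟨⟨by simp [h]⟩, ⟨PullbackCone.IsLimit.mk _ (fun s => s.fst) (fun s => by simp)
    (fun s => ?_) (fun s m h1 _ => by simpa using h1)⟩⟩
  rw [← cancel_mono g, Category.assoc, ← h, s.condition]

/-- membership in the range of a morphism into an open subscheme -/
theorem mem_range_iff_of_fac {X A : Scheme.{u}} {Y : X.Opens} (f : A ⟶ (Y : Scheme.{u}))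
    (g : A ⟶ X) (h : f ≫ Y.ι = g) (y : (Y : Scheme.{u})) :
    y ∈ Set.range f ↔ Y.ι y ∈ Set.range g := by
  subst h
  constructor
  · rintro ⟨a, rfl⟩
    exact ⟨a, rfl⟩
  · rintro ⟨a, ha⟩
    refine ⟨a, ?_⟩
    apply Y.ι.isOpenEmbedding.injective
    exact ha

/-- A closed piece: an open `Y` of `X` containing `x`, together with the trace `W` of the closure
of `x` on `Y`, as an open of the reduced closure. -/
structure CPiece (X : Obj V) (x : X.scheme) where
  Y : X.scheme.Opens
  W : (X.ptSub x).scheme.Opens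
  hW : ∀ z : (X.ptSub x).scheme, z ∈ W ↔ (X.ptSubι x) z ∈ Y
  hx : x ∈ Y

namespace CPiece

variable {X : Obj V} {x : X.scheme} (P : CPiece X x)

theorem gen_mem : gen X x ∈ P.W := (P.hW _).2 P.hx

theorem nonempty : (P.W : Set (X.ptSub x).scheme).Nonempty := ⟨_, P.gen_mem⟩

/-- the trace as a member of the index family of the point -/
abbrev Widx : ptIdx X x := ⟨P.W, P.nonempty, dim_ptOpens X x _ P.nonempty⟩

/-- the closed piece as an object -/
abbrev G : Obj V := (X.ptSub x).res P.W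

theorem range_subset : Set.range (P.W.ι ≫ X.ptSubι x) ⊆ Set.range P.Y.ι := by
  rintro _ ⟨w, rfl⟩
  rw [Scheme.Opens.range_ι]
  exact (P.hW w.1).1 w.2

/-- the closed immersion of the piece into `Y` -/
def i : (P.W : Scheme.{u}) ⟶ (P.Y : Scheme.{u}) :=
  IsOpenImmersion.lift P.Y.ι (P.W.ι ≫ X.ptSubι x) P.range_subset

@[reassoc]
theorem i_fac : P.i ≫ P.Y.ι = P.W.ι ≫ X.ptSubι x := IsOpenImmersion.lift_fac _ _ _

theorem range_comp : Set.range (P.W.ι ≫ X.ptSubι x) = (P.Y : Set X.scheme) ∩ closure {x} := by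
  ext y
  constructor
  · rintro ⟨w, rfl⟩
    exact ⟨(P.hW w.1).1 w.2, w.1.2⟩
  · rintro ⟨hy, hyx⟩
    exact ⟨⟨⟨y, hyx⟩, (P.hW ⟨y, hyx⟩).2 hy⟩, rfl⟩

theorem mem_range_i (y : (P.Y : Scheme.{u})) :
    y ∈ Set.range P.i ↔ P.Y.ι y ∈ closure ({x} : Set X.scheme) := by
  rw [mem_range_iff_of_fac P.i _ P.i_fac, P.range_comp]
  exact ⟨fun h => h.2, fun h => ⟨y.2, h⟩⟩

instance : IsPreimmersion P.i := by
  have : IsPreimmersion (P.i ≫ P.Y.ι) := by rw [P.i_fac]; infer_instance
  exact IsPreimmersion.of_comp P.i P.Y.ι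

instance : IsClosedImmersion P.i := by
  apply IsClosedImmersion.of_isPreimmersion
  have : Set.range P.i = P.Y.ι ⁻¹' closure {x} := by
    ext y; exact P.mem_range_i y
  rw [this]
  exact isClosed_closure.preimage P.Y.ι.continuous

theorem relCodim_eq (hdimY : WeilCoh.dim (P.Y : Scheme.{u}) = WeilCoh.dim X.scheme) :
    relCodim P.G.scheme (X.res P.Y).scheme = (WeilCoh.codim X.scheme x : ℤ) := by
  have h1 : WeilCoh.dim P.G.scheme = WeilCoh.pdim X.scheme x := dim_ptOpens X x _ P.nonempty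
  have h2 := pdim_le_dim X x
  unfold relCodim WeilCoh.codim
  rw [h1]
  change ((WeilCoh.dim (P.Y : Scheme.{u}) : ℕ) : ℤ) - _ = _
  rw [hdimY]
  omega

/-- the closed piece cut out by a member of the index family of the point inside an open -/
def ofPtIdxIn (W0 : ptIdx X x) (Y0 : X.scheme.Opens) (h : ∀ z ∈ W0.1, (X.ptSubι x) z ∈ Y0) :
    CPiece X x where
  Y := Y0 ⊓ ⟨((X.ptSubι x) '' ((W0.1 : Set (X.ptSub x).scheme)ᶜ))ᶜ,
    ((X.ptSubι x).isClosedEmbedding.isClosedMap _ W0.1.isOpen.isClosed_compl).isOpen_compl⟩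
  W := W0.1
  hW z := by
    constructor
    · intro hz
      refine ⟨h z hz, ?_⟩
      rintro ⟨z', hz', e⟩
      have := (X.ptSubι x).isClosedEmbedding.injective e
      subst this
      exact hz' hz
    · rintro ⟨_, hz⟩
      by_contra hz'
      exact hz ⟨z, hz', rfl⟩
  hx := by
    have hg := gen_mem_of_nonempty X x W0.1 W0.2.1
    refine ⟨h _ hg, ?_⟩
    rintro ⟨z', hz', e⟩
    have : z' = gen X x := (X.ptSubι x).isClosedEmbedding.injective e
    subst this
    exact hz' hg

theorem ofPtIdxIn_Y_le (W0 : ptIdx X x) (Y0 : X.scheme.Opens) (h) :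
    (ofPtIdxIn W0 Y0 h).Y ≤ Y0 := inf_le_left

theorem containsFj_ofPtIdxIn {j : ℕ} (hx : WeilCoh.codim X.scheme x = j) (W0 : ptIdx X x)
    (Y0 : X.scheme.Opens) (h) (hY0 : ContainsFj X j Y0) :
    ContainsFj X j (ofPtIdxIn W0 Y0 h).Y := by
  intro y hy
  refine ⟨hY0 y hy, ?_⟩
  rintro ⟨z, hz, rfl⟩
  have hsp : x ⤳ (X.ptSubι x) z := specializes_iff_mem_closure.2 z.2
  by_cases hne : x = (X.ptSubι x) z
  · apply hz
    have : z = gen X x := (X.ptSubι x).isClosedEmbedding.injective hne.symm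
    rw [this]
    exact gen_mem_of_nonempty X x W0.1 W0.2.1
  · have := codim_lt_of_specializes X hsp hne
    omega

end CPiece

/-- A piece: opens `U ≤ Y` with `Y = U ⊔ (cl{x} ∩ Y)`, `x ∈ Y`, `U` of full dimension. -/
structure Piece (X : Obj V) (x : X.scheme) extends CPiece X x where
  U : X.scheme.Opens
  hUY : U ≤ Y
  hcov : ∀ y ∈ Y, y ∈ U ∨ y ∈ closure ({x} : Set X.scheme)
  hdisj : ∀ y ∈ U, y ∉ closure ({x} : Set X.scheme)
  hdim : WeilCoh.dim (U : Scheme.{u}) = WeilCoh.dim X.scheme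

namespace Piece

variable {X : Obj V} {x : X.scheme} (P : Piece X x)

theorem dimY : WeilCoh.dim (P.Y : Scheme.{u}) = WeilCoh.dim X.scheme :=
  le_antisymm (dim_opens_le X P.Y) (P.hdim ▸ dim_opens_mono X P.hUY)

/-- the open part as a morphism of objects -/
def j : X.res P.U ⟶ X.res P.Y := X.resLE P.hUY (P.hdim.trans P.dimY.symm)

/-- the decomposition of `Y` attached to a piece -/
def decomp : Decomp (X.res P.Y) where
  Z := P.G
  U := X.res P.U
  i := P.i
  closedImm := inferInstance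
  j := P.j
  range_eq := by
    ext y
    have h1 : y ∈ Set.range P.j.hom ↔ P.Y.ι y ∈ (P.U : Set X.scheme) := by
      have := mem_range_iff_of_fac (X.scheme.homOfLE P.hUY) _ (X.scheme.homOfLE_ι P.hUY) y
      rw [Scheme.Opens.range_ι] at this
      exact this
    rw [h1, Set.mem_compl_iff, P.mem_range_i]
    constructor
    · exact fun h => P.hdisj _ h
    · intro h
      rcases P.hcov _ y.2 with h' | h'
      · exact h'
      · exact absurd h' h

theorem codim_eq : P.decomp.codim = (WeilCoh.codim X.scheme x : ℤ) :=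
  P.toCPiece.relCodim_eq P.dimY

end Piece

end Groth.Agent.Lib.Helper79.BM

end
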