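import Groth.Prelude.Def_Curv2
import Groth.Agent.Lib.Helper79.BMPiece
import Mathlib

/-!
# The normalisation of an integral scheme is an isomorphism over a nonempty open
(helper79, BMCoh family)
-/

set_option autoImplicit false
universe u

namespace Groth.Agent.Lib.Helper79.BM

open AlgebraicGeometry CategoryTheory TopologicalSpace

/-- a separated morphism with a dominant section over an open (into a reduced source) is an
isomorphism over that open -/
theorem isIso_morphismRestrict_of_section {N S : Scheme.{u}} (ν : N ⟶ S) [IsSeparated ν]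
    [IsReduced N] (U : S.Opens) (g : (U : Scheme.{u}) ⟶ N) (hg : g ≫ ν = U.ι)
    (hdense : Dense (Set.range g)) : IsIso (ν ∣_ U) := by
  have hsub : Set.range g ⊆ Set.range (ν ⁻¹ᵁ U).ι := by
    rintro _ ⟨u, rfl⟩
    rw [Scheme.Opens.range_ι]
    change ν (g u) ∈ U
    rw [← Scheme.Hom.comp_apply, hg]
    exact u.2
  let g' : (U : Scheme.{u}) ⟶ ((ν ⁻¹ᵁ U : N.Opens) : Scheme.{u}) :=
    IsOpenImmersion.lift (ν ⁻¹ᵁ U).ι g hsub
  have hg' : g' ≫ (ν ⁻¹ᵁ U).ι = g := IsOpenImmersion.lift_fac _ _ _
  have hsec : g' ≫ (ν ∣_ U) = 𝟙 _ := by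
    rw [← cancel_mono U.ι, Category.assoc, morphismRestrict_ι, ← Category.assoc, hg', hg,
      Category.id_comp]
  haveI : IsClosedImmersion g' := by
    haveI : IsClosedImmersion (g' ≫ (ν ∣_ U)) := by rw [hsec]; infer_instance
    exact IsClosedImmersion.of_comp g' (ν ∣_ U)
  haveI : Surjective g' := by
    refine ⟨fun z => ?_⟩
    have hcl : IsClosed (Set.range g') := g'.isClosedEmbedding.isClosed_range
    have hrange : Set.range g' = (ν ⁻¹ᵁ U).ι ⁻¹' (Set.range g) := by
      ext z
      exact mem_range_iff_of_fac g' g hg' z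
    have hd : Dense (Set.range g') := by
      rw [hrange]
      exact hdense.preimage (ν ⁻¹ᵁ U).ι.isOpenEmbedding.isOpenMap
    have : Set.range g' = Set.univ := by
      rw [← hcl.closure_eq]; exact hd.closure_eq
    rw [Set.eq_univ_iff_forall] at this
    exact this z
  haveI : IsIso g' := isIso_of_isClosedImmersion_of_surjective g'
  haveI : IsIso (g' ≫ (ν ∣_ U)) := by rw [hsec]; infer_instance
  exact IsIso.of_isIso_comp_left g' (ν ∣_ U)

/-- the normalisation of an integral scheme, when locally of finite type, is an isomorphism over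
an open neighbourhood of the generic point -/
theorem exists_isIso_normalizationι_restrict (S : Scheme.{u}) [IsIntegral S]
    [QuasiCompact (S.fromSpecStalk (genericPoint S))]
    [QuasiSeparated (S.fromSpecStalk (genericPoint S))]
    [LocallyOfFiniteType (Curv2.normalizationι S)] :
    ∃ U : S.Opens, genericPoint S ∈ U ∧ IsIso (Curv2.normalizationι S ∣_ U) := by
  let f := S.fromSpecStalk (genericPoint S)
  have hLFT : LocallyOfFiniteType f.fromNormalization := ‹_›
  obtain ⟨U, hxU, g, hg1, hg2⟩ := spread_out_of_isGermInjective' (X := S) (Y := f.normalization)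
    (S := S) (𝟙 S) f.fromNormalization (x := genericPoint S) f.toNormalization (by
      rw [Category.comp_id]; exact f.toNormalization_fromNormalization)
  refine ⟨U, hxU, ?_⟩
  rw [Category.comp_id] at hg2
  have hdense : Dense (Set.range g) := by
    have h1 : DenseRange f.toNormalization := f.toNormalization.denseRange
    refine h1.mono ?_
    rw [hg1]
    rintro _ ⟨z, rfl⟩
    exact ⟨_, rfl⟩
  exact isIso_morphismRestrict_of_section f.fromNormalization U g hg2 hdense

end Groth.Agent.Lib.Helper79.BM
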