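import Groth.Agent.Lib.Helper79.BMPtPush
import Groth.Agent.Lib.Helper79.BMNorm
import Groth.Agent.Lib.Helper79.BMMulti2
import Mathlib

/-!
# Push-forward data between groups of points along the normalisation are bijective
(helper79, BMCoh family)
-/

set_option autoImplicit false
universe u

noncomputable section

namespace Groth.Agent.Lib.Helper79.BM

open AlgebraicGeometry CategoryTheory CategoryTheory.Limits Opposite TopologicalSpace BMCoh
open Groth.Agent.Lib.Helper79.BMTop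

theorem isIso_morphismRestrict_of_le {X Y : Scheme.{u}} (f : X ⟶ Y) {U W : Y.Opens}
    [IsIso (f ∣_ U)] (h : W ≤ U) : IsIso (f ∣_ W) := by
  have e1 := morphismRestrictRestrict f U (U.ι ⁻¹ᵁ W)
  have heq : U.ι ''ᵁ (U.ι ⁻¹ᵁ W) = W := by
    ext y
    constructor
    · rintro ⟨u, hu, rfl⟩
      exact hu
    · intro hy
      exact ⟨⟨y, h hy⟩, hy, rfl⟩
  have e2 := morphismRestrictEq f heq
  have h3 : IsIso (f ∣_ U ∣_ (U.ι ⁻¹ᵁ W)) := inferInstance
  exact ((MorphismProperty.isomorphisms Scheme.{u}).arrow_mk_iso_iff (e1 ≪≫ e2)).1 h3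

variable {V : ObjectProperty Scheme.{u}} [IsConstructible V]
variable {R : Type u} [CommRing R] {A : Coefs R}

/-- push-forward along an isomorphism of schemes is bijective -/
theorem push_bijective_of_isIso (T : PreTheory V R A) {X' Y' : Obj V}
    (f : X'.scheme ⟶ Y'.scheme) [IsIso f] (M : A.Cat) (i n : ℤ)
    (hi : i = i + 2 * relCodim X'.scheme Y'.scheme) (hn : n = n + relCodim X'.scheme Y'.scheme) :
    Function.Bijective (T.push f M i n i n hi hn).hom := by
  have hd : WeilCoh.dim X'.scheme = WeilCoh.dim Y'.scheme := dim_eq_of_iso (asIso f)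
  have h0 : relCodim Y'.scheme X'.scheme = 0 := by unfold relCodim; omega
  have h1 : relCodim X'.scheme X'.scheme = 0 := by unfold relCodim; omega
  have h2 : relCodim Y'.scheme Y'.scheme = 0 := by unfold relCodim; omega
  have hi' : i = i + 2 * relCodim Y'.scheme X'.scheme := by rw [h0]; ring
  have hn' : n = n + relCodim Y'.scheme X'.scheme := by rw [h0]; ring
  have hiX : i = i + 2 * relCodim X'.scheme X'.scheme := by rw [h1]; ring
  have hnX : n = n + relCodim X'.scheme X'.scheme := by rw [h1]; ring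
  have hiY : i = i + 2 * relCodim Y'.scheme Y'.scheme := by rw [h2]; ring
  have hnY : n = n + relCodim Y'.scheme Y'.scheme := by rw [h2]; ring
  have c1 := T.push_comp f (inv f) M i n i n i n hi hn hi' hn' hiX hnX
  have c2 := T.push_comp (inv f) f M i n i n i n hi' hn' hi hn hiY hnY
  rw [push_congr T (IsIso.hom_inv_id f) M i n i n hiX hnX, T.push_id X' M i n hiX hnX] at c1
  rw [push_congr T (IsIso.inv_hom_id f) M i n i n hiY hnY, T.push_id Y' M i n hiY hnY] at c2
  refine Function.bijective_iff_has_inverse.2 ⟨(T.push (inv f) M i n i n hi' hn').hom, ?_, ?_⟩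
  · intro a
    exact congrArg (fun φ => φ.hom a) c1
  · intro a
    exact congrArg (fun φ => φ.hom a) c2

namespace PtPushAux

variable {T : PreTheory V R A} {Y X : Obj V} (φ : Y.scheme ⟶ X.scheme) (y : Y.scheme)
  (x : X.scheme) (hyx : φ.base y = x)

/-- an open of the closure of `x` containing the generic point, as a member of the index family -/
abbrev idxX (W'' : (X.ptSub x).scheme.Opens) (h : gen X x ∈ W'') : ptIdx X x :=
  ⟨W'', ⟨gen X x, h⟩, dim_ptOpens X x _ ⟨gen X x, h⟩⟩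

theorem gen_mem_preimage (W'' : (X.ptSub x).scheme.Opens) (h : gen X x ∈ W'') :
    gen Y y ∈ (psi φ y x hyx) ⁻¹ᵁ W'' := by
  change (psi φ y x hyx) (gen Y y) ∈ W''
  rw [psi_gen]
  exact h

/-- its preimage in the closure of `y`, as a member of the index family -/
abbrev idxY (W'' : (X.ptSub x).scheme.Opens) (h : gen X x ∈ W'') : ptIdx Y y :=
  ⟨(psi φ y x hyx) ⁻¹ᵁ W'', ⟨gen Y y, gen_mem_preimage φ y x hyx W'' h⟩,
    dim_ptOpens Y y _ ⟨gen Y y, gen_mem_preimage φ y x hyx W'' h⟩⟩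

theorem relCodim_idx (hcod : relCodim (Y.ptSub y).scheme (X.ptSub x).scheme = 0)
    (W'' : (X.ptSub x).scheme.Opens) (h : gen X x ∈ W'') :
    relCodim ((Y.ptSub y).res (idxY φ y x hyx W'' h).1).scheme
      ((X.ptSub x).res (idxX x W'' h).1).scheme = 0 := by
  have h1 : WeilCoh.dim (W'' : Scheme.{u}) = WeilCoh.pdim X.scheme x := (idxX x W'' h).2.2
  have h2 : WeilCoh.dim (((psi φ y x hyx) ⁻¹ᵁ W'' : (Y.ptSub y).scheme.Opens) : Scheme.{u}) =
      WeilCoh.pdim Y.scheme y := (idxY φ y x hyx W'' h).2.2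
  have h3 : ((WeilCoh.pdim X.scheme x : ℕ) : ℤ) - ((WeilCoh.pdim Y.scheme y : ℕ) : ℤ) = 0 :=
    hcod
  unfold relCodim
  change ((WeilCoh.dim (W'' : Scheme.{u}) : ℕ) : ℤ) -
    ((WeilCoh.dim (((psi φ y x hyx) ⁻¹ᵁ W'' : (Y.ptSub y).scheme.Opens) : Scheme.{u}) : ℕ) : ℤ)
      = 0
  rw [h1, h2]
  exact h3

variable [IsProper φ]

/-- the value of a push-forward datum on a class represented on the preimage of a small open -/
theorem cpt_formula (L : T.PtPush φ y x) (W'' : (X.ptSub x).scheme.Opens) (h : gen X x ∈ W'')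
    (M : A.Cat) (i n : ℤ)
    (hi' : i = i + 2 * relCodim ((Y.ptSub y).res (idxY φ y x hyx W'' h).1).scheme
      ((X.ptSub x).res (idxX x W'' h).1).scheme)
    (hn' : n = n + relCodim ((Y.ptSub y).res (idxY φ y x hyx W'' h).1).scheme
      ((X.ptSub x).res (idxX x W'' h).1).scheme)
    (c : T.gp ((Y.ptSub y).res (idxY φ y x hyx W'' h).1) M i n) :
    (L.cpt M i n).hom (((T.ptι Y y i n (idxY φ y x hyx W'' h)).app M).hom c) =
      ((T.ptι X x i n (idxX x W'' h)).app M).hom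
        ((T.push (X := (Y.ptSub y).res (idxY φ y x hyx W'' h).1)
          (Y := (X.ptSub x).res (idxX x W'' h).1) ((psi φ y x hyx) ∣_ W'') M i n i n hi' hn').hom
          c) := by
  have hcomp : ((psi φ y x hyx) ∣_ W'') ≫ (idxX x W'' h).1.ι ≫ X.ptSubι x =
      (idxY φ y x hyx W'' h).1.ι ≫ Y.ptSubι y ≫ φ := by
    change ((psi φ y x hyx) ∣_ W'') ≫ W''.ι ≫ X.ptSubι x =
      ((psi φ y x hyx) ⁻¹ᵁ W'').ι ≫ Y.ptSubι y ≫ φ
    rw [← Category.assoc, morphismRestrict_ι, Category.assoc, psi_fac]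
  have h2 := L.cpt_spec M i n (idxY φ y x hyx W'' h) (idxX x W'' h) ((psi φ y x hyx) ∣_ W'')
    hcomp hi' hn'
  exact congrArg (fun ψ' => ψ'.hom c) h2

theorem isPullback_restrict (W₁ W₂ : (X.ptSub x).scheme.Opens) (hle : W₂ ≤ W₁) :
    IsPullback ((Y.ptSub y).scheme.homOfLE
        ((psi φ y x hyx).preimage_mono hle))
      ((psi φ y x hyx) ∣_ W₂) ((psi φ y x hyx) ∣_ W₁) ((X.ptSub x).scheme.homOfLE hle) := by
  apply isPullback_of_isOpenImmersion
  · rw [← cancel_mono W₁.ι, Category.assoc, morphismRestrict_ι, Category.assoc,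
      Scheme.homOfLE_ι, morphismRestrict_ι, ← Category.assoc, Scheme.homOfLE_ι]
  · intro a ha
    have h1 := (mem_range_iff_of_fac ((X.ptSub x).scheme.homOfLE hle) _
      ((X.ptSub x).scheme.homOfLE_ι hle) _).1 ha
    rw [Scheme.Opens.range_ι] at h1
    have h2 : W₁.ι (((psi φ y x hyx) ∣_ W₁) a) =
        (psi φ y x hyx) (((psi φ y x hyx) ⁻¹ᵁ W₁).ι a) := by
      rw [← Scheme.Hom.comp_apply, morphismRestrict_ι, Scheme.Hom.comp_apply]
    rw [h2] at h1
    refine (mem_range_iff_of_fac ((Y.ptSub y).scheme.homOfLE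
      ((psi φ y x hyx).preimage_mono hle)) _ ((Y.ptSub y).scheme.homOfLE_ι _) a).2 ?_
    rw [Scheme.Opens.range_ι]
    exact h1

end PtPushAux

open PtPushAux in
/-- a push-forward datum between groups of points is bijective when the induced morphism of the
reduced closures is an isomorphism over the small opens of the closure of `x` -/
theorem ptPush_cpt_bijective_of_isIso (T : PreTheory V R A) {Y X : Obj V}
    (φ : Y.scheme ⟶ X.scheme) [IsProper φ] (y : Y.scheme) (x : X.scheme)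
    (L : T.PtPush φ y x) (U₀ : (X.ptSub x).scheme.Opens) (hU₀ : gen X x ∈ U₀)
    (hiso : ∀ W'' : (X.ptSub x).scheme.Opens, W'' ≤ U₀ →
      IsIso ((psi φ y x L.maps_pt) ∣_ W'')) (M : A.Cat) (i n : ℤ) :
    Function.Bijective (L.cpt M i n).hom := by
  have hyx := L.maps_pt
  have hcod := L.codim_eq
  have hidx : ∀ (W'' : (X.ptSub x).scheme.Opens) (h : gen X x ∈ W''),
      i = i + 2 * relCodim ((Y.ptSub y).res (idxY φ y x hyx W'' h).1).scheme
        ((X.ptSub x).res (idxX x W'' h).1).scheme := fun W'' h => by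
    rw [relCodim_idx φ y x hyx hcod W'' h]; ring
  have hidxn : ∀ (W'' : (X.ptSub x).scheme.Opens) (h : gen X x ∈ W''),
      n = n + relCodim ((Y.ptSub y).res (idxY φ y x hyx W'' h).1).scheme
        ((X.ptSub x).res (idxX x W'' h).1).scheme := fun W'' h => by
    rw [relCodim_idx φ y x hyx hcod W'' h]; ring
  constructor
  · rw [injective_iff_map_eq_zero]
    intro a ha
    obtain ⟨W, c, rfl⟩ := ocolim_rep T (Y.ptSub y)
      (fun U => (U : Set (Y.ptSub y).scheme).Nonempty) i n M a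
    let W'₁ : (X.ptSub x).scheme.Opens := W' φ y x hyx W.1 ⊓ U₀
    have hg₁ : gen X x ∈ W'₁ := ⟨gen_mem_W' φ y x hyx hcod W.1 W.2.1, hU₀⟩
    have hle₁ : (idxY φ y x hyx W'₁ hg₁).1 ≤ W.1 := fun z hz =>
      preimage_W'_le φ y x hyx W.1 hz.1
    have hd₁ : WeilCoh.dim ((idxY φ y x hyx W'₁ hg₁).1 : Scheme.{u}) =
        WeilCoh.dim (W.1 : Scheme.{u}) := (idxY φ y x hyx W'₁ hg₁).2.2.trans W.2.2.symm
    have h1 := ocolimι_pull T (Y.ptSub y) (fun U => (U : Set (Y.ptSub y).scheme).Nonempty) i n M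
      (U := W) (U' := idxY φ y x hyx W'₁ hg₁) hle₁ hd₁ c
    rw [← h1] at ha ⊢
    generalize (T.pull ((Y.ptSub y).resLE hle₁ hd₁) M i n).hom c = c₁ at ha ⊢
    rw [cpt_formula φ y x hyx L W'₁ hg₁ M i n (hidx W'₁ hg₁) (hidxn W'₁ hg₁) c₁] at ha
    obtain ⟨W₂, hle₂, hz⟩ := (ocolim_eq_zero_iff T (X.ptSub x)
      (fun U => (U : Set (X.ptSub x).scheme).Nonempty) i n M (U := idxX x W'₁ hg₁) _).1 ha
    have hg₂ : gen X x ∈ W₂.1 := gen_mem_of_nonempty X x W₂.1 W₂.2.1
    have hleY : (idxY φ y x hyx W₂.1 hg₂).1 ≤ (idxY φ y x hyx W'₁ hg₁).1 :=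
      (psi φ y x hyx).preimage_mono hle₂
    have hdY : WeilCoh.dim ((idxY φ y x hyx W₂.1 hg₂).1 : Scheme.{u}) =
        WeilCoh.dim ((idxY φ y x hyx W'₁ hg₁).1 : Scheme.{u}) :=
      (idxY φ y x hyx W₂.1 hg₂).2.2.trans (idxY φ y x hyx W'₁ hg₁).2.2.symm
    have hbc := T.push_pull (X := (Y.ptSub y).res (idxY φ y x hyx W'₁ hg₁).1)
      (Y := (X.ptSub x).res (idxX x W'₁ hg₁).1)
      (X' := (Y.ptSub y).res (idxY φ y x hyx W₂.1 hg₂).1)
      (Y' := (X.ptSub x).res W₂.1)
      ((psi φ y x hyx) ∣_ W'₁) ((psi φ y x hyx) ∣_ W₂.1)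
      ((X.ptSub x).resLE hle₂ (W₂.2.2.trans (idxX x W'₁ hg₁).2.2.symm))
      ((Y.ptSub y).resLE hleY hdY) (isPullback_restrict φ y x hyx W'₁ W₂.1 hle₂) M i n i n
      (hidx W'₁ hg₁) (hidxn W'₁ hg₁) (hidx W₂.1 hg₂) (hidxn W₂.1 hg₂)
    have hbc' := congrArg (fun ψ' => ψ'.hom c₁) hbc
    have hbc'' : (T.pull ((X.ptSub x).resLE hle₂ (W₂.2.2.trans (idxX x W'₁ hg₁).2.2.symm)) M i
        n).hom ((T.push (X := (Y.ptSub y).res (idxY φ y x hyx W'₁ hg₁).1)
          (Y := (X.ptSub x).res (idxX x W'₁ hg₁).1) ((psi φ y x hyx) ∣_ W'₁) M i n i n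
          (hidx W'₁ hg₁) (hidxn W'₁ hg₁)).hom c₁) =
        (T.push (X := (Y.ptSub y).res (idxY φ y x hyx W₂.1 hg₂).1)
          (Y := (X.ptSub x).res W₂.1) ((psi φ y x hyx) ∣_ W₂.1) M i n i n
          (hidx W₂.1 hg₂) (hidxn W₂.1 hg₂)).hom
          ((T.pull ((Y.ptSub y).resLE hleY hdY) M i n).hom c₁) := hbc'
    haveI : IsIso ((psi φ y x hyx) ∣_ W₂.1) := hiso W₂.1 (hle₂.trans inf_le_right)
    have hinj := (push_bijective_of_isIso T
      (X' := (Y.ptSub y).res (idxY φ y x hyx W₂.1 hg₂).1) (Y' := (X.ptSub x).res W₂.1)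
      ((psi φ y x hyx) ∣_ W₂.1) M i n (hidx W₂.1 hg₂) (hidxn W₂.1 hg₂)).1
    have hzero : (T.pull ((Y.ptSub y).resLE hleY hdY) M i n).hom c₁ = 0 := by
      apply hinj
      rw [map_zero, ← hbc'']
      exact hz
    have h2 := ocolimι_pull T (Y.ptSub y) (fun U => (U : Set (Y.ptSub y).scheme).Nonempty) i n M
      (U := idxY φ y x hyx W'₁ hg₁) (U' := idxY φ y x hyx W₂.1 hg₂) hleY hdY c₁
    rw [← h2, hzero, map_zero]
  · intro d'
    obtain ⟨W₁, d, rfl⟩ := ocolim_rep T (X.ptSub x)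
      (fun U => (U : Set (X.ptSub x).scheme).Nonempty) i n M d'
    let W'' : (X.ptSub x).scheme.Opens := W₁.1 ⊓ U₀
    have hg : gen X x ∈ W'' := ⟨gen_mem_of_nonempty X x W₁.1 W₁.2.1, hU₀⟩
    have hle : (idxX x W'' hg).1 ≤ W₁.1 := inf_le_left
    have hd : WeilCoh.dim ((idxX x W'' hg).1 : Scheme.{u}) = WeilCoh.dim (W₁.1 : Scheme.{u}) :=
      (idxX x W'' hg).2.2.trans W₁.2.2.symm
    have h1 := ocolimι_pull T (X.ptSub x) (fun U => (U : Set (X.ptSub x).scheme).Nonempty) i n M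
      (U := W₁) (U' := idxX x W'' hg) hle hd d
    haveI : IsIso ((psi φ y x hyx) ∣_ W'') := hiso W'' inf_le_right
    obtain ⟨c, hc⟩ := (push_bijective_of_isIso T
      (X' := (Y.ptSub y).res (idxY φ y x hyx W'' hg).1) (Y' := (X.ptSub x).res W'')
      ((psi φ y x hyx) ∣_ W'') M i n (hidx W'' hg) (hidxn W'' hg)).2
      ((T.pull ((X.ptSub x).resLE hle hd) M i n).hom d)
    refine ⟨((T.ptι Y y i n (idxY φ y x hyx W'' hg)).app M).hom c, ?_⟩
    rw [cpt_formula φ y x hyx L W'' hg M i n (hidx W'' hg) (hidxn W'' hg) c, ← h1]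
    exact congrArg _ hc

open PtPushAux in
/-- push-forward data between groups of points along the normalisation of the closure of a point
are bijective -/
theorem ptPush_cpt_bijective_normalization (T : PreTheory V R A) (X : Obj V) (w : X.scheme)
    [IsIntegral (X.ptSub w).scheme]
    [QuasiCompact ((X.ptSub w).scheme.fromSpecStalk (genericPoint (X.ptSub w).scheme))]
    [QuasiSeparated ((X.ptSub w).scheme.fromSpecStalk (genericPoint (X.ptSub w).scheme))]
    (Y : Obj V) [IsIntegral Y.scheme] (e : Y.scheme ≅ Curv2.normalization (X.ptSub w).scheme)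
    (φ : Y.scheme ⟶ X.scheme) [IsProper φ]
    (hφ : φ = e.hom ≫ Curv2.normalizationι (X.ptSub w).scheme ≫ X.ptSubι w)
    (L : T.PtPush φ (genericPoint Y.scheme) w) (M : A.Cat) (i n : ℤ) :
    Function.Bijective (L.cpt M i n).hom := by
  have hν : IsProper (Curv2.normalizationι (X.ptSub w).scheme) := by
    have h1 : IsProper ((e.hom ≫ Curv2.normalizationι (X.ptSub w).scheme) ≫ X.ptSubι w) := by
      rw [Category.assoc, ← hφ]; infer_instance
    have h2 : IsProper (e.hom ≫ Curv2.normalizationι (X.ptSub w).scheme) :=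
      IsProper.of_comp _ (X.ptSubι w)
    have h3 : Curv2.normalizationι (X.ptSub w).scheme =
        e.inv ≫ (e.hom ≫ Curv2.normalizationι (X.ptSub w).scheme) := by simp
    rw [h3]
    infer_instance
  obtain ⟨U₀, hU₀, hiso₀⟩ := exists_isIso_normalizationι_restrict (X.ptSub w).scheme
  have hgen : gen X w ∈ U₀ := gen_mem_of_nonempty X w U₀ ⟨_, hU₀⟩
  haveI : IsIso (Y.ptSubι (genericPoint Y.scheme)) := by
    haveI : Surjective (Y.ptSubι (genericPoint Y.scheme)) := by
      refine ⟨fun z => ?_⟩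
      have h1 : z ∈ Set.range (Y.ptSubι (genericPoint Y.scheme)) := by
        rw [range_ptSubι, (genericPoint_spec Y.scheme).def]
        trivial
      exact h1
    exact isIso_of_isClosedImmersion_of_surjective _
  obtain ⟨θ, hθ, hψ⟩ : ∃ θ : (Y.ptSub (genericPoint Y.scheme)).scheme ⟶
      Curv2.normalization (X.ptSub w).scheme, IsIso θ ∧
      psi φ (genericPoint Y.scheme) w L.maps_pt =
        θ ≫ Curv2.normalizationι (X.ptSub w).scheme := by
    refine ⟨Y.ptSubι (genericPoint Y.scheme) ≫ e.hom, inferInstance, ?_⟩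
    rw [← cancel_mono (X.ptSubι w), psi_fac, hφ]
    simp only [Category.assoc]
  apply ptPush_cpt_bijective_of_isIso T φ (genericPoint Y.scheme) w L U₀ hgen
  intro W'' hW''
  rw [hψ, morphismRestrict_comp]
  haveI h1 : IsIso (Curv2.normalizationι (X.ptSub w).scheme ∣_ W'') :=
    isIso_morphismRestrict_of_le _ hW''
  haveI h3 : IsIso (θ ∣_ (Curv2.normalizationι (X.ptSub w).scheme ⁻¹ᵁ W'')) := inferInstance
  exact @IsIso.comp_isIso _ _ _ _ _ _ _ h3 h1

end Groth.Agent.Lib.Helper79.BM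

end
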