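import Groth.Agent.Lib.Helper79.BMDiff1
import Groth.Agent.Lib.Helper79.BMPtPush2
import Mathlib

/-!
# Compatible multi-pieces under a proper morphism (helper79, BMCoh family)
-/

set_option autoImplicit false
universe u

noncomputable section

namespace Groth.Agent.Lib.Helper79.BM

open AlgebraicGeometry CategoryTheory CategoryTheory.Limits Opposite TopologicalSpace BMCoh
open Groth.Agent.Lib.Helper79.BMTop

variable {V : ObjectProperty Scheme.{u}} [IsConstructible V]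

/-- A pair of multi-pieces of `X` (codimension `q + 1`) and `Y` (codimension `1`) compatible
under `φ : Y ⟶ X`: the opens of `Y` are the preimages of those of `X`, and `t` sends the points of
the multi-piece of `Y` to points of the multi-piece of `X`. -/
structure MPair {Y X : Obj V} (φ : Y.scheme ⟶ X.scheme) (q : ℕ)
    (t : Y.cdPt (0 + 1) → X.cdPt (q + 1)) where
  MX : MPiece X (q + 1)
  MY : MPiece Y (0 + 1)
  hY : ∀ y : Y.scheme, y ∈ MY.Y ↔ φ y ∈ MX.Y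
  hU : ∀ y : Y.scheme, y ∈ MY.U ↔ φ y ∈ MX.U
  htB : ∀ y ∈ MY.B, t y ∈ MX.B
  hmaps : ∀ y : Y.cdPt (0 + 1), φ.base y.1 = (t y).1
  hdim : ((WeilCoh.dim X.scheme : ℕ) : ℤ) - ((WeilCoh.dim Y.scheme : ℕ) : ℤ) = (q : ℤ)

namespace MPair

variable {Y X : Obj V} {φ : Y.scheme ⟶ X.scheme} {q : ℕ} {t : Y.cdPt (0 + 1) → X.cdPt (q + 1)}
  (MP : MPair φ q t)

/-- the restriction of `φ` to the big opens -/
abbrev φY : (MP.MY.Y : Scheme.{u}) ⟶ (MP.MX.Y : Scheme.{u}) := resHom φ MP.MY.Y MP.MX.Y MP.hY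

/-- the restriction of `φ` to the small opens -/
abbrev φU : (MP.MY.U : Scheme.{u}) ⟶ (MP.MX.U : Scheme.{u}) := resHom φ MP.MY.U MP.MX.U MP.hU

theorem sqU : IsPullback (Y.scheme.homOfLE MP.MY.hUY) MP.φU MP.φY (X.scheme.homOfLE MP.MX.hUY) :=
  isPullback_resHom_le φ MP.MY.Y MP.MX.Y MP.hY MP.MY.U MP.MX.U MP.hU MP.MY.hUY MP.MX.hUY

/-- the scheme-theoretic preimage of the reduced closed part of `X` -/
abbrev Zt : Scheme.{u} := pullback MP.MX.Zι MP.φY

abbrev Ztι : MP.Zt ⟶ (MP.MY.Y : Scheme.{u}) := pullback.snd MP.MX.Zι MP.φY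

abbrev fZ : MP.Zt ⟶ MP.MX.Zs := pullback.fst MP.MX.Zι MP.φY

abbrev ZtObj : Obj V :=
  ⟨MP.Zt, IsConstructible.of_isClosedImmersion MP.Ztι (h := inferInstance) (Y.res MP.MY.Y).mem⟩

theorem φY_apply (y : (MP.MY.Y : Scheme.{u})) : MP.MX.Y.ι (MP.φY y) = φ (MP.MY.Y.ι y) := by
  rw [← Scheme.Hom.comp_apply, resHom_ι, Scheme.Hom.comp_apply]

theorem range_Ztι : Set.range MP.Ztι = {y | MP.MY.Y.ι y ∉ MP.MY.U} := by
  rw [Scheme.Pullback.range_snd, MP.MX.range_Zι]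
  ext y
  simp only [Set.mem_preimage, Set.mem_ofPred_eq]
  rw [MP.φY_apply, MP.hU]

/-- the decomposition of the big open of `Y` whose closed part is the scheme-theoretic preimage -/
def Dt : Decomp (Y.res MP.MY.Y) where
  Z := MP.ZtObj
  U := Y.res MP.MY.U
  i := MP.Ztι
  closedImm := inferInstance
  j := MP.MY.decomp.j
  range_eq := by
    have h := MP.MY.decomp.range_eq
    change Set.range _ = (Set.range MP.MY.Zι)ᶜ at h
    change Set.range _ = (Set.range MP.Ztι)ᶜ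
    rw [MP.range_Ztι]
    rw [MP.MY.range_Zι] at h
    exact h

theorem range_Zι_subset : Set.range MP.MY.Zι ⊆ Set.range MP.Ztι := by
  rw [MP.range_Ztι, MP.MY.range_Zι]

/-- the reduced closed part of `Y` inside the scheme-theoretic preimage -/
def k : MP.MY.Zs ⟶ MP.Zt :=
  (Groth.Agent.S2285.exists_factor_of_isReduced MP.MY.Zι MP.Ztι MP.range_Zι_subset).choose

@[reassoc]
theorem k_fac : MP.k ≫ MP.Ztι = MP.MY.Zι :=
  (Groth.Agent.S2285.exists_factor_of_isReduced MP.MY.Zι MP.Ztι MP.range_Zι_subset).choose_spec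

instance : IsClosedImmersion MP.k := by
  have : IsClosedImmersion (MP.k ≫ MP.Ztι) := by rw [MP.k_fac]; infer_instance
  exact IsClosedImmersion.of_comp_isClosedImmersion MP.k MP.Ztι

theorem k_surjective : Function.Surjective MP.k := by
  intro z
  have hz : MP.Ztι z ∈ Set.range MP.MY.Zι := by
    rw [MP.MY.range_Zι, ← MP.range_Ztι]
    exact ⟨z, rfl⟩
  obtain ⟨z', hz'⟩ := hz
  refine ⟨z', ?_⟩
  apply MP.Ztι.isClosedEmbedding.injective
  rw [← hz', ← Scheme.Hom.comp_apply, MP.k_fac]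

instance : Surjective MP.k := ⟨MP.k_surjective⟩

theorem dimZt : WeilCoh.dim MP.Zt = WeilCoh.dim MP.MY.Zs :=
  (natDim_homeomorph
    (MP.k.isClosedEmbedding.isEmbedding.toHomeomorphOfSurjective MP.k_surjective)).symm

variable [IsProper φ]

/-- the induced proper morphism between the reduced closed parts -/
def κ : MP.MY.Zs ⟶ MP.MX.Zs := MP.k ≫ MP.fZ

instance : IsProper MP.κ := inferInstanceAs (IsProper (MP.k ≫ MP.fZ))

@[reassoc]
theorem κ_fac : MP.κ ≫ MP.MX.Zι = MP.MY.Zι ≫ MP.φY := by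
  unfold κ
  rw [Category.assoc, pullback.condition, ← Category.assoc, MP.k_fac]

/-- the point of the multi-piece of `X` under a point of the multi-piece of `Y` -/
abbrev xB (y : MP.MY.B) : MP.MX.B := ⟨t y.1, MP.htB y.1 y.2⟩

/-- the morphism between the reduced closures of a point of `Y` and its image -/
abbrev ψ (y : MP.MY.B) : (Y.ptSub y.1.1).scheme ⟶ (X.ptSub (t y.1).1).scheme :=
  PtPushAux.psi φ y.1.1 (t y.1).1 (MP.hmaps y.1)

theorem hW (y : MP.MY.B) (z : (Y.ptSub y.1.1).scheme) :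
    z ∈ (MP.MY.cp y).W ↔ (MP.ψ y) z ∈ (MP.MX.cp (MP.xB y)).W := by
  change (Y.ptSubι y.1.1) z ∈ MP.MY.Y ↔ (X.ptSubι (t y.1).1) ((MP.ψ y) z) ∈ MP.MX.Y
  rw [MP.hY, ← Scheme.Hom.comp_apply, ← Scheme.Hom.comp_apply, PtPushAux.psi_fac]

/-- the induced proper morphism between the closed pieces -/
abbrev κp (y : MP.MY.B) : (MP.MY.cp y).G.scheme ⟶ (MP.MX.cp (MP.xB y)).G.scheme :=
  resHom (MP.ψ y) (MP.MY.cp y).W (MP.MX.cp (MP.xB y)).W (MP.hW y)

theorem κp_comp (y : MP.MY.B) :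
    MP.κp y ≫ (MP.MX.cp (MP.xB y)).W.ι ≫ X.ptSubι (t y.1).1 =
      (MP.MY.cp y).W.ι ≫ Y.ptSubι y.1.1 ≫ φ := by
  rw [resHom_ι_assoc, PtPushAux.psi_fac]

theorem κp_fac (y : MP.MY.B) :
    (MP.MY.gObj y).hom ≫ MP.κ = MP.κp y ≫ (MP.MX.gObj (MP.xB y)).hom := by
  rw [← cancel_mono MP.MX.Zι, ← cancel_mono MP.MX.Y.ι]
  change (MP.MY.gs y ≫ MP.κ) ≫ MP.MX.Zι ≫ MP.MX.Y.ι =
    (MP.κp y ≫ MP.MX.gs (MP.xB y)) ≫ MP.MX.Zι ≫ MP.MX.Y.ι
  rw [Category.assoc, MP.κ_fac_assoc, resHom_ι, MP.MY.gs_fac_assoc, (MP.MY.cp y).i_fac_assoc,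
    Category.assoc, MP.MX.gs_fac_assoc, (MP.MX.cp (MP.xB y)).i_fac, MP.κp_comp y]

end MPair

end Groth.Agent.Lib.Helper79.BM

end
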