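import Groth.Agent.Lib.Helper79.BMDiff2
import Mathlib

/-!
# The residue of a push-forward along a compatible pair of multi-pieces
(helper79, BMCoh family)
-/

set_option autoImplicit false
universe u

noncomputable section

namespace Groth.Agent.Lib.Helper79.BM

open AlgebraicGeometry CategoryTheory CategoryTheory.Limits Opposite TopologicalSpace BMCoh
open Groth.Agent.Lib.Helper79.BMTop

variable {V : ObjectProperty Scheme.{u}} [IsConstructible V]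
variable {R : Type u} [CommRing R] {A : Coefs R}

/-- the compatibility of the residue maps with replacing the closed part of a decomposition by a
closed subscheme with the same support -/
def HRed (T : PreTheory V R A) : Prop :=
  ∀ (S : BMCoh.Obj V) (D D'' : BMCoh.Decomp S) (gU : D''.U ⟶ D.U)
    (k : D''.Z.scheme ⟶ D.Z.scheme) [IsClosedImmersion k] [AlgebraicGeometry.Surjective k],
    gU ≫ D.j = D''.j → k ≫ D.i = D''.i →
    ∀ (M : A.Cat) (i n i' n' : ℤ) (hi : i' = i + 1 - 2 * D.codim) (hn : n' = n - D.codim)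
      (hi'' : i' = i + 1 - 2 * D''.codim) (hn'' : n' = n - D''.codim)
      (hk : i' = i' + 2 * BMCoh.relCodim D''.Z.scheme D.Z.scheme)
      (hk' : n' = n' + BMCoh.relCodim D''.Z.scheme D.Z.scheme),
    T.pull gU M i n ≫ T.res D'' M i n i' n' hi'' hn'' ≫ T.push k M i' n' i' n' hk hk' =
      T.res D M i n i' n' hi hn

namespace MPair

variable {Y X : Obj V} {φ : Y.scheme ⟶ X.scheme} {q : ℕ} {t : Y.cdPt (0 + 1) → X.cdPt (q + 1)}
  (MP : MPair φ q t)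

theorem relCodim_U : relCodim (Y.res MP.MY.U).scheme (X.res MP.MX.U).scheme = (q : ℤ) := by
  have h1 := MP.MY.hdim
  have h2 := MP.MX.hdim
  have h3 := MP.hdim
  unfold relCodim
  change ((WeilCoh.dim (MP.MX.U : Scheme.{u}) : ℕ) : ℤ) -
    ((WeilCoh.dim (MP.MY.U : Scheme.{u}) : ℕ) : ℤ) = _
  rw [h1, h2]
  exact h3

theorem relCodim_k : relCodim MP.MY.ZObj.scheme MP.ZtObj.scheme = 0 := by
  have h1 := MP.dimZt
  unfold relCodim
  change ((WeilCoh.dim MP.Zt : ℕ) : ℤ) - ((WeilCoh.dim MP.MY.Zs : ℕ) : ℤ) = 0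
  omega

theorem codim_Dt : MP.Dt.codim = MP.MY.decomp.codim := by
  have h1 := MP.dimZt
  unfold Decomp.codim relCodim
  change ((WeilCoh.dim (MP.MY.Y : Scheme.{u}) : ℕ) : ℤ) - ((WeilCoh.dim MP.Zt : ℕ) : ℤ) =
    ((WeilCoh.dim (MP.MY.Y : Scheme.{u}) : ℕ) : ℤ) - ((WeilCoh.dim MP.MY.Zs : ℕ) : ℤ)
  rw [h1]

theorem dimZs_eq (y : MP.MY.B) : WeilCoh.dim MP.MY.Zs = WeilCoh.dim MP.MX.Zs := by
  have h1 := MP.MY.dimZs y
  have h2 := MP.MY.dimG y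
  have h3 := MP.MY.c_le y
  have h4 := MP.MX.dimZs (MP.xB y)
  have h5 := MP.MX.dimG (MP.xB y)
  have h6 := MP.MX.c_le (MP.xB y)
  have h7 := MP.hdim
  omega

theorem relCodim_fZ (y : MP.MY.B) : relCodim MP.ZtObj.scheme MP.MX.ZObj.scheme = 0 := by
  have h1 := MP.dimZt
  have h2 := MP.dimZs_eq y
  unfold relCodim
  change ((WeilCoh.dim MP.MX.Zs : ℕ) : ℤ) - ((WeilCoh.dim MP.Zt : ℕ) : ℤ) = 0
  omega

theorem relCodim_κ (y : MP.MY.B) : relCodim MP.MY.ZObj.scheme MP.MX.ZObj.scheme = 0 := by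
  have h2 := MP.dimZs_eq y
  unfold relCodim
  change ((WeilCoh.dim MP.MX.Zs : ℕ) : ℤ) - ((WeilCoh.dim MP.MY.Zs : ℕ) : ℤ) = 0
  omega

theorem relCodim_κp (y : MP.MY.B) :
    relCodim (MP.MY.cp y).G.scheme (MP.MX.cp (MP.xB y)).G.scheme = 0 := by
  have h1 := MP.MY.dimZs y
  have h4 := MP.MX.dimZs (MP.xB y)
  have h2 := MP.dimZs_eq y
  unfold relCodim
  omega

variable [IsProper φ] {T : PreTheory V R A}

/-- the residue of the multi-piece of `X` after push-forward along `φ` is the push-forward of the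
residue of the multi-piece of `Y` -/
theorem res_push_κ (hred : HRed T) (y₀ : MP.MY.B) (M : A.Cat) (i₁ n₁ i₂ n₂ i₃ n₃ : ℤ)
    (hc : i₁ = i₃ + 2 * relCodim (Y.res MP.MY.U).scheme (X.res MP.MX.U).scheme)
    (hc' : n₁ = n₃ + relCodim (Y.res MP.MY.U).scheme (X.res MP.MX.U).scheme)
    (hX : i₂ = i₁ + 1 - 2 * MP.MX.decomp.codim) (hX' : n₂ = n₁ - MP.MX.decomp.codim)
    (hYd : i₂ = i₃ + 1 - 2 * MP.MY.decomp.codim) (hYd' : n₂ = n₃ - MP.MY.decomp.codim)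
    (hκ : i₂ = i₂ + 2 * relCodim MP.MY.ZObj.scheme MP.MX.ZObj.scheme)
    (hκ' : n₂ = n₂ + relCodim MP.MY.ZObj.scheme MP.MX.ZObj.scheme)
    (c : T.gp (Y.res MP.MY.U) M i₃ n₃) :
    (T.res MP.MX.decomp M i₁ n₁ i₂ n₂ hX hX').hom
        ((T.push (X := Y.res MP.MY.U) (Y := X.res MP.MX.U) MP.φU M i₃ n₃ i₁ n₁ hc hc').hom c) =
      (T.push (X := MP.MY.ZObj) (Y := MP.MX.ZObj) MP.κ M i₂ n₂ i₂ n₂ hκ hκ').hom
        ((T.res MP.MY.decomp M i₃ n₃ i₂ n₂ hYd hYd').hom c) := by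
  have hDt : i₂ = i₃ + 1 - 2 * MP.Dt.codim := by rw [MP.codim_Dt]; exact hYd
  have hDt' : n₂ = n₃ - MP.Dt.codim := by rw [MP.codim_Dt]; exact hYd'
  have hk : i₂ = i₂ + 2 * relCodim MP.MY.decomp.Z.scheme MP.Dt.Z.scheme := by
    rw [show relCodim MP.MY.decomp.Z.scheme MP.Dt.Z.scheme = 0 from MP.relCodim_k]; ring
  have hk' : n₂ = n₂ + relCodim MP.MY.decomp.Z.scheme MP.Dt.Z.scheme := by
    rw [show relCodim MP.MY.decomp.Z.scheme MP.Dt.Z.scheme = 0 from MP.relCodim_k]; ring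
  have hf : i₂ = i₂ + 2 * relCodim MP.Dt.Z.scheme MP.MX.decomp.Z.scheme := by
    rw [show relCodim MP.Dt.Z.scheme MP.MX.decomp.Z.scheme = 0 from MP.relCodim_fZ y₀]; ring
  have hf' : n₂ = n₂ + relCodim MP.Dt.Z.scheme MP.MX.decomp.Z.scheme := by
    rw [show relCodim MP.Dt.Z.scheme MP.MX.decomp.Z.scheme = 0 from MP.relCodim_fZ y₀]; ring
  have sqZ : IsPullback MP.Dt.i MP.fZ MP.φY MP.MX.decomp.i :=
    (IsPullback.of_hasPullback MP.MX.Zι MP.φY).flip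
  have sqU' : IsPullback MP.Dt.j.hom MP.φU MP.φY MP.MX.decomp.j.hom := MP.sqU
  have iZ : @IsProper MP.Dt.Z.scheme MP.MX.decomp.Z.scheme MP.fZ :=
    inferInstanceAs (IsProper (pullback.fst MP.MX.Zι MP.φY))
  have iU : @IsProper MP.Dt.U.scheme MP.MX.decomp.U.scheme MP.φU :=
    inferInstanceAs (IsProper MP.φU)
  have iY : @IsProper (Y.res MP.MY.Y).scheme (X.res MP.MX.Y).scheme MP.φY :=
    inferInstanceAs (IsProper MP.φY)
  have ik : @IsClosedImmersion MP.MY.decomp.Z.scheme MP.Dt.Z.scheme MP.k :=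
    inferInstanceAs (IsClosedImmersion MP.k)
  have ik' : @AlgebraicGeometry.Surjective MP.MY.decomp.Z.scheme MP.Dt.Z.scheme MP.k :=
    inferInstanceAs (AlgebraicGeometry.Surjective MP.k)
  have ik2 : @IsProper MP.MY.decomp.Z.scheme MP.Dt.Z.scheme MP.k :=
    inferInstanceAs (IsProper MP.k)
  have ik3 : @IsProper MP.MY.ZObj.scheme MP.ZtObj.scheme MP.k :=
    inferInstanceAs (IsProper MP.k)
  have iZ3 : @IsProper MP.ZtObj.scheme MP.MX.ZObj.scheme MP.fZ :=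
    inferInstanceAs (IsProper (pullback.fst MP.MX.Zι MP.φY))
  have h1 := T.res_push MP.MX.decomp MP.Dt MP.φY MP.fZ MP.φU sqZ sqU' M i₃ n₃ i₂ n₂ i₁ n₁ i₂ n₂
    hDt hDt' hc hc' hf hf' hX hX'
  have h2 := hred (Y.res MP.MY.Y) MP.Dt MP.MY.decomp (𝟙 _) MP.k (Category.id_comp _) MP.k_fac
    M i₃ n₃ i₂ n₂ hDt hDt' hYd hYd' hk hk'
  have h3 := T.push_comp (X := MP.MY.ZObj) (Y := MP.ZtObj) (Z := MP.MX.ZObj) MP.k MP.fZ M
    i₂ n₂ i₂ n₂ i₂ n₂ hk hk' hf hf' hκ hκ'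
  have e1 : (T.push (X := MP.Dt.Z) (Y := MP.MX.decomp.Z) MP.fZ M i₂ n₂ i₂ n₂ hf hf').hom
      ((T.res MP.Dt M i₃ n₃ i₂ n₂ hDt hDt').hom c) =
      (T.res MP.MX.decomp M i₁ n₁ i₂ n₂ hX hX').hom
        ((T.push (X := Y.res MP.MY.U) (Y := X.res MP.MX.U) MP.φU M i₃ n₃ i₁ n₁ hc hc').hom c) :=
    congrArg (fun ψ' => ψ'.hom c) h1
  have e2 : (T.push (X := MP.MY.decomp.Z) (Y := MP.Dt.Z) MP.k M i₂ n₂ i₂ n₂ hk hk').hom
      ((T.res MP.MY.decomp M i₃ n₃ i₂ n₂ hYd hYd').hom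
        ((T.pull (𝟙 (Y.res MP.MY.U)) M i₃ n₃).hom c)) =
      (T.res MP.Dt M i₃ n₃ i₂ n₂ hDt hDt').hom c :=
    congrArg (fun ψ' => ψ'.hom c) h2
  have e3 : (T.push (X := MP.ZtObj) (Y := MP.MX.ZObj) MP.fZ M i₂ n₂ i₂ n₂ hf hf').hom
      ((T.push (X := MP.MY.ZObj) (Y := MP.ZtObj) MP.k M i₂ n₂ i₂ n₂ hk hk').hom
        ((T.res MP.MY.decomp M i₃ n₃ i₂ n₂ hYd hYd').hom c)) =
      (T.push (X := MP.MY.ZObj) (Y := MP.MX.ZObj) (MP.k ≫ MP.fZ) M i₂ n₂ i₂ n₂ hκ hκ').hom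
        ((T.res MP.MY.decomp M i₃ n₃ i₂ n₂ hYd hYd').hom c) :=
    congrArg (fun ψ' => ψ'.hom ((T.res MP.MY.decomp M i₃ n₃ i₂ n₂ hYd hYd').hom c)) h3
  rw [pull_id_apply] at e2
  rw [← e1, ← e2]
  exact e3

/-- the total residue of a push-forward along `φ` of a class on the small open, computed through
the push-forward data between the groups of the points of the two multi-pieces -/
theorem main (hred : HRed T) (Q : T.ResData X q) (Q' : T.ResData Y 0)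
    (F : ∀ y : Y.cdPt (0 + 1), T.PtPush φ y.1 (t y).1)
    (hUX : ContainsFj X q MP.MX.U) (hUY : ContainsFj Y 0 MP.MY.U)
    (hYX : ContainsFj X (q + 1) MP.MX.Y) (hYY : ContainsFj Y (0 + 1) MP.MY.Y)
    (hsurj : ∀ x ∈ MP.MX.B, ∃ y ∈ MP.MY.B, t y = x)
    (M : A.Cat) (i₁ n₁ i₂ n₂ i₃ n₃ : ℤ)
    (h2 : i₂ = i₁ + 1 - 2 * ((q : ℤ) + 1)) (h2' : n₂ = n₁ - ((q : ℤ) + 1))
    (h4 : i₂ = i₃ + 1 - 2 * (((0 : ℕ) : ℤ) + 1)) (h4' : n₂ = n₃ - (((0 : ℕ) : ℤ) + 1))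
    (hc : i₁ = i₃ + 2 * relCodim (Y.res MP.MY.U).scheme (X.res MP.MX.U).scheme)
    (hc' : n₁ = n₃ + relCodim (Y.res MP.MY.U).scheme (X.res MP.MX.U).scheme)
    (c : T.gp (Y.res MP.MY.U) M i₃ n₃) :
    (Q.tot M i₁ n₁ i₂ n₂ h2 h2').hom (((T.fjι X q i₁ n₁ ⟨MP.MX.U, hUX, MP.MX.hdim⟩).app M).hom
      ((T.push (X := Y.res MP.MY.U) (Y := X.res MP.MX.U) MP.φU M i₃ n₃ i₁ n₁ hc hc').hom c)) =
    (PreTheory.PtPush.famTot t F M i₂ n₂).hom ((Q'.tot M i₃ n₃ i₂ n₂ h4 h4').hom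
      (((T.fjι Y 0 i₃ n₃ ⟨MP.MY.U, hUY, MP.MY.hdim⟩).app M).hom c)) := by
  classical
  have hL0 : ∀ x : X.cdPt (q + 1), x ∉ MP.MX.B →
      ((Q.tot M i₁ n₁ i₂ n₂ h2 h2').hom (((T.fjι X q i₁ n₁ ⟨MP.MX.U, hUX, MP.MX.hdim⟩).app M).hom
        ((T.push (X := Y.res MP.MY.U) (Y := X.res MP.MX.U) MP.φU M i₃ n₃ i₁ n₁ hc hc').hom c)))
        x = 0 := by
    intro x hx
    rw [PreTheory.ResData.tot_apply]
    exact res_zero_of_mem Q x.1 x.2 ⟨MP.MX.U, hUX, MP.MX.hdim⟩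
      (MP.MX.mem_U_of_not_mem_B hYX x hx) M i₁ n₁ i₂ n₂ h2 h2' _
  have hR0 : ∀ y : Y.cdPt (0 + 1), y ∉ MP.MY.B →
      ((Q'.tot M i₃ n₃ i₂ n₂ h4 h4').hom
        (((T.fjι Y 0 i₃ n₃ ⟨MP.MY.U, hUY, MP.MY.hdim⟩).app M).hom c)) y = 0 := by
    intro y hy
    rw [PreTheory.ResData.tot_apply]
    exact res_zero_of_mem Q' y.1 y.2 ⟨MP.MY.U, hUY, MP.MY.hdim⟩
      (MP.MY.mem_U_of_not_mem_B hYY y hy) M i₃ n₃ i₂ n₂ h4 h4' _
  rw [dsum_eq_sum (R := R) ((Q.tot M i₁ n₁ i₂ n₂ h2 h2').hom _) MP.MX.B hL0,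
    dsum_eq_sum (R := R) ((Q'.tot M i₃ n₃ i₂ n₂ h4 h4').hom _) MP.MY.B hR0, map_sum]
  rcases MP.MY.B.eq_empty_or_nonempty with hB | ⟨y₀', hy₀'⟩
  · have hBX : MP.MX.B = ∅ := by
      rw [Finset.eq_empty_iff_forall_notMem]
      intro x hx
      obtain ⟨y, hy, _⟩ := hsurj x hx
      rw [hB] at hy
      exact absurd hy (Finset.notMem_empty y)
    rw [hB, hBX, Finset.sum_empty, Finset.sum_empty]
  · let y₀ : MP.MY.B := ⟨y₀', hy₀'⟩
    have hDX : MP.MX.decomp.codim = ((q + 1 : ℕ) : ℤ) := MP.MX.codim_eq (MP.xB y₀)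
    have hDY : MP.MY.decomp.codim = ((0 + 1 : ℕ) : ℤ) := MP.MY.codim_eq y₀
    have hiDX : i₂ = i₁ + 1 - 2 * MP.MX.decomp.codim := by rw [hDX]; push_cast; exact h2
    have hnDX : n₂ = n₁ - MP.MX.decomp.codim := by rw [hDX]; push_cast; exact h2'
    have hiDY : i₂ = i₃ + 1 - 2 * MP.MY.decomp.codim := by rw [hDY]; push_cast; exact h4
    have hnDY : n₂ = n₃ - MP.MY.decomp.codim := by rw [hDY]; push_cast; exact h4'
    have hκ : i₂ = i₂ + 2 * relCodim MP.MY.ZObj.scheme MP.MX.ZObj.scheme := by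
      rw [MP.relCodim_κ y₀]; ring
    have hκ' : n₂ = n₂ + relCodim MP.MY.ZObj.scheme MP.MX.ZObj.scheme := by
      rw [MP.relCodim_κ y₀]; ring
    have hgY : ∀ y : MP.MY.B, i₂ = i₂ + 2 * relCodim (MP.MY.cp y).G.scheme MP.MY.ZObj.scheme :=
      fun y => by rw [relCodim_of_hom (MP.MY.gObj y)]; ring
    have hgY' : ∀ y : MP.MY.B, n₂ = n₂ + relCodim (MP.MY.cp y).G.scheme MP.MY.ZObj.scheme :=
      fun y => by rw [relCodim_of_hom (MP.MY.gObj y)]; ring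
    have hgX : ∀ x : MP.MX.B, i₂ = i₂ + 2 * relCodim (MP.MX.cp x).G.scheme MP.MX.ZObj.scheme :=
      fun x => by rw [relCodim_of_hom (MP.MX.gObj x)]; ring
    have hgX' : ∀ x : MP.MX.B, n₂ = n₂ + relCodim (MP.MX.cp x).G.scheme MP.MX.ZObj.scheme :=
      fun x => by rw [relCodim_of_hom (MP.MX.gObj x)]; ring
    have hp : ∀ y : MP.MY.B, i₂ = i₂ + 2 *
        relCodim (MP.MY.cp y).G.scheme (MP.MX.cp (MP.xB y)).G.scheme := fun y => by
      rw [MP.relCodim_κp y]; ring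
    have hp' : ∀ y : MP.MY.B, n₂ = n₂ +
        relCodim (MP.MY.cp y).G.scheme (MP.MX.cp (MP.xB y)).G.scheme := fun y => by
      rw [MP.relCodim_κp y]; ring
    have hgκ : ∀ y : MP.MY.B, i₂ = i₂ + 2 *
        relCodim (MP.MY.cp y).G.scheme MP.MX.ZObj.scheme := fun y => by
      have h1 := relCodim_of_hom (MP.MY.gObj y)
      have h2 := MP.relCodim_κ y₀
      unfold relCodim at h1 h2 ⊢
      omega
    have hgκ' : ∀ y : MP.MY.B, n₂ = n₂ +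
        relCodim (MP.MY.cp y).G.scheme MP.MX.ZObj.scheme := fun y => by
      have h1 := relCodim_of_hom (MP.MY.gObj y)
      have h2 := MP.relCodim_κ y₀
      unfold relCodim at h1 h2 ⊢
      omega
    -- the classes
    let ζ : T.gp MP.MY.ZObj M i₂ n₂ := (T.res MP.MY.decomp M i₃ n₃ i₂ n₂ hiDY hnDY).hom c
    let ζy : ∀ y : MP.MY.B, T.gp (MP.MY.cp y).G M i₂ n₂ := fun y =>
      (T.pull (MP.MY.gObj y) M i₂ n₂).hom ζ
    let v : ∀ y : MP.MY.B, T.gp (MP.MX.cp (MP.xB y)).G M i₂ n₂ := fun y =>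
      (T.push (X := (MP.MY.cp y).G) (Y := (MP.MX.cp (MP.xB y)).G) (MP.κp y) M i₂ n₂ i₂ n₂
        (hp y) (hp' y)).hom (ζy y)
    -- the push-forward of the residue, decomposed
    have hζ : ∑ y : MP.MY.B, (T.push (MP.MY.gObj y).hom M i₂ n₂ i₂ n₂ (hgY y) (hgY' y)).hom (ζy y)
        = ζ :=
      sum_push_pull_pre T MP.MY.gObj (fun z => MP.MY.exists_mem_range_gs z)
        (fun a b hab => MP.MY.disjoint_range_gs a b hab) M i₂ n₂ hgY hgY' ζ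
    have hκy : ∀ y : MP.MY.B,
        (T.push (X := MP.MY.ZObj) (Y := MP.MX.ZObj) MP.κ M i₂ n₂ i₂ n₂ hκ hκ').hom
          ((T.push (MP.MY.gObj y).hom M i₂ n₂ i₂ n₂ (hgY y) (hgY' y)).hom (ζy y)) =
        (T.push (MP.MX.gObj (MP.xB y)).hom M i₂ n₂ i₂ n₂ (hgX _) (hgX' _)).hom (v y) := by
      intro y
      have c1 := T.push_comp (X := (MP.MY.cp y).G) (Y := MP.MY.ZObj) (Z := MP.MX.ZObj)
        (MP.MY.gObj y).hom MP.κ M i₂ n₂ i₂ n₂ i₂ n₂ (hgY y) (hgY' y) hκ hκ' (hgκ y) (hgκ' y)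
      have c2 := T.push_comp (X := (MP.MY.cp y).G) (Y := (MP.MX.cp (MP.xB y)).G)
        (Z := MP.MX.ZObj) (MP.κp y) (MP.MX.gObj (MP.xB y)).hom M i₂ n₂ i₂ n₂ i₂ n₂
        (hp y) (hp' y) (hgX _) (hgX' _) (hgκ y) (hgκ' y)
      have c3 := push_congr T (X' := (MP.MY.cp y).G) (Y' := MP.MX.ZObj) (MP.κp_fac y) M i₂ n₂
        i₂ n₂ (hgκ y) (hgκ' y)
      have d1 := congrArg (fun ψ' => ψ'.hom (ζy y)) c1
      have d2 := congrArg (fun ψ' => ψ'.hom (ζy y)) c2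
      have d3 := congrArg (fun ψ' => ψ'.hom (ζy y)) c3
      exact d1.trans (d3.trans d2.symm)
    have hκζ : (T.push (X := MP.MY.ZObj) (Y := MP.MX.ZObj) MP.κ M i₂ n₂ i₂ n₂ hκ hκ').hom ζ =
        ∑ y : MP.MY.B, (T.push (MP.MX.gObj (MP.xB y)).hom M i₂ n₂ i₂ n₂ (hgX _) (hgX' _)).hom
          (v y) := by
      rw [← hζ, map_sum]
      exact Finset.sum_congr rfl (fun y _ => hκy y)
    -- the components on `X`
    have hx : ∀ x : MP.MX.B,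
        ((Q.tot M i₁ n₁ i₂ n₂ h2 h2').hom
          (((T.fjι X q i₁ n₁ ⟨MP.MX.U, hUX, MP.MX.hdim⟩).app M).hom
          ((T.push (X := Y.res MP.MY.U) (Y := X.res MP.MX.U) MP.φU M i₃ n₃ i₁ n₁ hc hc').hom c)))
          x.1 =
        ((T.ptι X x.1.1 i₂ n₂ (MP.MX.cp x).Widx).app M).hom
          (∑ y : MP.MY.B, (T.pull (MP.MX.gObj x) M i₂ n₂).hom
            ((T.push (MP.MX.gObj (MP.xB y)).hom M i₂ n₂ i₂ n₂ (hgX _) (hgX' _)).hom (v y))) := by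
      intro x
      rw [PreTheory.ResData.tot_apply,
        MP.MX.res_formula Q hUX x M i₁ n₁ i₂ n₂ h2 h2' hiDX hnDX,
        MP.res_push_κ hred y₀ M i₁ n₁ i₂ n₂ i₃ n₃ hc hc' hiDX hnDX hiDY hnDY hκ hκ' c]
      change ((T.ptι X x.1.1 i₂ n₂ (MP.MX.cp x).Widx).app M).hom
        ((T.pull (MP.MX.gObj x) M i₂ n₂).hom
          ((T.push (X := MP.MY.ZObj) (Y := MP.MX.ZObj) MP.κ M i₂ n₂ i₂ n₂ hκ hκ').hom ζ)) = _
      rw [hκζ, map_sum]
    -- the components on `Y`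
    have hy : ∀ y : MP.MY.B,
        ((F y.1).cpt M i₂ n₂).hom (((Q'.tot M i₃ n₃ i₂ n₂ h4 h4').hom
          (((T.fjι Y 0 i₃ n₃ ⟨MP.MY.U, hUY, MP.MY.hdim⟩).app M).hom c)) y.1) =
        ((T.ptι X (t y.1).1 i₂ n₂ (MP.MX.cp (MP.xB y)).Widx).app M).hom (v y) := by
      intro y
      rw [PreTheory.ResData.tot_apply,
        MP.MY.res_formula Q' hUY y M i₃ n₃ i₂ n₂ h4 h4' hiDY hnDY]
      have := (F y.1).cpt_spec M i₂ n₂ (MP.MY.cp y).Widx (MP.MX.cp (MP.xB y)).Widx (MP.κp y)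
        (MP.κp_comp y) (hp y) (hp' y)
      exact congrArg (fun ψ' => ψ'.hom (ζy y)) this
    -- assemble
    have HL : ∑ x ∈ MP.MX.B, DirectSum.lof R (X.cdPt (q + 1))
          (fun z : X.cdPt (q + 1) => T.ptGp X z.1 M i₂ n₂) x
          (((Q.tot M i₁ n₁ i₂ n₂ h2 h2').hom
            (((T.fjι X q i₁ n₁ ⟨MP.MX.U, hUX, MP.MX.hdim⟩).app M).hom
            ((T.push (X := Y.res MP.MY.U) (Y := X.res MP.MX.U) MP.φU M i₃ n₃ i₁ n₁ hc
              hc').hom c))) x) =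
        ∑ y : MP.MY.B, DirectSum.lof R (X.cdPt (q + 1))
          (fun z : X.cdPt (q + 1) => T.ptGp X z.1 M i₂ n₂) (t y.1)
          (((T.ptι X (t y.1).1 i₂ n₂ (MP.MX.cp (MP.xB y)).Widx).app M).hom (v y)) := by
      rw [← Finset.sum_coe_sort]
      rw [Finset.sum_congr rfl (fun x _ => by rw [hx x, map_sum, map_sum])]
      rw [Finset.sum_comm]
      apply Finset.sum_congr rfl
      intro y _
      rw [Finset.sum_eq_single (MP.xB y)]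
      · rw [pull_push_self MP.MX.gObj T (MP.xB y) M i₂ n₂ (hgX _) (hgX' _) (v y)]
      · intro x _ hne
        rw [pull_push_of_ne MP.MX.gObj T (fun z => MP.MX.exists_mem_range_gs z)
          (fun a b hab => MP.MX.disjoint_range_gs a b hab) (MP.xB y) x (Ne.symm hne) M i₂ n₂
          (hgX _) (hgX' _) (v y), map_zero, map_zero]
      · intro h
        exact absurd (Finset.mem_univ _) h
    rw [HL, ← Finset.sum_coe_sort MP.MY.B]
    apply Finset.sum_congr rfl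
    intro y _
    rw [PreTheory.PtPush.famTot_lof, hy y]

end MPair

end Groth.Agent.Lib.Helper79.BM

end
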