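import Groth.Agent.Lib.Helper79.BMDiff3
import Mathlib

/-!
# The first differential of the coniveau spectral sequence through the normalisation
(helper79, BMCoh family)
-/

set_option autoImplicit false
universe u

noncomputable section

namespace Groth.Agent.Lib.Helper79.BM

open AlgebraicGeometry CategoryTheory CategoryTheory.Limits Opposite TopologicalSpace BMCoh
open Groth.Agent.Lib.Helper79.BMTop

variable {V : ObjectProperty Scheme.{u}} [IsConstructible V]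
variable {R : Type u} [CommRing R] {A : Coefs R}

theorem pdim_map_le {Y X : Obj V} (φ : Y.scheme ⟶ X.scheme) [IsProper φ] (z : Y.scheme) :
    WeilCoh.pdim X.scheme (φ z) ≤ WeilCoh.pdim Y.scheme z :=
  pd_map_le φ.continuous φ.isClosedMap (finDim Y) (finDim X) (pd z) z rfl

/-- a proper morphism raises codimensions at least by the difference of the dimensions -/
theorem codim_map_ge {Y X : Obj V} (φ : Y.scheme ⟶ X.scheme) [IsProper φ] (q : ℕ)
    (hdim : ((WeilCoh.dim X.scheme : ℕ) : ℤ) - ((WeilCoh.dim Y.scheme : ℕ) : ℤ) = (q : ℤ))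
    (z : Y.scheme) : q + WeilCoh.codim Y.scheme z ≤ WeilCoh.codim X.scheme (φ z) := by
  have h1 := pdim_map_le φ z
  have h2 := pdim_le_dim Y z
  have h3 := pdim_le_dim X (φ z)
  unfold WeilCoh.codim
  omega

/-- the first differential: residue after push-forward from a point `w` of codimension `q`
computed on a proper `φ : Y ⟶ X` from an object with a generic point `η` over `w` -/
theorem first_differential (T : PreTheory V R A) (hred : HRed T) (X : Obj V) (q : ℕ)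
    (w : X.cdPt q) (Y : Obj V) (φ : Y.scheme ⟶ X.scheme) [IsProper φ] (η : Y.scheme)
    (hgen : ∀ y : Y.scheme, η ⤳ y) (hη : WeilCoh.codim Y.scheme η = 0)
    (P : T.PushData X q) (Q : T.ResData X q) (L : T.PtPush φ η w.1)
    (P' : T.PushData Y 0) (Q' : T.ResData Y 0) (t : Y.cdPt (0 + 1) → X.cdPt (q + 1))
    (F : ∀ y : Y.cdPt (0 + 1), T.PtPush φ y.1 (t y).1)
    (M : A.Cat) (i n i₁ n₁ i₂ n₂ i₃ n₃ : ℤ)
    (h1 : i₁ = i + 2 * (q : ℤ)) (h1' : n₁ = n + (q : ℤ))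
    (h2 : i₂ = i₁ + 1 - 2 * ((q : ℤ) + 1)) (h2' : n₂ = n₁ - ((q : ℤ) + 1))
    (h3 : i₃ = i + 2 * ((0 : ℕ) : ℤ)) (h3' : n₃ = n + ((0 : ℕ) : ℤ))
    (h4 : i₂ = i₃ + 1 - 2 * (((0 : ℕ) : ℤ) + 1)) (h4' : n₂ = n₃ - (((0 : ℕ) : ℤ) + 1))
    (a : T.ptGp Y η M i n) :
    (Q.tot M i₁ n₁ i₂ n₂ h2 h2').hom ((P.cpt w M i n i₁ n₁ h1 h1').hom ((L.cpt M i n).hom a)) =
      (PreTheory.PtPush.famTot t F M i₂ n₂).hom
        ((Q'.tot M i₃ n₃ i₂ n₂ h4 h4').hom ((P'.cpt ⟨η, hη⟩ M i n i₃ n₃ h3 h3').hom a)) := by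
  classical
  have hyx : φ.base η = w.1 := L.maps_pt
  have hcod := L.codim_eq
  have hpd : ((WeilCoh.pdim X.scheme w.1 : ℕ) : ℤ) - ((WeilCoh.pdim Y.scheme η : ℕ) : ℤ) = 0 :=
    hcod
  have hdim : ((WeilCoh.dim X.scheme : ℕ) : ℤ) - ((WeilCoh.dim Y.scheme : ℕ) : ℤ) = (q : ℤ) := by
    have e2 := w.2
    have e3 := pdim_le_dim X w.1
    have e4 := pdim_le_dim Y η
    unfold WeilCoh.codim at e2 hη
    omega
  have hcod0 : ∀ y : Y.scheme, y ≠ η → 1 ≤ WeilCoh.codim Y.scheme y := by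
    intro y hne
    have := codim_lt_of_specializes Y (hgen y) (Ne.symm hne)
    omega
  obtain ⟨W₀, c₀, rfl⟩ := ocolim_rep T (Y.ptSub η)
    (fun U => (U : Set (Y.ptSub η).scheme).Nonempty) i n M a
  -- the opens of `X`
  let W'₀ : (X.ptSub w.1).scheme.Opens := PtPushAux.W' φ η w.1 hyx W₀.1
  have hgenW : gen X w.1 ∈ W'₀ := PtPushAux.gen_mem_W' φ η w.1 hyx hcod W₀.1 W₀.2.1
  let CPw₀ : CPiece X w.1 :=
    CPiece.ofPtIdxIn (PtPushAux.idxX w.1 W'₀ hgenW) ⊤ (fun _ _ => trivial)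
  let UX : X.scheme.Opens := CPw₀.Y
  have hUX₀ : ContainsFj X q UX :=
    CPiece.containsFj_ofPtIdxIn w.2 _ _ _ (fun _ _ => trivial)
  have hout : ∀ x : X.scheme, x ∉ UX → x ∈ closure ({w.1} : Set X.scheme) := by
    intro x hx
    by_contra hcl
    apply hx
    refine ⟨trivial, ?_⟩
    rintro ⟨z, _, rfl⟩
    exact hcl z.2
  obtain ⟨MX₀, hMXU, hMXY, hMXB⟩ := exists_mpiece_of_open X q UX hUX₀
  -- the opens of `Y`
  let UY : Y.scheme.Opens := φ ⁻¹ᵁ UX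
  have hwUX : w.1 ∈ UX := hUX₀ w.1 (le_of_eq w.2)
  have hηUY : η ∈ UY := by
    change φ.base η ∈ UX
    rw [hyx]
    exact hwUX
  have hUY₀ : ContainsFj Y 0 UY := by
    intro y hy
    by_cases hne : y = η
    · rw [hne]; exact hηUY
    · have := hcod0 y hne
      omega
  obtain ⟨MY₀, hMYU, hMYY, hMYB⟩ := exists_mpiece_of_open Y 0 UY hUY₀
  -- removing the image of the complement of the big open of `Y`
  have hNcl : IsClosed (φ '' ((MY₀.Y : Set Y.scheme)ᶜ)) :=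
    φ.isClosedMap _ MY₀.Y.isOpen.isClosed_compl
  let Y'X : X.scheme.Opens := MX₀.Y ⊓ ⟨(φ '' ((MY₀.Y : Set Y.scheme)ᶜ))ᶜ, hNcl.isOpen_compl⟩
  have hY'X : ContainsFj X (q + 1) Y'X := by
    intro x hx
    refine ⟨hMXY x hx, ?_⟩
    rintro ⟨z, hzN, rfl⟩
    have e1 := codim_map_ge φ q hdim z
    have e2 : ¬ WeilCoh.codim Y.scheme z ≤ 0 + 1 := fun h => hzN (hMYY z h)
    omega
  have hUXm₀ : ContainsFj X q MX₀.U := hMXU ▸ hUX₀
  have hUYm₀ : ContainsFj Y 0 MY₀.U := hMYU ▸ hUY₀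
  let MX : MPiece X (q + 1) := MX₀.restrict hUXm₀ Y'X inf_le_left hY'X
  let Y'Y : Y.scheme.Opens := φ ⁻¹ᵁ Y'X
  have hle' : Y'Y ≤ MY₀.Y := by
    intro y hy
    by_contra hN
    exact hy.2 ⟨y, hN, rfl⟩
  have hmaps : ∀ y : Y.cdPt (0 + 1), φ.base y.1 = (t y).1 := fun y => (F y).maps_pt
  have hY'Y : ContainsFj Y (0 + 1) Y'Y := by
    intro y hy
    apply hY'X
    by_cases hne : y = η
    · rw [hne]
      change WeilCoh.codim X.scheme (φ.base η) ≤ q + 1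
      rw [hyx, w.2]
      omega
    · have e1 := hcod0 y hne
      have e2 : WeilCoh.codim Y.scheme y = 0 + 1 := by omega
      have e3 := hmaps ⟨y, e2⟩
      change WeilCoh.codim X.scheme (φ.base y) ≤ q + 1
      rw [e3, (t ⟨y, e2⟩).2]
  let MY : MPiece Y (0 + 1) := MY₀.restrict hUYm₀ Y'Y hle' hY'Y
  have hUiff : ∀ y : Y.scheme, y ∈ MY.U ↔ φ y ∈ MX.U := by
    intro y
    constructor
    · rintro ⟨e1, e2⟩
      refine ⟨?_, e2⟩
      rw [hMYU] at e1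
      rw [hMXU]
      exact e1
    · rintro ⟨e1, e2⟩
      refine ⟨?_, e2⟩
      rw [hMXU] at e1
      rw [hMYU]
      exact e1
  have htB : ∀ y ∈ MY.B, t y ∈ MX.B := by
    intro y hy
    have e1 : y.1 ∉ UY := (hMYB y).1 hy
    apply (hMXB (t y)).2
    rw [← hmaps y]
    exact e1
  let MP : MPair φ q t :=
    { MX := MX, MY := MY, hY := fun _ => Iff.rfl, hU := hUiff, htB := htB, hmaps := hmaps,
      hdim := hdim }
  have hsurj : ∀ x ∈ MP.MX.B, ∃ y ∈ MP.MY.B, t y = x := by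
    intro x hx
    have e1 : x.1 ∉ UX := (hMXB x).1 hx
    have e2 : x.1 ∈ closure ({w.1} : Set X.scheme) := hout x.1 e1
    have e3 : closure ({w.1} : Set X.scheme) ⊆ Set.range φ :=
      (φ.isClosedMap.isClosed_range).closure_subset_iff.2
        (Set.singleton_subset_iff.2 ⟨η, hyx⟩)
    obtain ⟨y, hy⟩ := e3 e2
    have hne : y ≠ η := by
      rintro rfl
      apply e1
      have : x.1 = w.1 := hy.symm.trans hyx
      rw [this]
      exact hwUX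
    have e4 := hcod0 y hne
    have e5 := codim_map_ge φ q hdim y
    have e6 : WeilCoh.codim X.scheme (φ y) = q + 1 := by
      have : φ y = x.1 := hy
      rw [this]; exact x.2
    have e7 : WeilCoh.codim Y.scheme y = 0 + 1 := by omega
    refine ⟨⟨y, e7⟩, ?_, ?_⟩
    · apply (hMYB ⟨y, e7⟩).2
      intro hyU
      apply e1
      have : φ y ∈ UX := hyU
      rw [← hy]
      exact this
    · apply Subtype.ext
      rw [← hmaps ⟨y, e7⟩]
      exact hy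
  have hUXm : ContainsFj X q MP.MX.U := fun y hy =>
    ⟨hUXm₀ y hy, hY'X y (hy.trans (Nat.le_succ q))⟩
  have hUYm : ContainsFj Y 0 MP.MY.U := fun y hy =>
    ⟨hUYm₀ y hy, hY'Y y (hy.trans (Nat.le_succ 0))⟩
  -- the closed pieces at the generic points
  have hηU : η ∈ MP.MY.U := hUYm η (le_of_eq hη)
  have hwU : w.1 ∈ MP.MX.U := hUXm w.1 (le_of_eq w.2)
  let CPη : CPiece Y η := ⟨MP.MY.U, (Y.ptSubι η) ⁻¹ᵁ MP.MY.U, fun _ => Iff.rfl, hηU⟩
  let CPw : CPiece X w.1 := ⟨MP.MX.U, (X.ptSubι w.1) ⁻¹ᵁ MP.MX.U, fun _ => Iff.rfl, hwU⟩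
  have hψ : ∀ z : (Y.ptSub η).scheme, (X.ptSubι w.1) ((PtPushAux.psi φ η w.1 hyx) z) =
      φ ((Y.ptSubι η) z) := by
    intro z
    rw [← Scheme.Hom.comp_apply, ← Scheme.Hom.comp_apply, PtPushAux.psi_fac]
  have hWle : CPη.W ≤ W₀.1 := by
    intro z hz
    apply PtPushAux.preimage_W'_le φ η w.1 hyx W₀.1
    have e1 : φ ((Y.ptSubι η) z) ∈ MP.MX.U := (MP.hU _).1 hz
    have e2 : (X.ptSubι w.1) ((PtPushAux.psi φ η w.1 hyx) z) ∈ UX := by
      rw [hψ z]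
      have := e1.1
      rw [hMXU] at this
      exact this
    exact (CPw₀.hW _).2 e2
  have hd : WeilCoh.dim (CPη.W : Scheme.{u}) = WeilCoh.dim (W₀.1 : Scheme.{u}) :=
    CPη.Widx.2.2.trans W₀.2.2.symm
  have ha := ocolimι_pull T (Y.ptSub η) (fun U => (U : Set (Y.ptSub η).scheme).Nonempty) i n M
    (U := W₀) (U' := CPη.Widx) hWle hd c₀
  rw [← ha]
  generalize (T.pull ((Y.ptSub η).resLE hWle hd) M i n).hom c₀ = c₁
  have hWη : ∀ z : (Y.ptSub η).scheme, z ∈ CPη.W ↔ (PtPushAux.psi φ η w.1 hyx) z ∈ CPw.W := by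
    intro z
    change (Y.ptSubι η) z ∈ MP.MY.U ↔ (X.ptSubι w.1) ((PtPushAux.psi φ η w.1 hyx) z) ∈ MP.MX.U
    rw [hψ z]
    exact MP.hU _
  let κη : CPη.G.scheme ⟶ CPw.G.scheme := resHom (PtPushAux.psi φ η w.1 hyx) CPη.W CPw.W hWη
  have : IsProper κη := inferInstanceAs
    (IsProper (resHom (PtPushAux.psi φ η w.1 hyx) CPη.W CPw.W hWη))
  have hcomp : κη ≫ CPw.Widx.1.ι ≫ X.ptSubι w.1 = CPη.Widx.1.ι ≫ Y.ptSubι η ≫ φ := by
    change resHom (PtPushAux.psi φ η w.1 hyx) CPη.W CPw.W hWη ≫ CPw.W.ι ≫ X.ptSubι w.1 =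
      CPη.W.ι ≫ Y.ptSubι η ≫ φ
    rw [resHom_ι_assoc, PtPushAux.psi_fac]
  -- relative codimensions
  have hrη : relCodim CPη.G.scheme (Y.res MP.MY.U).scheme = ((0 : ℕ) : ℤ) := by
    rw [CPη.relCodim_eq MP.MY.hdim, hη]
  have hrw : relCodim CPw.G.scheme (X.res MP.MX.U).scheme = (q : ℤ) := by
    rw [CPw.relCodim_eq MP.MX.hdim, w.2]
  have hrκ : relCodim CPη.G.scheme CPw.G.scheme = 0 := by
    have e1 : WeilCoh.dim (CPw.W : Scheme.{u}) = WeilCoh.pdim X.scheme w.1 := CPw.Widx.2.2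
    have e2 : WeilCoh.dim (CPη.W : Scheme.{u}) = WeilCoh.pdim Y.scheme η := CPη.Widx.2.2
    unfold relCodim
    change ((WeilCoh.dim (CPw.W : Scheme.{u}) : ℕ) : ℤ) -
      ((WeilCoh.dim (CPη.W : Scheme.{u}) : ℕ) : ℤ) = 0
    rw [e1, e2]
    exact hpd
  have hrU := MP.relCodim_U
  have hiκ : i = i + 2 * relCodim CPη.G.scheme CPw.G.scheme := by rw [hrκ]; ring
  have hnκ : n = n + relCodim CPη.G.scheme CPw.G.scheme := by rw [hrκ]; ring
  have hiw : i₁ = i + 2 * relCodim CPw.G.scheme (X.res MP.MX.U).scheme := by rw [hrw]; exact h1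
  have hnw : n₁ = n + relCodim CPw.G.scheme (X.res MP.MX.U).scheme := by rw [hrw]; exact h1'
  have hiη : i₃ = i + 2 * relCodim CPη.G.scheme (Y.res MP.MY.U).scheme := by rw [hrη]; exact h3
  have hnη : n₃ = n + relCodim CPη.G.scheme (Y.res MP.MY.U).scheme := by rw [hrη]; exact h3'
  have hc : i₁ = i₃ + 2 * relCodim (Y.res MP.MY.U).scheme (X.res MP.MX.U).scheme := by
    rw [hrU, h1, h3]; push_cast; ring
  have hc' : n₁ = n₃ + relCodim (Y.res MP.MY.U).scheme (X.res MP.MX.U).scheme := by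
    rw [hrU, h1', h3']; push_cast; ring
  have hiηX : i₁ = i + 2 * relCodim CPη.G.scheme (X.res MP.MX.U).scheme := by
    have e1 := hrκ
    have e2 := hrw
    unfold relCodim at e1 e2 ⊢
    rw [h1]
    omega
  have hnηX : n₁ = n + relCodim CPη.G.scheme (X.res MP.MX.U).scheme := by
    have e1 := hrκ
    have e2 := hrw
    unfold relCodim at e1 e2 ⊢
    rw [h1']
    omega
  -- the four steps
  have S1 : (L.cpt M i n).hom (((T.ptι Y η i n CPη.Widx).app M).hom c₁) =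
      ((T.ptι X w.1 i n CPw.Widx).app M).hom
        ((T.push (X := CPη.G) (Y := CPw.G) κη M i n i n hiκ hnκ).hom c₁) :=
    congrArg (fun ψ' => ψ'.hom c₁)
      (L.cpt_spec M i n CPη.Widx CPw.Widx κη hcomp hiκ hnκ)
  have S2 : (P.cpt w M i n i₁ n₁ h1 h1').hom (((T.ptι X w.1 i n CPw.Widx).app M).hom
        ((T.push (X := CPη.G) (Y := CPw.G) κη M i n i n hiκ hnκ).hom c₁)) =
      ((T.fjι X q i₁ n₁ ⟨MP.MX.U, hUXm, MP.MX.hdim⟩).app M).hom
        ((T.push (X := CPw.G) (Y := X.res MP.MX.U) CPw.i M i n i₁ n₁ hiw hnw).hom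
          ((T.push (X := CPη.G) (Y := CPw.G) κη M i n i n hiκ hnκ).hom c₁)) :=
    CPw.push_formula P w.2 hUXm M i n i₁ n₁ h1 h1' hiw hnw _
  have S3 : (P'.cpt ⟨η, hη⟩ M i n i₃ n₃ h3 h3').hom (((T.ptι Y η i n CPη.Widx).app M).hom c₁) =
      ((T.fjι Y 0 i₃ n₃ ⟨MP.MY.U, hUYm, MP.MY.hdim⟩).app M).hom
        ((T.push (X := CPη.G) (Y := Y.res MP.MY.U) CPη.i M i n i₃ n₃ hiη hnη).hom c₁) :=
    CPη.push_formula P' hη hUYm M i n i₃ n₃ h3 h3' hiη hnη c₁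
  have hfac : κη ≫ CPw.i = CPη.i ≫ MP.φU := by
    rw [← cancel_mono MP.MX.U.ι, Category.assoc, Category.assoc]
    have e1 : CPw.i ≫ MP.MX.U.ι = CPw.W.ι ≫ X.ptSubι w.1 := CPw.i_fac
    have e2 : CPη.i ≫ MP.MY.U.ι = CPη.W.ι ≫ Y.ptSubι η := CPη.i_fac
    have e3 : MP.φU ≫ MP.MX.U.ι = MP.MY.U.ι ≫ φ := resHom_ι _ _ _ _
    rw [e1, e3, reassoc_of% e2]
    exact hcomp
  have S4 : (T.push (X := CPw.G) (Y := X.res MP.MX.U) CPw.i M i n i₁ n₁ hiw hnw).hom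
        ((T.push (X := CPη.G) (Y := CPw.G) κη M i n i n hiκ hnκ).hom c₁) =
      (T.push (X := Y.res MP.MY.U) (Y := X.res MP.MX.U) MP.φU M i₃ n₃ i₁ n₁ hc hc').hom
        ((T.push (X := CPη.G) (Y := Y.res MP.MY.U) CPη.i M i n i₃ n₃ hiη hnη).hom c₁) := by
    have c1 := T.push_comp (X := CPη.G) (Y := CPw.G) (Z := X.res MP.MX.U) κη CPw.i M
      i n i n i₁ n₁ hiκ hnκ hiw hnw hiηX hnηX
    have c2 := T.push_comp (X := CPη.G) (Y := Y.res MP.MY.U) (Z := X.res MP.MX.U) CPη.i MP.φU M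
      i n i₃ n₃ i₁ n₁ hiη hnη hc hc' hiηX hnηX
    have c3 := push_congr T (X' := CPη.G) (Y' := X.res MP.MX.U) hfac M i n i₁ n₁ hiηX hnηX
    have d1 := congrArg (fun ψ' => ψ'.hom c₁) c1
    have d2 := congrArg (fun ψ' => ψ'.hom c₁) c2
    have d3 := congrArg (fun ψ' => ψ'.hom c₁) c3
    exact d1.trans (d3.trans d2.symm)
  have S5 := MP.main hred Q Q' F hUXm hUYm hY'X hY'Y hsurj M i₁ n₁ i₂ n₂ i₃ n₃ h2 h2' h4 h4'
    hc hc' ((T.push (X := CPη.G) (Y := Y.res MP.MY.U) CPη.i M i n i₃ n₃ hiη hnη).hom c₁)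
  rw [S1, S2, S4, S3]
  exact S5

end Groth.Agent.Lib.Helper79.BM

end
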