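import Groth.Agent.Lib.Helper79.BMFormula2
import Mathlib

/-!
# Exactness at `H(F_j X)`: restriction then total residue (helper79, BMCoh family)
-/

set_option autoImplicit false
universe u

noncomputable section

namespace Groth.Agent.Lib.Helper79.BM

open AlgebraicGeometry CategoryTheory CategoryTheory.Limits Opposite TopologicalSpace BMCoh

variable {V : ObjectProperty Scheme.{u}} [IsConstructible V]
variable {R : Type u} [CommRing R] {A : Coefs R} {T : PreTheory V R A}

theorem resLE_refl (X : Obj V) (U : X.scheme.Opens) (hd) :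
    X.resLE (le_refl U) hd = 𝟙 (X.res U) := Hom.ext (Scheme.homOfLE_rfl _ _)

theorem codim_index {X : Obj V} {x : X.scheme} (P : Piece X x) {j : ℕ}
    (hx : WeilCoh.codim X.scheme x = j + 1) : P.decomp.codim = (j : ℤ) + 1 := by
  rw [P.codim_eq, hx]; push_cast; rfl

/-- the residue at a point of codimension `j + 1` lying in the open vanishes -/
theorem res_zero_of_mem {X : Obj V} {j : ℕ} (Q : T.ResData X j) (x : X.scheme)
    (hx : WeilCoh.codim X.scheme x = j + 1) (U : Idx X (ContainsFj X j)) (hxU : x ∈ U.1)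
    (M : A.Cat) (i n i' n' : ℤ) (hi : i' = i + 1 - 2 * ((j : ℤ) + 1))
    (hn : n' = n - ((j : ℤ) + 1)) (b : T.gp (X.res U.1) M i n) :
    (Q.cpt ⟨x, hx⟩ M i n i' n' hi hn).hom (((T.fjι X j i n U).app M).hom b) = 0 := by
  let CP : CPiece X x := { Y := U.1, W := (X.ptSubι x) ⁻¹ᵁ U.1, hW := fun _ => Iff.rfl, hx := hxU }
  let P : Piece X x := CP.toPiece' hx U.2.1
  have hU' : ContainsFj X j P.U := containsFj_inf_clCompl hx U.2.1
  have hiD : i' = i + 1 - 2 * P.decomp.codim := by rw [codim_index P hx]; exact hi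
  have hnD : n' = n - P.decomp.codim := by rw [codim_index P hx]; exact hn
  have h1 := P.res_formula Q hx hU' M i n i' n' hi hn hiD hnD ((T.pull P.j M i n).hom b)
  have h2 : (T.res P.decomp M i n i' n' hiD hnD).hom ((T.pull P.j M i n).hom b) = 0 :=
    (T.exact_pull_res P.decomp M i n i' n' hiD hnD).apply_apply_eq_zero b
  rw [h2] at h1
  have hz0 : ((T.ptι X x i' n' P.Widx).app M).hom 0 = 0 := map_zero _
  have h1' := h1.trans hz0
  have h3 := ocolimι_pull T X (ContainsFj X j) i n M (U := U) (U' := P.Uidx hU') P.hUY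
    (P.hdim.trans P.dimY.symm) b
  rw [← h3]
  exact h1'

theorem containsFj_succ_of_bad_empty {X : Obj V} {j : ℕ} {U : X.scheme.Opens}
    (hU : ContainsFj X j U) (hbad : bad X j U = ∅) : ContainsFj X (j + 1) U := by
  intro y hy
  by_cases h : WeilCoh.codim X.scheme y ≤ j
  · exact hU y h
  · by_contra hyU
    have : y ∈ bad X j U := ⟨by omega, hyU⟩
    rw [hbad] at this
    exact this

theorem exists_extension {X : Obj V} {j : ℕ} (Q : T.ResData X j) (M : A.Cat) (i n i' n' : ℤ)
    (hi : i' = i + 1 - 2 * ((j : ℤ) + 1)) (hn : n' = n - ((j : ℤ) + 1)) :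
    ∀ (n₀ : ℕ) (U : Idx X (ContainsFj X j)) (a : T.gp (X.res U.1) M i n),
      (bad X j U.1).ncard = n₀ →
      (∀ (x : X.scheme) (hx : WeilCoh.codim X.scheme x = j + 1),
        (Q.cpt ⟨x, hx⟩ M i n i' n' hi hn).hom (((T.fjι X j i n U).app M).hom a) = 0) →
      ∃ b : T.fjGp X (j + 1) M i n,
        ((T.fjRes X (Nat.le_succ j) i n).app M).hom b = ((T.fjι X j i n U).app M).hom a := by
  intro n₀
  induction n₀ with
  | zero =>
    intro U a hcard _
    have hbad : bad X j U.1 = ∅ := (Set.ncard_eq_zero (finite_bad X j U.1 U.2.1)).1 hcard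
    have hU' := containsFj_succ_of_bad_empty U.2.1 hbad
    refine ⟨((T.fjι X (j + 1) i n ⟨U.1, hU', U.2.2⟩).app M).hom a, ?_⟩
    exact ocolimMap_ι T X (containsFj_mono X (Nat.le_succ j)) i n M ⟨U.1, hU', U.2.2⟩ a
  | succ n₀ ih =>
    intro U a hcard hres
    have hne : (bad X j U.1).Nonempty := by
      rw [← Set.ncard_pos (finite_bad X j U.1 U.2.1)]; omega
    obtain ⟨x, hx, hxU⟩ := hne
    obtain ⟨U1, hU1, hU2⟩ := U
    obtain ⟨P, hPU, -⟩ := Piece.exists_of_not_mem (x := x) U1 ⊤ le_top hU2 trivial hxU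
      (pd_le_of_not_mem hx hU1)
    subst hPU
    have hiD : i' = i + 1 - 2 * P.decomp.codim := by rw [codim_index P hx]; exact hi
    have hnD : n' = n - P.decomp.codim := by rw [codim_index P hx]; exact hn
    have h1 := P.res_formula Q hx hU1 M i n i' n' hi hn hiD hnD a
    have h0 := hres x hx
    rw [h0] at h1
    obtain ⟨W'', hW'', hz⟩ := (ocolim_eq_zero_iff T (X.ptSub x)
      (fun U => (U : Set (X.ptSub x).scheme).Nonempty) i' n' M (U := P.Widx) _).1 h1.symm
    let P' : Piece X x := P.shrink W'' hW''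
    have hiD' : i' = i + 1 - 2 * P'.decomp.codim := by rw [codim_index P' hx]; exact hi
    have hnD' : n' = n - P'.decomp.codim := by rw [codim_index P' hx]; exact hn
    have h2 := Piece.res_restrict (T := T) P P' (P.shrink_Y_le W'' hW'') (le_refl _) M i n i' n'
      hiD hnD hiD' hnD' a
    have key : (T.pull (X.resLE (le_refl P.U) rfl) M i n).hom a = a := by
      rw [resLE_refl, pull_id_apply]
    have h3 : (T.res P'.decomp M i n i' n' hiD' hnD').hom a = 0 :=
      (congrArg (T.res P'.decomp M i n i' n' hiD' hnD').hom key).symm.trans (h2.symm.trans hz)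
    obtain ⟨a', ha'⟩ := (T.exact_pull_res P'.decomp M i n i' n' hiD' hnD' a).1 h3
    have hFj' : ContainsFj X j P'.Y := fun y hy => P'.hUY (hU1 y hy)
    let Unew : Idx X (ContainsFj X j) := ⟨P'.Y, hFj', P'.dimY⟩
    have h4 := ocolimι_pull T X (ContainsFj X j) i n M (U := Unew) (U' := ⟨P.U, hU1, hU2⟩)
      P'.hUY (P'.hdim.trans P'.dimY.symm) a'
    have h5 : ((T.fjι X j i n Unew).app M).hom a' =
        ((T.fjι X j i n ⟨P.U, hU1, hU2⟩).app M).hom a := by
      rw [← h4]
      congr 1
    rw [← h5]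
    apply ih Unew a'
    · have := bad_piece hx P'
      change bad X j P'.Y = bad X j P.U \ {x} at this
      change (bad X j P'.Y).ncard = n₀
      rw [this, Set.ncard_diff_singleton_of_mem (show x ∈ bad X j P.U from ⟨hx, hxU⟩)]
      change (bad X j P.U).ncard = n₀ + 1 at hcard
      omega
    · intro y hy
      rw [h5]
      exact hres y hy

end Groth.Agent.Lib.Helper79.BM

end
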