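import Groth.Agent.Lib.Helper79.BMMulti3
import Mathlib

/-!
# Exactness at the sum over the points: total residue then total push-forward
(helper79, BMCoh family)
-/

set_option autoImplicit false
universe u

noncomputable section

namespace Groth.Agent.Lib.Helper79.BM

open AlgebraicGeometry CategoryTheory CategoryTheory.Limits Opposite TopologicalSpace BMCoh

variable {V : ObjectProperty Scheme.{u}} [IsConstructible V]
variable {R : Type u} [CommRing R] {A : Coefs R}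

section Pre

variable {T : PreTheory V R A}

open Classical in
/-- the total push-forward of an element supported in a finite set -/
theorem tot_eq_sum {X : Obj V} {j : ℕ} (Pd : T.PushData X j) (M : A.Cat) (i n i' n' : ℤ)
    (hi : i' = i + 2 * (j : ℤ)) (hn : n' = n + (j : ℤ))
    (ξ : T.ptSum X j M i n) (B : Finset (X.cdPt j)) (hB : ∀ x, x ∉ B → ξ x = 0) :
    (Pd.tot M i n i' n' hi hn).hom ξ = ∑ x ∈ B, (Pd.cpt x M i n i' n' hi hn).hom (ξ x) := by
  have h := DirectSum.sum_support_of (β := fun x : X.cdPt j => T.ptGp X x.1 M i n) ξ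
  conv_lhs => rw [← h]
  rw [map_sum]
  have h2 : ∀ x ∈ DFinsupp.support ξ,
      (Pd.tot M i n i' n' hi hn).hom
        (DirectSum.of (fun x : X.cdPt j => T.ptGp X x.1 M i n) x (ξ x)) =
        (Pd.cpt x M i n i' n' hi hn).hom (ξ x) := by
    intro x _
    rw [← DirectSum.lof_eq_of R]
    exact PreTheory.PushData.tot_lof Pd M i n i' n' hi hn x (ξ x)
  rw [Finset.sum_congr rfl h2]
  apply Finset.sum_subset
  · intro x hx
    by_contra hxB
    exact (DFinsupp.mem_support_iff.1 hx) (hB x hxB)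
  · intro x _ hx
    rw [DFinsupp.notMem_support_iff.1 hx, map_zero]

namespace MPiece

variable {X : Obj V} {j : ℕ} (MP : MPiece X (j + 1))

/-- the total push-forward of a family of classes on the closed pieces of a multi-piece -/
theorem tot_formula (Pd : T.PushData X (j + 1)) (hY : ContainsFj X (j + 1) MP.Y)
    (M : A.Cat) (i' n' k n : ℤ)
    (hi2 : k = i' + 2 * ((j + 1 : ℕ) : ℤ)) (hn2 : n = n' + ((j + 1 : ℕ) : ℤ))
    (hiG : ∀ l : MP.B, k = i' + 2 * relCodim (MP.cp l).G.scheme (X.res MP.Y).scheme)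
    (hnG : ∀ l : MP.B, n = n' + relCodim (MP.cp l).G.scheme (X.res MP.Y).scheme)
    (ξ : T.ptSum X (j + 1) M i' n') (hξ : ∀ x, x ∉ MP.B → ξ x = 0)
    (c : ∀ l : MP.B, T.gp (MP.cp l).G M i' n')
    (hc : ∀ l : MP.B, ((T.ptι X l.1.1 i' n' (MP.cp l).Widx).app M).hom (c l) = ξ l.1) :
    (Pd.tot M i' n' k n hi2 hn2).hom ξ =
      ((T.fjι X (j + 1) k n ⟨MP.Y, hY, MP.dimY⟩).app M).hom
        (∑ l : MP.B, (T.push (X := (MP.cp l).G) (Y := X.res MP.Y) (MP.cp l).i M i' n' k n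
          (hiG l) (hnG l)).hom (c l)) := by
  rw [tot_eq_sum Pd M i' n' k n hi2 hn2 ξ MP.B hξ, map_sum, ← Finset.sum_coe_sort]
  apply Finset.sum_congr rfl
  intro l _
  rw [← hc l]
  exact (MP.cp l).push_formula Pd l.1.2 hY M i' n' k n hi2 hn2 (hiG l) (hnG l) (c l)

/-- the sum of the push-forwards from the closed pieces factors through the reduced closed part -/
theorem sum_push_eq (M : A.Cat) (i' n' k n : ℤ)
    (h1 : ∀ l : MP.B, i' = i' + 2 * relCodim (MP.cp l).G.scheme MP.ZObj.scheme)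
    (h2 : ∀ l : MP.B, n' = n' + relCodim (MP.cp l).G.scheme MP.ZObj.scheme)
    (h3 : k = i' + 2 * relCodim MP.ZObj.scheme (X.res MP.Y).scheme)
    (h4 : n = n' + relCodim MP.ZObj.scheme (X.res MP.Y).scheme)
    (hiG : ∀ l : MP.B, k = i' + 2 * relCodim (MP.cp l).G.scheme (X.res MP.Y).scheme)
    (hnG : ∀ l : MP.B, n = n' + relCodim (MP.cp l).G.scheme (X.res MP.Y).scheme)
    (c : ∀ l : MP.B, T.gp (MP.cp l).G M i' n') :
    ∑ l : MP.B, (T.push (X := (MP.cp l).G) (Y := X.res MP.Y) (MP.cp l).i M i' n' k n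
        (hiG l) (hnG l)).hom (c l) =
      (T.push (X := MP.ZObj) (Y := X.res MP.Y) MP.Zι M i' n' k n h3 h4).hom
        (∑ l : MP.B, (T.push (MP.gObj l).hom M i' n' i' n' (h1 l) (h2 l)).hom (c l)) := by
  rw [map_sum]
  apply Finset.sum_congr rfl
  intro l _
  exact (MP.push_comp l M i' n' k n (h1 l) (h2 l) h3 h4 (hiG l) (hnG l) (c l)).symm

/-- restriction to a closed piece of a sum of push-forwards from the closed pieces -/
theorem pull_sum_push (M : A.Cat) (i' n' : ℤ)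
    (h1 : ∀ l : MP.B, i' = i' + 2 * relCodim (MP.cp l).G.scheme MP.ZObj.scheme)
    (h2 : ∀ l : MP.B, n' = n' + relCodim (MP.cp l).G.scheme MP.ZObj.scheme)
    (c : ∀ l : MP.B, T.gp (MP.cp l).G M i' n') (l : MP.B) :
    (T.pull (MP.gObj l) M i' n').hom
      (∑ m : MP.B, (T.push (MP.gObj m).hom M i' n' i' n' (h1 m) (h2 m)).hom (c m)) = c l := by
  classical
  rw [map_sum, Finset.sum_eq_single l]
  · exact pull_push_self MP.gObj T l M i' n' (h1 l) (h2 l) (c l)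
  · intro m _ hml
    exact pull_push_of_ne MP.gObj T (fun z => MP.exists_mem_range_gs z)
      (fun a b hab => MP.disjoint_range_gs a b hab) m l hml M i' n' (h1 m) (h2 m) (c m)
  · intro h
    exact absurd (Finset.mem_univ l) h

/-- push-forwards from the closed pieces commute with restriction of the multi-piece -/
theorem restrict_sum_push (hU : ContainsFj X j MP.U) (Y' : X.scheme.Opens) (hle : Y' ≤ MP.Y)
    (hY' : ContainsFj X (j + 1) Y')
    (hd : WeilCoh.dim (Y' : Scheme.{u}) = WeilCoh.dim (MP.Y : Scheme.{u}))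
    (M : A.Cat) (i' n' k n : ℤ)
    (hiG : ∀ l : MP.B, k = i' + 2 * relCodim (MP.cp l).G.scheme (X.res MP.Y).scheme)
    (hnG : ∀ l : MP.B, n = n' + relCodim (MP.cp l).G.scheme (X.res MP.Y).scheme)
    (hiG' : ∀ l : MP.B, k = i' + 2 *
      relCodim ((MP.restrict hU Y' hle hY').cp l).G.scheme (X.res Y').scheme)
    (hnG' : ∀ l : MP.B, n = n' +
      relCodim ((MP.restrict hU Y' hle hY').cp l).G.scheme (X.res Y').scheme)
    (c : ∀ l : MP.B, T.gp (MP.cp l).G M i' n') :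
    (T.pull (X.resLE hle hd) M k n).hom
        (∑ l : MP.B, (T.push (X := (MP.cp l).G) (Y := X.res MP.Y) (MP.cp l).i M i' n' k n
          (hiG l) (hnG l)).hom (c l)) =
      ∑ l : MP.B, (T.push (X := ((MP.restrict hU Y' hle hY').cp l).G) (Y := X.res Y')
          ((MP.restrict hU Y' hle hY').cp l).i M i' n' k n (hiG' l) (hnG' l)).hom
        ((T.pull (CPiece.gW (MP.cp l) ((MP.restrict hU Y' hle hY').cp l) hle) M i' n').hom
          (c l)) := by
  rw [map_sum]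
  apply Finset.sum_congr rfl
  intro l _
  exact CPiece.push_restrict (T := T) (MP.cp l) ((MP.restrict hU Y' hle hY').cp l) hle hd M i' n'
    k n (hiG l) (hnG l) (hiG' l) (hnG' l) (c l)

/-- a family of classes on the closed pieces whose push-forwards add up to zero is the family of
residues of a class on the open part -/
theorem exists_res_eq (Q : T.ResData X j) (hU : ContainsFj X j MP.U)
    (M : A.Cat) (i n i' n' : ℤ) (hi : i' = i + 1 - 2 * ((j : ℤ) + 1))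
    (hn : n' = n - ((j : ℤ) + 1))
    (hi2 : i + 1 = i' + 2 * ((j + 1 : ℕ) : ℤ)) (hn2 : n = n' + ((j + 1 : ℕ) : ℤ))
    (hiG : ∀ l : MP.B, i + 1 = i' + 2 * relCodim (MP.cp l).G.scheme (X.res MP.Y).scheme)
    (hnG : ∀ l : MP.B, n = n' + relCodim (MP.cp l).G.scheme (X.res MP.Y).scheme)
    (c : ∀ l : MP.B, T.gp (MP.cp l).G M i' n')
    (hsum : ∑ l : MP.B, (T.push (X := (MP.cp l).G) (Y := X.res MP.Y) (MP.cp l).i M i' n'
      (i + 1) n (hiG l) (hnG l)).hom (c l) = 0) :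
    ∃ a : T.gp (X.res MP.U) M i n, ∀ l : MP.B,
      (Q.cpt l.1 M i n i' n' hi hn).hom (((T.fjι X j i n ⟨MP.U, hU, MP.hdim⟩).app M).hom a) =
        ((T.ptι X l.1.1 i' n' (MP.cp l).Widx).app M).hom (c l) := by
  rcases isEmpty_or_nonempty MP.B with hB | ⟨⟨k₀⟩⟩
  · exact ⟨0, fun l => isEmptyElim l⟩
  · have hD : MP.decomp.codim = ((j + 1 : ℕ) : ℤ) := MP.codim_eq k₀
    have hiD : i' = i + 1 - 2 * MP.decomp.codim := by rw [hD]; push_cast; exact hi
    have hnD : n' = n - MP.decomp.codim := by rw [hD]; push_cast; exact hn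
    have h1 : ∀ l : MP.B, i' = i' + 2 * relCodim (MP.cp l).G.scheme MP.ZObj.scheme := fun l => by
      rw [relCodim_of_hom (MP.gObj l)]; ring
    have h2 : ∀ l : MP.B, n' = n' + relCodim (MP.cp l).G.scheme MP.ZObj.scheme := fun l => by
      rw [relCodim_of_hom (MP.gObj l)]; ring
    have hZ : relCodim MP.ZObj.scheme (X.res MP.Y).scheme = ((j + 1 : ℕ) : ℤ) := hD
    have h3 : i + 1 = i' + 2 * relCodim MP.ZObj.scheme (X.res MP.Y).scheme := by
      rw [hZ]; exact hi2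
    have h4 : n = n' + relCodim MP.ZObj.scheme (X.res MP.Y).scheme := by
      rw [hZ]; exact hn2
    rw [MP.sum_push_eq M i' n' (i + 1) n h1 h2 h3 h4 hiG hnG c] at hsum
    obtain ⟨a, ha⟩ := (T.exact_res_push MP.decomp M i n i' n' hiD hnD h3 h4 _).1 hsum
    refine ⟨a, fun l => ?_⟩
    rw [MP.res_formula Q hU l M i n i' n' hi hn hiD hnD a, ha, MP.pull_sum_push M i' n' h1 h2 c l]

end MPiece

theorem CPiece.ptι_gW {X : Obj V} {x : X.scheme} (P P' : CPiece X x) (hY : P'.Y ≤ P.Y)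
    (M : A.Cat) (i n : ℤ) (c : T.gp P.G M i n) :
    ((T.ptι X x i n P'.Widx).app M).hom ((T.pull (CPiece.gW P P' hY) M i n).hom c) =
      ((T.ptι X x i n P.Widx).app M).hom c :=
  ocolimι_pull T (X.ptSub x) _ i n M (U := P.Widx) (U' := P'.Widx)
    (CPiece.W_le_of_Y_le P P' hY) (CPiece.dimW_eq P P') c

/-- exactness at the sum over the points: the kernel of the total push-forward lies in the image
of the total residue -/
theorem exists_tot_eq {X : Obj V} {j : ℕ} (Q : T.ResData X j) (Pd : T.PushData X (j + 1))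
    (M : A.Cat) (i n i' n' : ℤ) (hi : i' = i + 1 - 2 * ((j : ℤ) + 1))
    (hn : n' = n - ((j : ℤ) + 1))
    (hi2 : i + 1 = i' + 2 * ((j + 1 : ℕ) : ℤ)) (hn2 : n = n' + ((j + 1 : ℕ) : ℤ))
    (ξ : T.ptSum X (j + 1) M i' n') (hξ : (Pd.tot M i' n' (i + 1) n hi2 hn2).hom ξ = 0) :
    ∃ α : T.fjGp X j M i n, (Q.tot M i n i' n' hi hn).hom α = ξ := by
  classical
  -- the open complement of the closures of the support
  have hclosed : IsClosed (⋃ x ∈ DFinsupp.support ξ, closure ({x.1} : Set X.scheme)) :=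
    Set.Finite.isClosed_biUnion (DFinsupp.support ξ).finite_toSet (fun _ _ => isClosed_closure)
  let U₀ : X.scheme.Opens :=
    ⟨(⋃ x ∈ DFinsupp.support ξ, closure ({x.1} : Set X.scheme))ᶜ, hclosed.isOpen_compl⟩
  have hU₀ : ContainsFj X j U₀ := by
    intro y hy hmem
    obtain ⟨x, hx, hyx⟩ := Set.mem_iUnion₂.1 hmem
    have h1 := codim_le_of_specializes X (specializes_iff_mem_closure.2 hyx)
    have h2 := x.2
    omega
  obtain ⟨MP₀, hMPU, hMPY, hMPB⟩ := exists_mpiece_of_open X j U₀ hU₀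
  have hξ₀ : ∀ x, x ∉ MP₀.B → ξ x = 0 := by
    intro x hx
    by_contra h
    apply hx
    rw [hMPB]
    intro hxU
    exact hxU (Set.mem_biUnion (DFinsupp.mem_support_iff.2 h) (subset_closure rfl))
  have hU₀' : ContainsFj X j MP₀.U := hMPU ▸ hU₀
  -- representatives of the components
  have hrep : ∀ l : MP₀.B, ∃ (W0 : ptIdx X l.1.1)
      (c0 : T.gp ((X.ptSub l.1.1).res W0.1) M i' n'),
      ((T.ptι X l.1.1 i' n' W0).app M).hom c0 = ξ l.1 := fun l =>
    ocolim_rep T (X.ptSub l.1.1) (fun U => (U : Set (X.ptSub l.1.1).scheme).Nonempty) i' n' M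
      (ξ l.1)
  choose W0 c0 hc0 using hrep
  let CP0 : ∀ l : MP₀.B, CPiece X l.1.1 := fun l =>
    CPiece.ofPtIdxIn (W0 l) ⊤ (fun _ _ => trivial)
  have hCP0 : ∀ l, ContainsFj X (j + 1) (CP0 l).Y := fun l =>
    CPiece.containsFj_ofPtIdxIn l.1.2 _ _ _ (fun _ _ => trivial)
  let Y' : X.scheme.Opens := ⟨(MP₀.Y : Set X.scheme) ∩ ⋂ l : MP₀.B, ((CP0 l).Y : Set X.scheme),
    MP₀.Y.isOpen.inter (isOpen_iInter_of_finite (fun l => (CP0 l).Y.isOpen))⟩
  have hY'le : Y' ≤ MP₀.Y := fun y hy => hy.1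
  have hY' : ContainsFj X (j + 1) Y' := fun y hy =>
    ⟨hMPY y hy, Set.mem_iInter.2 (fun l => hCP0 l y hy)⟩
  have hY'CP : ∀ l : MP₀.B, Y' ≤ (CP0 l).Y := fun l y hy => Set.mem_iInter.1 hy.2 l
  let MP₁ : MPiece X (j + 1) := MP₀.restrict hU₀' Y' hY'le hY'
  let c₁ : ∀ l : MP₀.B, T.gp (MP₁.cp l).G M i' n' := fun l =>
    (T.pull (CPiece.gW (CP0 l) (MP₁.cp l) (hY'CP l)) M i' n').hom (c0 l)
  have hc₁ : ∀ l : MP₀.B, ((T.ptι X l.1.1 i' n' (MP₁.cp l).Widx).app M).hom (c₁ l) = ξ l.1 :=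
    fun l => (CPiece.ptι_gW (T := T) (CP0 l) (MP₁.cp l) (hY'CP l) M i' n' (c0 l)).trans (hc0 l)
  have hiG₁ : ∀ l : MP₀.B, i + 1 = i' + 2 *
      relCodim (MP₁.cp l).G.scheme (X.res MP₁.Y).scheme := fun l => by
    rw [MP₁.relCodim_G l]; exact hi2
  have hnG₁ : ∀ l : MP₀.B, n = n' +
      relCodim (MP₁.cp l).G.scheme (X.res MP₁.Y).scheme := fun l => by
    rw [MP₁.relCodim_G l]; exact hn2
  have hU₁ : ContainsFj X j MP₁.U := fun y hy =>
    ⟨hU₀' y hy, hY' y (hy.trans (Nat.le_succ j))⟩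
  have h5 := MP₁.tot_formula Pd hY' M i' n' (i + 1) n hi2 hn2 hiG₁ hnG₁ ξ hξ₀ c₁ hc₁
  rw [hξ] at h5
  obtain ⟨U'', hle'', hz⟩ := (ocolim_eq_zero_iff T X (ContainsFj X (j + 1)) (i + 1) n M
    (U := ⟨MP₁.Y, hY', MP₁.dimY⟩) _).1 h5.symm
  let MP₂ : MPiece X (j + 1) := MP₁.restrict hU₁ U''.1 hle'' U''.2.1
  have hiG₂ : ∀ l : MP₀.B, i + 1 = i' + 2 *
      relCodim (MP₂.cp l).G.scheme (X.res MP₂.Y).scheme := fun l => by
    rw [MP₂.relCodim_G l]; exact hi2
  have hnG₂ : ∀ l : MP₀.B, n = n' +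
      relCodim (MP₂.cp l).G.scheme (X.res MP₂.Y).scheme := fun l => by
    rw [MP₂.relCodim_G l]; exact hn2
  let c₂ : ∀ l : MP₀.B, T.gp (MP₂.cp l).G M i' n' := fun l =>
    (T.pull (CPiece.gW (MP₁.cp l) (MP₂.cp l) hle'') M i' n').hom (c₁ l)
  have hc₂ : ∀ l : MP₀.B, ((T.ptι X l.1.1 i' n' (MP₂.cp l).Widx).app M).hom (c₂ l) = ξ l.1 :=
    fun l => (CPiece.ptι_gW (T := T) (MP₁.cp l) (MP₂.cp l) hle'' M i' n' (c₁ l)).trans (hc₁ l)
  have h6 := MP₁.restrict_sum_push hU₁ U''.1 hle'' U''.2.1 (U''.2.2.trans MP₁.dimY.symm) M i' n'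
    (i + 1) n hiG₁ hnG₁ hiG₂ hnG₂ c₁
  have hsum : ∑ l : MP₂.B, (T.push (X := (MP₂.cp l).G) (Y := X.res MP₂.Y) (MP₂.cp l).i M i' n'
      (i + 1) n (hiG₂ l) (hnG₂ l)).hom (c₂ l) = 0 := h6.symm.trans hz
  have hU₂ : ContainsFj X j MP₂.U := fun y hy =>
    ⟨hU₁ y hy, U''.2.1 y (hy.trans (Nat.le_succ j))⟩
  obtain ⟨a, ha⟩ := MP₂.exists_res_eq Q hU₂ M i n i' n' hi hn hi2 hn2 hiG₂ hnG₂ c₂ hsum
  refine ⟨((T.fjι X j i n ⟨MP₂.U, hU₂, MP₂.hdim⟩).app M).hom a, ?_⟩
  refine DFinsupp.ext (fun x => ?_)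
  rw [PreTheory.ResData.tot_apply]
  by_cases hx : x ∈ MP₀.B
  · exact (ha ⟨x, hx⟩).trans (hc₂ ⟨x, hx⟩)
  · rw [hξ₀ x hx]
    have hxU : x.1 ∈ MP₂.U := MP₂.mem_U_of_not_mem_B U''.2.1 x hx
    exact res_zero_of_mem Q x.1 x.2 ⟨MP₂.U, hU₂, MP₂.hdim⟩ hxU M i n i' n' hi hn a

end Pre

/-- exactness at the sum over the points: the total push-forward kills the total residue -/
theorem tot_tot_eq_zero (T : TheoryOn V R A) {X : Obj V} {j : ℕ} (Q : T.ResData X j)
    (Pd : T.PushData X (j + 1))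
    (M : A.Cat) (i n i' n' : ℤ) (hi : i' = i + 1 - 2 * ((j : ℤ) + 1))
    (hn : n' = n - ((j : ℤ) + 1))
    (hi2 : i + 1 = i' + 2 * ((j + 1 : ℕ) : ℤ)) (hn2 : n = n' + ((j + 1 : ℕ) : ℤ))
    (α : T.fjGp X j M i n) :
    (Pd.tot M i' n' (i + 1) n hi2 hn2).hom ((Q.tot M i n i' n' hi hn).hom α) = 0 := by
  classical
  obtain ⟨U, a, rfl⟩ := ocolim_rep T.toPreTheory X (ContainsFj X j) i n M α
  obtain ⟨U1, hU1, hU2⟩ := U
  obtain ⟨MP, hMPU, hMPY, hMPB⟩ := exists_mpiece_of_open X j U1 hU1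
  subst hMPU
  have hξ₀ : ∀ x, x ∉ MP.B → ((Q.tot M i n i' n' hi hn).hom
      (((T.ocolimι X (ContainsFj X j) i n ⟨MP.U, hU1, hU2⟩).app M).hom a)) x = 0 := by
    intro x hx
    rw [PreTheory.ResData.tot_apply]
    exact res_zero_of_mem Q x.1 x.2 ⟨MP.U, hU1, hU2⟩ (MP.mem_U_of_not_mem_B hMPY x hx)
      M i n i' n' hi hn a
  rcases isEmpty_or_nonempty MP.B with hB | ⟨⟨k₀⟩⟩
  · have : (Q.tot M i n i' n' hi hn).hom
        (((T.ocolimι X (ContainsFj X j) i n ⟨MP.U, hU1, hU2⟩).app M).hom a) = 0 :=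
      DFinsupp.ext (fun x => hξ₀ x (fun h => hB.false ⟨x, h⟩))
    rw [this, map_zero]
  · haveI : Nonempty ↥MP.B := ⟨k₀⟩
    have hD : MP.decomp.codim = ((j + 1 : ℕ) : ℤ) := MP.codim_eq k₀
    have hiD : i' = i + 1 - 2 * MP.decomp.codim := by rw [hD]; push_cast; exact hi
    have hnD : n' = n - MP.decomp.codim := by rw [hD]; push_cast; exact hn
    have h1 : ∀ l : MP.B, i' = i' + 2 * relCodim (MP.cp l).G.scheme MP.ZObj.scheme := fun l => by
      rw [relCodim_of_hom (MP.gObj l)]; ring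
    have h2 : ∀ l : MP.B, n' = n' + relCodim (MP.cp l).G.scheme MP.ZObj.scheme := fun l => by
      rw [relCodim_of_hom (MP.gObj l)]; ring
    have hZ : relCodim MP.ZObj.scheme (X.res MP.Y).scheme = ((j + 1 : ℕ) : ℤ) := hD
    have h3 : i + 1 = i' + 2 * relCodim MP.ZObj.scheme (X.res MP.Y).scheme := by
      rw [hZ]; exact hi2
    have h4 : n = n' + relCodim MP.ZObj.scheme (X.res MP.Y).scheme := by
      rw [hZ]; exact hn2
    have hiG : ∀ l : MP.B, i + 1 = i' + 2 *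
        relCodim (MP.cp l).G.scheme (X.res MP.Y).scheme := fun l => by
      rw [MP.relCodim_G l]; exact hi2
    have hnG : ∀ l : MP.B, n = n' +
        relCodim (MP.cp l).G.scheme (X.res MP.Y).scheme := fun l => by
      rw [MP.relCodim_G l]; exact hn2
    let c : ∀ l : MP.B, T.gp (MP.cp l).G M i' n' := fun l =>
      (T.pull (MP.gObj l) M i' n').hom ((T.res MP.decomp M i n i' n' hiD hnD).hom a)
    have hc : ∀ l : MP.B, ((T.ptι X l.1.1 i' n' (MP.cp l).Widx).app M).hom (c l) =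
        ((Q.tot M i n i' n' hi hn).hom
          (((T.ocolimι X (ContainsFj X j) i n ⟨MP.U, hU1, hU2⟩).app M).hom a)) l.1 := fun l =>
      (MP.res_formula Q hU1 l M i n i' n' hi hn hiD hnD a).symm
    rw [MP.tot_formula Pd hMPY M i' n' (i + 1) n hi2 hn2 hiG hnG _ hξ₀ c hc,
      MP.sum_push_eq M i' n' (i + 1) n h1 h2 h3 h4 hiG hnG c]
    have hsum : ∑ l : MP.B, (T.push (MP.gObj l).hom M i' n' i' n' (h1 l) (h2 l)).hom (c l) =
        (T.res MP.decomp M i n i' n' hiD hnD).hom a :=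
      sum_push_pull MP.gObj T (fun z => MP.exists_mem_range_gs z)
        (fun a b hab => MP.disjoint_range_gs a b hab) M i' n' h1 h2 _
    rw [hsum]
    have h0 := (T.exact_res_push MP.decomp M i n i' n' hiD hnD h3 h4).apply_apply_eq_zero a
    have h0' : (T.push (X := MP.ZObj) (Y := X.res MP.Y) MP.Zι M i' n' (i + 1) n h3 h4).hom
        ((T.res MP.decomp M i n i' n' hiD hnD).hom a) = 0 := h0
    rw [h0', map_zero]

end Groth.Agent.Lib.Helper79.BM

end
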