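import Groth.Agent.Lib.Helper79.BMExact1
import Mathlib

/-!
# Exactness at `H(F_{j+1} X)`: total push-forward then restriction (helper79, BMCoh family)
-/

set_option autoImplicit false
universe u

noncomputable section

namespace Groth.Agent.Lib.Helper79.BM

open AlgebraicGeometry CategoryTheory CategoryTheory.Limits Opposite TopologicalSpace BMCoh

variable {V : ObjectProperty Scheme.{u}} [IsConstructible V]
variable {R : Type u} [CommRing R] {A : Coefs R} {T : PreTheory V R A}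

theorem resLE_comp (X : Obj V) {U U' U'' : X.scheme.Opens} (h : U ≤ U') (h' : U' ≤ U'')
    (hd hd' hd'') : X.resLE h hd ≫ X.resLE h' hd' = X.resLE (h.trans h') hd'' :=
  Hom.ext (Scheme.homOfLE_homOfLE X.scheme h h')

theorem relCodim_index {X : Obj V} {x : X.scheme} (P : Piece X x) {j : ℕ}
    (hx : WeilCoh.codim X.scheme x = j + 1) :
    relCodim P.decomp.Z.scheme (X.res P.Y).scheme = ((j + 1 : ℕ) : ℤ) := by
  have := P.codim_eq
  rw [hx] at this
  exact this

/-- a class on `Y` restricting to zero on the open part of a piece is a push-forward -/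
theorem exists_push_of_pull_zero {X : Obj V} {x : X.scheme} (P : Piece X x) {j : ℕ}
    (hx : WeilCoh.codim X.scheme x = j + 1) (M : A.Cat) (i n k n' : ℤ)
    (hi : k + 1 = i + 2 * ((j + 1 : ℕ) : ℤ)) (hn : n' = n + ((j + 1 : ℕ) : ℤ))
    (b : T.gp (X.res P.Y) M (k + 1) n') (hb : (T.pull P.j M (k + 1) n').hom b = 0) :
    ∃ (hi' : k + 1 = i + 2 * relCodim P.G.scheme (X.res P.Y).scheme)
      (hn' : n' = n + relCodim P.G.scheme (X.res P.Y).scheme) (c : T.gp P.G M i n),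
      (T.push (X := P.G) (Y := X.res P.Y) P.i M i n (k + 1) n' hi' hn').hom c = b := by
  have hi' : k + 1 = i + 2 * relCodim P.decomp.Z.scheme (X.res P.Y).scheme := by
    rw [relCodim_index P hx]; exact hi
  have hn' : n' = n + relCodim P.decomp.Z.scheme (X.res P.Y).scheme := by
    rw [relCodim_index P hx]; exact hn
  obtain ⟨c, hc⟩ := (T.exact_push_pull P.decomp M k n' i n hi' hn' b).1 hb
  exact ⟨hi', hn', c, hc⟩

theorem pull_push_zero {X : Obj V} {x : X.scheme} (P : Piece X x) (M : A.Cat) (i n k n' : ℤ)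
    (hi' : k + 1 = i + 2 * relCodim P.G.scheme (X.res P.Y).scheme)
    (hn' : n' = n + relCodim P.G.scheme (X.res P.Y).scheme) (c : T.gp P.G M i n) :
    (T.pull P.j M (k + 1) n').hom
      ((T.push (X := P.G) (Y := X.res P.Y) P.i M i n (k + 1) n' hi' hn').hom c) = 0 :=
  (T.exact_push_pull P.decomp M k n' i n hi' hn').apply_apply_eq_zero c

/-- restriction kills the push-forward from a point of codimension `j + 1` -/
theorem fjRes_cpt_zero {X : Obj V} {j : ℕ} (Pd : T.PushData X (j + 1)) (x : X.cdPt (j + 1))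
    (M : A.Cat) (i n k n' : ℤ) (hi : k + 1 = i + 2 * ((j + 1 : ℕ) : ℤ))
    (hn : n' = n + ((j + 1 : ℕ) : ℤ)) (c' : T.ptGp X x.1 M i n) :
    ((T.fjRes X (Nat.le_succ j) (k + 1) n').app M).hom
      ((Pd.cpt x M i n (k + 1) n' hi hn).hom c') = 0 := by
  obtain ⟨x, hx⟩ := x
  obtain ⟨W0, c, rfl⟩ := ocolim_rep T (X.ptSub x)
    (fun U => (U : Set (X.ptSub x).scheme).Nonempty) i n M c'
  let CP : CPiece X x := CPiece.ofPtIdxIn W0 ⊤ (fun _ _ => trivial)
  have hCPY : ContainsFj X (j + 1) CP.Y :=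
    CPiece.containsFj_ofPtIdxIn hx _ _ _ (fun _ _ => trivial)
  have hdC : WeilCoh.dim (CP.Y : Scheme.{u}) = WeilCoh.dim X.scheme :=
    dim_eq_of_containsFj X _ _ hCPY
  have hiC : k + 1 = i + 2 * relCodim CP.G.scheme (X.res CP.Y).scheme := by
    rw [CP.relCodim_eq hdC, hx]; exact hi
  have hnC : n' = n + relCodim CP.G.scheme (X.res CP.Y).scheme := by
    rw [CP.relCodim_eq hdC, hx]; exact hn
  have h5 := CP.push_formula Pd hx hCPY M i n (k + 1) n' hi hn hiC hnC c
  have h6 : (Pd.cpt ⟨x, hx⟩ M i n (k + 1) n' hi hn).hom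
      (((T.ocolimι (X.ptSub x) (fun U => (U : Set (X.ptSub x).scheme).Nonempty) i n W0).app M).hom
        c) = ((T.fjι X (j + 1) (k + 1) n' (CP.Yidx hCPY)).app M).hom
          ((T.push (X := CP.G) (Y := X.res CP.Y) CP.i M i n (k + 1) n' hiC hnC).hom c) := h5
  rw [h6]
  have h7 := ocolimMap_ι T X (containsFj_mono X (Nat.le_succ j)) (k + 1) n' M (CP.Yidx hCPY)
    ((T.push (X := CP.G) (Y := X.res CP.Y) CP.i M i n (k + 1) n' hiC hnC).hom c)
  refine h7.trans ?_
  have hYj : ContainsFj X j CP.Y := containsFj_mono X (Nat.le_succ j) _ hCPY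
  let Pc : Piece X x := CP.toPiece' hx hYj
  have hU' : ContainsFj X j Pc.U := containsFj_inf_clCompl hx hYj
  have h8 := ocolimι_pull T X (ContainsFj X j) (k + 1) n' M
    (U := ⟨CP.Y, hYj, hdC⟩) (U' := Pc.Uidx hU') Pc.hUY (Pc.hdim.trans Pc.dimY.symm)
    ((T.push (X := CP.G) (Y := X.res CP.Y) CP.i M i n (k + 1) n' hiC hnC).hom c)
  rw [← h8]
  have h9 := pull_push_zero (T := T) Pc M i n k n' hiC hnC c
  have h10 : (T.pull (X.resLE Pc.hUY (Pc.hdim.trans Pc.dimY.symm)) M (k + 1) n').hom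
      ((T.push (X := CP.G) (Y := X.res CP.Y) CP.i M i n (k + 1) n' hiC hnC).hom c) = 0 := h9
  exact (congrArg ((T.ocolimι X (ContainsFj X j) (k + 1) n' (Pc.Uidx hU')).app M).hom h10).trans
    (map_zero _)

open Classical in
theorem exists_preimage_push {X : Obj V} {j : ℕ} (Pd : T.PushData X (j + 1)) (M : A.Cat)
    (i n k n' : ℤ) (hi : k + 1 = i + 2 * ((j + 1 : ℕ) : ℤ)) (hn : n' = n + ((j + 1 : ℕ) : ℤ)) :
    ∀ (n₀ : ℕ) (Y : Idx X (ContainsFj X (j + 1))) (b : T.gp (X.res Y.1) M (k + 1) n')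
      (U : Idx X (ContainsFj X j)) (hUY : U.1 ≤ Y.1),
      (T.pull (X.resLE hUY (U.2.2.trans Y.2.2.symm)) M (k + 1) n').hom b = 0 →
      (bad X j U.1).ncard = n₀ →
      ∃ ξ : T.ptSum X (j + 1) M i n, (Pd.tot M i n (k + 1) n' hi hn).hom ξ =
        ((T.fjι X (j + 1) (k + 1) n' Y).app M).hom b := by
  intro n₀
  induction n₀ with
  | zero =>
    intro Y b U hUY hb hcard
    have hbad : bad X j U.1 = ∅ := (Set.ncard_eq_zero (finite_bad X j U.1 U.2.1)).1 hcard
    have hU' := containsFj_succ_of_bad_empty U.2.1 hbad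
    refine ⟨0, ?_⟩
    rw [map_zero]
    have h1 := ocolimι_pull T X (ContainsFj X (j + 1)) (k + 1) n' M (U := Y)
      (U' := ⟨U.1, hU', U.2.2⟩) hUY (U.2.2.trans Y.2.2.symm) b
    rw [← h1, hb, map_zero]
  | succ n₀ ih =>
    intro Y b U hUY hb hcard
    have hne : (bad X j U.1).Nonempty := by
      rw [← Set.ncard_pos (finite_bad X j U.1 U.2.1)]; omega
    obtain ⟨x, hx, hxU⟩ := hne
    have hxY : x ∈ Y.1 := Y.2.1 x (le_of_eq hx)
    obtain ⟨U1, hU1, hU2⟩ := U
    obtain ⟨Pc, hPU, hPY⟩ := Piece.exists_of_not_mem (x := x) U1 Y.1 hUY hU2 hxY hxU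
      (pd_le_of_not_mem hx hU1)
    subst hPU
    -- restrict `b` to the piece
    have hb₁ : (T.pull Pc.j M (k + 1) n').hom
        ((T.pull (X.resLE hPY (Pc.dimY.trans Y.2.2.symm)) M (k + 1) n').hom b) = 0 := by
      rw [← pull_comp_apply]
      have : Pc.j ≫ X.resLE hPY (Pc.dimY.trans Y.2.2.symm) =
          X.resLE hUY (hU2.trans Y.2.2.symm) := resLE_comp X _ _ _ _ _
      rw [this]
      exact hb
    obtain ⟨hi', hn', c₁, hc₁⟩ := exists_push_of_pull_zero Pc hx M i n k n' hi hn _ hb₁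
    -- the closed piece inside `Y`
    let CP : CPiece X x := CPiece.ofPtIdxIn Pc.Widx Y.1 (fun z hz => hPY ((Pc.hW z).1 hz))
    have hCPY : ContainsFj X (j + 1) CP.Y := CPiece.containsFj_ofPtIdxIn hx _ _ _ Y.2.1
    have hPcCP : Pc.Y ≤ CP.Y := fun y hy => ⟨hPY hy, by
      rintro ⟨z, hz, rfl⟩
      exact hz ((Pc.hW z).2 hy)⟩
    have hCPle : CP.Y ≤ Y.1 := inf_le_left
    have hdC : WeilCoh.dim (CP.Y : Scheme.{u}) = WeilCoh.dim X.scheme :=
      dim_eq_of_containsFj X _ _ hCPY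
    have hiC : k + 1 = i + 2 * relCodim CP.G.scheme (X.res CP.Y).scheme := by
      rw [CP.relCodim_eq hdC, hx]; exact hi
    have hnC : n' = n + relCodim CP.G.scheme (X.res CP.Y).scheme := by
      rw [CP.relCodim_eq hdC, hx]; exact hn
    let bY : T.gp (X.res CP.Y) M (k + 1) n' :=
      (T.pull (X.resLE hCPle (hdC.trans Y.2.2.symm)) M (k + 1) n').hom b
    let pc : T.gp (X.res CP.Y) M (k + 1) n' :=
      (T.push (X := CP.G) (Y := X.res CP.Y) CP.i M i n (k + 1) n' hiC hnC).hom c₁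
    -- restriction of `bY - pc` to `Pc.Y` vanishes
    have h1 : (T.pull (X.resLE hPcCP (Pc.dimY.trans hdC.symm)) M (k + 1) n').hom bY =
        (T.pull (X.resLE hPY (Pc.dimY.trans Y.2.2.symm)) M (k + 1) n').hom b := by
      rw [← pull_comp_apply]
      have : X.resLE hPcCP (Pc.dimY.trans hdC.symm) ≫ X.resLE hCPle (hdC.trans Y.2.2.symm) =
          X.resLE hPY (Pc.dimY.trans Y.2.2.symm) := resLE_comp X _ _ _ _ _
      rw [this]
    have h2 := CPiece.push_restrict (T := T) CP Pc.toCPiece hPcCP (Pc.dimY.trans hdC.symm) M i n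
      (k + 1) n' hiC hnC hi' hn' c₁
    have key : (T.pull ((X.ptSub x).resLE (le_refl Pc.W) rfl) M i n).hom c₁ = c₁ := by
      rw [resLE_refl, pull_id_apply]
    have h3 : (T.pull (X.resLE hPcCP (Pc.dimY.trans hdC.symm)) M (k + 1) n').hom pc =
        (T.pull (X.resLE hPY (Pc.dimY.trans Y.2.2.symm)) M (k + 1) n').hom b :=
      h2.trans ((congrArg (T.push (X := Pc.G) (Y := X.res Pc.Y) Pc.i M i n (k + 1) n' hi' hn').hom
        key).trans hc₁)
    have h4 : (T.pull (X.resLE hPcCP (Pc.dimY.trans hdC.symm)) M (k + 1) n').hom (bY - pc) = 0 := by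
      rw [map_sub, h1, h3, sub_self]
    let Unew : Idx X (ContainsFj X j) := ⟨Pc.Y, fun y hy => Pc.hUY (hU1 y hy), Pc.dimY⟩
    obtain ⟨ξ', hξ'⟩ := ih (CP.Yidx hCPY) (bY - pc) Unew hPcCP h4 (by
      have := bad_piece hx Pc
      change (bad X j Pc.Y).ncard = n₀
      rw [this, Set.ncard_diff_singleton_of_mem (show x ∈ bad X j Pc.U from ⟨hx, hxU⟩)]
      change (bad X j Pc.U).ncard = n₀ + 1 at hcard
      omega)
    refine ⟨ξ' + DirectSum.lof R (X.cdPt (j + 1)) (fun y => T.ptGp X y.1 M i n) ⟨x, hx⟩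
      (((T.ptι X x i n Pc.Widx).app M).hom c₁), ?_⟩
    rw [map_add, hξ', PreTheory.PushData.tot_lof]
    have h5 := CP.push_formula Pd hx hCPY M i n (k + 1) n' hi hn hiC hnC c₁
    have h6 : (Pd.cpt ⟨x, hx⟩ M i n (k + 1) n' hi hn).hom
        (((T.ptι X x i n Pc.Widx).app M).hom c₁) =
        ((T.fjι X (j + 1) (k + 1) n' (CP.Yidx hCPY)).app M).hom pc := h5
    rw [h6, ← map_add, sub_add_cancel]
    exact ocolimι_pull T X (ContainsFj X (j + 1)) (k + 1) n' M (U := Y) (U' := CP.Yidx hCPY)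
      hCPle (hdC.trans Y.2.2.symm) b

end Groth.Agent.Lib.Helper79.BM

end
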