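import Groth.Agent.Lib.Helper79.BMPiece2
import Mathlib

/-!
# Residue and push-forward data computed on pieces (helper79, BMCoh family)
-/

set_option autoImplicit false
universe u

noncomputable section

namespace Groth.Agent.Lib.Helper79.BM

open AlgebraicGeometry CategoryTheory CategoryTheory.Limits Opposite TopologicalSpace BMCoh

variable {V : ObjectProperty Scheme.{u}} [IsConstructible V]
variable {R : Type u} [CommRing R] {A : Coefs R} (T : PreTheory V R A)

theorem pull_id (X : Obj V) (M : A.Cat) (i n : ℤ) : T.pull (𝟙 X) M i n = 𝟙 _ := by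
  simp [PreTheory.pull]

theorem pull_comp {X Y Z : Obj V} (f : X ⟶ Y) (g : Y ⟶ Z) (M : A.Cat) (i n : ℤ) :
    T.pull (f ≫ g) M i n = T.pull g M i n ≫ T.pull f M i n := by
  simp [PreTheory.pull]

theorem pull_comp_apply {X Y Z : Obj V} (f : X ⟶ Y) (g : Y ⟶ Z) (M : A.Cat) (i n : ℤ)
    (a : T.gp Z M i n) :
    (T.pull (f ≫ g) M i n).hom a = (T.pull f M i n).hom ((T.pull g M i n).hom a) := by
  rw [pull_comp]; rfl

theorem pull_id_apply (X : Obj V) (M : A.Cat) (i n : ℤ) (a : T.gp X M i n) :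
    (T.pull (𝟙 X) M i n).hom a = a := by
  rw [pull_id]; rfl

namespace Piece

variable {T} {X : Obj V} {x : X.scheme} (P : Piece X x)

/-- the open part of a piece as a member of the index family of `F_j X` -/
abbrev Uidx {j : ℕ} (hU : ContainsFj X j P.U) : Idx X (ContainsFj X j) := ⟨P.U, hU, P.hdim⟩

/-- the residue at `x` of a class on the open part of a piece is the residue of the piece -/
theorem res_formula {j : ℕ} (Q : T.ResData X j) (hx : WeilCoh.codim X.scheme x = j + 1)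
    (hU : ContainsFj X j P.U) (M : A.Cat) (i n i' n' : ℤ)
    (hi : i' = i + 1 - 2 * ((j : ℤ) + 1)) (hn : n' = n - ((j : ℤ) + 1))
    (hiD : i' = i + 1 - 2 * P.decomp.codim) (hnD : n' = n - P.decomp.codim)
    (a : T.gp (X.res P.U) M i n) :
    (Q.cpt ⟨x, hx⟩ M i n i' n' hi hn).hom (((T.fjι X j i n (P.Uidx hU)).app M).hom a) =
      ((T.ptι X x i' n' P.Widx).app M).hom ((T.res P.decomp M i n i' n' hiD hnD).hom a) := by
  have hg : (𝟙 ((X.ptSub x).res P.Widx.1) : _ ⟶ P.decomp.Z).hom ≫ P.decomp.i ≫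
      (X.resι P.Y P.dimY).hom = P.Widx.1.ι ≫ X.ptSubι x := by
    change 𝟙 _ ≫ P.i ≫ P.Y.ι = P.W.ι ≫ X.ptSubι x
    rw [Category.id_comp, P.i_fac]
  have hh : (𝟙 (X.res (P.Uidx hU).1) : _ ⟶ P.decomp.U).hom ≫ P.decomp.j.hom ≫
      (X.resι P.Y P.dimY).hom = (P.Uidx hU).1.ι := by
    change 𝟙 _ ≫ X.scheme.homOfLE P.hUY ≫ P.Y.ι = P.U.ι
    rw [Category.id_comp, Scheme.homOfLE_ι]
  have := Q.cpt_spec ⟨x, hx⟩ M i n i' n' hi hn (X.resι P.Y P.dimY) P.decomp P.Widx
    (𝟙 _) hg (P.Uidx hU) (𝟙 _) hh hiD hnD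
  have h2 := congrArg (fun φ => φ.hom a) this
  change (Q.cpt ⟨x, hx⟩ M i n i' n' hi hn).hom (((T.fjι X j i n (P.Uidx hU)).app M).hom
      ((T.pull (𝟙 (X.res P.U)) M i n).hom a)) =
    ((T.ptι X x i' n' P.Widx).app M).hom ((T.pull (𝟙 ((X.ptSub x).res P.W)) M i' n').hom
      ((T.res P.decomp M i n i' n' hiD hnD).hom a)) at h2
  rw [pull_id_apply] at h2
  exact h2.trans (congrArg (fun t => ((T.ptι X x i' n' P.Widx).app M).hom t)
    (pull_id_apply T ((X.ptSub x).res P.W) M i' n' _))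

end Piece

namespace CPiece

variable {T} {X : Obj V} {x : X.scheme} (P : CPiece X x)

/-- `Y` as a member of the index family of `F_j X` -/
abbrev Yidx {j : ℕ} (hY : ContainsFj X j P.Y) : Idx X (ContainsFj X j) :=
  ⟨P.Y, hY, dim_eq_of_containsFj X j _ hY⟩

/-- the push-forward from `x` of a class on a closed piece is the push-forward of the piece -/
theorem push_formula {j : ℕ} (Pd : T.PushData X j) (hx : WeilCoh.codim X.scheme x = j)
    (hY : ContainsFj X j P.Y) (M : A.Cat) (i n i' n' : ℤ)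
    (hi : i' = i + 2 * (j : ℤ)) (hn : n' = n + (j : ℤ))
    (hi' : i' = i + 2 * relCodim P.G.scheme (X.res P.Y).scheme)
    (hn' : n' = n + relCodim P.G.scheme (X.res P.Y).scheme)
    (c : T.gp P.G M i n) :
    (Pd.cpt ⟨x, hx⟩ M i n i' n' hi hn).hom (((T.ptι X x i n P.Widx).app M).hom c) =
      ((T.fjι X j i' n' (P.Yidx hY)).app M).hom ((T.push (X := P.G) (Y := X.res P.Y) P.i M i n i' n' hi' hn').hom c) := by
  have := Pd.cpt_spec ⟨x, hx⟩ M i n i' n' hi hn (P.Yidx hY) P.Widx P.i P.i_fac hi' hn'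
  exact congrArg (fun φ => φ.hom c) this

end CPiece

end Groth.Agent.Lib.Helper79.BM

end
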