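import Groth.Agent.Lib.Helper79.BMFormula
import Mathlib

/-!
# Restriction of pieces: compatibility of residues and push-forwards (helper79, BMCoh family)
-/

set_option autoImplicit false
universe u

noncomputable section

namespace Groth.Agent.Lib.Helper79.BM

open AlgebraicGeometry CategoryTheory CategoryTheory.Limits Opposite TopologicalSpace BMCoh

variable {V : ObjectProperty Scheme.{u}} [IsConstructible V]
variable {R : Type u} [CommRing R] {A : Coefs R} (T : PreTheory V R A)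

/-- a commutative square of schemes whose left side is an open immersion onto the preimage of the
range of the (mono) right side is a pullback -/
theorem isPullback_of_isOpenImmersion {A' A₀ B' B : Scheme.{u}} (g' : A' ⟶ A₀) (f' : A' ⟶ B')
    (f : A₀ ⟶ B) (g : B' ⟶ B) [IsOpenImmersion g'] [Mono g] (comm : g' ≫ f = f' ≫ g)
    (h : ∀ a : A₀, f a ∈ Set.range g → a ∈ Set.range g') : IsPullback g' f' f g := by
  have hr : ∀ s : PullbackCone f g, Set.range s.fst ⊆ Set.range g' := by
    rintro s _ ⟨t, rfl⟩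
    apply h
    refine ⟨s.snd t, ?_⟩
    rw [← Scheme.Hom.comp_apply, ← s.condition, Scheme.Hom.comp_apply]
  refine ⟨⟨comm⟩, ⟨PullbackCone.IsLimit.mk _ (fun s => IsOpenImmersion.lift g' s.fst (hr s))
    (fun s => IsOpenImmersion.lift_fac _ _ _) (fun s => ?_) (fun s m h1 _ => ?_)⟩⟩
  · rw [← cancel_mono g, Category.assoc, ← comm, ← Category.assoc, IsOpenImmersion.lift_fac,
      s.condition]
  · rw [← cancel_mono g', IsOpenImmersion.lift_fac, h1]

theorem ocolimMap_ι (X : Obj V) {P Q : X.scheme.Opens → Prop} (h : ∀ U, P U → Q U) (i n : ℤ)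
    (M : A.Cat) (U : Idx X P) (b : T.gp (X.res U.1) M i n) :
    ((T.ocolimMap X h i n).app M).hom (((T.ocolimι X P i n U).app M).hom b) =
      ((T.ocolimι X Q i n ⟨U.1, h _ U.2.1, U.2.2⟩).app M).hom b := by
  have := colimit.ι_pre ((idxDiag X Q).op ⋙ T.H i n) (idxIncl X h).op (op U)
  exact congrArg (fun φ => (φ.app M).hom b) this

namespace CPiece

variable {T} {X : Obj V} {x : X.scheme}

theorem W_le_of_Y_le (P P' : CPiece X x) (hY : P'.Y ≤ P.Y) : P'.W ≤ P.W :=
  fun z hz => (P.hW z).2 (hY ((P'.hW z).1 hz))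

theorem dimW_eq (P P' : CPiece X x) :
    WeilCoh.dim (P'.W : Scheme.{u}) = WeilCoh.dim (P.W : Scheme.{u}) :=
  (dim_ptOpens X x _ P'.nonempty).trans (dim_ptOpens X x _ P.nonempty).symm

/-- the restriction morphism between the closed parts -/
def gW (P P' : CPiece X x) (hY : P'.Y ≤ P.Y) : P'.G ⟶ P.G :=
  (X.ptSub x).resLE (W_le_of_Y_le P P' hY) (dimW_eq P P')

theorem i_comm (P P' : CPiece X x) (hY : P'.Y ≤ P.Y) :
    (gW P P' hY).hom ≫ P.i = P'.i ≫ X.scheme.homOfLE hY := by
  rw [← cancel_mono P.Y.ι, Category.assoc, Category.assoc, P.i_fac, Scheme.homOfLE_ι, P'.i_fac]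
  change (X.ptSub x).scheme.homOfLE (W_le_of_Y_le P P' hY) ≫ _ = _
  rw [← Category.assoc, Scheme.homOfLE_ι]

theorem isPullback_restrict (P P' : CPiece X x) (hY : P'.Y ≤ P.Y) :
    IsPullback (gW P P' hY).hom P'.i P.i (X.scheme.homOfLE hY) := by
  have : IsOpenImmersion (gW P P' hY).hom := inferInstance
  apply isPullback_of_isOpenImmersion _ _ _ _ (i_comm P P' hY)
  intro w hw
  have h1 := (mem_range_iff_of_fac (X.scheme.homOfLE hY) _ (X.scheme.homOfLE_ι hY) (P.i w)).1 hw
  rw [Scheme.Opens.range_ι] at h1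
  have h2 : P.Y.ι (P.i w) = (X.ptSubι x) (P.W.ι w) := by
    rw [← Scheme.Hom.comp_apply, P.i_fac, Scheme.Hom.comp_apply]
  rw [h2] at h1
  have h3 : P.W.ι w ∈ P'.W := (P'.hW _).2 h1
  have := (mem_range_iff_of_fac ((X.ptSub x).scheme.homOfLE (W_le_of_Y_le P P' hY)) _
    ((X.ptSub x).scheme.homOfLE_ι _) w).2 (by rw [Scheme.Opens.range_ι]; exact h3)
  exact this

/-- push-forward from a closed piece commutes with restriction to a smaller piece -/
theorem push_restrict (P P' : CPiece X x) (hY : P'.Y ≤ P.Y)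
    (hd : WeilCoh.dim (P'.Y : Scheme.{u}) = WeilCoh.dim (P.Y : Scheme.{u}))
    (M : A.Cat) (i n i' n' : ℤ)
    (hi : i' = i + 2 * relCodim P.G.scheme (X.res P.Y).scheme)
    (hn : n' = n + relCodim P.G.scheme (X.res P.Y).scheme)
    (hi' : i' = i + 2 * relCodim P'.G.scheme (X.res P'.Y).scheme)
    (hn' : n' = n + relCodim P'.G.scheme (X.res P'.Y).scheme)
    (c : T.gp P.G M i n) :
    (T.pull (X.resLE hY hd) M i' n').hom
        ((T.push (X := P.G) (Y := X.res P.Y) P.i M i n i' n' hi hn).hom c) =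
      (T.push (X := P'.G) (Y := X.res P'.Y) P'.i M i n i' n' hi' hn').hom
        ((T.pull (gW P P' hY) M i n).hom c) := by
  have := T.push_pull (X := P.G) (Y := X.res P.Y) (X' := P'.G) (Y' := X.res P'.Y) P.i P'.i
    (X.resLE hY hd) (gW P P' hY) (isPullback_restrict P P' hY) M i n i' n' hi hn hi' hn'
  exact congrArg (fun φ => φ.hom c) this

end CPiece

namespace Piece

variable {T} {X : Obj V} {x : X.scheme}

/-- residues of pieces commute with restriction to a smaller piece -/
theorem res_restrict (P P' : Piece X x) (hY : P'.Y ≤ P.Y) (hU : P'.U ≤ P.U)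
    (M : A.Cat) (i n i' n' : ℤ)
    (hi : i' = i + 1 - 2 * P.decomp.codim) (hn : n' = n - P.decomp.codim)
    (hi' : i' = i + 1 - 2 * P'.decomp.codim) (hn' : n' = n - P'.decomp.codim)
    (a : T.gp (X.res P.U) M i n) :
    (T.pull (CPiece.gW P.toCPiece P'.toCPiece hY) M i' n').hom
        ((T.res P.decomp M i n i' n' hi hn).hom a) =
      (T.res P'.decomp M i n i' n' hi' hn').hom
        ((T.pull (X.resLE hU (P'.hdim.trans P.hdim.symm)) M i n).hom a) := by
  have hZ : (CPiece.gW P.toCPiece P'.toCPiece hY : P'.decomp.Z ⟶ P.decomp.Z).hom ≫ P.decomp.i =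
      P'.decomp.i ≫ (X.resLE hY (P'.dimY.trans P.dimY.symm)).hom :=
    CPiece.i_comm P.toCPiece P'.toCPiece hY
  have hUU : (X.resLE hU (P'.hdim.trans P.hdim.symm) : P'.decomp.U ⟶ P.decomp.U) ≫ P.decomp.j =
      P'.decomp.j ≫ X.resLE hY (P'.dimY.trans P.dimY.symm) := by
    apply Hom.ext
    change X.scheme.homOfLE hU ≫ X.scheme.homOfLE P.hUY =
      X.scheme.homOfLE P'.hUY ≫ X.scheme.homOfLE hY
    rw [Scheme.homOfLE_homOfLE, Scheme.homOfLE_homOfLE]
  have := T.res_pull P.decomp P'.decomp (X.resLE hY (P'.dimY.trans P.dimY.symm))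
    (CPiece.gW P.toCPiece P'.toCPiece hY) (X.resLE hU (P'.hdim.trans P.hdim.symm)) hZ hUU
    M i n i' n' hi hn hi' hn'
  exact congrArg (fun φ => φ.hom a) this

end Piece

end Groth.Agent.Lib.Helper79.BM

end
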