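import Groth.Agent.Lib.Helper79.BMAdd
import Groth.Agent.Lib.Helper79.BMScheme
import Mathlib

/-!
# Multi-pieces: `Y = U ⊔ ⨆ (cl{x} ∩ Y)` over finitely many points of the same codimension
(helper79, BMCoh family)
-/

set_option autoImplicit false
universe u

noncomputable section

namespace Groth.Agent.Lib.Helper79.BM

open AlgebraicGeometry CategoryTheory CategoryTheory.Limits Opposite TopologicalSpace BMCoh
open Groth.Agent.Lib.Helper79.BMTop

variable {V : ObjectProperty Scheme.{u}} [IsConstructible V]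

/-- A multi-piece: opens `U ≤ Y` of `X` and finitely many points of codimension `c` whose closures
meet `Y` in pairwise disjoint sets covering `Y \ U`. -/
structure MPiece (X : Obj V) (c : ℕ) where
  B : Finset (X.cdPt c)
  U : X.scheme.Opens
  Y : X.scheme.Opens
  hUY : U ≤ Y
  hBY : ∀ x ∈ B, x.1 ∈ Y
  hcov : ∀ y ∈ Y, y ∈ U ∨ ∃ x ∈ B, y ∈ closure ({x.1} : Set X.scheme)
  hdisjU : ∀ y ∈ U, ∀ x ∈ B, y ∉ closure ({x.1} : Set X.scheme)
  hdisj : ∀ x ∈ B, ∀ x' ∈ B, x ≠ x' → ∀ y ∈ Y,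
    y ∈ closure ({x.1} : Set X.scheme) → y ∉ closure ({x'.1} : Set X.scheme)
  hdim : WeilCoh.dim (U : Scheme.{u}) = WeilCoh.dim X.scheme

namespace MPiece

variable {X : Obj V} {c : ℕ} (MP : MPiece X c)

theorem dimY : WeilCoh.dim (MP.Y : Scheme.{u}) = WeilCoh.dim X.scheme :=
  le_antisymm (dim_opens_le X MP.Y) (MP.hdim ▸ dim_opens_mono X MP.hUY)

/-- the closed piece attached to a point of the multi-piece -/
abbrev cp (k : MP.B) : CPiece X k.1.1 where
  Y := MP.Y
  W := (X.ptSubι k.1.1) ⁻¹ᵁ MP.Y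
  hW _ := Iff.rfl
  hx := MP.hBY k.1 k.2

/-- the closed complement of `U` in `Y` -/
def S : Closeds (MP.Y : Scheme.{u}) :=
  ⟨{y | MP.Y.ι y ∉ MP.U}, (MP.U.isOpen.isClosed_compl).preimage MP.Y.ι.continuous⟩

/-- the reduced closed subscheme of `Y` on `Y \ U` -/
def Zs : Scheme.{u} := (Scheme.IdealSheafData.vanishingIdeal MP.S).subscheme

def Zι : MP.Zs ⟶ (MP.Y : Scheme.{u}) := (Scheme.IdealSheafData.vanishingIdeal MP.S).subschemeι

instance : IsClosedImmersion MP.Zι :=
  inferInstanceAs (IsClosedImmersion (Scheme.IdealSheafData.vanishingIdeal MP.S).subschemeι)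

instance : IsReduced MP.Zs := Groth.Agent.S2285.isReduced_vanishingIdeal_subscheme MP.S

theorem range_Zι : Set.range MP.Zι = {y | MP.Y.ι y ∉ MP.U} := by
  have := (Scheme.IdealSheafData.vanishingIdeal MP.S).range_subschemeι
  rw [Scheme.IdealSheafData.coe_support_vanishingIdeal] at this
  exact this

/-- the reduced closed part as an object -/
abbrev ZObj : Obj V :=
  ⟨MP.Zs, IsConstructible.of_isClosedImmersion MP.Zι (h := inferInstance) (X.res MP.Y).mem⟩

instance (X : Obj V) (x : X.scheme) : IsReduced (X.ptSub x).scheme :=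
  Groth.Agent.S2285.isReduced_vanishingIdeal_subscheme _

instance (k : MP.B) : IsReduced (MP.cp k).G.scheme :=
  isReduced_of_isOpenImmersion (MP.cp k).W.ι

theorem range_i_subset (k : MP.B) : Set.range (MP.cp k).i ⊆ Set.range MP.Zι := by
  rintro y hy
  rw [MP.range_Zι]
  have h1 : MP.Y.ι y ∈ closure ({k.1.1} : Set X.scheme) := ((MP.cp k).mem_range_i y).1 hy
  exact fun hU => MP.hdisjU _ hU k.1 k.2 h1

/-- the lift of a closed piece to the reduced closed part -/
def gs (k : MP.B) : (MP.cp k).G.scheme ⟶ MP.Zs :=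
  (Groth.Agent.S2285.exists_factor_of_isReduced (MP.cp k).i MP.Zι (MP.range_i_subset k)).choose

@[reassoc]
theorem gs_fac (k : MP.B) : MP.gs k ≫ MP.Zι = (MP.cp k).i :=
  (Groth.Agent.S2285.exists_factor_of_isReduced (MP.cp k).i MP.Zι (MP.range_i_subset k)).choose_spec

instance (k : MP.B) : IsClosedImmersion (MP.gs k) := by
  have : IsClosedImmersion (MP.gs k ≫ MP.Zι) := by rw [MP.gs_fac]; infer_instance
  exact IsClosedImmersion.of_comp_isClosedImmersion (MP.gs k) MP.Zι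

theorem mem_range_gs (k : MP.B) (z : MP.Zs) :
    z ∈ Set.range (MP.gs k) ↔ MP.Y.ι (MP.Zι z) ∈ closure ({k.1.1} : Set X.scheme) := by
  rw [← (MP.cp k).mem_range_i, ← MP.gs_fac k]
  constructor
  · rintro ⟨w, rfl⟩
    exact ⟨w, rfl⟩
  · rintro ⟨w, hw⟩
    refine ⟨w, ?_⟩
    apply MP.Zι.isClosedEmbedding.injective
    exact hw

theorem exists_mem_range_gs (z : MP.Zs) : ∃ k : MP.B, z ∈ Set.range (MP.gs k) := by
  have hz : MP.Zι z ∈ Set.range MP.Zι := ⟨z, rfl⟩
  rw [MP.range_Zι] at hz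
  rcases MP.hcov _ (MP.Zι z).2 with h | ⟨x, hx, h⟩
  · exact absurd h hz
  · exact ⟨⟨x, hx⟩, (MP.mem_range_gs ⟨x, hx⟩ z).2 h⟩

theorem disjoint_range_gs (k l : MP.B) (hkl : k ≠ l) :
    Disjoint (Set.range (MP.gs k)) (Set.range (MP.gs l)) := by
  rw [Set.disjoint_left]
  intro z hz hz'
  rw [MP.mem_range_gs] at hz hz'
  exact MP.hdisj k.1 k.2 l.1 l.2 (fun h => hkl (Subtype.ext h)) _ (MP.Zι z).2 hz hz'

theorem isOpen_range_gs (k : MP.B) : IsOpen (Set.range (MP.gs k)) := by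
  have : Set.range (MP.gs k) = (⋃ l : {l : MP.B // l ≠ k}, Set.range (MP.gs l.1))ᶜ := by
    ext z
    constructor
    · intro hz hz'
      obtain ⟨l, hl⟩ := Set.mem_iUnion.1 hz'
      exact (MP.disjoint_range_gs k l.1 l.2.symm).le_bot ⟨hz, hl⟩
    · intro hz
      obtain ⟨l, hl⟩ := MP.exists_mem_range_gs z
      by_cases h : l = k
      · rw [← h]; exact hl
      · exact absurd (Set.mem_iUnion.2 ⟨⟨l, h⟩, hl⟩) hz
  rw [this, isOpen_compl_iff]
  exact isClosed_iUnion_of_finite (fun l => (MP.gs l.1).isClosedEmbedding.isClosed_range)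

instance (k : MP.B) : IsOpenImmersion (MP.gs k) :=
  isOpenImmersion_of_isClosedImmersion_of_isOpen_range _ (MP.isOpen_range_gs k)

end MPiece

end Groth.Agent.Lib.Helper79.BM

end
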