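import Groth.Agent.Lib.Helper79.BMMulti2
import Mathlib

/-!
# Multi-pieces: constructions and the residue formula (helper79, BMCoh family)
-/

set_option autoImplicit false
universe u

noncomputable section

namespace Groth.Agent.Lib.Helper79.BM

open AlgebraicGeometry CategoryTheory CategoryTheory.Limits Opposite TopologicalSpace BMCoh
open Groth.Agent.Lib.Helper79.BMTop

variable {V : ObjectProperty Scheme.{u}} [IsConstructible V]

theorem not_mem_closure_of_codim_eq {X : Obj V} {x x' : X.scheme}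
    (h : WeilCoh.codim X.scheme x = WeilCoh.codim X.scheme x') (hne : x ≠ x') :
    x ∉ closure ({x'} : Set X.scheme) := by
  intro hx
  have := codim_lt_of_specializes X (specializes_iff_mem_closure.2 hx) (Ne.symm hne)
  omega

open Classical in
/-- the multi-piece attached to an open containing `F_j X`: all points of codimension `j + 1`
outside `U` are added. -/
theorem exists_mpiece_of_open (X : Obj V) (j : ℕ) (U : X.scheme.Opens) (hU : ContainsFj X j U) :
    ∃ MP : MPiece X (j + 1), MP.U = U ∧ ContainsFj X (j + 1) MP.Y ∧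
      ∀ x : X.cdPt (j + 1), x ∈ MP.B ↔ x.1 ∉ U := by
  have hfin := finite_bad X j U hU
  have hdim := dim_eq_of_containsFj X j U hU
  haveI : Finite ↥(bad X j U) := hfin.to_subtype
  have H : ∀ x : ↥(bad X j U), ∃ C' : Set X.scheme, IsClosed C' ∧ C' ⊆ (U : Set X.scheme)ᶜ ∧
      x.1 ∉ C' ∧ (U : Set X.scheme)ᶜ \ closure {x.1} ⊆ C' := fun x =>
    exists_closed_compl (finDim X) U.isOpen.isClosed_compl x.2.2
      (fun y hy => pd_le_of_not_mem x.2.1 hU y hy)
  choose Cf hCf1 hCf2 hCf3 hCf4 using H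
  let K : ↥(bad X j U) → Set X.scheme := fun x =>
    Cf x ∪ ⋃ x' : {x' : ↥(bad X j U) // x' ≠ x}, closure {x'.1.1}
  have hK : ∀ x, IsClosed (K x) := fun x =>
    (hCf1 x).union (isClosed_iUnion_of_finite (fun _ => isClosed_closure))
  let N : Set X.scheme := ⋂ x, K x
  have hN : IsClosed N := isClosed_iInter hK
  let Y : X.scheme.Opens := U ⊔ ⟨Nᶜ, hN.isOpen_compl⟩
  let B : Finset (X.cdPt (j + 1)) :=
    hfin.toFinset.subtype (fun x => WeilCoh.codim X.scheme x = j + 1)
  have hB : ∀ x : X.cdPt (j + 1), x ∈ B ↔ x.1 ∉ U := by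
    intro x
    simp only [B, Finset.mem_subtype, Set.Finite.mem_toFinset, bad, Set.mem_ofPred_eq]
    exact ⟨fun h => h.2, fun h => ⟨x.2, h⟩⟩
  have hxK : ∀ x : ↥(bad X j U), x.1 ∉ K x := by
    rintro x (h | h)
    · exact hCf3 x h
    · obtain ⟨x', hx'⟩ := Set.mem_iUnion.1 h
      exact not_mem_closure_of_codim_eq (x.2.1.trans x'.1.2.1.symm)
        (fun h => x'.2 (Subtype.ext h.symm)) hx'
  have hYmem : ∀ y, y ∈ Y ↔ y ∈ U ∨ y ∉ N := fun y => Iff.rfl
  refine ⟨{ B := B, U := U, Y := Y, hUY := le_sup_left, hBY := ?_, hcov := ?_, hdisjU := ?_,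
            hdisj := ?_, hdim := hdim }, rfl, ?_, hB⟩
  · intro x hx
    have hxU := (hB x).1 hx
    refine Or.inr (fun hxN => ?_)
    exact hxK ⟨x.1, x.2, hxU⟩ (Set.mem_iInter.1 hxN _)
  · intro y hy
    by_cases hyU : y ∈ U
    · exact Or.inl hyU
    · right
      rcases hy with hy | hy
      · exact absurd hy hyU
      · have : ∃ x, y ∉ K x := by
          by_contra hcon
          push Not at hcon
          exact hy (Set.mem_iInter.2 hcon)
        obtain ⟨x, hx⟩ := this
        refine ⟨⟨x.1, x.2.1⟩, (hB _).2 x.2.2, ?_⟩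
        by_contra hyx
        exact hx (Or.inl (hCf4 x ⟨hyU, hyx⟩))
  · intro y hyU x _ hyx
    have : x.1 ∈ U := (specializes_iff_mem_closure.2 hyx).mem_open U.isOpen hyU
    exact (hB x).1 ‹_› this
  · intro x hx x' hx' hne y hy hyx hyx'
    have hyU : y ∉ U := fun hyU =>
      (hB x).1 hx ((specializes_iff_mem_closure.2 hyx).mem_open U.isOpen hyU)
    rcases hy with hy | hy
    · exact hyU hy
    · apply hy
      apply Set.mem_iInter.2
      intro x''
      by_cases h1 : x''.1 = x.1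
      · -- then x' ≠ x''
        have h2 : (⟨x'.1, x'.2, (hB x').1 hx'⟩ : ↥(bad X j U)) ≠ x'' := by
          intro h
          apply hne
          apply Subtype.ext
          rw [← h1, ← h]
        exact Or.inr (Set.mem_iUnion.2 ⟨⟨_, h2⟩, hyx'⟩)
      · have h2 : (⟨x.1, x.2, (hB x).1 hx⟩ : ↥(bad X j U)) ≠ x'' := by
          intro h
          apply h1
          rw [← h]
        exact Or.inr (Set.mem_iUnion.2 ⟨⟨_, h2⟩, hyx⟩)
  · intro y hy
    by_cases h : WeilCoh.codim X.scheme y ≤ j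
    · exact Or.inl (hU y h)
    · by_cases hyU : y ∈ U
      · exact Or.inl hyU
      · have hy' : WeilCoh.codim X.scheme y = j + 1 := by omega
        refine Or.inr (fun hyN => ?_)
        exact hxK ⟨y, hy', hyU⟩ (Set.mem_iInter.1 hyN _)

namespace MPiece

variable {X : Obj V} {j : ℕ}

/-- restrict a multi-piece to a smaller open containing `F_{j+1} X` -/
abbrev restrict (MP : MPiece X (j + 1)) (hU : ContainsFj X j MP.U) (Y' : X.scheme.Opens)
    (hY'le : Y' ≤ MP.Y) (hY' : ContainsFj X (j + 1) Y') : MPiece X (j + 1) where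
  B := MP.B
  U := MP.U ⊓ Y'
  Y := Y'
  hUY := inf_le_right
  hBY x _ := hY' x.1 (le_of_eq x.2)
  hcov y hy := (MP.hcov y (hY'le hy)).imp (fun h => ⟨h, hy⟩) id
  hdisjU y hy := MP.hdisjU y hy.1
  hdisj x hx x' hx' hne y hy := MP.hdisj x hx x' hx' hne y (hY'le hy)
  hdim := dim_eq_of_containsFj X j _ (fun y hy => ⟨hU y hy, hY' y (hy.trans (Nat.le_succ j))⟩)

theorem mem_U_of_not_mem_B (MP : MPiece X (j + 1)) (hY : ContainsFj X (j + 1) MP.Y)
    (x : X.cdPt (j + 1)) (hx : x ∉ MP.B) : x.1 ∈ MP.U := by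
  rcases MP.hcov x.1 (hY x.1 (le_of_eq x.2)) with h | ⟨x', hx', h⟩
  · exact h
  · exfalso
    apply hx
    have : x.1 = x'.1 := by
      by_contra hne
      exact not_mem_closure_of_codim_eq (x.2.trans x'.2.symm) hne h
    rw [Subtype.ext this]
    exact hx'

variable {R : Type u} [CommRing R] {A : Coefs R} {T : PreTheory V R A}

/-- the residue at a point of a multi-piece, computed on the reduced closed part -/
theorem res_formula (MP : MPiece X (j + 1)) (Q : T.ResData X j) (hU : ContainsFj X j MP.U)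
    (k : MP.B) (M : A.Cat) (i n i' n' : ℤ)
    (hi : i' = i + 1 - 2 * ((j : ℤ) + 1)) (hn : n' = n - ((j : ℤ) + 1))
    (hiD : i' = i + 1 - 2 * MP.decomp.codim) (hnD : n' = n - MP.decomp.codim)
    (a : T.gp (X.res MP.U) M i n) :
    (Q.cpt k.1 M i n i' n' hi hn).hom
        (((T.fjι X j i n ⟨MP.U, hU, MP.hdim⟩).app M).hom a) =
      ((T.ptι X k.1.1 i' n' (MP.cp k).Widx).app M).hom
        ((T.pull (MP.gObj k) M i' n').hom ((T.res MP.decomp M i n i' n' hiD hnD).hom a)) := by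
  have hg : (MP.gObj k : _ ⟶ MP.decomp.Z).hom ≫ MP.decomp.i ≫ (X.resι MP.Y MP.dimY).hom =
      (MP.cp k).Widx.1.ι ≫ X.ptSubι k.1.1 := by
    change MP.gs k ≫ MP.Zι ≫ MP.Y.ι = (MP.cp k).W.ι ≫ X.ptSubι k.1.1
    rw [MP.gs_fac_assoc, (MP.cp k).i_fac]
  have hh : (𝟙 (X.res MP.U) : _ ⟶ MP.decomp.U).hom ≫ MP.decomp.j.hom ≫
      (X.resι MP.Y MP.dimY).hom = MP.U.ι := by
    change 𝟙 _ ≫ X.scheme.homOfLE MP.hUY ≫ MP.Y.ι = MP.U.ι
    rw [Category.id_comp, Scheme.homOfLE_ι]
  have := Q.cpt_spec k.1 M i n i' n' hi hn (X.resι MP.Y MP.dimY) MP.decomp (MP.cp k).Widx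
    (MP.gObj k) hg ⟨MP.U, hU, MP.hdim⟩ (𝟙 _) hh hiD hnD
  have h2 := congrArg (fun φ => φ.hom a) this
  change (Q.cpt k.1 M i n i' n' hi hn).hom (((T.fjι X j i n ⟨MP.U, hU, MP.hdim⟩).app M).hom
      ((T.pull (𝟙 (X.res MP.U)) M i n).hom a)) = _ at h2
  rw [pull_id_apply] at h2
  exact h2

end MPiece

end Groth.Agent.Lib.Helper79.BM

end
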