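import Groth.Agent.Lib.Helper79.BMPiece
import Mathlib

/-!
# Constructions of pieces and the residue / push-forward formulas (helper79, BMCoh family)
-/

set_option autoImplicit false
universe u

noncomputable section

namespace Groth.Agent.Lib.Helper79.BM

open AlgebraicGeometry CategoryTheory CategoryTheory.Limits Opposite TopologicalSpace BMCoh
open Groth.Agent.Lib.Helper79.BMTop

variable {V : ObjectProperty Scheme.{u}} [IsConstructible V]

/-- the open complement of the closure of a point -/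
def clCompl (X : Obj V) (x : X.scheme) : X.scheme.Opens :=
  ⟨(closure ({x} : Set X.scheme))ᶜ, isClosed_closure.isOpen_compl⟩

theorem mem_clCompl {X : Obj V} {x y : X.scheme} :
    y ∈ clCompl X x ↔ y ∉ closure ({x} : Set X.scheme) := Iff.rfl

theorem containsFj_inf_clCompl {X : Obj V} {x : X.scheme} {j : ℕ}
    (hx : WeilCoh.codim X.scheme x = j + 1) {Y : X.scheme.Opens} (hY : ContainsFj X j Y) :
    ContainsFj X j (Y ⊓ clCompl X x) := by
  intro y hy
  refine ⟨hY y hy, ?_⟩
  intro hyx
  have := codim_le_of_specializes X (specializes_iff_mem_closure.2 hyx)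
  omega

namespace CPiece

variable {X : Obj V} {x : X.scheme}

/-- a closed piece together with the complement of the closure is a piece -/
def toPiece (P : CPiece X x)
    (hdim : WeilCoh.dim ((P.Y ⊓ clCompl X x : X.scheme.Opens) : Scheme.{u}) =
      WeilCoh.dim X.scheme) : Piece X x where
  toCPiece := P
  U := P.Y ⊓ clCompl X x
  hUY := inf_le_left
  hcov y hy := by
    by_cases h : y ∈ closure ({x} : Set X.scheme)
    · exact Or.inr h
    · exact Or.inl ⟨hy, h⟩
  hdisj y hy := hy.2
  hdim := hdim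

/-- for a point of codimension `j + 1` and `Y ⊇ F_j X` -/
def toPiece' (P : CPiece X x) {j : ℕ} (hx : WeilCoh.codim X.scheme x = j + 1)
    (hY : ContainsFj X j P.Y) : Piece X x :=
  P.toPiece (dim_eq_of_containsFj X j _ (containsFj_inf_clCompl hx hY))

end CPiece

theorem pd_le_of_not_mem {X : Obj V} {x : X.scheme} {j : ℕ}
    (hx : WeilCoh.codim X.scheme x = j + 1) {U : X.scheme.Opens} (hU : ContainsFj X j U)
    (y : X.scheme) (hy : y ∉ U) : pd y ≤ pd x := by
  have h1 : ¬ WeilCoh.codim X.scheme y ≤ j := fun h => hy (hU y h)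
  have h2 := pdim_le_dim X y
  have h3 := pdim_le_dim X x
  unfold WeilCoh.codim at hx h1
  change WeilCoh.pdim X.scheme y ≤ WeilCoh.pdim X.scheme x
  omega

namespace Piece

variable {X : Obj V} {x : X.scheme}

theorem exists_of_not_mem (U Y0 : X.scheme.Opens) (hUY0 : U ≤ Y0)
    (hdim : WeilCoh.dim (U : Scheme.{u}) = WeilCoh.dim X.scheme) (hxY0 : x ∈ Y0) (hxU : x ∉ U)
    (hmax : ∀ y : X.scheme, y ∉ U → pd y ≤ pd x) :
    ∃ P : Piece X x, P.U = U ∧ P.Y ≤ Y0 := by
  obtain ⟨C', hC'closed, hC'sub, hxC', hC'⟩ := exists_closed_compl (finDim X)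
    (C := (U : Set X.scheme)ᶜ) U.isOpen.isClosed_compl (x := x) hxU (fun y hy => hmax y hy)
  let Y : X.scheme.Opens := Y0 ⊓ ⟨C'ᶜ, hC'closed.isOpen_compl⟩
  refine ⟨{ Y := Y, W := (X.ptSubι x) ⁻¹ᵁ Y, hW := fun z => Iff.rfl, hx := ⟨hxY0, hxC'⟩,
            U := U, hUY := ?_, hcov := ?_, hdisj := ?_, hdim := hdim }, rfl, inf_le_left⟩
  · intro y hy
    exact ⟨hUY0 hy, fun hyC' => hC'sub hyC' hy⟩
  · intro y hy
    by_cases hyU : y ∈ U
    · exact Or.inl hyU
    · right
      by_contra hyx
      exact hy.2 (hC' ⟨hyU, hyx⟩)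
  · intro y hyU hyx
    apply hxU
    exact (specializes_iff_mem_closure.2 hyx).mem_open U.isOpen hyU

/-- shrink the closed part of a piece to a smaller member of the index family of the point -/
def shrink (P : Piece X x) (W' : ptIdx X x) (h : W'.1 ≤ P.W) : Piece X x where
  toCPiece := CPiece.ofPtIdxIn W' P.Y (fun z hz => (P.hW z).1 (h hz))
  U := P.U
  hUY := by
    intro y hy
    refine ⟨P.hUY hy, ?_⟩
    rintro ⟨z, _, rfl⟩
    exact P.hdisj _ hy z.2
  hcov y hy := P.hcov y hy.1
  hdisj := P.hdisj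
  hdim := P.hdim

theorem shrink_Y_le (P : Piece X x) (W' : ptIdx X x) (h : W'.1 ≤ P.W) :
    (P.shrink W' h).Y ≤ P.Y := inf_le_left

end Piece

/-- the set of points of codimension `j + 1` outside an open -/
def bad (X : Obj V) (j : ℕ) (U : X.scheme.Opens) : Set X.scheme :=
  {x | WeilCoh.codim X.scheme x = j + 1 ∧ x ∉ U}

theorem finite_bad (X : Obj V) (j : ℕ) (U : X.scheme.Opens) (hU : ContainsFj X j U) :
    (bad X j U).Finite := by
  by_cases hd : j + 1 ≤ WeilCoh.dim X.scheme
  · have := finite_pd_eq (finDim X) (C := (U : Set X.scheme)ᶜ) U.isOpen.isClosed_compl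
      (WeilCoh.dim X.scheme - (j + 1)) (by
        intro y hy
        have h1 : ¬ WeilCoh.codim X.scheme y ≤ j := fun h => hy (hU y h)
        have h2 := pdim_le_dim X y
        unfold WeilCoh.codim at h1
        change WeilCoh.pdim X.scheme y ≤ _
        omega)
    refine this.subset ?_
    rintro x ⟨hx, hxU⟩
    refine ⟨hxU, ?_⟩
    have h2 := pdim_le_dim X x
    unfold WeilCoh.codim at hx
    change WeilCoh.pdim X.scheme x = _
    omega
  · convert Set.finite_empty
    ext x
    simp only [bad, Set.mem_ofPred_eq, Set.mem_empty_iff_false, iff_false, not_and]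
    intro hx
    unfold WeilCoh.codim at hx
    omega

theorem bad_piece {X : Obj V} {x : X.scheme} {j : ℕ} (hx : WeilCoh.codim X.scheme x = j + 1)
    (P : Piece X x) : bad X j P.Y = bad X j P.U \ {x} := by
  ext y
  simp only [bad, Set.mem_ofPred_eq, Set.mem_diff, Set.mem_singleton_iff]
  constructor
  · rintro ⟨hy, hyY⟩
    refine ⟨⟨hy, fun h => hyY (P.hUY h)⟩, ?_⟩
    rintro rfl
    exact hyY P.hx
  · rintro ⟨⟨hy, hyU⟩, hne⟩
    refine ⟨hy, fun hyY => ?_⟩
    rcases P.hcov y hyY with h | h
    · exact hyU h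
    · have := codim_lt_of_specializes X (specializes_iff_mem_closure.2 h) (Ne.symm hne)
      omega

end Groth.Agent.Lib.Helper79.BM

end
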