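import Groth.Prelude.Def_BMCoh4
import Groth.Agent.Lib.Helper79.BMClosed2
import Groth.Agent.Lib.Helper79.BMMulti
import Mathlib

/-!
# Push-forward data between groups of points: uniqueness (helper79, BMCoh family)
-/

set_option autoImplicit false
universe u

noncomputable section

namespace Groth.Agent.Lib.Helper79.BM

open AlgebraicGeometry CategoryTheory CategoryTheory.Limits Opposite TopologicalSpace BMCoh
open Groth.Agent.Lib.Helper79.BMTop

section Top

/-- a closed continuous map does not raise the dimension of the closure of a point -/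
theorem pd_map_le {A B : Type u} [TopologicalSpace A] [TopologicalSpace B] [T0Space A]
    [QuasiSober B] [T0Space B] {f : A → B} (hc : Continuous f) (hcl : IsClosedMap f)
    (hA : topologicalKrullDim A < ⊤) (hB : topologicalKrullDim B < ⊤) :
    ∀ (n : ℕ) (a : A), pd a = n → pd (f a) ≤ n := by
  intro n
  induction n using Nat.strong_induction_on with
  | _ n ih =>
    intro a ha
    by_contra hlt
    push Not at hlt
    -- a point of dimension `pd (f a) - 1` in the closure of `f a`
    let S : Set B := closure {f a}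
    haveI : Nonempty ↥S := ⟨⟨f a, subset_closure rfl⟩⟩
    haveI : QuasiSober ↥S := isClosed_closure.isClosedEmbedding_subtypeVal.quasiSober
    have hS : topologicalKrullDim ↥S < ⊤ := dim_subtype_lt_top S hB
    have hk : pd (f a) - 1 ≤ WeilCoh.natDim ↥S := Nat.sub_le _ _
    obtain ⟨s, hs⟩ := exists_pd_eq_of_le (T := ↥S) hS (pd (f a) - 1) hk
    have hs' : pd s.1 = pd (f a) - 1 := by
      rw [← hs]
      exact (pd_closedEmbedding (f := (Subtype.val : ↥S → B))
        isClosed_closure.isClosedEmbedding_subtypeVal s).symm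
    have hsub : S ⊆ f '' closure {a} :=
      (hcl _ isClosed_closure).closure_subset_iff.2
        (Set.singleton_subset_iff.2 ⟨a, subset_closure rfl, rfl⟩)
    obtain ⟨a', ha', hfa'⟩ := hsub s.2
    have hne : a ≠ a' := by
      rintro rfl
      rw [← hfa'] at hs'
      omega
    have h1 : pd a' < pd a := pd_lt hA (specializes_iff_mem_closure.2 ha') hne
    have h2 := ih (pd a') (by omega) a' rfl
    rw [hfa', hs'] at h2
    omega

end Top

variable {V : ObjectProperty Scheme.{u}} [IsConstructible V]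
variable {R : Type u} [CommRing R] {A : Coefs R} {T : PreTheory V R A}

theorem range_ptSubι (X : Obj V) (x : X.scheme) :
    Set.range (X.ptSubι x) = closure ({x} : Set X.scheme) := by
  have := (X.ptIdeal x).range_subschemeι
  rw [Scheme.IdealSheafData.coe_support_vanishingIdeal] at this
  exact this

theorem ptSubι_gen (X : Obj V) (x : X.scheme) : (X.ptSubι x) (gen X x) = x := rfl

theorem gen_specializes (X : Obj V) (x : X.scheme) (z : (X.ptSub x).scheme) : gen X x ⤳ z :=
  (Topology.IsInducing.subtypeVal.specializes_iff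
    (x := (⟨x, subset_closure rfl⟩ : ↥(closure ({x} : Set X.scheme)))) (y := z)).1
    (specializes_iff_mem_closure.2 z.2)

theorem pd_gen (X : Obj V) (x : X.scheme) :
    pd (gen X x) = WeilCoh.pdim X.scheme x :=
  pd_closedEmbedding (X.ptSubι x).isClosedEmbedding (gen X x)

namespace PtPushAux

variable {Y X : Obj V} (φ : Y.scheme ⟶ X.scheme) (y : Y.scheme) (x : X.scheme)
  (hyx : φ.base y = x)

include hyx in
theorem range_subset :
    Set.range (Y.ptSubι y ≫ φ) ⊆ Set.range (X.ptSubι x) := by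
  rintro _ ⟨z, rfl⟩
  rw [range_ptSubι, ← hyx]
  have hz : (Y.ptSubι y) z ∈ closure ({y} : Set Y.scheme) := by
    rw [← range_ptSubι]; exact ⟨z, rfl⟩
  have h1 : y ⤳ (Y.ptSubι y) z := specializes_iff_mem_closure.2 hz
  exact specializes_iff_mem_closure.1 (h1.map φ.continuous)

/-- the morphism between the reduced closures induced by `φ` -/
def psi : (Y.ptSub y).scheme ⟶ (X.ptSub x).scheme :=
  (Groth.Agent.S2285.exists_factor_of_isReduced (Y.ptSubι y ≫ φ) (X.ptSubι x)
    (range_subset φ y x hyx)).choose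

@[reassoc]
theorem psi_fac : psi φ y x hyx ≫ X.ptSubι x = Y.ptSubι y ≫ φ :=
  (Groth.Agent.S2285.exists_factor_of_isReduced (Y.ptSubι y ≫ φ) (X.ptSubι x)
    (range_subset φ y x hyx)).choose_spec

instance [IsProper φ] : IsProper (psi φ y x hyx) := by
  have : IsProper (psi φ y x hyx ≫ X.ptSubι x) := by rw [psi_fac]; infer_instance
  exact IsProper.of_comp (psi φ y x hyx) (X.ptSubι x)

theorem psi_gen : (psi φ y x hyx) (gen Y y) = gen X x := by
  apply (X.ptSubι x).isClosedEmbedding.injective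
  rw [← Scheme.Hom.comp_apply, psi_fac, Scheme.Hom.comp_apply]
  exact hyx

variable [IsProper φ]

/-- the open of the closure of `x` over which `ψ` maps into `W` -/
def W' (W : (Y.ptSub y).scheme.Opens) : (X.ptSub x).scheme.Opens :=
  ⟨((psi φ y x hyx) '' (W : Set (Y.ptSub y).scheme)ᶜ)ᶜ,
    ((psi φ y x hyx).isClosedMap _ W.isOpen.isClosed_compl).isOpen_compl⟩

theorem preimage_W'_le (W : (Y.ptSub y).scheme.Opens) :
    (psi φ y x hyx) ⁻¹ᵁ (W' φ y x hyx W) ≤ W := by
  intro z hz
  by_contra hzW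
  exact hz ⟨z, hzW, rfl⟩

theorem gen_mem_W' (hcod : relCodim (Y.ptSub y).scheme (X.ptSub x).scheme = 0)
    (W : (Y.ptSub y).scheme.Opens) (hW : (W : Set (Y.ptSub y).scheme).Nonempty) :
    gen X x ∈ W' φ y x hyx W := by
  rintro ⟨z, hzW, hz⟩
  have h1 : pd ((psi φ y x hyx) z) ≤ pd z :=
    pd_map_le (psi φ y x hyx).continuous (psi φ y x hyx).isClosedMap (finDim (Y.ptSub y))
      (finDim (X.ptSub x)) (pd z) z rfl
  rw [hz, pd_gen] at h1
  have hne : gen Y y ≠ z := by
    rintro rfl
    exact hzW (gen_mem_of_nonempty Y y W hW)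
  have h2 : pd z < pd (gen Y y) := pd_lt (finDim (Y.ptSub y)) (gen_specializes Y y z) hne
  rw [pd_gen] at h2
  have h3 : ((WeilCoh.pdim X.scheme x : ℕ) : ℤ) - ((WeilCoh.pdim Y.scheme y : ℕ) : ℤ) = 0 := hcod
  omega

end PtPushAux

open PtPushAux in
/-- the value of a push-forward datum between groups of points on a class represented on an open
of the closure of `y`, computed through the canonical shrinking -/
theorem ptPush_cpt_formula {Y X : Obj V} (φ : Y.scheme ⟶ X.scheme) [IsProper φ] (y : Y.scheme)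
    (x : X.scheme) (hyx : φ.base y = x)
    (hcod : relCodim (Y.ptSub y).scheme (X.ptSub x).scheme = 0) (M : A.Cat) (i n : ℤ)
    (W : ptIdx Y y) (c : T.gp ((Y.ptSub y).res W.1) M i n) :
    ∃ (W' : ptIdx X x) (d : T.gp ((X.ptSub x).res W'.1) M i n), ∀ L : T.PtPush φ y x,
      (L.cpt M i n).hom (((T.ptι Y y i n W).app M).hom c) = ((T.ptι X x i n W').app M).hom d := by
  have hgen := gen_mem_W' φ y x hyx hcod W.1 W.2.1
  let W'₀ : (X.ptSub x).scheme.Opens := W' φ y x hyx W.1
  have hne' : (W'₀ : Set (X.ptSub x).scheme).Nonempty := ⟨gen X x, hgen⟩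
  let W'idx : ptIdx X x := ⟨W'₀, hne', dim_ptOpens X x _ hne'⟩
  let W₀ : (Y.ptSub y).scheme.Opens := (psi φ y x hyx) ⁻¹ᵁ W'₀
  have hne : (W₀ : Set (Y.ptSub y).scheme).Nonempty :=
    ⟨gen Y y, by change (psi φ y x hyx) (gen Y y) ∈ W'₀; rw [psi_gen]; exact hgen⟩
  let W₀idx : ptIdx Y y := ⟨W₀, hne, dim_ptOpens Y y _ hne⟩
  have hle : W₀ ≤ W.1 := preimage_W'_le φ y x hyx W.1
  let f : ((Y.ptSub y).res W₀idx.1).scheme ⟶ ((X.ptSub x).res W'idx.1).scheme :=
    (psi φ y x hyx) ∣_ W'₀
  haveI : IsProper f := inferInstanceAs (IsProper ((psi φ y x hyx) ∣_ W'₀))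
  have hcomp : f ≫ W'idx.1.ι ≫ X.ptSubι x = W₀idx.1.ι ≫ Y.ptSubι y ≫ φ := by
    change ((psi φ y x hyx) ∣_ W'₀) ≫ W'₀.ι ≫ X.ptSubι x = W₀.ι ≫ Y.ptSubι y ≫ φ
    rw [← Category.assoc, morphismRestrict_ι, Category.assoc, psi_fac]
  have hrel : relCodim ((Y.ptSub y).res W₀idx.1).scheme ((X.ptSub x).res W'idx.1).scheme = 0 := by
    have h1 : WeilCoh.dim (W'₀ : Scheme.{u}) = WeilCoh.pdim X.scheme x := dim_ptOpens X x _ hne'
    have h2 : WeilCoh.dim (W₀ : Scheme.{u}) = WeilCoh.pdim Y.scheme y := dim_ptOpens Y y _ hne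
    have h3 : ((WeilCoh.pdim X.scheme x : ℕ) : ℤ) - ((WeilCoh.pdim Y.scheme y : ℕ) : ℤ) = 0 :=
      hcod
    unfold relCodim
    change ((WeilCoh.dim (W'₀ : Scheme.{u}) : ℕ) : ℤ) - ((WeilCoh.dim (W₀ : Scheme.{u}) : ℕ) : ℤ)
      = 0
    rw [h1, h2]
    exact h3
  have hi' : i = i + 2 *
      relCodim ((Y.ptSub y).res W₀idx.1).scheme ((X.ptSub x).res W'idx.1).scheme := by
    rw [hrel]; ring
  have hn' : n = n +
      relCodim ((Y.ptSub y).res W₀idx.1).scheme ((X.ptSub x).res W'idx.1).scheme := by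
    rw [hrel]; ring
  have hd : WeilCoh.dim (W₀idx.1 : Scheme.{u}) = WeilCoh.dim (W.1 : Scheme.{u}) :=
    W₀idx.2.2.trans W.2.2.symm
  refine ⟨W'idx, (T.push f M i n i n hi' hn').hom
    ((T.pull ((Y.ptSub y).resLE hle hd) M i n).hom c), fun L => ?_⟩
  have h1 := ocolimι_pull T (Y.ptSub y) (fun U => (U : Set (Y.ptSub y).scheme).Nonempty) i n M
    (U := W) (U' := W₀idx) hle hd c
  have h2 := L.cpt_spec M i n W₀idx W'idx f hcomp hi' hn'
  have h3 := congrArg (fun ψ' => ψ'.hom ((T.pull ((Y.ptSub y).resLE hle hd) M i n).hom c)) h2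
  change (L.cpt M i n).hom (((T.ptι Y y i n W).app M).hom c) = _
  rw [show ((T.ptι Y y i n W).app M).hom c = ((T.ptι Y y i n W₀idx).app M).hom
    ((T.pull ((Y.ptSub y).resLE hle hd) M i n).hom c) from h1.symm]
  exact h3

/-- push-forward data between groups of points along a proper morphism are unique -/
theorem subsingleton_ptPush {Y X : Obj V} (φ : Y.scheme ⟶ X.scheme) [IsProper φ] (y : Y.scheme)
    (x : X.scheme) : Subsingleton (T.PtPush φ y x) := by
  refine ⟨fun L L' => ?_⟩
  have h : L.cpt = L'.cpt := by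
    funext M i n
    apply ModuleCat.hom_ext
    apply LinearMap.ext
    intro a
    obtain ⟨W, c, rfl⟩ := ocolim_rep T (Y.ptSub y)
      (fun U => (U : Set (Y.ptSub y).scheme).Nonempty) i n M a
    obtain ⟨W', d, hd⟩ := ptPush_cpt_formula (T := T) φ y x L.maps_pt L.codim_eq M i n W c
    exact (hd L).trans (hd L').symm
  cases L
  cases L'
  simp only at h
  subst h
  rfl

end Groth.Agent.Lib.Helper79.BM

end
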