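import Groth.Agent.Lib.Helper79.BMZero
import Groth.Agent.Lib.Helper81.BMVanish
import Mathlib

/-!
# Vanishing of the groups of `F_j X` in high degrees (helper79, BMCoh family)
-/

set_option autoImplicit false
universe u

noncomputable section

namespace Groth.Agent.Lib.Helper79.BM

open AlgebraicGeometry CategoryTheory CategoryTheory.Limits Opposite TopologicalSpace BMCoh
open Groth.Agent.Lib.Helper79.BMTop

variable {V : ObjectProperty Scheme.{u}} [IsConstructible V]
variable {R : Type u} [CommRing R] {A : Coefs R}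

/-- injectivity of `H^i(F_{j+1} X) → H^i(F_j X)` when the groups of the points of codimension
`j + 1` vanish in the source bidegree of the push-forward -/
theorem fjRes_injective_of_isZero (T : PreTheory V R A) (X : Obj V) (M : A.Cat) (j : ℕ) (i n : ℤ)
    (h0 : ∀ x : X.scheme, WeilCoh.codim X.scheme x = j + 1 →
      IsZero (T.ptGp X x M (i - 2 * ((j : ℤ) + 1)) (n - ((j : ℤ) + 1)))) :
    Function.Injective ((T.fjRes X (Nat.le_succ j) i n).app M).hom := by
  rw [injective_iff_map_eq_zero]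
  intro y hy
  obtain ⟨k, rfl⟩ : ∃ k, i = k + 1 := ⟨i - 1, by ring⟩
  obtain ⟨Y, b, rfl⟩ := ocolim_rep T X (ContainsFj X (j + 1)) (k + 1) n M y
  have h1' := ocolimMap_ι T X (containsFj_mono X (Nat.le_succ j)) (k + 1) n M Y b
  have h2 := h1'.symm.trans hy
  obtain ⟨U'', h, hz⟩ := (ocolim_eq_zero_iff T X (ContainsFj X j) (k + 1) n M
    (U := ⟨Y.1, containsFj_mono X (Nat.le_succ j) _ Y.2.1, Y.2.2⟩) b).1 h2
  exact Groth.Agent.Lib.Helper81.BMVanish.fjι_eq_zero_of_isZero M (k + 1 - 2 * ((j : ℤ) + 1))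
    (n - ((j : ℤ) + 1)) k n (by push_cast; ring) (by push_cast; ring) h0 _ Y b U'' h hz rfl

theorem ZPiece.gObj_comm {X : Obj V} [IsReduced X.scheme] (Z : ZPiece X) (Y' : X.scheme.Opens)
    (hle : Y' ≤ Z.Y) (hY' : ContainsFj X 0 Y') (hd) (x : X.cdPt 0) :
    (Z.restrict Y' hle hY').gObj x ≫ X.resLE hle hd =
      CPiece.gW (Z.cp x) ((Z.restrict Y' hle hY').cp x) hle ≫ Z.gObj x :=
  Hom.ext (CPiece.i_comm (Z.cp x) ((Z.restrict Y' hle hY').cp x) hle).symm

/-- the groups of `F_0 X` vanish when the groups of the points of codimension zero do -/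
theorem fjGp_zero_eq_zero (T : TheoryOn V R A) (X : Obj V) [IsReduced X.scheme] (M : A.Cat)
    (i n : ℤ) (hzero : ∀ x : X.cdPt 0, IsZero (T.ptGp X x.1 M i n)) (β : T.fjGp X 0 M i n) :
    β = 0 := by
  classical
  haveI : Fintype (X.cdPt 0) := Fintype.ofFinite _
  obtain ⟨Y₀, b, rfl⟩ := ocolim_rep T.toPreTheory X (ContainsFj X 0) i n M β
  obtain ⟨Z, hZ⟩ := ZPiece.exists_le X Y₀.1 Y₀.2.1
  have h8 := ocolimι_pull T.toPreTheory X (ContainsFj X 0) i n M (U := Y₀)
    (U' := ⟨Z.Y, Z.hY, Z.dimY⟩) hZ (Z.dimY.trans Y₀.2.2.symm) b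
  rw [← h8]
  generalize (T.pull (X.resLE hZ (Z.dimY.trans Y₀.2.2.symm)) M i n).hom b = b'
  rcases isEmpty_or_nonempty (X.cdPt 0) with hK | hK
  · haveI : IsEmpty (X.res Z.Y).scheme := ⟨fun y => by
      obtain ⟨x, _⟩ := Z.hcov _ y.2
      exact hK.false x⟩
    rw [gp_eq_zero_of_isEmpty T.toPreTheory (X.res Z.Y) M i n b', map_zero]
  · -- shrink so that all the restrictions to the closed pieces vanish
    have hrep : ∀ x : X.cdPt 0, ∃ (W'' : ptIdx X x.1) (h : W''.1 ≤ (Z.cp x).W),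
        (T.pull ((X.ptSub x.1).resLE h (W''.2.2.trans (Z.cp x).Widx.2.2.symm)) M i n).hom
          ((T.pull (Z.gObj x) M i n).hom b') = 0 := fun x => by
      have h1 : ((T.ptι X x.1 i n (Z.cp x).Widx).app M).hom ((T.pull (Z.gObj x) M i n).hom b') = 0 :=
        Groth.Agent.Lib.Helper81.BMVanish.eq_zero_of_isZero (hzero x) _
      exact (ocolim_eq_zero_iff T.toPreTheory (X.ptSub x.1)
        (fun U => (U : Set (X.ptSub x.1).scheme).Nonempty) i n M (U := (Z.cp x).Widx) _).1 h1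
    choose W'' hW'' hz using hrep
    let CP0 : ∀ x : X.cdPt 0, CPiece X x.1 := fun x =>
      CPiece.ofPtIdxIn (W'' x) ⊤ (fun _ _ => trivial)
    have hCP0 : ∀ x, ContainsFj X 0 (CP0 x).Y := fun x =>
      CPiece.containsFj_ofPtIdxIn x.2 _ _ _ (fun _ _ => trivial)
    let Y₁ : X.scheme.Opens := ⟨(Z.Y : Set X.scheme) ∩ ⋂ x : X.cdPt 0, ((CP0 x).Y : Set X.scheme),
      Z.Y.isOpen.inter (isOpen_iInter_of_finite (fun x => (CP0 x).Y.isOpen))⟩
    have hY₁ : ContainsFj X 0 Y₁ := fun y hy =>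
      ⟨Z.hY y hy, Set.mem_iInter.2 (fun x => hCP0 x y hy)⟩
    have hle : Y₁ ≤ Z.Y := fun y hy => hy.1
    let Z' : ZPiece X := Z.restrict Y₁ hle hY₁
    have hd : WeilCoh.dim (Y₁ : Scheme.{u}) = WeilCoh.dim (Z.Y : Scheme.{u}) :=
      Z'.dimY.trans Z.dimY.symm
    have h9 := ocolimι_pull T.toPreTheory X (ContainsFj X 0) i n M (U := ⟨Z.Y, Z.hY, Z.dimY⟩)
      (U' := ⟨Y₁, hY₁, Z'.dimY⟩) hle hd b'
    rw [← h9]
    have hW' : ∀ x : X.cdPt 0, (Z'.cp x).W ≤ (W'' x).1 := fun x z hz =>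
      ((CP0 x).hW z).2 (Set.mem_iInter.1 hz.2 x)
    have key : (T.pull (X.resLE hle hd) M i n).hom b' = 0 := by
      apply eq_zero_of_pull_eq_zero T M i n (X.res Y₁) (fun x => (Z'.cp x).G) Z'.gObj
        (fun z => Z'.exists_mem_range_i z) (fun a b hab => Z'.disjoint_range_i a b hab)
      intro x
      rw [← pull_comp_apply, ZPiece.gObj_comm Z Y₁ hle hY₁ hd x, pull_comp_apply]
      have h10 : CPiece.gW (Z.cp x) (Z'.cp x) hle =
          (X.ptSub x.1).resLE (hW' x) ((Z'.cp x).Widx.2.2.trans (W'' x).2.2.symm) ≫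
            (X.ptSub x.1).resLE (hW'' x) ((W'' x).2.2.trans (Z.cp x).Widx.2.2.symm) :=
        (resLE_comp (X.ptSub x.1) _ _ _ _ _).symm
      rw [h10, pull_comp_apply, hz x, map_zero]
    rw [key, map_zero]

/-- `H^i(F_j X, M(n)) = 0` for `i > dim X + j + c` when the groups of the points of `X` vanish
above the dimension of the closure plus `c` -/
theorem fjGp_eq_zero_of_dim_add_lt (T : TheoryOn V R A) (X : Obj V) [IsReduced X.scheme]
    (M : A.Cat) (c : ℕ)
    (hc : ∀ (y : X.scheme) (i n : ℤ), (WeilCoh.pdim X.scheme y : ℤ) + c < i →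
      IsZero (T.ptGp X y M i n)) :
    ∀ (j : ℕ) (i n : ℤ), (WeilCoh.dim X.scheme : ℤ) + j + c < i →
      ∀ β : T.fjGp X j M i n, β = 0 := by
  intro j
  induction j with
  | zero =>
    intro i n hi β
    apply fjGp_zero_eq_zero T X M i n _ β
    intro x
    apply hc
    rw [pdim_eq_of_codim_zero]
    push_cast at hi
    omega
  | succ j ih =>
    intro i n hi β
    have hinj := fjRes_injective_of_isZero T.toPreTheory X M j i n (fun x hx => by
      apply hc
      have h1 := pdim_le_dim X x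
      unfold WeilCoh.codim at hx
      push_cast at hi
      omega)
    apply hinj
    rw [map_zero]
    exact ih i n (by push_cast at hi; omega) _

end Groth.Agent.Lib.Helper79.BM

end
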