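import Groth.Agent.Lib.Helper79.BMExact2
import Mathlib

/-!
# Level zero: clopen decomposition of small opens of a reduced object into irreducible pieces
(helper79, BMCoh family)
-/

set_option autoImplicit false
universe u

noncomputable section

namespace Groth.Agent.Lib.Helper79.BM

open AlgebraicGeometry CategoryTheory CategoryTheory.Limits Opposite TopologicalSpace BMCoh
open Groth.Agent.Lib.Helper79.BMTop

variable {V : ObjectProperty Scheme.{u}} [IsConstructible V]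
variable {R : Type u} [CommRing R] {A : Coefs R}

/-- the groups of an empty object vanish -/
theorem gp_eq_zero_of_isEmpty (T : PreTheory V R A) (X : Obj V) [IsEmpty X.scheme] (M : A.Cat)
    (i n : ℤ) (a : T.gp X M i n) : a = 0 := by
  obtain ⟨k, rfl⟩ : ∃ k, i = k + 1 := ⟨i - 1, by ring⟩
  let D : Decomp X := ⟨X, X, 𝟙 X.scheme, inferInstance, 𝟙 X, Subsingleton.elim _ _⟩
  have hi' : k + 1 = (k + 1) + 2 * relCodim D.Z.scheme X.scheme := by simp [D, relCodim]
  have hn' : n = n + relCodim D.Z.scheme X.scheme := by simp [D, relCodim]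
  have E := T.exact_push_pull D M k n (k + 1) n hi' hn'
  have h1 : (T.push D.i M (k + 1) n (k + 1) n hi' hn').hom a = a := by
    have := T.push_id X M (k + 1) n hi' hn'
    exact congrArg (fun φ => φ.hom a) this
  have h2 : (T.pull D.j M (k + 1) n).hom a = a := pull_id_apply T X M (k + 1) n a
  have h3 := E.apply_apply_eq_zero a
  change (T.pull D.j M (k + 1) n).hom ((T.push D.i M (k + 1) n (k + 1) n hi' hn').hom a) = 0 at h3
  rw [h1, h2] at h3
  exact h3

theorem finite_cdPt_zero (X : Obj V) : Finite (X.cdPt 0) := by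
  have h := finite_pd_eq (finDim X) (C := (Set.univ : Set X.scheme)) isClosed_univ
    (WeilCoh.dim X.scheme) (fun y _ => pdim_le_dim X y)
  have h2 : {x : X.scheme | WeilCoh.codim X.scheme x = 0}.Finite := by
    refine h.subset ?_
    intro x hx
    refine ⟨trivial, ?_⟩
    have h1 := pdim_le_dim X x
    have hx' : WeilCoh.codim X.scheme x = 0 := hx
    unfold WeilCoh.codim at hx'
    change WeilCoh.pdim X.scheme x = _
    omega
  exact h2.to_subtype

instance (X : Obj V) : Finite (X.cdPt 0) := finite_cdPt_zero X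

theorem pdim_eq_of_codim_zero (X : Obj V) (x : X.cdPt 0) :
    WeilCoh.pdim X.scheme x.1 = WeilCoh.dim X.scheme := by
  have h1 := pdim_le_dim X x.1
  have h2 := x.2
  unfold WeilCoh.codim at h2
  omega

/-- a small open of `X` containing the points of codimension zero, on which the closures of
these points are pairwise disjoint and cover -/
structure ZPiece (X : Obj V) where
  Y : X.scheme.Opens
  hY : ContainsFj X 0 Y
  hcov : ∀ y ∈ Y, ∃ x : X.cdPt 0, y ∈ closure ({x.1} : Set X.scheme)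
  hdisj : ∀ x x' : X.cdPt 0, x ≠ x' → ∀ y ∈ Y,
    y ∈ closure ({x.1} : Set X.scheme) → y ∉ closure ({x'.1} : Set X.scheme)

namespace ZPiece

variable {X : Obj V} (Z : ZPiece X)

theorem dimY : WeilCoh.dim (Z.Y : Scheme.{u}) = WeilCoh.dim X.scheme :=
  dim_eq_of_containsFj X 0 _ Z.hY

/-- the closed piece attached to a point of codimension zero -/
abbrev cp (x : X.cdPt 0) : CPiece X x.1 where
  Y := Z.Y
  W := (X.ptSubι x.1) ⁻¹ᵁ Z.Y
  hW _ := Iff.rfl
  hx := Z.hY x.1 (le_of_eq x.2)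

theorem exists_mem_range_i (y : (Z.Y : Scheme.{u})) :
    ∃ x : X.cdPt 0, y ∈ Set.range (Z.cp x).i := by
  obtain ⟨x, hx⟩ := Z.hcov (Z.Y.ι y) y.2
  exact ⟨x, ((Z.cp x).mem_range_i y).2 hx⟩

theorem disjoint_range_i (x x' : X.cdPt 0) (h : x ≠ x') :
    Disjoint (Set.range (Z.cp x).i) (Set.range (Z.cp x').i) := by
  rw [Set.disjoint_left]
  intro y hy hy'
  rw [CPiece.mem_range_i] at hy hy'
  exact Z.hdisj x x' h _ y.2 hy hy'

theorem isOpen_range_i (x : X.cdPt 0) : IsOpen (Set.range (Z.cp x).i) := by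
  have : Set.range (Z.cp x).i =
      (⋃ l : {l : X.cdPt 0 // l ≠ x}, Set.range (Z.cp l.1).i)ᶜ := by
    ext z
    constructor
    · intro hz hz'
      obtain ⟨l, hl⟩ := Set.mem_iUnion.1 hz'
      exact (Z.disjoint_range_i x l.1 l.2.symm).le_bot ⟨hz, hl⟩
    · intro hz
      obtain ⟨l, hl⟩ := Z.exists_mem_range_i z
      by_cases h : l = x
      · rw [← h]; exact hl
      · exact absurd (Set.mem_iUnion.2 ⟨⟨l, h⟩, hl⟩) hz
  rw [this, isOpen_compl_iff]
  exact isClosed_iUnion_of_finite (fun l => (Z.cp l.1).i.isClosedEmbedding.isClosed_range)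

instance [IsReduced X.scheme] (x : X.cdPt 0) : IsOpenImmersion (Z.cp x).i :=
  haveI : IsReduced (Z.Y : Scheme.{u}) := isReduced_of_isOpenImmersion Z.Y.ι
  isOpenImmersion_of_isClosedImmersion_of_isOpen_range _ (Z.isOpen_range_i x)

theorem dimG (x : X.cdPt 0) : WeilCoh.dim (Z.cp x).G.scheme = WeilCoh.dim (Z.Y : Scheme.{u}) := by
  rw [dim_ptOpens X _ _ (Z.cp x).nonempty, Z.dimY, pdim_eq_of_codim_zero]

/-- the closed pieces as morphisms of objects -/
abbrev gObj [IsReduced X.scheme] (x : X.cdPt 0) : (Z.cp x).G ⟶ X.res Z.Y :=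
  ⟨(Z.cp x).i, inferInstance, Z.dimG x⟩

/-- restriction to a smaller open -/
abbrev restrict (Y' : X.scheme.Opens) (hle : Y' ≤ Z.Y) (hY' : ContainsFj X 0 Y') : ZPiece X where
  Y := Y'
  hY := hY'
  hcov y hy := Z.hcov y (hle hy)
  hdisj x x' h y hy := Z.hdisj x x' h y (hle hy)

end ZPiece

theorem ZPiece.exists_le (X : Obj V) (Y₀ : X.scheme.Opens) (hY₀ : ContainsFj X 0 Y₀) :
    ∃ Z : ZPiece X, Z.Y ≤ Y₀ := by
  have H : ∀ x : X.cdPt 0, ∃ C' : Set X.scheme, IsClosed C' ∧ x.1 ∉ C' ∧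
      (closure ({x.1} : Set X.scheme))ᶜ ⊆ C' := fun x => by
    obtain ⟨C', h1, -, h3, h4⟩ := exists_closed_compl (finDim X) (C := (Set.univ : Set X.scheme))
      isClosed_univ (Set.mem_univ x.1) (fun y _ => by
        change WeilCoh.pdim X.scheme y ≤ WeilCoh.pdim X.scheme x.1
        rw [pdim_eq_of_codim_zero]
        exact pdim_le_dim X y)
    exact ⟨C', h1, h3, fun y hy => h4 ⟨trivial, hy⟩⟩
  choose Cf h1 h2 h3 using H
  let O : X.scheme.Opens := ⟨⋃ x, (Cf x)ᶜ, isOpen_iUnion (fun x => (h1 x).isOpen_compl)⟩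
  have key : ∀ (x x'' : X.cdPt 0) (y : X.scheme), y ∉ Cf x'' →
      y ∈ closure ({x.1} : Set X.scheme) → x = x'' := by
    intro x x'' y hy hyx
    have hx : x.1 ∉ Cf x'' := fun h =>
      hy ((specializes_iff_mem_closure.2 hyx).mem_closed (h1 x'') h)
    have hx' : x.1 ∈ closure ({x''.1} : Set X.scheme) := by
      by_contra h
      exact hx (h3 x'' h)
    by_contra hne
    exact not_mem_closure_of_codim_eq (x.2.trans x''.2.symm) (fun h => hne (Subtype.ext h)) hx'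
  refine ⟨⟨Y₀ ⊓ O, ?_, ?_, ?_⟩, inf_le_left⟩
  · intro y hy
    exact ⟨hY₀ y hy, Set.mem_iUnion.2 ⟨⟨y, Nat.le_zero.1 hy⟩, h2 _⟩⟩
  · intro y hy
    obtain ⟨x, hx⟩ := Set.mem_iUnion.1 hy.2
    refine ⟨x, ?_⟩
    by_contra h
    exact hx (h3 x h)
  · intro x x' hne y hy hyx hyx'
    obtain ⟨x'', hx''⟩ := Set.mem_iUnion.1 hy.2
    exact hne ((key x x'' y hx'' hyx).trans (key x' x'' y hx'' hyx').symm)

namespace ZPiece

variable {X : Obj V} (Z : ZPiece X)

section Pre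

variable {T : PreTheory V R A}

/-- the total push-forward at level zero of a family of classes on the closed pieces -/
theorem tot_formula [Fintype (X.cdPt 0)] (Pd : T.PushData X 0)
    (M : A.Cat) (i n i' n' : ℤ) (hi : i' = i + 2 * ((0 : ℕ) : ℤ)) (hn : n' = n + ((0 : ℕ) : ℤ))
    (hiG : ∀ x : X.cdPt 0, i' = i + 2 * relCodim (Z.cp x).G.scheme (X.res Z.Y).scheme)
    (hnG : ∀ x : X.cdPt 0, n' = n + relCodim (Z.cp x).G.scheme (X.res Z.Y).scheme)
    (ξ : T.ptSum X 0 M i n)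
    (c : ∀ x : X.cdPt 0, T.gp (Z.cp x).G M i n)
    (hc : ∀ x : X.cdPt 0, ((T.ptι X x.1 i n (Z.cp x).Widx).app M).hom (c x) = ξ x) :
    (Pd.tot M i n i' n' hi hn).hom ξ =
      ((T.fjι X 0 i' n' ⟨Z.Y, Z.hY, Z.dimY⟩).app M).hom
        (∑ x : X.cdPt 0, (T.push (X := (Z.cp x).G) (Y := X.res Z.Y) (Z.cp x).i M i n i' n'
          (hiG x) (hnG x)).hom (c x)) := by
  rw [tot_eq_sum Pd M i n i' n' hi hn ξ Finset.univ (fun x hx => absurd (Finset.mem_univ x) hx),
    map_sum]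
  apply Finset.sum_congr rfl
  intro x _
  rw [← hc x]
  exact (Z.cp x).push_formula Pd x.2 Z.hY M i n i' n' hi hn (hiG x) (hnG x) (c x)

/-- push-forwards from the closed pieces commute with restriction to a smaller open -/
theorem restrict_sum_push [Fintype (X.cdPt 0)] (Y' : X.scheme.Opens) (hle : Y' ≤ Z.Y)
    (hY' : ContainsFj X 0 Y')
    (hd : WeilCoh.dim (Y' : Scheme.{u}) = WeilCoh.dim (Z.Y : Scheme.{u}))
    (M : A.Cat) (i n i' n' : ℤ)
    (hiG : ∀ x : X.cdPt 0, i' = i + 2 * relCodim (Z.cp x).G.scheme (X.res Z.Y).scheme)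
    (hnG : ∀ x : X.cdPt 0, n' = n + relCodim (Z.cp x).G.scheme (X.res Z.Y).scheme)
    (hiG' : ∀ x : X.cdPt 0, i' = i + 2 *
      relCodim ((Z.restrict Y' hle hY').cp x).G.scheme (X.res Y').scheme)
    (hnG' : ∀ x : X.cdPt 0, n' = n +
      relCodim ((Z.restrict Y' hle hY').cp x).G.scheme (X.res Y').scheme)
    (c : ∀ x : X.cdPt 0, T.gp (Z.cp x).G M i n) :
    (T.pull (X.resLE hle hd) M i' n').hom
        (∑ x : X.cdPt 0, (T.push (X := (Z.cp x).G) (Y := X.res Z.Y) (Z.cp x).i M i n i' n'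
          (hiG x) (hnG x)).hom (c x)) =
      ∑ x : X.cdPt 0, (T.push (X := ((Z.restrict Y' hle hY').cp x).G) (Y := X.res Y')
          ((Z.restrict Y' hle hY').cp x).i M i n i' n' (hiG' x) (hnG' x)).hom
        ((T.pull (CPiece.gW (Z.cp x) ((Z.restrict Y' hle hY').cp x) hle) M i n).hom (c x)) := by
  rw [map_sum]
  apply Finset.sum_congr rfl
  intro x _
  exact CPiece.push_restrict (T := T) (Z.cp x) ((Z.restrict Y' hle hY').cp x) hle hd M i n
    i' n' (hiG x) (hnG x) (hiG' x) (hnG' x) (c x)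

/-- restriction to a closed piece of a sum of push-forwards from the closed pieces -/
theorem pull_sum_push [IsReduced X.scheme] [Fintype (X.cdPt 0)] (M : A.Cat) (i n : ℤ)
    (h1 : ∀ x : X.cdPt 0, i = i + 2 * relCodim (Z.cp x).G.scheme (X.res Z.Y).scheme)
    (h2 : ∀ x : X.cdPt 0, n = n + relCodim (Z.cp x).G.scheme (X.res Z.Y).scheme)
    (c : ∀ x : X.cdPt 0, T.gp (Z.cp x).G M i n) (x : X.cdPt 0) :
    (T.pull (Z.gObj x) M i n).hom
      (∑ m : X.cdPt 0, (T.push (X := (Z.cp m).G) (Y := X.res Z.Y) (Z.cp m).i M i n i n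
        (h1 m) (h2 m)).hom (c m)) = c x := by
  classical
  rw [map_sum, Finset.sum_eq_single x]
  · exact pull_push_self Z.gObj T x M i n (h1 x) (h2 x) (c x)
  · intro m _ hmx
    exact pull_push_of_ne Z.gObj T (fun z => Z.exists_mem_range_i z)
      (fun a b hab => Z.disjoint_range_i a b hab) m x hmx M i n (h1 m) (h2 m) (c m)
  · intro h
    exact absurd (Finset.mem_univ x) h

end Pre

end ZPiece

/-- the total push-forward at level zero is bijective on a reduced object -/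
theorem tot_zero_bijective (T : TheoryOn V R A) (X : Obj V) [IsReduced X.scheme]
    (Pd : T.PushData X 0) (M : A.Cat) (i n i' n' : ℤ) (hi : i' = i + 2 * ((0 : ℕ) : ℤ))
    (hn : n' = n + ((0 : ℕ) : ℤ)) : Function.Bijective (Pd.tot M i n i' n' hi hn).hom := by
  classical
  obtain rfl : i' = i := by rw [hi]; simp
  obtain rfl : n' = n := by rw [hn]; simp
  haveI : Fintype (X.cdPt 0) := Fintype.ofFinite _
  have hrel : ∀ (Z : ZPiece X) (x : X.cdPt 0),
      relCodim (Z.cp x).G.scheme (X.res Z.Y).scheme = 0 := fun Z x => relCodim_of_hom (Z.gObj x)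
  have hiG : ∀ (Z : ZPiece X) (x : X.cdPt 0),
      i' = i' + 2 * relCodim (Z.cp x).G.scheme (X.res Z.Y).scheme := fun Z x => by
    rw [hrel Z x]; ring
  have hnG : ∀ (Z : ZPiece X) (x : X.cdPt 0),
      n' = n' + relCodim (Z.cp x).G.scheme (X.res Z.Y).scheme := fun Z x => by
    rw [hrel Z x]; ring
  constructor
  · -- injectivity
    rw [injective_iff_map_eq_zero]
    intro ξ hξ
    have hrep : ∀ x : X.cdPt 0, ∃ (W0 : ptIdx X x.1)
        (c0 : T.gp ((X.ptSub x.1).res W0.1) M i' n'),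
        ((T.ptι X x.1 i' n' W0).app M).hom c0 = ξ x := fun x =>
      ocolim_rep T.toPreTheory (X.ptSub x.1)
        (fun U => (U : Set (X.ptSub x.1).scheme).Nonempty) i' n' M (ξ x)
    choose W0 c0 hc0 using hrep
    let CP0 : ∀ x : X.cdPt 0, CPiece X x.1 := fun x =>
      CPiece.ofPtIdxIn (W0 x) ⊤ (fun _ _ => trivial)
    have hCP0 : ∀ x, ContainsFj X 0 (CP0 x).Y := fun x =>
      CPiece.containsFj_ofPtIdxIn x.2 _ _ _ (fun _ _ => trivial)
    let Y₀ : X.scheme.Opens := ⟨⋂ x : X.cdPt 0, ((CP0 x).Y : Set X.scheme),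
      isOpen_iInter_of_finite (fun x => (CP0 x).Y.isOpen)⟩
    have hY₀ : ContainsFj X 0 Y₀ := fun y hy => Set.mem_iInter.2 (fun x => hCP0 x y hy)
    obtain ⟨Z₁, hZ₁⟩ := ZPiece.exists_le X Y₀ hY₀
    have hle₁ : ∀ x : X.cdPt 0, Z₁.Y ≤ (CP0 x).Y := fun x y hy => Set.mem_iInter.1 (hZ₁ hy) x
    let c₁ : ∀ x : X.cdPt 0, T.gp (Z₁.cp x).G M i' n' := fun x =>
      (T.pull (CPiece.gW (CP0 x) (Z₁.cp x) (hle₁ x)) M i' n').hom (c0 x)
    have hc₁ : ∀ x : X.cdPt 0, ((T.ptι X x.1 i' n' (Z₁.cp x).Widx).app M).hom (c₁ x) = ξ x :=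
      fun x => (CPiece.ptι_gW (T := T.toPreTheory) (CP0 x) (Z₁.cp x) (hle₁ x) M i' n'
        (c0 x)).trans (hc0 x)
    have h5 := Z₁.tot_formula Pd M i' n' i' n' hi hn (hiG Z₁) (hnG Z₁) ξ c₁ hc₁
    rw [hξ] at h5
    obtain ⟨U'', hle'', hz⟩ := (ocolim_eq_zero_iff T.toPreTheory X (ContainsFj X 0) i' n' M
      (U := ⟨Z₁.Y, Z₁.hY, Z₁.dimY⟩) _).1 h5.symm
    let Z₂ : ZPiece X := Z₁.restrict U''.1 hle'' U''.2.1
    let c₂ : ∀ x : X.cdPt 0, T.gp (Z₂.cp x).G M i' n' := fun x =>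
      (T.pull (CPiece.gW (Z₁.cp x) (Z₂.cp x) hle'') M i' n').hom (c₁ x)
    have hc₂ : ∀ x : X.cdPt 0, ((T.ptι X x.1 i' n' (Z₂.cp x).Widx).app M).hom (c₂ x) = ξ x :=
      fun x => (CPiece.ptι_gW (T := T.toPreTheory) (Z₁.cp x) (Z₂.cp x) hle'' M i' n'
        (c₁ x)).trans (hc₁ x)
    have h6 := Z₁.restrict_sum_push (T := T.toPreTheory) U''.1 hle'' U''.2.1
      (U''.2.2.trans Z₁.dimY.symm) M i' n' i' n' (hiG Z₁) (hnG Z₁) (hiG Z₂) (hnG Z₂) c₁
    have hsum : ∑ x : X.cdPt 0, (T.push (X := (Z₂.cp x).G) (Y := X.res Z₂.Y) (Z₂.cp x).i M i' n'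
        i' n' (hiG Z₂ x) (hnG Z₂ x)).hom (c₂ x) = 0 := h6.symm.trans hz
    refine DFinsupp.ext (fun x => ?_)
    have h7 := Z₂.pull_sum_push (T := T.toPreTheory) M i' n' (hiG Z₂) (hnG Z₂) c₂ x
    rw [hsum, map_zero] at h7
    rw [← hc₂ x, ← h7, map_zero]
    rfl
  · -- surjectivity
    intro β
    obtain ⟨Y₀, b, rfl⟩ := ocolim_rep T.toPreTheory X (ContainsFj X 0) i' n' M β
    obtain ⟨Z, hZ⟩ := ZPiece.exists_le X Y₀.1 Y₀.2.1
    have h8 := ocolimι_pull T.toPreTheory X (ContainsFj X 0) i' n' M (U := Y₀)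
      (U' := ⟨Z.Y, Z.hY, Z.dimY⟩) hZ (Z.dimY.trans Y₀.2.2.symm) b
    rw [← h8]
    generalize (T.pull (X.resLE hZ (Z.dimY.trans Y₀.2.2.symm)) M i' n').hom b = b'
    rcases isEmpty_or_nonempty (X.cdPt 0) with hK | hK
    · haveI : IsEmpty (X.res Z.Y).scheme := ⟨fun y => by
        obtain ⟨x, _⟩ := Z.hcov _ y.2
        exact hK.false x⟩
      refine ⟨0, ?_⟩
      rw [gp_eq_zero_of_isEmpty T.toPreTheory (X.res Z.Y) M i' n' b', map_zero, map_zero]
    · let c : ∀ x : X.cdPt 0, T.gp (Z.cp x).G M i' n' := fun x =>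
        (T.pull (Z.gObj x) M i' n').hom b'
      refine ⟨∑ x : X.cdPt 0, DirectSum.lof R (X.cdPt 0) (fun y => T.ptGp X y.1 M i' n') x
        (((T.ptι X x.1 i' n' (Z.cp x).Widx).app M).hom (c x)), ?_⟩
      rw [map_sum]
      have h9 : ∀ x ∈ (Finset.univ : Finset (X.cdPt 0)), (Pd.tot M i' n' i' n' hi hn).hom
          (DirectSum.lof R (X.cdPt 0) (fun y => T.ptGp X y.1 M i' n') x
            (((T.ptι X x.1 i' n' (Z.cp x).Widx).app M).hom (c x))) =
          ((T.fjι X 0 i' n' ⟨Z.Y, Z.hY, Z.dimY⟩).app M).hom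
            ((T.push (X := (Z.cp x).G) (Y := X.res Z.Y) (Z.cp x).i M i' n' i' n'
              (hiG Z x) (hnG Z x)).hom (c x)) := by
        intro x _
        rw [PreTheory.PushData.tot_lof]
        exact (Z.cp x).push_formula Pd x.2 Z.hY M i' n' i' n' hi hn (hiG Z x) (hnG Z x) (c x)
      rw [Finset.sum_congr rfl h9, ← map_sum]
      congr 1
      exact sum_push_pull Z.gObj T (fun z => Z.exists_mem_range_i z)
        (fun a b hab => Z.disjoint_range_i a b hab) M i' n' (hiG Z) (hnG Z) b'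

end Groth.Agent.Lib.Helper79.BM

end
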