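import Mathlib

/-!
# Galois extensions of commutative rings (Chase–Harrison–Rosenberg), the part we need

`B → A` injective, a finite group `G` acting on `A` by `B`-algebra maps `σ g` with invariants the
image of `B`, and for every `g ≠ 1` the elements `σ g a - a` generate the unit ideal.  Then
`A` is a finitely generated projective `B`-module and `A` is formally unramified over `B`.
-/

set_option autoImplicit false
open scoped TensorProduct

namespace Groth.Agent.Lib.Helper79.CHR

variable {B A : Type*} [CommRing B] [CommRing A] [Algebra B A]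
variable {G : Type*} [Group G] [Fintype G] [DecidableEq G]

/-- `h_g (a ⊗ b) = a * σ_g b`. -/
noncomputable def hh (σ : G → A →ₐ[B] A) (g : G) : A ⊗[B] A →ₐ[B] A :=
  Algebra.TensorProduct.productMap (AlgHom.id B A) (σ g)

@[simp]
theorem hh_tmul (σ : G → A →ₐ[B] A) (g : G) (a b : A) : hh σ g (a ⊗ₜ b) = a * σ g b := by
  simp [hh]

theorem exists_eta (σ : G → A →ₐ[B] A) (h1 : σ 1 = AlgHom.id B A) (g : G)
    (hg : Ideal.span (Set.range fun a => σ g a - a) = ⊤) :
    ∃ η : A ⊗[B] A, hh σ 1 η = 1 ∧ hh σ g η = 0 := by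
  have h : (1 : A) ∈ Ideal.span (Set.range fun a => σ g a - a) := by rw [hg]; trivial
  obtain ⟨c, hc⟩ := Finsupp.mem_ideal_span_range_iff_exists_finsupp.mp h
  refine ⟨(c.sum fun a ca => ca * σ g a) ⊗ₜ 1 - c.sum fun a ca => ca ⊗ₜ a, ?_, ?_⟩
  · rw [map_sub, hh_tmul, map_one, mul_one, map_finsuppSum, ← hc, ← Finsupp.sum_sub]
    refine Finsupp.sum_congr fun a _ => ?_
    rw [hh_tmul, h1, AlgHom.id_apply, mul_sub]
  · rw [map_sub, hh_tmul, map_one, mul_one, map_finsuppSum, sub_eq_zero]
    refine Finsupp.sum_congr fun a _ => ?_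
    rw [hh_tmul]

theorem exists_eps (σ : G → A →ₐ[B] A) (h1 : σ 1 = AlgHom.id B A)
    (hfree : ∀ g, g ≠ 1 → Ideal.span (Set.range fun a => σ g a - a) = ⊤) :
    ∃ ε : A ⊗[B] A, ∀ g, hh σ g ε = if g = 1 then 1 else 0 := by
  choose! η hη1 hηg using fun g (hg : g ≠ 1) => exists_eta σ h1 g (hfree g hg)
  refine ⟨∏ g ∈ Finset.univ.filter (· ≠ 1), η g, fun g => ?_⟩
  rw [map_prod]
  split_ifs with hg
  · subst hg
    exact Finset.prod_eq_one fun g hg => hη1 g (Finset.mem_filter.mp hg).2
  · exact Finset.prod_eq_zero (Finset.mem_filter.mpr ⟨Finset.mem_univ g, hg⟩) (hηg g hg)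

/-- the separability idempotent written as a finite sum of pure tensors. -/
theorem exists_finset (σ : G → A →ₐ[B] A) (h1 : σ 1 = AlgHom.id B A)
    (hfree : ∀ g, g ≠ 1 → Ideal.span (Set.range fun a => σ g a - a) = ⊤) :
    ∃ S : Finset (A × A), ∀ g, ∑ i ∈ S, i.1 * σ g i.2 = if g = 1 then 1 else 0 := by
  obtain ⟨ε, hε⟩ := exists_eps σ h1 hfree
  obtain ⟨S, hS⟩ := TensorProduct.exists_finset ε
  refine ⟨S, fun g => ?_⟩
  rw [← hε g, hS, map_sum]
  exact Finset.sum_congr rfl fun i _ => (hh_tmul σ g i.1 i.2).symm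

/-- the trace, as a map to `A`. -/
noncomputable def trA (σ : G → A →ₐ[B] A) : A →ₗ[B] A := ∑ g, (σ g).toLinearMap

theorem trA_apply (σ : G → A →ₐ[B] A) (a : A) : trA σ a = ∑ g, σ g a := by
  simp [trA, LinearMap.sum_apply]

theorem sigma_trA (σ : G → A →ₐ[B] A) (hmul : ∀ g h, σ (g * h) = (σ g).comp (σ h)) (h : G)
    (a : A) : σ h (trA σ a) = trA σ a := by
  rw [trA_apply, map_sum]
  refine Fintype.sum_equiv (Equiv.mulLeft h) _ _ fun g => ?_
  rw [Equiv.coe_mulLeft, hmul]
  rfl

theorem trA_mem_range (σ : G → A →ₐ[B] A) (hmul : ∀ g h, σ (g * h) = (σ g).comp (σ h))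
    (hinv : ∀ a, (∀ g, σ g a = a) → a ∈ Set.range (algebraMap B A)) (a : A) :
    trA σ a ∈ LinearMap.range (Algebra.linearMap B A) := by
  obtain ⟨b, hb⟩ := hinv _ fun g => sigma_trA σ hmul g a
  exact ⟨b, hb⟩

/-- the trace, as a map to `B`. -/
noncomputable def trB (σ : G → A →ₐ[B] A) (hmul : ∀ g h, σ (g * h) = (σ g).comp (σ h))
    (hinj : Function.Injective (algebraMap B A))
    (hinv : ∀ a, (∀ g, σ g a = a) → a ∈ Set.range (algebraMap B A)) : A →ₗ[B] B :=
  (LinearEquiv.ofInjective (Algebra.linearMap B A) hinj).symm.toLinearMap ∘ₗ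
    (trA σ).codRestrict _ (trA_mem_range σ hmul hinv)

theorem algebraMap_trB (σ : G → A →ₐ[B] A) (hmul : ∀ g h, σ (g * h) = (σ g).comp (σ h))
    (hinj : Function.Injective (algebraMap B A))
    (hinv : ∀ a, (∀ g, σ g a = a) → a ∈ Set.range (algebraMap B A)) (a : A) :
    algebraMap B A (trB σ hmul hinj hinv a) = trA σ a := by
  have := LinearEquiv.ofInjective_apply (Algebra.linearMap B A) (h := hinj)
    ((LinearEquiv.ofInjective (Algebra.linearMap B A) hinj).symm
      ((trA σ).codRestrict _ (trA_mem_range σ hmul hinv) a))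
  rw [LinearEquiv.apply_symm_apply] at this
  exact this.symm

/-- the dual basis identity. -/
theorem dual_basis (σ : G → A →ₐ[B] A) (h1 : σ 1 = AlgHom.id B A)
    (S : Finset (A × A)) (hS : ∀ g, ∑ i ∈ S, i.1 * σ g i.2 = if g = 1 then 1 else 0) (t : A) :
    ∑ i ∈ S, trA σ (i.2 * t) * i.1 = t := by
  calc ∑ i ∈ S, trA σ (i.2 * t) * i.1
      = ∑ i ∈ S, ∑ g, σ g t * (i.1 * σ g i.2) := by
        refine Finset.sum_congr rfl fun i _ => ?_
        rw [trA_apply, Finset.sum_mul]
        refine Finset.sum_congr rfl fun g _ => ?_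
        rw [map_mul]; ring
    _ = ∑ g, σ g t * ∑ i ∈ S, i.1 * σ g i.2 := by
        rw [Finset.sum_comm]
        refine Finset.sum_congr rfl fun g _ => ?_
        rw [Finset.mul_sum]
    _ = t := by
        simp only [hS, mul_ite, mul_one, mul_zero, Finset.sum_ite_eq', Finset.mem_univ, if_true,
          h1, AlgHom.id_apply]

section main

variable (σ : G → A →ₐ[B] A) (h1 : σ 1 = AlgHom.id B A)
  (hmul : ∀ g h, σ (g * h) = (σ g).comp (σ h))
  (hinj : Function.Injective (algebraMap B A))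
  (hinv : ∀ a, (∀ g, σ g a = a) → a ∈ Set.range (algebraMap B A))
  (hfree : ∀ g, g ≠ 1 → Ideal.span (Set.range fun a => σ g a - a) = ⊤)

include h1 hmul hinj hinv hfree

theorem projective_and_finite : Module.Projective B A ∧ Module.Finite B A := by
  obtain ⟨S, hS⟩ := exists_finset σ h1 hfree
  let i : A →ₗ[B] (S → B) :=
    LinearMap.pi fun i => trB σ hmul hinj hinv ∘ₗ LinearMap.mulLeft B (i.1.2 : A)
  let s : (S → B) →ₗ[B] A := ∑ i : S, (LinearMap.proj (R := B) (φ := fun _ : S => B) i).smulRight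
    (i.1.1 : A)
  have H : s.comp i = LinearMap.id := by
    ext t
    simp only [s, i, LinearMap.comp_apply, LinearMap.sum_apply, LinearMap.smulRight_apply,
      LinearMap.proj_apply, LinearMap.pi_apply, LinearMap.mulLeft_apply, LinearMap.id_apply]
    have := dual_basis σ h1 S hS t
    rw [← Finset.sum_coe_sort S] at this
    conv_rhs => rw [← this]
    refine Finset.sum_congr rfl fun i _ => ?_
    rw [Algebra.smul_def, algebraMap_trB]
  refine ⟨Module.Projective.of_split i s H, ?_⟩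
  refine Module.Finite.of_surjective s fun a => ⟨i a, ?_⟩
  exact congrArg (fun k => k a) H

omit hfree in
theorem eq_sum_hh (S : Finset (A × A))
    (hS : ∀ g, ∑ i ∈ S, i.1 * σ g i.2 = if g = 1 then 1 else 0) (w : A ⊗[B] A) :
    w = ∑ i ∈ S, ∑ g, (hh σ g w * σ g i.2) ⊗ₜ[B] i.1 := by
  induction w using TensorProduct.induction_on with
  | zero => simp
  | add x y hx hy =>
    conv_lhs => rw [hx, hy]
    rw [← Finset.sum_add_distrib]
    refine Finset.sum_congr rfl fun i _ => ?_
    rw [← Finset.sum_add_distrib]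
    refine Finset.sum_congr rfl fun g _ => ?_
    rw [map_add, add_mul, TensorProduct.add_tmul]
  | tmul s t =>
    have : ∀ i ∈ S, ∑ g, (hh σ g (s ⊗ₜ[B] t) * σ g i.2) ⊗ₜ[B] i.1 =
        s ⊗ₜ[B] (trA σ (i.2 * t) * i.1) := by
      intro i _
      rw [← TensorProduct.sum_tmul, ← algebraMap_trB σ hmul hinj hinv, ← Algebra.smul_def,
        ← TensorProduct.smul_tmul, Algebra.smul_def, algebraMap_trB, trA_apply]
      congr 1
      rw [Finset.sum_mul]
      refine Finset.sum_congr rfl fun g _ => ?_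
      rw [hh_tmul, map_mul]; ring
    rw [Finset.sum_congr rfl this, ← TensorProduct.tmul_sum, dual_basis σ h1 S hS t]

theorem eq_zero_of_hh (w : A ⊗[B] A) (hw : ∀ g, hh σ g w = 0) : w = 0 := by
  obtain ⟨S, hS⟩ := exists_finset σ h1 hfree
  rw [eq_sum_hh σ h1 hmul hinj hinv S hS w]
  simp [hw]

theorem formallyUnramified : Algebra.FormallyUnramified B A := by
  obtain ⟨ε, hε⟩ := exists_eps σ h1 hfree
  -- `φ (s ⊗ t) = s • D t`
  let φ : A ⊗[B] A →ₗ[B] Ω[A⁄B] :=
    TensorProduct.lift (LinearMap.mk₂ B (fun s t => s • KaehlerDifferential.D B A t)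
      (fun s s' t => add_smul _ _ _) (fun b s t => smul_assoc _ _ _)
      (fun s t t' => by rw [map_add, smul_add])
      (fun b s t => by rw [Derivation.map_smul, smul_comm]))
  have hφ : ∀ s t, φ (s ⊗ₜ t) = s • KaehlerDifferential.D B A t := fun s t => by
    simp [φ]
  have hφ1 : ∀ (a : A) (w : A ⊗[B] A), φ (w * (a ⊗ₜ 1)) = a • φ w := by
    intro a w
    induction w using TensorProduct.induction_on with
    | zero => simp
    | add x y hx hy => rw [add_mul, map_add, hx, hy, map_add, smul_add]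
    | tmul s t =>
      rw [Algebra.TensorProduct.tmul_mul_tmul, hφ, hφ, mul_one, mul_comm, mul_smul]
  have hφ2 : ∀ (a : A) (w : A ⊗[B] A), φ (w * (1 ⊗ₜ a)) =
      hh σ 1 w • KaehlerDifferential.D B A a + a • φ w := by
    intro a w
    induction w using TensorProduct.induction_on with
    | zero => simp
    | add x y hx hy =>
      rw [add_mul, map_add, hx, hy, map_add, map_add, smul_add, add_smul]; abel
    | tmul s t =>
      rw [Algebra.TensorProduct.tmul_mul_tmul, hφ, hφ, mul_one, hh_tmul, h1, AlgHom.id_apply,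
        Derivation.leibniz, smul_add, smul_smul, smul_smul, smul_smul]
      rw [mul_comm a s]
  have hzero : ∀ a : A, ε * ((1 : A) ⊗ₜ[B] a - a ⊗ₜ[B] (1 : A)) = 0 := by
    intro a
    apply eq_zero_of_hh σ h1 hmul hinj hinv hfree
    intro g
    rw [map_mul, map_sub, hh_tmul, hh_tmul, hε, map_one, one_mul, mul_one]
    split_ifs with hg
    · rw [hg, h1, AlgHom.id_apply, sub_self, mul_zero]
    · rw [zero_mul]
  have hD : ∀ a : A, KaehlerDifferential.D B A a = 0 := by
    intro a
    have h2 := hφ2 a ε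
    have h3 := hφ1 a ε
    have h4 : φ (ε * ((1 : A) ⊗ₜ[B] a - a ⊗ₜ[B] (1 : A))) = 0 := by rw [hzero, map_zero]
    rw [mul_sub, map_sub, h2, h3, hε, if_pos rfl, one_smul, add_sub_cancel_right] at h4
    exact h4
  constructor
  rw [← Submodule.subsingleton_iff A, ← subsingleton_iff_bot_eq_top,
    ← KaehlerDifferential.span_range_derivation B A, eq_comm, Submodule.span_eq_bot]
  rintro _ ⟨a, rfl⟩
  exact hD a

end main

end Groth.Agent.Lib.Helper79.CHR
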