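import Mathlib
import Groth.Prelude.Def_AlgGrp
import Groth.Agent.Lib.Helper21.FieldDimBC
import Groth.Agent.Lib.Helper40.BlanchardLemma
import Groth.Agent.Lib.Helper69.ReducedSmoothLocal

/-!
# Almost homogeneous curves (helper79)

A smooth connected group acting on a curve: the graph morphism `G × C ⟶ C × C` is dominant iff
the action is non-trivial.
-/

set_option autoImplicit false
set_option linter.style.haveILetI false
set_option linter.unusedSectionVars false

universe u

open CategoryTheory CategoryTheory.Limits MonoidalCategory CartesianMonoidalCategory MonObj GrpObj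
  AlgebraicGeometry TopologicalSpace

namespace Groth.Agent.Lib.Helper79.CurveDominant

open Groth.Agent.Lib.Helper21.FieldDim

section Top

variable {k : Type u} [Field k] {X : Scheme.{u}}

/-- in an irreducible `2`-dimensional scheme locally of finite type over a field, an irreducible
closed proper subset containing a closed irreducible subset of dimension `1` is equal to it -/
theorem eq_of_dim (f : X ⟶ Spec (CommRingCat.of k)) [LocallyOfFiniteType f]
    [IrreducibleSpace X] (hX : topologicalKrullDim X = 2) (D Z : Set X)
    (hDc : IsClosed D) (hDi : IsIrreducible D) (hD : topologicalKrullDim ↥D = 1)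
    (hZc : IsClosed Z) (hZi : IsIrreducible Z) (hDZ : D ⊆ Z) (hZ : Z ≠ Set.univ) : Z = D := by
  have hδ := hDi.isGenericPoint_genericPoint hDc
  have hζ := hZi.isGenericPoint_genericPoint hZc
  set δ := hDi.genericPoint
  set ζ := hZi.genericPoint
  have h1 : td f δ = 1 := by
    have := dim_eq_td_of_isGenericPoint f hδ
    rw [hD] at this
    exact_mod_cast this.symm
  have h2 : td f (genericPoint X) = 2 := by
    have := dim_eq_td_genericPoint f
    rw [hX] at this
    exact_mod_cast this.symm
  have hηζ : genericPoint X ⤳ ζ := (genericPoint_spec X).specializes (by simp)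
  have hζδ : ζ ⤳ δ := hζ.specializes (hDZ hδ.mem)
  have hne : genericPoint X ≠ ζ := by
    intro h
    apply hZ
    rw [← hζ.def, ← h, (genericPoint_spec X).def]
  have h3 : td f ζ < 2 := h2 ▸ td_lt_of_specializes f hηζ hne
  by_contra hZD
  have hne2 : ζ ≠ δ := by
    intro h
    apply hZD
    rw [← hζ.def, h, hδ.def]
  have h4 := td_lt_of_specializes f hζδ hne2
  omega

end Top

section Main

variable {k : Type u} [Field k] (G C : Over (Spec (CommRingCat.of k))) [GrpObj G]

/-- the section `x ↦ (e, x)` -/
noncomputable def unitSec : C ⟶ G ⊗ C := (λ_ C).inv ≫ (η[G] ▷ C)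

theorem unitSec_snd : unitSec G C ≫ snd G C = 𝟙 C := by
  unfold unitSec
  rw [Category.assoc, whiskerRight_snd, leftUnitor_inv_snd]

variable {G C} (a : AlgGrp.Action G C)

theorem unitSec_act : unitSec G C ≫ a.act = 𝟙 C := by
  unfold unitSec
  rw [Category.assoc, a.one_act, Iso.inv_hom_id]

/-- the graph morphism restricted to the unit section is the diagonal -/
theorem unitSec_graph : unitSec G C ≫ lift (snd G C) a.act = lift (𝟙 C) (𝟙 C) := by
  rw [comp_lift, unitSec_snd, unitSec_act]

theorem lift_id_left : (lift (𝟙 C) (𝟙 C)).left = pullback.diagonal C.hom := by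
  apply pullback.hom_ext
  · rw [pullback.diagonal_fst]
    exact congrArg (fun m => m.left) (lift_fst (𝟙 C) (𝟙 C))
  · rw [pullback.diagonal_snd]
    exact congrArg (fun m => m.left) (lift_snd (𝟙 C) (𝟙 C))

end Main

section Curve

variable {k : Type u} [Field k] {G C : Over (Spec (CommRingCat.of k))}

theorem dim_sq [LocallyOfFiniteType C.hom] (hdim : topologicalKrullDim ↥C.left = 1) :
    topologicalKrullDim ↥(pullback C.hom C.hom) = 2 := by
  rw [dim_prod C.hom C.hom, hdim]
  rfl

theorem isIntegral_C [GeometricallyIntegral C.hom] : IsIntegral C.left :=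
  GeometricallyIntegral.isIntegral_of_subsingleton C.hom

theorem irreducibleSpace_sq [LocallyOfFiniteType C.hom] [GeometricallyIntegral C.hom] :
    IrreducibleSpace ↥(pullback C.hom C.hom) := by
  haveI := isIntegral_C (C := C)
  infer_instance

theorem geometricallyIrreducible_G [GrpObj G] [ConnectedSpace ↥G.left] :
    GeometricallyIrreducible G.hom := by
  rw [geometricallyIrreducible_iff, geometrically_iff_of_isClosedUnderIsomorphisms]
  intro K _ y
  exact Groth.Agent.Lib.Helper40.BlanchardLemma.irreducibleSpace_pullback (G := G) K y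

theorem irreducibleSpace_GC [GrpObj G] [ConnectedSpace ↥G.left] [LocallyOfFiniteType G.hom]
    [GeometricallyIntegral C.hom] : IrreducibleSpace ↥(pullback G.hom C.hom) := by
  haveI := isIntegral_C (C := C)
  haveI := geometricallyIrreducible_G (G := G)
  infer_instance

theorem isReduced_GC [Smooth G.hom] [GeometricallyIntegral C.hom] :
    IsReduced (pullback G.hom C.hom) := by
  haveI := isIntegral_C (C := C)
  exact Groth.Agent.Lib.Helper69.ReducedSmoothLocal.isReduced_of_smooth (pullback.snd G.hom C.hom)

theorem dim_range_diag [IsSeparated C.hom] (hdim : topologicalKrullDim ↥C.left = 1) :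
    topologicalKrullDim ↥(Set.range (pullback.diagonal C.hom)) = 1 := by
  have h := (pullback.diagonal C.hom).isClosedEmbedding.isEmbedding.toHomeomorph
  rw [← hdim]
  exact (h.isHomeomorph.topologicalKrullDim_eq).symm

variable [GrpObj G] (a : AlgGrp.Action G C)

theorem act_eq_snd_of_not_isDominant [Smooth G.hom] [ConnectedSpace ↥G.left]
    [IsSeparated C.hom] [LocallyOfFiniteType C.hom] [GeometricallyIntegral C.hom]
    (hdim : topologicalKrullDim ↥C.left = 1)
    (h : ¬ IsDominant (lift (snd G C) a.act).left) : a.act = snd G C := by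
  set Γ : pullback G.hom C.hom ⟶ pullback C.hom C.hom := (lift (snd G C) a.act).left with hΓ
  haveI := irreducibleSpace_GC (G := G) (C := C)
  haveI := irreducibleSpace_sq (C := C)
  haveI := isReduced_GC (G := G) (C := C)
  let Δ : C.left ⟶ pullback C.hom C.hom := pullback.diagonal C.hom
  have hZ : closure (Set.range Γ) ≠ Set.univ := fun h' => h ⟨dense_iff_closure_eq.mpr h'⟩
  have hZi : IsIrreducible (closure (Set.range Γ)) := by
    rw [← Set.image_univ]
    exact ((IrreducibleSpace.isIrreducible_univ _).image Γ Γ.continuous.continuousOn).closure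
  have hΔ : Δ = (unitSec G C).left ≫ Γ := by
    have := congrArg (fun m => m.left) (unitSec_graph a)
    rw [lift_id_left] at this
    exact this.symm
  have hsub : Set.range Δ ⊆ closure (Set.range Γ) := by
    refine subset_trans ?_ subset_closure
    rw [hΔ, Scheme.Hom.comp_base, TopCat.coe_comp]
    exact Set.range_comp_subset_range _ _
  have hΔi : IsIrreducible (Set.range Δ) := by
    haveI := isIntegral_C (C := C)
    rw [← Set.image_univ]
    exact (IrreducibleSpace.isIrreducible_univ _).image Δ Δ.continuous.continuousOn
  have hZD := eq_of_dim (pullback.fst C.hom C.hom ≫ C.hom) (dim_sq hdim) (Set.range Δ)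
    (closure (Set.range Γ)) Δ.isClosedEmbedding.isClosed_range hΔi (dim_range_diag hdim)
    isClosed_closure hZi hsub hZ
  have hΓΔ : Set.range Γ ⊆ Set.range Δ := hZD ▸ subset_closure
  haveI : Surjective (pullback.fst Γ Δ) := ⟨by
    rw [← Set.range_eq_univ, Scheme.Pullback.range_fst]
    exact Set.eq_univ_of_forall fun x => hΓΔ ⟨x, rfl⟩⟩
  haveI : IsIso (pullback.fst Γ Δ) := isIso_of_isClosedImmersion_of_surjective _
  let hh : pullback G.hom C.hom ⟶ C.left := inv (pullback.fst Γ Δ) ≫ pullback.snd Γ Δ
  have hhΔ : hh ≫ Δ = Γ := by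
    rw [Category.assoc, ← pullback.condition, IsIso.inv_hom_id_assoc]
  have h1 : Γ ≫ pullback.fst C.hom C.hom = hh := by
    rw [← hhΔ, Category.assoc, pullback.diagonal_fst, Category.comp_id]
  have h2 : Γ ≫ pullback.snd C.hom C.hom = hh := by
    rw [← hhΔ, Category.assoc, pullback.diagonal_snd, Category.comp_id]
  have e1 : Γ ≫ pullback.fst C.hom C.hom = (snd G C).left :=
    congrArg (fun m => m.left) (lift_fst (snd G C) a.act)
  have e2 : Γ ≫ pullback.snd C.hom C.hom = a.act.left :=
    congrArg (fun m => m.left) (lift_snd (snd G C) a.act)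
  apply Over.OverMorphism.ext
  rw [← e2, h2, ← h1, e1]

theorem act_ne_snd_of_isDominant [IsSeparated C.hom] [LocallyOfFiniteType C.hom]
    (hdim : topologicalKrullDim ↥C.left = 1)
    (h : IsDominant (lift (snd G C) a.act).left) : a.act ≠ snd G C := by
  intro heq
  have hΓ : (lift (snd G C) a.act).left = (snd G C).left ≫ pullback.diagonal C.hom := by
    rw [heq, ← lift_id_left, ← Over.comp_left, comp_lift, Category.comp_id]
  have hsub : Set.range (lift (snd G C) a.act).left ⊆ Set.range (pullback.diagonal C.hom) := by
    rw [hΓ, Scheme.Hom.comp_base, TopCat.coe_comp]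
    exact Set.range_comp_subset_range _ _
  have hdense : Set.range (pullback.diagonal C.hom) = Set.univ := by
    have := h.denseRange.closure_eq
    apply Set.eq_univ_of_univ_subset
    rw [← this]
    exact closure_minimal hsub (pullback.diagonal C.hom).isClosedEmbedding.isClosed_range
  have h1 := dim_range_diag (C := C) hdim
  rw [hdense] at h1
  have h2 : topologicalKrullDim ↥(Set.univ : Set ↥(pullback C.hom C.hom)) =
      topologicalKrullDim ↥(pullback C.hom C.hom) :=
    (Homeomorph.Set.univ _).isHomeomorph.topologicalKrullDim_eq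
  rw [h2, dim_sq hdim] at h1
  exact absurd h1 (by decide)

end Curve

end Groth.Agent.Lib.Helper79.CurveDominant
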