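import Mathlib

/-!
# The canonical involution of a free algebra of rank two
-/

set_option autoImplicit false
set_option linter.style.haveILetI false
universe u v

namespace Groth.Agent.Lib.Helper79.DblCovAlg

section Basic

variable {A : Type u} {B : Type v} [CommRing A] [CommRing B] [Algebra A B]

variable (A) in
/-- the underlying function `b ↦ Tr(b) - b`. -/
noncomputable def tauFun (b : B) : B := algebraMap A B (Algebra.trace A B b) - b

theorem trace_algebraMap_two (bs : Module.Basis (Fin 2) A B) (a : A) :
    Algebra.trace A B (algebraMap A B a) = 2 * a := by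
  rw [Algebra.trace_algebraMap_of_basis bs a]
  simp

theorem matrix_two (N : Matrix (Fin 2) (Fin 2) A) :
    algebraMap A (Matrix (Fin 2) (Fin 2) A) (Matrix.trace N) - N = N.adjugate := by
  rw [Matrix.adjugate_fin_two]
  ext i j
  fin_cases i <;> fin_cases j <;>
    simp [Matrix.trace_fin_two, Matrix.algebraMap_matrix_apply]

theorem leftMul_tauFun (bs : Module.Basis (Fin 2) A B) (x : B) :
    Algebra.leftMulMatrix bs (tauFun A x) = (Algebra.leftMulMatrix bs x).adjugate := by
  rw [tauFun, map_sub, AlgHom.commutes, Algebra.trace_eq_matrix_trace bs, matrix_two]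

theorem tauFun_mul (bs : Module.Basis (Fin 2) A B) (x y : B) :
    tauFun A (x * y) = tauFun A x * tauFun A y := by
  apply Algebra.leftMulMatrix_injective bs
  rw [leftMul_tauFun, map_mul, map_mul, leftMul_tauFun, leftMul_tauFun,
    Matrix.adjugate_mul_distrib]
  rw [← leftMul_tauFun, ← leftMul_tauFun, ← map_mul, ← map_mul, mul_comm]

theorem tauFun_one (bs : Module.Basis (Fin 2) A B) : tauFun A (1 : B) = 1 := by
  have h := trace_algebraMap_two bs (1 : A)
  rw [map_one] at h
  rw [tauFun, h, mul_one, map_ofNat]
  ring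

theorem tauFun_add (x y : B) : tauFun A (x + y) = tauFun A x + tauFun A y := by
  simp only [tauFun, map_add]
  ring

theorem tauFun_zero : tauFun A (0 : B) = 0 := by
  simp [tauFun]

theorem tauFun_algebraMap (bs : Module.Basis (Fin 2) A B) (a : A) :
    tauFun A (algebraMap A B a) = algebraMap A B a := by
  rw [tauFun, trace_algebraMap_two bs, map_mul, map_ofNat]
  ring

theorem trace_tauFun (bs : Module.Basis (Fin 2) A B) (x : B) :
    Algebra.trace A B (tauFun A x) = Algebra.trace A B x := by
  rw [tauFun, map_sub, trace_algebraMap_two bs]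
  ring

theorem tauFun_tauFun (bs : Module.Basis (Fin 2) A B) (x : B) :
    tauFun A (tauFun A x) = x := by
  have h := trace_tauFun bs x
  rw [tauFun, h, tauFun]
  ring

theorem algebraMap_injective_of_basis (bs : Module.Basis (Fin 2) A B) :
    Function.Injective (algebraMap A B) := by
  rw [injective_iff_map_eq_zero]
  intro a ha
  have h1 : a • bs 0 = 0 := by rw [Algebra.smul_def, ha, zero_mul]
  have h2 := congrArg (fun v => bs.repr v 0) h1
  simpa using h2

theorem mem_range_of_tauFun_eq (h2 : IsUnit (2 : A)) (x : B) (hx : tauFun A x = x) :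
    x ∈ Set.range (algebraMap A B) := by
  obtain ⟨u, hu⟩ := h2
  refine ⟨↑u⁻¹ * Algebra.trace A B x, ?_⟩
  have h1 : algebraMap A B (Algebra.trace A B x) = 2 * x := by
    rw [tauFun] at hx
    linear_combination hx
  rw [map_mul, h1, ← map_ofNat (algebraMap A B) 2, ← mul_assoc, ← map_mul, ← hu, Units.inv_mul,
    map_one, one_mul]

/-- the canonical involution. -/
noncomputable def tau (h : Nonempty (Module.Basis (Fin 2) A B)) : B →+* B where
  toFun := tauFun A
  map_one' := tauFun_one h.some
  map_mul' := tauFun_mul h.some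
  map_zero' := tauFun_zero
  map_add' := tauFun_add

theorem tau_apply (h : Nonempty (Module.Basis (Fin 2) A B)) (x : B) : tau h x = tauFun A x := rfl

end Basic

section Hom

variable {A B : Type u} [CommRing A] [CommRing B]

/-- `B` has a basis with two elements over `A` (through `φ`). -/
def HasBasis2 (φ : A →+* B) : Prop :=
  letI := φ.toAlgebra
  Nonempty (Module.Basis (Fin 2) A B)

/-- the trace of `B` over `A` (through `φ`). -/
noncomputable def trHom (φ : A →+* B) (b : B) : A :=
  letI := φ.toAlgebra
  Algebra.trace A B b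

/-- the canonical involution of `B` over `A` (through `φ`). -/
noncomputable def tauHom (φ : A →+* B) (h : HasBasis2 φ) : B →+* B :=
  letI := φ.toAlgebra
  tau h

theorem tauHom_apply (φ : A →+* B) (h : HasBasis2 φ) (b : B) :
    tauHom φ h b = φ (trHom φ b) - b := rfl

theorem tauHom_comp (φ : A →+* B) (h : HasBasis2 φ) (a : A) : tauHom φ h (φ a) = φ a := by
  letI := φ.toAlgebra
  exact tauFun_algebraMap h.some a

theorem tauHom_tauHom (φ : A →+* B) (h : HasBasis2 φ) (b : B) :
    tauHom φ h (tauHom φ h b) = b := by
  letI := φ.toAlgebra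
  exact tauFun_tauFun h.some b

theorem injective_of_hasBasis2 (φ : A →+* B) (h : HasBasis2 φ) : Function.Injective φ := by
  letI := φ.toAlgebra
  exact algebraMap_injective_of_basis h.some

theorem mem_range_of_tauHom_eq (φ : A →+* B) (h : HasBasis2 φ) (h2 : IsUnit (2 : A)) (b : B)
    (hb : tauHom φ h b = b) : b ∈ Set.range φ := by
  letI := φ.toAlgebra
  exact mem_range_of_tauFun_eq h2 b hb

variable {A' B' : Type u} [CommRing A'] [CommRing B']

theorem trHom_localization (φ : A →+* B) (α : A →+* A') (β : B →+* B') (φ' : A' →+* B')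
    (hcomm : φ'.comp α = β.comp φ) (r : A)
    (hA : @IsLocalization.Away A _ r A' _ α.toAlgebra)
    (hB : @IsLocalization.Away B _ (φ r) B' _ β.toAlgebra)
    (h : HasBasis2 φ) (b : B) :
    trHom φ' (β b) = α (trHom φ b) := by
  letI := φ.toAlgebra
  letI := α.toAlgebra
  letI := β.toAlgebra
  letI := φ'.toAlgebra
  letI := (β.comp φ).toAlgebra
  haveI : IsScalarTower A A' B' := IsScalarTower.of_algebraMap_eq fun x => by
    show (β.comp φ) x = φ' (α x)
    rw [← hcomm]; rfl
  haveI : IsScalarTower A B B' := IsScalarTower.of_algebraMap_eq fun x => rfl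
  haveI : IsLocalization (Submonoid.powers r) A' := hA
  haveI : IsLocalization (Algebra.algebraMapSubmonoid B (Submonoid.powers r)) B' := by
    rw [Algebra.algebraMapSubmonoid, Submonoid.map_powers]
    exact hB
  haveI : Module.Free A B := Module.Free.of_basis h.some
  haveI : Module.Finite A B := Module.Finite.of_basis h.some
  exact Algebra.trace_localization A (Submonoid.powers r) (Rₘ := A') (Sₘ := B') b

theorem tauHom_localization (φ : A →+* B) (α : A →+* A') (β : B →+* B') (φ' : A' →+* B')
    (hcomm : φ'.comp α = β.comp φ) (r : A)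
    (hA : @IsLocalization.Away A _ r A' _ α.toAlgebra)
    (hB : @IsLocalization.Away B _ (φ r) B' _ β.toAlgebra)
    (h : HasBasis2 φ) (h' : HasBasis2 φ') (b : B) :
    β (tauHom φ h b) = tauHom φ' h' (β b) := by
  rw [tauHom_apply, tauHom_apply, trHom_localization φ α β φ' hcomm r hA hB h, map_sub]
  congr 1
  exact (congrArg (fun k => k (trHom φ b)) hcomm).symm

theorem HasBasis2.localization (φ : A →+* B) (α : A →+* A') (β : B →+* B') (φ' : A' →+* B')
    (hcomm : φ'.comp α = β.comp φ) (r : A)
    (hA : @IsLocalization.Away A _ r A' _ α.toAlgebra)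
    (hB : @IsLocalization.Away B _ (φ r) B' _ β.toAlgebra)
    (h : HasBasis2 φ) : HasBasis2 φ' := by
  letI := φ.toAlgebra
  letI := α.toAlgebra
  letI := β.toAlgebra
  letI := φ'.toAlgebra
  letI := (β.comp φ).toAlgebra
  haveI : IsScalarTower A A' B' := IsScalarTower.of_algebraMap_eq fun x => by
    show (β.comp φ) x = φ' (α x)
    rw [← hcomm]; rfl
  haveI : IsScalarTower A B B' := IsScalarTower.of_algebraMap_eq fun x => rfl
  haveI : IsLocalization (Submonoid.powers r) A' := hA
  haveI : IsLocalization (Algebra.algebraMapSubmonoid B (Submonoid.powers r)) B' := by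
    rw [Algebra.algebraMapSubmonoid, Submonoid.map_powers]
    exact hB
  exact ⟨h.some.localizationLocalization A' (Submonoid.powers r) B'⟩

theorem exists_hasBasis2 (φ : A →+* B) (hfin : φ.Finite) (hflat : φ.Flat)
    (hfp : φ.FinitePresentation) (p : PrimeSpectrum A) (hrk : φ.finrank p = 2) :
    ∃ r : A, r ∉ p.asIdeal ∧ ∀ {A' B' : Type u} [CommRing A'] [CommRing B'] (α : A →+* A')
      (β : B →+* B') (φ' : A' →+* B'), φ'.comp α = β.comp φ →
      @IsLocalization.Away A _ r A' _ α.toAlgebra →
      @IsLocalization.Away B _ (φ r) B' _ β.toAlgebra → HasBasis2 φ' := by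
  letI := φ.toAlgebra
  haveI : Module.Finite A B := hfin
  haveI : Module.Flat A B := hflat
  haveI : Algebra.FinitePresentation A B := hfp
  haveI : Module.FinitePresentation A B := Module.FinitePresentation.of_finite_of_finitePresentation A B
  haveI : Module.Free (Localization.AtPrime p.asIdeal)
      (LocalizedModule p.asIdeal.primeCompl B) := Module.free_of_flat_of_isLocalRing
  have hrk' : Module.finrank (Localization.AtPrime p.asIdeal)
      (LocalizedModule p.asIdeal.primeCompl B) = 2 := hrk
  obtain ⟨r, hr, b', -⟩ := Module.FinitePresentation.exists_basis_localizedModule_powers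
    p.asIdeal.primeCompl (LocalizedModule.mkLinearMap p.asIdeal.primeCompl B)
    (Localization.AtPrime p.asIdeal) (Module.finBasisOfFinrankEq _ _ hrk')
  refine ⟨r, hr, ?_⟩
  intro A' B' _ _ α β φ' hcomm hA hB
  letI := α.toAlgebra
  letI := β.toAlgebra
  letI := φ'.toAlgebra
  letI := (β.comp φ).toAlgebra
  haveI : IsScalarTower A A' B' := IsScalarTower.of_algebraMap_eq fun x => by
    show (β.comp φ) x = φ' (α x)
    rw [← hcomm]; rfl
  haveI : IsScalarTower A B B' := IsScalarTower.of_algebraMap_eq fun x => rfl
  haveI : IsLocalization (Submonoid.powers r) A' := hA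
  haveI : IsLocalization (Algebra.algebraMapSubmonoid B (Submonoid.powers r)) B' := by
    rw [Algebra.algebraMapSubmonoid, Submonoid.map_powers]
    exact hB
  haveI : IsLocalizedModule (Submonoid.powers r) (IsScalarTower.toAlgHom A B B').toLinearMap :=
    (isLocalizedModule_iff_isLocalization).mpr inferInstance
  let e₀ : LocalizedModule (Submonoid.powers r) B ≃ₗ[A] B' :=
    IsLocalizedModule.iso (Submonoid.powers r) (IsScalarTower.toAlgHom A B B').toLinearMap
  let ψ : Localization (Submonoid.powers r) ≃ₐ[A] A' := Localization.algEquiv (Submonoid.powers r) A'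
  letI : Module A' (LocalizedModule (Submonoid.powers r) B) :=
    Module.compHom _ (ψ.symm : A' →+* Localization (Submonoid.powers r))
  have hsm : ∀ (c : A') (x : LocalizedModule (Submonoid.powers r) B), c • x = ψ.symm c • x :=
    fun c x => rfl
  haveI : IsScalarTower A A' (LocalizedModule (Submonoid.powers r) B) :=
    ⟨fun a a' m => by rw [hsm, hsm, map_smul, smul_assoc]⟩
  let e₁ : LocalizedModule (Submonoid.powers r) B ≃ₗ[A'] B' :=
    e₀.extendScalarsOfIsLocalization (Submonoid.powers r) A'
  let b'' : Module.Basis (Fin 2) A' (LocalizedModule (Submonoid.powers r) B) :=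
    b'.mapCoeffs ψ.toRingEquiv (fun c x => by
      rw [hsm]
      show ψ.symm (ψ c) • x = c • x
      rw [ψ.symm_apply_apply])
  exact ⟨b''.map e₁⟩

end Hom

end Groth.Agent.Lib.Helper79.DblCovAlg
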