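import Mathlib

/-!
# Gluing morphisms along a locally directed family of opens
-/

set_option autoImplicit false
set_option linter.style.haveILetI false
open CategoryTheory CategoryTheory.Limits AlgebraicGeometry TopologicalSpace
universe u

namespace Groth.Agent.Lib.Helper79.OpensGlue

variable {X : Scheme.{u}} {ι : Type u} (V : ι → X.Opens)

/-- the index type, preordered by inclusion of the opens. -/
structure Idx (V : ι → X.Opens) : Type u where
  /-- the index -/
  i : ι

instance : Preorder (Idx V) := Preorder.lift (fun k => V k.i)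

theorem Idx.le_iff (k l : Idx V) : k ≤ l ↔ V k.i ≤ V l.i := Iff.rfl

variable (hcov : ∀ x : X, ∃ i, x ∈ V i)

include hcov in
theorem isOpenCover : IsOpenCover (fun k : Idx V => V k.i) := by
  apply IsOpenCover.mk
  rw [eq_top_iff]
  intro x _
  obtain ⟨i, hi⟩ := hcov x
  exact Opens.mem_iSup.2 ⟨⟨i⟩, hi⟩

/-- the cover of `X` by the given opens. -/
noncomputable def cover : X.OpenCover :=
  X.openCoverOfIsOpenCover (fun k : Idx V => V k.i) (isOpenCover V hcov)

instance : Preorder (cover V hcov).I₀ := inferInstanceAs (Preorder (Idx V))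

variable (hdir : ∀ (i j : ι) (x : X), x ∈ V i → x ∈ V j → ∃ l, x ∈ V l ∧ V l ≤ V i ⊓ V j)

/-- the cover is locally directed. -/
@[reducible] noncomputable def locallyDirected : Scheme.Cover.LocallyDirected (cover V hcov) where
  trans {i j} hij := X.homOfLE (show V (i : Idx V).i ≤ V (j : Idx V).i from leOfHom hij)
  trans_id i := X.homOfLE_rfl _
  trans_comp hij hjk := (X.homOfLE_homOfLE _ _).symm
  w hij := X.homOfLE_ι _
  directed {i j} x := by
    let Vi : Idx V := i
    let Vj : Idx V := j
    have hfi : (cover V hcov).f i = (V Vi.i).ι := rfl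
    have hfj : (cover V hcov).f j = (V Vj.i).ι := rfl
    have hxi : (pullback.fst ((cover V hcov).f i) ((cover V hcov).f j) ≫
        (cover V hcov).f i).base x ∈ V Vi.i :=
      ((pullback.fst ((cover V hcov).f i) ((cover V hcov).f j)).base x).2
    have hxj : (pullback.fst ((cover V hcov).f i) ((cover V hcov).f j) ≫
        (cover V hcov).f i).base x ∈ V Vj.i := by
      rw [pullback.condition]
      exact ((pullback.snd ((cover V hcov).f i) ((cover V hcov).f j)).base x).2
    obtain ⟨l, hxl, hle⟩ := hdir Vi.i Vj.i _ hxi hxj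
    refine ⟨(⟨l⟩ : Idx V), homOfLE (show (⟨l⟩ : Idx V) ≤ Vi from hle.trans inf_le_left),
      homOfLE (show (⟨l⟩ : Idx V) ≤ Vj from hle.trans inf_le_right),
      (⟨_, hxl⟩ : (V l).toScheme), ?_⟩
    apply (pullback.fst ((cover V hcov).f i) ((cover V hcov).f j) ≫
      (cover V hcov).f i).isOpenEmbedding.injective
    have e1 : ∀ (a : (V l).toScheme ⟶ (cover V hcov).X i)
        (b : (V l).toScheme ⟶ (cover V hcov).X j)
        (c : a ≫ (cover V hcov).f i = b ≫ (cover V hcov).f j)
        (ha : a ≫ (cover V hcov).f i = (V l).ι),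
        pullback.lift a b c ≫ pullback.fst ((cover V hcov).f i) ((cover V hcov).f j) ≫
          (cover V hcov).f i = (V l).ι := by
      intro a b c ha
      rw [pullback.lift_fst_assoc, ha]
    exact congrArg (fun k => k.base ⟨_, hxl⟩) (e1 _ _ _ (X.homOfLE_ι (hle.trans inf_le_left)))
  property_trans hij := by
    show IsOpenImmersion (X.homOfLE _)
    infer_instance

include hcov hdir in
/-- gluing morphisms defined on a locally directed family of opens. -/
theorem exists_glue {Z : Scheme.{u}} (g : ∀ i : ι, (V i).toScheme ⟶ Z)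
    (hg : ∀ (i j : ι) (hle : V i ≤ V j), X.homOfLE hle ≫ g j = g i) :
    ∃ γ : X ⟶ Z, ∀ i, (V i).ι ≫ γ = g i := by
  letI := locallyDirected V hcov hdir
  refine ⟨(cover V hcov).glueMorphismsOfLocallyDirected (fun k => g (k : Idx V).i)
    (fun {k l} hkl => hg (k : Idx V).i (l : Idx V).i (leOfHom hkl)), fun i => ?_⟩
  exact (cover V hcov).map_glueMorphismsOfLocallyDirected _ _ (⟨i⟩ : Idx V)

include hcov in
theorem hom_ext {Z : Scheme.{u}} (a b : X ⟶ Z) (h : ∀ i, (V i).ι ≫ a = (V i).ι ≫ b) : a = b := by
  apply (cover V hcov).hom_ext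
  intro k
  exact h (k : Idx V).i

end Groth.Agent.Lib.Helper79.OpensGlue
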