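import Groth.Agent.Lib.Helper79.DblCovLoc
import Groth.Agent.Lib.Helper79.OpensGlue
import Mathlib

/-!
# Double covers: gluing the canonical involution
-/

set_option autoImplicit false
set_option linter.style.haveILetI false
open CategoryTheory CategoryTheory.Limits AlgebraicGeometry TopologicalSpace
universe u

namespace Groth.Agent.Lib.Helper79.DblCovGlue

open Groth.Agent.Lib.Helper79.DblCovAlg Groth.Agent.Lib.Helper79.DblCovLoc

variable {X Y : Scheme.{u}} (f : X ⟶ Y)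

theorem tr_res_of_eq_basicOpen [IsAffineHom f] {U : Y.Opens} (hU : Good f U) (r : Γ(Y, U))
    (D : Y.Opens) (hD : D = Y.basicOpen r) (hle : D ≤ U) (b : Γ(X, f ⁻¹ᵁ U)) :
    trHom (f.app D).hom ((X.presheaf.map (homOfLE (f.preimage_mono hle)).op).hom b) =
      (Y.presheaf.map (homOfLE hle).op).hom (trHom (f.app U).hom b) := by
  subst hD
  exact tr_res_basicOpen f hU r b

/-- the trace commutes with restriction between good opens. -/
theorem tr_res [IsAffineHom f] {U U' : Y.Opens} (hU : Good f U) (hU' : Good f U') (hle : U' ≤ U)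
    (b : Γ(X, f ⁻¹ᵁ U)) :
    trHom (f.app U').hom ((X.presheaf.map (homOfLE (f.preimage_mono hle)).op).hom b) =
      (Y.presheaf.map (homOfLE hle).op).hom (trHom (f.app U).hom b) := by
  refine Y.IsSheaf.section_ext (U := Opposite.op U') fun y hy => ?_
  obtain ⟨r, r', hrr', hyr⟩ := exists_basicOpen_le_affine_inter hU.1 hU'.1 y ⟨hle hy, hy⟩
  have hle' : Y.basicOpen r' ≤ U' := Y.basicOpen_le r'
  refine ⟨Y.basicOpen r', hle', hrr' ▸ hyr, ?_⟩
  have e1 := tr_res_of_eq_basicOpen f hU' r' (Y.basicOpen r') rfl hle'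
    ((X.presheaf.map (homOfLE (f.preimage_mono hle)).op).hom b)
  have e2 := tr_res_of_eq_basicOpen f hU r (Y.basicOpen r') hrr'.symm (hle'.trans hle) b
  have e3 : (X.presheaf.map (homOfLE (f.preimage_mono hle')).op).hom
      ((X.presheaf.map (homOfLE (f.preimage_mono hle)).op).hom b) =
      (X.presheaf.map (homOfLE (f.preimage_mono (hle'.trans hle))).op).hom b := by
    rw [← RingHom.comp_apply, ← CommRingCat.hom_comp, ← Functor.map_comp]
    rfl
  have e4 : (Y.presheaf.map (homOfLE hle').op).hom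
      ((Y.presheaf.map (homOfLE hle).op).hom (trHom (f.app U).hom b)) =
      (Y.presheaf.map (homOfLE (hle'.trans hle)).op).hom (trHom (f.app U).hom b) := by
    rw [← RingHom.comp_apply, ← CommRingCat.hom_comp, ← Functor.map_comp]
    rfl
  rw [e3] at e1
  exact e1.symm.trans (e2.trans e4.symm)

/-- the canonical involution commutes with restriction between good opens. -/
theorem tau_res [IsAffineHom f] {U U' : Y.Opens} (hU : Good f U) (hU' : Good f U') (hle : U' ≤ U)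
    (b : Γ(X, f ⁻¹ᵁ U)) :
    (X.presheaf.map (homOfLE (f.preimage_mono hle)).op).hom (tauHom (f.app U).hom hU.2 b) =
      tauHom (f.app U').hom hU'.2 ((X.presheaf.map (homOfLE (f.preimage_mono hle)).op).hom b) := by
  rw [tauHom_apply, tauHom_apply, tr_res f hU hU' hle, map_sub]
  congr 1
  have h := f.naturality (homOfLE hle).op
  exact (congrArg (fun k => k.hom (trHom (f.app U).hom b)) h).symm

/-- the local involution, as an endomorphism of `f⁻¹U`. -/
noncomputable def sigmaU [IsAffineHom f] {U : Y.Opens} (hU : Good f U) :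
    (f ⁻¹ᵁ U).toScheme ⟶ (f ⁻¹ᵁ U).toScheme :=
  (hU.preimage f).isoSpec.hom ≫ Spec.map (CommRingCat.ofHom (tauHom (f.app U).hom hU.2)) ≫
    (hU.preimage f).isoSpec.inv

theorem tau_comp_tau [IsAffineHom f] {U : Y.Opens} (hU : Good f U) :
    CommRingCat.ofHom (tauHom (f.app U).hom hU.2) ≫ CommRingCat.ofHom (tauHom (f.app U).hom hU.2) =
      𝟙 _ := by
  apply CommRingCat.hom_ext
  apply RingHom.ext
  intro b
  exact tauHom_tauHom _ hU.2 b

theorem app_comp_tau [IsAffineHom f] {U : Y.Opens} (hU : Good f U) :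
    f.app U ≫ CommRingCat.ofHom (tauHom (f.app U).hom hU.2) = f.app U := by
  apply CommRingCat.hom_ext
  apply RingHom.ext
  intro b
  exact tauHom_comp _ hU.2 b

theorem sigmaU_sigmaU [IsAffineHom f] {U : Y.Opens} (hU : Good f U) :
    sigmaU f hU ≫ sigmaU f hU = 𝟙 _ := by
  have h : Spec.map (CommRingCat.ofHom (tauHom (f.app U).hom hU.2)) ≫
      Spec.map (CommRingCat.ofHom (tauHom (f.app U).hom hU.2)) = 𝟙 _ := by
    rw [← Spec.map_comp, tau_comp_tau f hU, Spec.map_id]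
  simp only [sigmaU, Category.assoc, Iso.inv_hom_id_assoc]
  rw [reassoc_of% h]
  exact Iso.hom_inv_id _

theorem sigmaU_ι_f [IsAffineHom f] {U : Y.Opens} (hU : Good f U) :
    sigmaU f hU ≫ (f ⁻¹ᵁ U).ι ≫ f = (f ⁻¹ᵁ U).ι ≫ f := by
  have h1 : (hU.preimage f).isoSpec.inv ≫ (f ⁻¹ᵁ U).ι ≫ f =
      Spec.map (f.app U) ≫ hU.1.fromSpec := by
    have h0 := IsAffineOpen.SpecMap_appLE_fromSpec f hU.1 (hU.preimage f) le_rfl
    rw [Scheme.Hom.appLE_eq_app] at h0
    rw [← Category.assoc, IsAffineOpen.isoSpec_inv_ι]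
    exact h0.symm
  simp only [sigmaU, Category.assoc]
  rw [h1, ← Spec.map_comp_assoc, app_comp_tau f hU, ← h1, Iso.hom_inv_id_assoc]

theorem sigmaU_compat [IsAffineHom f] {U U' : Y.Opens} (hU : Good f U) (hU' : Good f U')
    (hle : U' ≤ U) :
    X.homOfLE (f.preimage_mono hle) ≫ sigmaU f hU ≫ (f ⁻¹ᵁ U).ι =
      sigmaU f hU' ≫ (f ⁻¹ᵁ U').ι := by
  have h1 : X.homOfLE (f.preimage_mono hle) ≫ (hU.preimage f).isoSpec.hom =
      (hU'.preimage f).isoSpec.hom ≫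
        Spec.map (X.presheaf.map (homOfLE (f.preimage_mono hle)).op) := by
    rw [IsAffineOpen.isoSpec_hom, IsAffineOpen.isoSpec_hom,
      Scheme.Opens.toSpecΓ_SpecMap_presheaf_map]
  have h2 : CommRingCat.ofHom (tauHom (f.app U).hom hU.2) ≫
      X.presheaf.map (homOfLE (f.preimage_mono hle)).op =
      X.presheaf.map (homOfLE (f.preimage_mono hle)).op ≫
        CommRingCat.ofHom (tauHom (f.app U').hom hU'.2) := by
    apply CommRingCat.hom_ext
    apply RingHom.ext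
    intro b
    exact tau_res f hU hU' hle b
  have h3 : Spec.map (X.presheaf.map (homOfLE (f.preimage_mono hle)).op) ≫
      (hU.preimage f).fromSpec = (hU'.preimage f).fromSpec :=
    IsAffineOpen.map_fromSpec (hU.preimage f) (hU'.preimage f) (homOfLE (f.preimage_mono hle)).op
  simp only [sigmaU, Category.assoc, IsAffineOpen.isoSpec_inv_ι]
  rw [← Category.assoc, h1, Category.assoc, ← Spec.map_comp_assoc, h2, Spec.map_comp_assoc, h3]

/-- an endomorphism restricting to the local involution acts on sections by `τ`. -/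
theorem appLE_eq_tau [IsAffineHom f] {U : Y.Opens} (hU : Good f U) (σ : X ⟶ X)
    (hσ : (f ⁻¹ᵁ U).ι ≫ σ = sigmaU f hU ≫ (f ⁻¹ᵁ U).ι) (e : f ⁻¹ᵁ U ≤ σ ⁻¹ᵁ (f ⁻¹ᵁ U)) :
    σ.appLE (f ⁻¹ᵁ U) (f ⁻¹ᵁ U) e = CommRingCat.ofHom (tauHom (f.app U).hom hU.2) := by
  have h1 : σ.resLE (f ⁻¹ᵁ U) (f ⁻¹ᵁ U) e = sigmaU f hU := by
    rw [← cancel_mono (f ⁻¹ᵁ U).ι, Scheme.Hom.resLE_comp_ι, hσ]
  have h2 := Scheme.Opens.toSpecΓ_SpecMap_appLE σ (f ⁻¹ᵁ U) (f ⁻¹ᵁ U) e
  have h3 : sigmaU f hU ≫ (f ⁻¹ᵁ U).toSpecΓ =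
      (f ⁻¹ᵁ U).toSpecΓ ≫ Spec.map (CommRingCat.ofHom (tauHom (f.app U).hom hU.2)) := by
    rw [sigmaU, Category.assoc, Category.assoc, IsAffineOpen.isoSpec_inv_toSpecΓ,
      IsAffineOpen.isoSpec_hom]
    exact congrArg (fun k => (f ⁻¹ᵁ U).toSpecΓ ≫ k) (Category.comp_id _)
  rw [h1, h3] at h2
  haveI : IsIso (f ⁻¹ᵁ U).toSpecΓ := by
    rw [← (hU.preimage f).isoSpec_hom]; infer_instance
  exact Spec.map_injective ((cancel_epi _).mp h2)

variable [IsFinite f] [Flat f] [LocallyOfFinitePresentation f] (hrk : ∀ y : Y, f.finrank y = 2)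

omit [LocallyOfFinitePresentation f] in
include hrk in
theorem surjective : Function.Surjective f := by
  have h : Surjective f := (Scheme.Hom.one_le_finrank_iff_surjective f).mp (fun y => by
    rw [hrk y]; exact one_le_two)
  exact h.surj

include hrk in
/-- the glued involution. -/
theorem exists_sigma :
    ∃ σ : X ⟶ X, ∀ (U : Y.Opens) (hU : Good f U), (f ⁻¹ᵁ U).ι ≫ σ = sigmaU f hU ≫ (f ⁻¹ᵁ U).ι := by
  have hcov : ∀ x : X, ∃ k : {U : Y.Opens // Good f U}, x ∈ f ⁻¹ᵁ k.1 := by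
    intro x
    obtain ⟨U, hU, hxU, -⟩ := exists_good f hrk (f x) ⊤ trivial
    exact ⟨⟨U, hU⟩, hxU⟩
  have hdir : ∀ (i j : {U : Y.Opens // Good f U}) (x : X), x ∈ f ⁻¹ᵁ i.1 → x ∈ f ⁻¹ᵁ j.1 →
      ∃ l : {U : Y.Opens // Good f U}, x ∈ f ⁻¹ᵁ l.1 ∧ f ⁻¹ᵁ l.1 ≤ f ⁻¹ᵁ i.1 ⊓ f ⁻¹ᵁ j.1 := by
    intro i j x hxi hxj
    obtain ⟨U, hU, hxU, hle⟩ := exists_good f hrk (f x) (i.1 ⊓ j.1) ⟨hxi, hxj⟩
    exact ⟨⟨U, hU⟩, hxU, le_inf (f.preimage_mono (hle.trans inf_le_left))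
      (f.preimage_mono (hle.trans inf_le_right))⟩
  obtain ⟨σ, hσ⟩ := Groth.Agent.Lib.Helper79.OpensGlue.exists_glue
    (fun k : {U : Y.Opens // Good f U} => f ⁻¹ᵁ k.1) hcov hdir
    (fun k => sigmaU f k.2 ≫ (f ⁻¹ᵁ k.1).ι) (by
      intro i j hle
      have hle' : i.1 ≤ j.1 := by
        intro y hy
        obtain ⟨x, rfl⟩ := surjective f hrk y
        exact hle hy
      exact sigmaU_compat f j.2 i.2 hle')
  exact ⟨σ, fun U hU => hσ ⟨U, hU⟩⟩

include hrk in
theorem hom_ext_good {Z : Scheme.{u}} (a b : X ⟶ Z)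
    (h : ∀ (U : Y.Opens) (_ : Good f U), (f ⁻¹ᵁ U).ι ≫ a = (f ⁻¹ᵁ U).ι ≫ b) : a = b := by
  have hcov : ∀ x : X, ∃ k : {U : Y.Opens // Good f U}, x ∈ f ⁻¹ᵁ k.1 := by
    intro x
    obtain ⟨U, hU, hxU, -⟩ := exists_good f hrk (f x) ⊤ trivial
    exact ⟨⟨U, hU⟩, hxU⟩
  exact Groth.Agent.Lib.Helper79.OpensGlue.hom_ext
    (fun k : {U : Y.Opens // Good f U} => f ⁻¹ᵁ k.1) hcov a b (fun k => h k.1 k.2)

end Groth.Agent.Lib.Helper79.DblCovGlue
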