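import Groth.Agent.Lib.Helper79.DblCovAlg
import Mathlib

/-!
# Double covers: the opens of the base over which the cover is free of rank two
-/

set_option autoImplicit false
set_option linter.style.haveILetI false
open CategoryTheory CategoryTheory.Limits AlgebraicGeometry TopologicalSpace
universe u

namespace Groth.Agent.Lib.Helper79.DblCovLoc

open Groth.Agent.Lib.Helper79.DblCovAlg

variable {X Y : Scheme.{u}} (f : X ⟶ Y)

/-- the affine opens of `Y` over which `f_* O_X` has a basis with two elements. -/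
def Good (U : Y.Opens) : Prop := IsAffineOpen U ∧ HasBasis2 (f.app U).hom

theorem app_props [IsFinite f] [Flat f] [LocallyOfFinitePresentation f] {U : Y.Opens}
    (hU : IsAffineOpen U) :
    (f.app U).hom.Finite ∧ (f.app U).hom.Flat ∧ (f.app U).hom.FinitePresentation := by
  refine ⟨f.finite_app U hU, ?_, ?_⟩
  · rw [Scheme.Hom.app_eq_appLE]
    exact f.flat_appLE hU (hU.preimage f) le_rfl
  · rw [Scheme.Hom.app_eq_appLE]
    exact f.finitePresentation_appLE hU (hU.preimage f) le_rfl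

/-- the rank of `f` at a point of an affine open, computed on sections. -/
theorem finrank_app [IsFinite f] [Flat f] [LocallyOfFinitePresentation f] {U : Y.Opens}
    (hU : IsAffineOpen U) (y : U) :
    (f.app U).hom.finrank (hU.primeIdealOf y) = f.finrank y.1 := by
  obtain ⟨hfin, hflat, -⟩ := app_props f hU
  have hV : IsAffineOpen (f ⁻¹ᵁ U) := hU.preimage f
  have h1 : (f ∣_ U).finrank y = f.finrank (U.ι y) :=
    Scheme.Hom.finrank_of_isPullback _ _ _ _ (isPullback_morphismRestrict f U).flip y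
  haveI : IsIso U.toSpecΓ := by rw [← hU.isoSpec_hom]; infer_instance
  haveI : IsIso (f ⁻¹ᵁ U).toSpecΓ := by rw [← hV.isoSpec_hom]; infer_instance
  haveI : IsFinite (Spec.map (f.app U)) := (IsFinite.SpecMap_iff _).mpr hfin
  haveI : Flat (Spec.map (f.app U)) := Flat.SpecMap_iff.mpr hflat
  have hpb : IsPullback (f ⁻¹ᵁ U).toSpecΓ (f ∣_ U) (Spec.map (f.app U)) U.toSpecΓ :=
    IsPullback.of_horiz_isIso ⟨Scheme.Opens.toSpecΓ_naturality f U⟩
  have h2 : (f ∣_ U).finrank y = (Spec.map (f.app U)).finrank (U.toSpecΓ y) :=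
    Scheme.Hom.finrank_of_isPullback _ _ _ _ hpb y
  rw [Scheme.Hom.finrank_SpecMap_eq_finrank hfin hflat] at h2
  exact h2.symm.trans h1

theorem Good.preimage [IsAffineHom f] {U : Y.Opens} (hU : Good f U) : IsAffineOpen (f ⁻¹ᵁ U) :=
  hU.1.preimage f

/-- restriction maps along `D(r) ⊆ U`, and the localization data. -/
theorem loc_data [IsAffineHom f] {U : Y.Opens} (hU : IsAffineOpen U) (r : Γ(Y, U)) :
    (f.app (Y.basicOpen r)).hom.comp (Y.presheaf.map (homOfLE (Y.basicOpen_le r)).op).hom =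
      (X.presheaf.map (homOfLE (f.preimage_mono (Y.basicOpen_le r))).op).hom.comp (f.app U).hom ∧
    @IsLocalization.Away _ _ r Γ(Y, Y.basicOpen r) _
      (Y.presheaf.map (homOfLE (Y.basicOpen_le r)).op).hom.toAlgebra ∧
    @IsLocalization.Away _ _ ((f.app U).hom r) Γ(X, f ⁻¹ᵁ Y.basicOpen r) _
      (X.presheaf.map (homOfLE (f.preimage_mono (Y.basicOpen_le r))).op).hom.toAlgebra := by
  refine ⟨?_, ?_, ?_⟩
  · have h := f.naturality (homOfLE (Y.basicOpen_le r)).op
    exact congrArg (fun k => k.hom) h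
  · exact hU.isLocalization_of_eq_basicOpen r _ rfl
  · exact (hU.preimage f).isLocalization_of_eq_basicOpen ((f.app U).hom r) _
      (Scheme.preimage_basicOpen f r)

theorem good_basicOpen [IsAffineHom f] {U : Y.Opens} (hU : Good f U) (r : Γ(Y, U)) :
    Good f (Y.basicOpen r) := by
  obtain ⟨h1, h2, h3⟩ := loc_data f hU.1 r
  exact ⟨hU.1.basicOpen r, HasBasis2.localization _ _ _ _ h1 r h2 h3 hU.2⟩

/-- the canonical involution commutes with restriction to a basic open. -/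
theorem tau_res_basicOpen [IsAffineHom f] {U : Y.Opens} (hU : Good f U) (r : Γ(Y, U))
    (hD : Good f (Y.basicOpen r)) (b : Γ(X, f ⁻¹ᵁ U)) :
    (X.presheaf.map (homOfLE (f.preimage_mono (Y.basicOpen_le r))).op).hom
        (tauHom (f.app U).hom hU.2 b) =
      tauHom (f.app (Y.basicOpen r)).hom hD.2
        ((X.presheaf.map (homOfLE (f.preimage_mono (Y.basicOpen_le r))).op).hom b) := by
  obtain ⟨h1, h2, h3⟩ := loc_data f hU.1 r
  exact tauHom_localization _ _ _ _ h1 r h2 h3 hU.2 hD.2 b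

theorem tr_res_basicOpen [IsAffineHom f] {U : Y.Opens} (hU : Good f U) (r : Γ(Y, U))
    (b : Γ(X, f ⁻¹ᵁ U)) :
    trHom (f.app (Y.basicOpen r)).hom
        ((X.presheaf.map (homOfLE (f.preimage_mono (Y.basicOpen_le r))).op).hom b) =
      (Y.presheaf.map (homOfLE (Y.basicOpen_le r)).op).hom (trHom (f.app U).hom b) := by
  obtain ⟨h1, h2, h3⟩ := loc_data f hU.1 r
  exact trHom_localization _ _ _ _ h1 r h2 h3 hU.2 b

/-- good opens form a basis of the topology. -/
theorem exists_good [IsFinite f] [Flat f] [LocallyOfFinitePresentation f]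
    (hrk : ∀ y : Y, f.finrank y = 2) (y : Y) (W : Y.Opens) (hy : y ∈ W) :
    ∃ U : Y.Opens, Good f U ∧ y ∈ U ∧ U ≤ W := by
  obtain ⟨U₀, hU₀, hyU₀, hU₀W⟩ := Opens.isBasis_iff_nbhd.mp Y.isBasis_affineOpens hy
  have hU₀ : IsAffineOpen U₀ := hU₀
  obtain ⟨hfin, hflat, hfp⟩ := app_props f hU₀
  have hrk' : (f.app U₀).hom.finrank (hU₀.primeIdealOf ⟨y, hyU₀⟩) = 2 :=
    (finrank_app f hU₀ ⟨y, hyU₀⟩).trans (hrk y)
  obtain ⟨r, hr, H⟩ := exists_hasBasis2 (f.app U₀).hom hfin hflat hfp _ hrk'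
  obtain ⟨h1, h2, h3⟩ := loc_data f hU₀ r
  refine ⟨Y.basicOpen r, ⟨hU₀.basicOpen r, H _ _ _ h1 h2 h3⟩, ?_, (Y.basicOpen_le r).trans hU₀W⟩
  have hp : hU₀.primeIdealOf ⟨y, hyU₀⟩ ∈ hU₀.fromSpec ⁻¹ᵁ Y.basicOpen r := by
    rw [hU₀.fromSpec_preimage_basicOpen]
    exact hr
  have h4 : hU₀.fromSpec (hU₀.primeIdealOf ⟨y, hyU₀⟩) ∈ Y.basicOpen r := hp
  rw [hU₀.fromSpec_primeIdealOf] at h4
  exact h4

end Groth.Agent.Lib.Helper79.DblCovLoc
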