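import Mathlib

/-!
# Rigidity for unramified separated morphisms (helper79)

Two morphisms `a b : X ⟶ X'` over `Y` from a connected scheme to an unramified separated `Y`-scheme
of finite type which agree on one field-valued point are equal.
-/

set_option autoImplicit false

namespace Groth.Agent.Lib.Helper79.EtRigid

open CategoryTheory CategoryTheory.Limits AlgebraicGeometry

universe u

theorem eq_of_agree_at_point {X X' Y : Scheme.{u}} (a b : X ⟶ X') (q : X' ⟶ Y)
    [FormallyUnramified q] [LocallyOfFiniteType q] [IsSeparated q] (hab : a ≫ q = b ≫ q)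
    [PreconnectedSpace X] {K : Type u} [Field K] (ξ : Spec (CommRingCat.of K) ⟶ X)
    (hξ : ξ ≫ a = ξ ≫ b) : a = b := by
  let ab : X ⟶ pullback q q := pullback.lift a b hab
  let e : pullback ab (pullback.diagonal q) ⟶ X := pullback.fst ab (pullback.diagonal q)
  have hopen : IsOpenImmersion e := inferInstance
  have hclosed : IsClosedImmersion e := inferInstance
  -- `ξ` factors through `e`
  have hfac : ξ ≫ ab = (ξ ≫ a) ≫ pullback.diagonal q := by
    apply pullback.hom_ext
    · rw [Category.assoc, Category.assoc, pullback.lift_fst, pullback.diagonal_fst,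
        Category.comp_id]
    · rw [Category.assoc, Category.assoc, pullback.lift_snd, pullback.diagonal_snd,
        Category.comp_id, hξ]
  let ζ : Spec (CommRingCat.of K) ⟶ pullback ab (pullback.diagonal q) :=
    pullback.lift ξ (ξ ≫ a) hfac
  have hζ : ζ ≫ e = ξ := pullback.lift_fst _ _ _
  have hne : (Set.range e.base).Nonempty :=
    ⟨e.base (ζ.base (IsLocalRing.closedPoint K)), ⟨_, rfl⟩⟩
  have hclopen : IsClopen (Set.range e.base) :=
    ⟨e.isClosedEmbedding.isClosed_range, e.isOpenEmbedding.isOpen_range⟩
  have huniv : Set.range e.base = Set.univ := hclopen.eq_univ hne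
  have hsurj : Surjective e := ⟨Set.range_eq_univ.mp huniv⟩
  have hiso : IsIso e := (isIso_iff_isOpenImmersion_and_surjective e).mpr ⟨hopen, hsurj⟩
  have h1 : e ≫ a = e ≫ b := by
    have ha : e ≫ a = pullback.snd ab (pullback.diagonal q) := by
      have : e ≫ ab ≫ pullback.fst q q = e ≫ a := by rw [pullback.lift_fst]
      rw [← this, ← Category.assoc, pullback.condition, Category.assoc, pullback.diagonal_fst,
        Category.comp_id]
    have hb : e ≫ b = pullback.snd ab (pullback.diagonal q) := by
      have : e ≫ ab ≫ pullback.snd q q = e ≫ b := by rw [pullback.lift_snd]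
      rw [← this, ← Category.assoc, pullback.condition, Category.assoc, pullback.diagonal_snd,
        Category.comp_id]
    rw [ha, hb]
  exact (cancel_epi e).mp h1

end Groth.Agent.Lib.Helper79.EtRigid
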