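import Mathlib

/-!
# Descending flatness and unramifiedness along a faithfully flat étale map on the source
-/

set_option autoImplicit false
open CategoryTheory CategoryTheory.Limits AlgebraicGeometry
open scoped TensorProduct
universe u

namespace Groth.Agent.Lib.Helper79.EtaleSrcDescent

section ring

variable (A B C : Type*) [CommRing A] [CommRing B] [CommRing C] [Algebra A B] [Algebra B C]
  [Algebra A C] [IsScalarTower A B C]

theorem flat_of_faithfullyFlat_comp [Module.FaithfullyFlat B C] [Module.Flat A C] :
    Module.Flat A B := by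
  rw [Module.Flat.iff_lTensor_preserves_injective_linearMap]
  intro N P _ _ _ _ f hf
  have h1 : Function.Injective (f.baseChange B) := by
    rw [← Module.FaithfullyFlat.lTensor_injective_iff_injective B C]
    let eN := TensorProduct.AlgebraTensorModule.cancelBaseChange A B C C N
    let eP := TensorProduct.AlgebraTensorModule.cancelBaseChange A B C C P
    have hcomm : ∀ z, eP (LinearMap.lTensor C (f.baseChange B) z) = f.lTensor C (eN z) := by
      intro z
      induction z using TensorProduct.induction_on with
      | zero => simp
      | add x y hx hy => simp only [map_add, hx, hy]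
      | tmul c w =>
        induction w using TensorProduct.induction_on with
        | zero => simp
        | add x y hx hy =>
          simp only [TensorProduct.tmul_add, map_add, hx, hy]
        | tmul b n =>
          simp [eN, eP]
    have h2 : Function.Injective (f.lTensor C) :=
      Module.Flat.lTensor_preserves_injective_linearMap f hf
    intro z w hzw
    apply eN.injective
    apply h2
    rw [← hcomm, ← hcomm, hzw]
  exact h1

theorem formallyUnramified_of_comp [Module.FaithfullyFlat B C] [Algebra.FormallyEtale B C]
    [Algebra.FormallyUnramified A C] : Algebra.FormallyUnramified A B := by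
  constructor
  have e := KaehlerDifferential.tensorKaehlerEquivOfFormallyEtale A B C
  have : Subsingleton (C ⊗[B] Ω[B⁄A]) := e.toEquiv.subsingleton
  exact (Module.FaithfullyFlat.subsingleton_tensorProduct_iff_right B C).mp this

end ring

theorem flat_and_unramified_of_comp {A B C : Type u} [CommRing A] [CommRing B] [CommRing C]
    (φ : A →+* B) (ψ : B →+* C) (hψ : ψ.Etale) (hinj : Function.Injective ψ)
    (hint : ψ.IsIntegral) (hc : (ψ.comp φ).Etale) : φ.Flat ∧ φ.FormallyUnramified := by
  letI := φ.toAlgebra
  letI := ψ.toAlgebra
  letI := (ψ.comp φ).toAlgebra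
  haveI : IsScalarTower A B C := IsScalarTower.of_algebraMap_eq fun x => rfl
  haveI hBC : Algebra.Etale B C := hψ
  haveI hAC : Algebra.Etale A C := hc
  haveI : Module.FaithfullyFlat B C :=
    Module.FaithfullyFlat.of_comap_surjective (hint.comap_surjective hinj)
  exact ⟨flat_of_faithfullyFlat_comp A B C, formallyUnramified_of_comp A B C⟩

theorem flat_and_unramified_of_comp_etale {X X' Y : Scheme.{u}} (p : X ⟶ X') (q : X' ⟶ Y)
    [IsAffineHom p] [Etale p] (hinj : ∀ V : X'.Opens, Function.Injective (p.app V).hom)
    (hint : ∀ V : X'.Opens, (p.app V).hom.IsIntegral) [Etale (p ≫ q)] :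
    Flat q ∧ FormallyUnramified q := by
  have key : ∀ (U : Y.affineOpens) (V : X'.affineOpens) (e : V.1 ≤ q ⁻¹ᵁ U.1),
      (q.appLE U V e).hom.Flat ∧ (q.appLE U V e).hom.FormallyUnramified := by
    intro U V e
    have hV' : IsAffineOpen (p ⁻¹ᵁ V.1) := V.2.preimage p
    have h1 : (p.app V.1).hom.Etale := by
      have := Etale.etale_appLE p V.2 hV' le_rfl
      rwa [← Scheme.Hom.app_eq_appLE] at this
    have h2 : ((p ≫ q).appLE U.1 (p ⁻¹ᵁ V.1)
        (by rw [Scheme.Hom.comp_preimage]; exact fun x hx => e hx)).hom.Etale :=
      Etale.etale_appLE (p ≫ q) U.2 hV' _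
    have h3 : q.appLE U V e ≫ p.app V.1 = (p ≫ q).appLE U.1 (p ⁻¹ᵁ V.1)
        (by rw [Scheme.Hom.comp_preimage]; exact fun x hx => e hx) := by
      rw [Scheme.Hom.app_eq_appLE, Scheme.Hom.appLE_comp_appLE]
    refine flat_and_unramified_of_comp (q.appLE U V e).hom (p.app V.1).hom h1 (hinj V.1)
      (hint V.1) ?_
    rw [← CommRingCat.hom_comp, h3]
    exact h2
  exact ⟨(HasRingHomProperty.iff_appLE (P := @Flat)).mpr fun U V e => (key U V e).1,
    (HasRingHomProperty.iff_appLE (P := @FormallyUnramified)).mpr fun U V e => (key U V e).2⟩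

end Groth.Agent.Lib.Helper79.EtaleSrcDescent
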