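import Mathlib

/-!
# An abstract Euler product over a free commutative monoid (helper79)

`ι` a type of "primes" with a norm `ν : ι → ℕ`; effective cycles are `α : ι →₀ ℕ` with norm
`nrm ν α = ∏ ν x ^ α x`.
-/

set_option linter.style.haveILetI false

namespace Groth.Agent.Lib.Helper79.Euler

open Finset

variable {ι : Type*}

section Real

/-- the encoding of a finsupp as a finite set of (point, multiplicity - 1) pairs -/
noncomputable def enc [DecidableEq ι] (α : ι →₀ ℕ) : Finset (ι × ℕ) :=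
  α.support.image (fun x => (x, α x - 1))

theorem enc_injective [DecidableEq ι] : Function.Injective (enc (ι := ι)) := by
  intro α β h
  ext x
  by_cases hx : x ∈ α.support
  · have h1 : (x, α x - 1) ∈ enc β := by rw [← h]; exact mem_image_of_mem _ hx
    obtain ⟨y, hy, hyx⟩ := mem_image.mp h1
    obtain ⟨h5, h2⟩ := Prod.ext_iff.mp hyx
    simp only at h5 h2
    subst h5
    have h3 : α y ≠ 0 := Finsupp.mem_support_iff.mp hx
    have h4 : β y ≠ 0 := Finsupp.mem_support_iff.mp hy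
    omega
  · by_cases hx' : x ∈ β.support
    · have h1 : (x, β x - 1) ∈ enc α := by rw [h]; exact mem_image_of_mem _ hx'
      obtain ⟨y, hy, hyx⟩ := mem_image.mp h1
      obtain ⟨h5, -⟩ := Prod.ext_iff.mp hyx
      simp only at h5
      subst h5
      exact absurd hy hx
    · rw [Finsupp.notMem_support_iff.mp hx, Finsupp.notMem_support_iff.mp hx']

theorem prod_enc [DecidableEq ι] (u : ι → ℝ) (α : ι →₀ ℕ) :
    ∏ j ∈ enc α, u j.1 ^ (j.2 + 1) = α.prod (fun x m => u x ^ m) := by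
  unfold enc
  rw [Finset.prod_image]
  · unfold Finsupp.prod
    refine Finset.prod_congr rfl fun x hx => ?_
    have : α x ≠ 0 := Finsupp.mem_support_iff.mp hx
    congr 1
    show α x - 1 + 1 = α x
    omega
  · intro x _ y _ h
    exact (Prod.ext_iff.mp h).1

/-- summability over all finsupps from summability over the points -/
theorem summable_finsupp_prod (u : ι → ℝ) (θ : ℝ) (hθ : θ < 1) (hu0 : ∀ x, 0 ≤ u x)
    (huθ : ∀ x, u x ≤ θ) (hu : Summable u) :
    Summable (fun α : ι →₀ ℕ => α.prod (fun x m => u x ^ m)) := by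
  classical
  have hθ0 : 0 < 1 - θ := by linarith
  have hv0 : (0 : ι × ℕ → ℝ) ≤ fun j => u j.1 ^ (j.2 + 1) := fun j => pow_nonneg (hu0 j.1) _
  have hgeo : ∀ x, HasSum (fun k : ℕ => u x ^ (k + 1)) (u x * (1 - u x)⁻¹) := by
    intro x
    have h1 := (hasSum_geometric_of_lt_one (hu0 x) ((huθ x).trans_lt hθ)).mul_left (u x)
    have h2 : (fun k : ℕ => u x ^ (k + 1)) = fun i => u x * u x ^ i := by
      funext k
      rw [pow_succ']
    rw [h2]
    exact h1
  have hv : Summable (fun j : ι × ℕ => u j.1 ^ (j.2 + 1)) := by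
    rw [summable_prod_of_nonneg hv0]
    refine ⟨fun x => (hgeo x).summable, ?_⟩
    have h2 : ∀ x, ∑' k : ℕ, u x ^ (k + 1) = u x * (1 - u x)⁻¹ := fun x => (hgeo x).tsum_eq
    simp only [h2]
    refine Summable.of_nonneg_of_le (fun x => ?_) (fun x => ?_) (hu.mul_right (1 - θ)⁻¹)
    · exact mul_nonneg (hu0 x) (inv_nonneg.mpr (by linarith [huθ x]))
    · refine mul_le_mul_of_nonneg_left ?_ (hu0 x)
      exact inv_anti₀ hθ0 (by linarith [huθ x])
  have hP := summable_finsetProd_of_summable_nonneg (fun j => hv0 j) hv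
  exact (hP.comp_injective enc_injective).congr (fun α => prod_enc u α)

end Real

section Cplx

variable (ν : ι → ℕ) (s : ℂ)

/-- norm of a cycle -/
noncomputable def nrm (α : ι →₀ ℕ) : ℕ := α.prod (fun x m => ν x ^ m)

theorem nrm_zero : nrm ν 0 = 1 := Finsupp.prod_zero_index

theorem nrm_add (α β : ι →₀ ℕ) : nrm ν (α + β) = nrm ν α * nrm ν β :=
  Finsupp.prod_add_index' (fun _ => pow_zero _) (fun _ _ _ => pow_add _ _ _)

/-- `n ↦ n ^ (-s)` -/
noncomputable def φ (n : ℕ) : ℂ := (n : ℂ) ^ (-s)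

theorem φ_one : φ s 1 = 1 := by simp [φ]

theorem φ_mul (m n : ℕ) : φ s (m * n) = φ s m * φ s n := by
  unfold φ
  rw [Nat.cast_mul, Complex.natCast_mul_natCast_cpow]

theorem φ_zero (hs : s ≠ 0) : φ s 0 = 0 := by
  unfold φ
  rw [Nat.cast_zero, Complex.zero_cpow (neg_ne_zero.mpr hs)]

theorem φ_pow (n k : ℕ) : φ s (n ^ k) = φ s n ^ k := by
  induction k with
  | zero => simp [φ_one]
  | succ k ih => rw [pow_succ, φ_mul, ih, pow_succ]

theorem φ_finset_prod {κ : Type*} (T : Finset κ) (g : κ → ℕ) :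
    φ s (∏ x ∈ T, g x) = ∏ x ∈ T, φ s (g x) := by
  classical
  induction T using Finset.induction_on with
  | empty => simp [φ_one]
  | insert a T ha ih => rw [Finset.prod_insert ha, Finset.prod_insert ha, φ_mul, ih]

theorem norm_φ (hs : s.re ≠ 0) (n : ℕ) : ‖φ s n‖ = (n : ℝ) ^ (-s.re) := by
  rcases Nat.eq_zero_or_pos n with rfl | hn
  · have hs' : s ≠ 0 := fun h => hs (by rw [h]; rfl)
    rw [φ_zero s hs', norm_zero, Nat.cast_zero, Real.zero_rpow (neg_ne_zero.mpr hs)]
  · unfold φ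
    rw [Complex.norm_natCast_cpow_of_pos hn, Complex.neg_re]

/-- the weight of a cycle -/
noncomputable def W (α : ι →₀ ℕ) : ℂ := φ s (nrm ν α)

theorem W_zero : W ν s 0 = 1 := by rw [W, nrm_zero, φ_one]

theorem W_add (α β : ι →₀ ℕ) : W ν s (α + β) = W ν s α * W ν s β := by
  rw [W, nrm_add, φ_mul]; rfl

theorem W_eq_prod (α : ι →₀ ℕ) : W ν s α = α.prod (fun x m => φ s (ν x) ^ m) := by
  unfold W nrm Finsupp.prod
  rw [φ_finset_prod]
  exact Finset.prod_congr rfl fun x _ => φ_pow s _ _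

theorem norm_W (α : ι →₀ ℕ) : ‖W ν s α‖ = α.prod (fun x m => ‖φ s (ν x)‖ ^ m) := by
  rw [W_eq_prod]
  unfold Finsupp.prod
  rw [norm_prod]
  exact Finset.prod_congr rfl fun x _ => norm_pow _ _

theorem summable_norm_W (hν1 : ∀ x, ν x ≠ 1) (hσ : 0 < s.re)
    (hsum : Summable (fun x => (ν x : ℝ) ^ (-s.re))) : Summable (fun α => ‖W ν s α‖) := by
  have hσ' : s.re ≠ 0 := hσ.ne'
  have h1 : (fun α => ‖W ν s α‖) = fun α : ι →₀ ℕ => α.prod (fun x m => ‖φ s (ν x)‖ ^ m) :=
    funext (norm_W ν s)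
  rw [h1]
  refine summable_finsupp_prod (fun x => ‖φ s (ν x)‖) ((2 : ℝ) ^ (-s.re)) ?_
    (fun x => norm_nonneg _) ?_ ?_
  · exact Real.rpow_lt_one_of_one_lt_of_neg (by norm_num) (by linarith)
  · intro x
    rw [norm_φ s hσ']
    rcases Nat.eq_zero_or_pos (ν x) with h0 | hpos
    · rw [h0, Nat.cast_zero, Real.zero_rpow (neg_ne_zero.mpr hσ')]
      positivity
    · have h2 : 2 ≤ ν x := by have := hν1 x; omega
      exact Real.rpow_le_rpow_of_nonpos (by norm_num) (by exact_mod_cast h2)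
        (by linarith)
  · exact hsum.congr (fun x => (norm_φ s hσ' (ν x)).symm)

/-- the coefficient sequence: the number of cycles of norm `n` -/
noncomputable def cnt (n : ℕ) : ℕ := Nat.card (nrm ν ⁻¹' {n})

theorem term_eq (hs : s ≠ 0) (n : ℕ) :
    LSeries.term (fun n => (cnt ν n : ℂ)) s n = ∑' α : nrm ν ⁻¹' {n}, W ν s α := by
  have h1 : ∀ α : nrm ν ⁻¹' {n}, W ν s α = φ s n := fun α => by
    have : nrm ν α.1 = n := α.2
    rw [W, this]
  simp only [h1]
  rw [tsum_const]
  rcases Nat.eq_zero_or_pos n with rfl | hn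
  · rw [LSeries.term_zero, φ_zero s hs, smul_zero]
  · rw [LSeries.term_of_ne_zero hn.ne', nsmul_eq_mul, φ, Complex.cpow_neg, div_eq_mul_inv]
    rfl

theorem lseriesSummable_cnt (hs : s ≠ 0) (hW : Summable (W ν s)) :
    LSeriesSummable (fun n => (cnt ν n : ℂ)) s := by
  have h1 := (hW.hasSum.tsum_fiberwise (nrm ν)).summable
  exact h1.congr (fun n => (term_eq ν s hs n).symm)

theorem lseries_cnt (hs : s ≠ 0) (hW : Summable (W ν s)) :
    LSeries (fun n => (cnt ν n : ℂ)) s = ∑' α, W ν s α := by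
  have h1 := (hW.hasSum.tsum_fiberwise (nrm ν)).tsum_eq
  rw [← h1]
  unfold LSeries
  exact tsum_congr (term_eq ν s hs)

/-- indicator cycle of a finite set -/
noncomputable def one (T : Finset ι) : ι →₀ ℕ := ∑ x ∈ T, Finsupp.single x 1

theorem one_apply [DecidableEq ι] (T : Finset ι) (x : ι) : one T x = if x ∈ T then 1 else 0 := by
  unfold one
  rw [Finsupp.finsetSum_apply]
  simp [Finsupp.single_apply]

theorem W_finset_sum {κ : Type*} (T : Finset κ) (h : κ → ι →₀ ℕ) :
    W ν s (∑ x ∈ T, h x) = ∏ x ∈ T, W ν s (h x) := by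
  classical
  induction T using Finset.induction_on with
  | empty => simp [W_zero]
  | insert a T ha ih => rw [Finset.sum_insert ha, Finset.prod_insert ha, W_add, ih]

theorem W_single_one (x : ι) : W ν s (Finsupp.single x 1) = φ s (ν x) := by
  unfold W nrm
  rw [Finsupp.prod_single_index (h := fun x m => ν x ^ m) (pow_zero _), pow_one]

theorem W_one (T : Finset ι) : W ν s (one T) = ∏ x ∈ T, φ s (ν x) := by
  unfold one
  rw [W_finset_sum]
  exact Finset.prod_congr rfl fun x _ => W_single_one ν s x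

theorem one_le_of_subset [DecidableEq ι] {T : Finset ι} {γ : ι →₀ ℕ} (h : T ⊆ γ.support) :
    one T ≤ γ := by
  rw [Finsupp.le_def]
  intro x
  rw [one_apply]
  split_ifs with hx
  · exact Nat.one_le_iff_ne_zero.mpr (Finsupp.mem_support_iff.mp (h hx))
  · exact Nat.zero_le _

theorem subset_support_of_add_one [DecidableEq ι] {T : Finset ι} {α γ : ι →₀ ℕ}
    (h : α + one T = γ) : T ⊆ γ.support := by
  intro x hx
  rw [Finsupp.mem_support_iff, ← h, Finsupp.add_apply, one_apply, if_pos hx]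
  omega

/-- the fibre of `(α, T) ↦ α + one T` over `γ` -/
noncomputable def fibEquiv [DecidableEq ι] (γ : ι →₀ ℕ) :
    (γ.support.powerset : Finset (Finset ι)) ≃
      ((fun z : (ι →₀ ℕ) × Finset ι => z.1 + one z.2) ⁻¹' {γ}) where
  toFun T := ⟨(γ - one T.1, T.1), by
    show γ - one T.1 + one T.1 = γ
    exact tsub_add_cancel_of_le (one_le_of_subset (Finset.mem_powerset.mp T.2))⟩
  invFun z := ⟨z.1.2, Finset.mem_powerset.mpr (subset_support_of_add_one z.2)⟩
  left_inv T := rfl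
  right_inv z := by
    apply Subtype.ext
    apply Prod.ext
    · show γ - one z.1.2 = z.1.1
      have h : z.1.1 + one z.1.2 = γ := z.2
      exact (eq_tsub_of_add_eq h).symm
    · rfl

theorem term_mobius (z : (ι →₀ ℕ) × Finset ι) :
    W ν s z.1 * ∏ x ∈ z.2, (-φ s (ν x)) = (-1) ^ z.2.card * W ν s (z.1 + one z.2) := by
  rw [W_add, W_one, Finset.prod_neg]
  ring

theorem sum_powerset_mobius [DecidableEq ι] (γ : ι →₀ ℕ) :
    ∑ T ∈ γ.support.powerset, W ν s (γ - one T) * ∏ x ∈ T, (-φ s (ν x)) =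
      if γ = 0 then 1 else 0 := by
  have h3 : ∀ T ∈ γ.support.powerset, W ν s (γ - one T) * ∏ x ∈ T, (-φ s (ν x)) =
      (-1) ^ T.card * W ν s γ := by
    intro T hT
    have := term_mobius ν s (γ - one T, T)
    rw [this]
    congr 2
    exact tsub_add_cancel_of_le (one_le_of_subset (Finset.mem_powerset.mp hT))
  rw [Finset.sum_congr rfl h3, ← Finset.sum_mul]
  have h4 : (∑ T ∈ γ.support.powerset, (-1 : ℂ) ^ T.card) = if γ.support = ∅ then 1 else 0 := by
    have := Finset.sum_powerset_neg_one_pow_card (x := γ.support)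
    have h5 := congrArg (Int.cast : ℤ → ℂ) this
    push_cast at h5
    rw [h5]
  rw [h4]
  by_cases hγ : γ = 0
  · subst hγ
    simp [W_zero]
  · rw [if_neg hγ, if_neg (by rwa [Finsupp.support_eq_empty]), zero_mul]

theorem tsum_fiber_mobius [DecidableEq ι] (γ : ι →₀ ℕ) :
    ∑' z : ((fun z : (ι →₀ ℕ) × Finset ι => z.1 + one z.2) ⁻¹' {γ}),
      W ν s z.1.1 * ∏ x ∈ z.1.2, (-φ s (ν x)) = if γ = 0 then 1 else 0 := by
  rw [← sum_powerset_mobius ν s γ]
  rw [← Finset.tsum_subtype γ.support.powerset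
    (fun T => W ν s (γ - one T) * ∏ x ∈ T, (-φ s (ν x)))]
  exact ((fibEquiv γ).tsum_eq
    (fun z : ((fun z : (ι →₀ ℕ) × Finset ι => z.1 + one z.2) ⁻¹' {γ}) =>
      W ν s z.1.1 * ∏ x ∈ z.1.2, (-φ s (ν x)))).symm

theorem summable_norm_mobius (hwn : Summable (fun x => ‖φ s (ν x)‖)) :
    Summable (fun T : Finset ι => ‖∏ x ∈ T, (-φ s (ν x))‖) := by
  have hwn' : Summable (fun x => ‖-φ s (ν x)‖) := by simpa [norm_neg] using hwn
  have h1 := summable_finsetProd_of_summable_nonneg (fun _ => norm_nonneg _) hwn'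
  exact Summable.of_nonneg_of_le (fun _ => norm_nonneg _) (fun T => Finset.norm_prod_le _ _) h1

theorem summable_W_mul_mobius (hWn : Summable (fun α => ‖W ν s α‖))
    (hwn : Summable (fun x => ‖φ s (ν x)‖)) :
    Summable (fun z : (ι →₀ ℕ) × Finset ι => W ν s z.1 * ∏ x ∈ z.2, (-φ s (ν x))) :=
  summable_mul_of_summable_norm (f := W ν s) (g := fun T : Finset ι => ∏ x ∈ T, (-φ s (ν x)))
    hWn (summable_norm_mobius ν s hwn)

theorem tsum_W_mul_mobius_prod (hWn : Summable (fun α => ‖W ν s α‖))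
    (hwn : Summable (fun x => ‖φ s (ν x)‖)) :
    ∑' z : (ι →₀ ℕ) × Finset ι, W ν s z.1 * ∏ x ∈ z.2, (-φ s (ν x)) = 1 := by
  classical
  have h1 := (summable_W_mul_mobius ν s hWn hwn).hasSum.tsum_fiberwise
    (fun z : (ι →₀ ℕ) × Finset ι => z.1 + one z.2)
  rw [← h1.tsum_eq]
  have h2 := fun γ => tsum_fiber_mobius ν s γ
  rw [tsum_congr h2, tsum_ite_eq]

theorem tsum_W_mul (hWn : Summable (fun α => ‖W ν s α‖))
    (hwn : Summable (fun x => ‖φ s (ν x)‖)) :
    (∑' α, W ν s α) * (∑' T : Finset ι, ∏ x ∈ T, (-φ s (ν x))) = 1 :=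
  (tsum_mul_tsum_of_summable_norm hWn (summable_norm_mobius ν s hwn)).trans
    (tsum_W_mul_mobius_prod ν s hWn hwn)

/-- **abstract Euler product**: summability and nonvanishing of the Dirichlet series of cycle
counts, from summability of `∑ ν(x)^{-σ}` -/
theorem lseries_cnt_summable_and_ne_zero (hν1 : ∀ x, ν x ≠ 1) (hσ : 0 < s.re)
    (hsum : Summable (fun x => (ν x : ℝ) ^ (-s.re))) :
    LSeriesSummable (fun n => (cnt ν n : ℂ)) s ∧ LSeries (fun n => (cnt ν n : ℂ)) s ≠ 0 := by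
  have hs : s ≠ 0 := fun h => hσ.ne' (by rw [h]; rfl)
  have hWn := summable_norm_W ν s hν1 hσ hsum
  have hW : Summable (W ν s) := hWn.of_norm
  have hwn : Summable (fun x => ‖φ s (ν x)‖) :=
    hsum.congr (fun x => (norm_φ s hσ.ne' (ν x)).symm)
  refine ⟨lseriesSummable_cnt ν s hs hW, ?_⟩
  rw [lseries_cnt ν s hs hW]
  intro h0
  have := tsum_W_mul ν s hWn hwn
  rw [h0, zero_mul] at this
  exact zero_ne_one this

end Cplx

end Groth.Agent.Lib.Helper79.Euler
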