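import Mathlib

/-!
# Point-count bound for finitely generated algebras (helper79)

For a finitely generated algebra `A` over a field `k` of Krull dimension `≤ r`, the number of
`k`-algebra maps `A → k'` to a finite field extension `k'` is at most `c * (#k')^r`.
-/

set_option linter.style.haveILetI false

namespace Groth.Agent.Lib.Helper79.PtBound

universe u v

/-- going up: an injective integral extension does not lower the Krull dimension -/
theorem ringKrullDim_le_of_isIntegral_of_injective {R S : Type*} [CommRing R] [CommRing S]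
    [Algebra R S] [Algebra.IsIntegral R S] (hinj : Function.Injective (algebraMap R S)) :
    ringKrullDim R ≤ ringKrullDim S := by
  unfold ringKrullDim
  rw [Order.krullDim]
  refine iSup_le fun l => ?_
  obtain ⟨P, -, hP, hPl⟩ := Ideal.exists_ideal_over_prime_of_isIntegral (S := S) l.head.asIdeal
    (⊥ : Ideal S) (by
      rw [Ideal.comap_bot_of_injective _ hinj]; exact bot_le)
  haveI := hP
  haveI : P.LiesOver l.head.asIdeal := ⟨hPl.symm⟩
  obtain ⟨L, hL, -, -⟩ := Ideal.exists_ltSeries_of_hasGoingUp l P
  rw [← hL]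
  exact Order.LTSeries.length_le_krullDim L

open scoped Classical in
/-- the fibre bound: `A` finite over `P`; the number of extensions of `ψ : P → k'` to `A`
is bounded independently of `k'` and `ψ`. -/
theorem exists_fiber_bound {k : Type v} [Field k] (P : Type v) (A : Type u) [CommRing P] [CommRing A]
    [Algebra k P] [Algebra k A] [Algebra P A] [IsScalarTower k P A] [Module.Finite P A] :
    ∃ c : ℕ, ∀ (k' : Type u) [Field k'] [Algebra k k'] [Fintype (A →ₐ[k] k')]
      (ψ : P →ₐ[k] k'),
      (Finset.univ.filter (fun φ : A →ₐ[k] k' =>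
        φ.comp (IsScalarTower.toAlgHom k P A) = ψ)).card ≤ c := by
  classical
  obtain ⟨n, b, hb⟩ := Module.Finite.exists_fin (R := P) (M := A)
  have hint : ∀ i, IsIntegral P (b i) := fun i => Algebra.IsIntegral.isIntegral (b i)
  choose F hFm hF using hint
  refine ⟨∏ i, (F i).natDegree, ?_⟩
  intro k' _ _ _ ψ
  have hne : ∀ i, (F i).map (ψ : P →+* k') ≠ 0 := fun i => ((hFm i).map _).ne_zero
  have h1 : (Fintype.piFinset (fun i => ((F i).map (ψ : P →+* k')).roots.toFinset)).card
      ≤ ∏ i, (F i).natDegree := by
    rw [Fintype.card_piFinset]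
    refine Finset.prod_le_prod' fun i _ => ?_
    refine (Multiset.toFinset_card_le _).trans ?_
    refine (Polynomial.card_roots' _).trans ?_
    exact Polynomial.natDegree_map_le
  refine le_trans ?_ h1
  refine Finset.card_le_card_of_injOn (fun (φ : A →ₐ[k] k') (i : Fin n) => φ (b i)) ?_ ?_
  · intro φ hφ
    have hφ' : φ.comp (IsScalarTower.toAlgHom k P A) = ψ := by simpa using hφ
    rw [Finset.mem_coe, Fintype.mem_piFinset]
    intro i
    rw [Multiset.mem_toFinset, Polynomial.mem_roots (hne i), Polynomial.IsRoot.def, Polynomial.eval_map]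
    have h2 : (ψ : P →+* k') = (φ : A →+* k').comp (algebraMap P A) := by
      rw [← hφ']; rfl
    rw [h2]
    exact (Polynomial.hom_eval₂ (F i) (algebraMap P A) (φ : A →+* k') (b i)).symm.trans
      ((congrArg (φ : A →+* k') (hF i)).trans (map_zero _))
  · intro φ hφ φ' hφ' hh
    have e1 : φ.comp (IsScalarTower.toAlgHom k P A) = ψ := by simpa using hφ
    have e2 : φ'.comp (IsScalarTower.toAlgHom k P A) = ψ := by simpa using hφ'
    apply AlgHom.ext
    intro a
    have ha : a ∈ Submodule.span P (Set.range b) := hb ▸ Submodule.mem_top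
    induction ha using Submodule.span_induction with
    | mem x hx =>
      obtain ⟨i, rfl⟩ := hx
      exact congrFun hh i
    | zero => simp
    | add x y _ _ hx hy => rw [map_add, map_add, hx, hy]
    | smul p x _ hx =>
      rw [Algebra.smul_def, map_mul, map_mul, hx]
      congr 1
      exact (DFunLike.congr_fun e1 p).trans (DFunLike.congr_fun e2 p).symm

/-- algebra maps out of a finitely generated algebra into a finite field are finite in number -/
theorem finite_algHom {k : Type*} [Field k] (A : Type*) [CommRing A] [Algebra k A]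
    [Algebra.FiniteType k A] (k' : Type*) [Field k'] [Algebra k k'] [Finite k'] :
    Finite (A →ₐ[k] k') := by
  obtain ⟨n, f, hf⟩ := Algebra.FiniteType.iff_quotient_mvPolynomial''.mp
    (inferInstance : Algebra.FiniteType k A)
  refine Finite.of_injective (fun φ : A →ₐ[k] k' => fun i : Fin n => φ (f (MvPolynomial.X i))) ?_
  intro φ φ' h
  have : φ.comp f = φ'.comp f := MvPolynomial.algHom_ext fun i => congrFun h i
  apply AlgHom.ext
  intro a
  obtain ⟨p, rfl⟩ := hf a
  exact DFunLike.congr_fun this p

theorem card_algHom_le {k : Type v} [Field k] (A : Type u) [CommRing A] [Algebra k A]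
    [Algebra.FiniteType k A] (r : ℕ) (hr : ringKrullDim A ≤ r) :
    ∃ c : ℕ, ∀ (k' : Type u) [Field k'] [Algebra k k'] [Finite k'],
      Nat.card (A →ₐ[k] k') ≤ c * Nat.card k' ^ r := by
  classical
  rcases subsingleton_or_nontrivial A with hA | hA
  · refine ⟨0, fun k' _ _ _ => ?_⟩
    haveI : IsEmpty (A →ₐ[k] k') := ⟨fun φ => by
      have h1 : φ 1 = 1 := map_one φ
      rw [Subsingleton.elim (1 : A) 0, map_zero] at h1
      exact zero_ne_one h1⟩
    simp
  obtain ⟨s, g, hginj, hgfin⟩ := exists_finite_inj_algHom_of_fg k A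
  algebraize [g.toRingHom]
  haveI : IsScalarTower k (MvPolynomial (Fin s) k) A := IsScalarTower.of_algebraMap_eq fun x => by
    rw [RingHom.algebraMap_toAlgebra]
    exact (g.commutes x).symm
  haveI : Module.Finite (MvPolynomial (Fin s) k) A := hgfin
  have hs : s ≤ r := by
    have h1 : ringKrullDim (MvPolynomial (Fin s) k) ≤ ringKrullDim A :=
      ringKrullDim_le_of_isIntegral_of_injective hginj
    rw [MvPolynomial.ringKrullDim_of_isNoetherianRing, ringKrullDim_eq_zero_of_field,
      zero_add] at h1
    have h2 : ((s : ℕ) : WithBot ℕ∞) ≤ ((r : ℕ) : WithBot ℕ∞) := by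
      simpa using h1.trans hr
    exact_mod_cast h2
  obtain ⟨c, hc⟩ := exists_fiber_bound (k := k) (MvPolynomial (Fin s) k) A
  refine ⟨c, fun k' _ _ _ => ?_⟩
  haveI : Finite (A →ₐ[k] k') := finite_algHom A k'
  haveI : Fintype (A →ₐ[k] k') := Fintype.ofFinite _
  haveI : Fintype k' := Fintype.ofFinite _
  haveI : Finite (MvPolynomial (Fin s) k →ₐ[k] k') := finite_algHom _ k'
  haveI : Fintype (MvPolynomial (Fin s) k →ₐ[k] k') := Fintype.ofFinite _
  rw [Nat.card_eq_fintype_card, ← Finset.card_univ]
  have h1 := Finset.card_le_mul_card_image (f := fun φ : A →ₐ[k] k' =>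
    φ.comp (IsScalarTower.toAlgHom k (MvPolynomial (Fin s) k) A)) Finset.univ c
    (fun ψ _ => by
      have := hc k' ψ
      convert this using 2)
  refine h1.trans ?_
  refine Nat.mul_le_mul_left c ?_
  refine (Finset.card_le_univ _).trans ?_
  have h2 : Fintype.card (MvPolynomial (Fin s) k →ₐ[k] k') ≤ Fintype.card k' ^ s := by
    have := Fintype.card_le_of_injective
      (fun (φ : MvPolynomial (Fin s) k →ₐ[k] k') (i : Fin s) => φ (MvPolynomial.X i))
      (fun φ φ' h => MvPolynomial.algHom_ext fun i => congrFun h i)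
    simpa using this
  rw [Nat.card_eq_fintype_card]
  exact h2.trans (Nat.pow_le_pow_right Fintype.card_pos hs)

end Groth.Agent.Lib.Helper79.PtBound
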