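import Mathlib
import Groth.Agent.Lib.Helper79.PtBound1

/-!
# Point-count bound for finitely generated rings (arithmetic case) (helper79)
-/

set_option linter.style.haveILetI false

namespace Groth.Agent.Lib.Helper79.PtBound

universe u

theorem isJacobsonRing_int : IsJacobsonRing ℤ := by
  rw [isJacobsonRing_iff_prime_eq]
  intro P hP
  by_cases h : P = ⊥
  · subst h
    refine le_antisymm ?_ Ideal.le_jacobson
    intro x hx
    rw [Ideal.mem_jacobson_bot] at hx
    have h1 := hx (2 * x)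
    rw [Int.isUnit_iff] at h1
    have : x = 0 := by
      rcases h1 with h1 | h1 <;> nlinarith
    simp [this]
  · have := hP.isMaximal h
    exact Ideal.jacobson_eq_self_of_isMaximal

/-- a chain of primes in `A ⊗ ℚ` gives a chain of primes of `A` one longer, when `A` is finitely
generated over `ℤ`. -/
theorem succ_le_ringKrullDim_of_le_localization (A B : Type*) [CommRing A] [CommRing B]
    [Algebra A B] [IsLocalization (Algebra.algebraMapSubmonoid A (nonZeroDivisors ℤ)) B]
    [Algebra.FiniteType ℤ A] (n : ℕ) (h : (n : WithBot ℕ∞) ≤ ringKrullDim B) :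
    ((n + 1 : ℕ) : WithBot ℕ∞) ≤ ringKrullDim A := by
  classical
  haveI := isJacobsonRing_int
  set M := Algebra.algebraMapSubmonoid A (nonZeroDivisors ℤ) with hM
  obtain ⟨l, hl⟩ := Order.le_krullDim_iff.mp h
  have hsm : StrictMono (PrimeSpectrum.comap (algebraMap A B)) := by
    have hmono : Monotone (PrimeSpectrum.comap (algebraMap A B)) := fun Q Q' hQ =>
      Ideal.comap_mono hQ
    refine hmono.strictMono_of_injective ?_
    exact PrimeSpectrum.localization_comap_injective B M
  let q : PrimeSpectrum A := PrimeSpectrum.comap (algebraMap A B) l.last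
  have hdisj : ∀ z : ℤ, z ≠ 0 → (algebraMap ℤ A z) ∉ q.asIdeal := by
    intro z hz hmem
    have h1 : algebraMap A B (algebraMap ℤ A z) ∈ l.last.asIdeal := hmem
    have h2 : IsUnit (algebraMap A B (algebraMap ℤ A z)) :=
      IsLocalization.map_units B (⟨algebraMap ℤ A z, ⟨z, mem_nonZeroDivisors_of_ne_zero hz, rfl⟩⟩ : M)
    exact l.last.2.ne_top (Ideal.eq_top_of_isUnit_mem _ h1 h2)
  have hnotmax : ¬ q.asIdeal.IsMaximal := by
    intro hmax
    letI : Field (A ⧸ q.asIdeal) := Ideal.Quotient.field q.asIdeal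
    haveI : Algebra.FiniteType ℤ (A ⧸ q.asIdeal) :=
      Algebra.FiniteType.of_surjective (Ideal.Quotient.mkₐ ℤ q.asIdeal)
        Ideal.Quotient.mk_surjective
    haveI : Module.Finite ℤ (A ⧸ q.asIdeal) := finite_of_finite_type_of_isJacobsonRing ℤ _
    haveI : Algebra.IsIntegral ℤ (A ⧸ q.asIdeal) := Algebra.IsIntegral.of_finite ℤ _
    have hinj : Function.Injective (algebraMap ℤ (A ⧸ q.asIdeal)) := by
      rw [injective_iff_map_eq_zero]
      intro z hz
      by_contra hz0
      apply hdisj z hz0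
      rw [IsScalarTower.algebraMap_apply ℤ A (A ⧸ q.asIdeal), Ideal.Quotient.algebraMap_eq,
        Ideal.Quotient.eq_zero_iff_mem] at hz
      exact hz
    exact Int.not_isField (isField_of_isIntegral_of_isField hinj (Field.toIsField _))
  obtain ⟨m, hm, hqm⟩ := Ideal.exists_le_maximal q.asIdeal q.2.ne_top
  have hlt : q < ⟨m, hm.isPrime⟩ := by
    refine lt_of_le_of_ne hqm ?_
    intro heq
    apply hnotmax
    have : q.asIdeal = m := congrArg PrimeSpectrum.asIdeal heq
    rw [this]; exact hm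
  let L : LTSeries (PrimeSpectrum A) :=
    (l.map (PrimeSpectrum.comap (algebraMap A B)) hsm).snoc ⟨m, hm.isPrime⟩ (by
      rw [LTSeries.last_map]; exact hlt)
  refine Order.le_krullDim_iff.mpr ⟨L, ?_⟩
  simp [L, hl]

open scoped Classical in
/-- abstract fibre count: ring maps `A → F` are determined by their restriction along `θ` and the
values on the `b i`, which are roots of monic polynomials. -/
theorem card_ringHom_le_of_roots {P A : Type*} [CommRing P] [CommRing A] (θ : P →+* A) {n : ℕ}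
    (b : Fin n → A) (H : Fin n → Polynomial P) (hH : ∀ i, (H i).Monic)
    (F : Type*) [Field F] [Fintype (A →+* F)] [Fintype (P →+* F)]
    (hroot : ∀ (φ : A →+* F) i, Polynomial.eval₂ (φ.comp θ) (φ (b i)) (H i) = 0)
    (hdet : ∀ φ φ' : A →+* F, φ.comp θ = φ'.comp θ → (∀ i, φ (b i) = φ' (b i)) → φ = φ') :
    Fintype.card (A →+* F) ≤ (∏ i, (H i).natDegree) * Fintype.card (P →+* F) := by
  rw [← Finset.card_univ (α := A →+* F)]
  have h1 := Finset.card_le_mul_card_image (f := fun φ : A →+* F => φ.comp θ) Finset.univ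
    (∏ i, (H i).natDegree) (fun ψ _ => by
      have hne : ∀ i, (H i).map ψ ≠ 0 := fun i => ((hH i).map _).ne_zero
      have h1 : (Fintype.piFinset (fun i => ((H i).map ψ).roots.toFinset)).card
          ≤ ∏ i, (H i).natDegree := by
        rw [Fintype.card_piFinset]
        refine Finset.prod_le_prod' fun i _ => ?_
        refine (Multiset.toFinset_card_le _).trans ?_
        refine (Polynomial.card_roots' _).trans ?_
        exact Polynomial.natDegree_map_le
      refine le_trans ?_ h1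
      refine Finset.card_le_card_of_injOn (fun (φ : A →+* F) (i : Fin n) => φ (b i)) ?_ ?_
      · intro φ hφ
        have hφ' : φ.comp θ = ψ := by simpa using hφ
        rw [Finset.mem_coe, Fintype.mem_piFinset]
        intro i
        rw [Multiset.mem_toFinset, Polynomial.mem_roots (hne i), Polynomial.IsRoot.def,
          Polynomial.eval_map, ← hφ']
        exact hroot φ i
      · intro φ hφ φ' hφ' hh
        have e1 : φ.comp θ = ψ := by simpa using hφ
        have e2 : φ'.comp θ = ψ := by simpa using hφ'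
        exact hdet φ φ' (e1.trans e2.symm) (fun i => congrFun hh i))
  refine h1.trans ?_
  exact Nat.mul_le_mul_left _ (Finset.card_le_univ _)

section Spread

open MvPolynomial

attribute [local instance] MvPolynomial.algebraMvPolynomial

/-- rescaling the variables by nonzero rationals is an automorphism -/
theorem scale_bijective {s : ℕ} (z : Fin s → ℚ) (hz : ∀ j, z j ≠ 0) :
    Function.Bijective (aeval (fun j => C (z j) * X j) :
      MvPolynomial (Fin s) ℚ →ₐ[ℚ] MvPolynomial (Fin s) ℚ) := by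
  have h1 : (aeval (fun j => C (z j) * X j) : MvPolynomial (Fin s) ℚ →ₐ[ℚ] _).comp
      (aeval (fun j => C (z j)⁻¹ * X j)) = AlgHom.id ℚ _ := by
    apply MvPolynomial.algHom_ext
    intro j
    simp only [AlgHom.coe_comp, Function.comp_apply, aeval_X, map_mul, AlgHom.coe_id, id_eq]
    rw [aeval_C, MvPolynomial.algebraMap_eq, ← mul_assoc, ← C_mul, inv_mul_cancel₀ (hz j), C_1,
      one_mul]
  have h2 : (aeval (fun j => C (z j)⁻¹ * X j) : MvPolynomial (Fin s) ℚ →ₐ[ℚ] _).comp
      (aeval (fun j => C (z j) * X j)) = AlgHom.id ℚ _ := by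
    apply MvPolynomial.algHom_ext
    intro j
    simp only [AlgHom.coe_comp, Function.comp_apply, aeval_X, map_mul, AlgHom.coe_id, id_eq]
    rw [aeval_C, MvPolynomial.algebraMap_eq, ← mul_assoc, ← C_mul, mul_inv_cancel₀ (hz j), C_1,
      one_mul]
  refine ⟨?_, ?_⟩
  · intro a b hab
    have := congrArg (aeval (fun j => C (z j)⁻¹ * X j) : MvPolynomial (Fin s) ℚ →ₐ[ℚ] _) hab
    rw [← AlgHom.comp_apply, ← AlgHom.comp_apply, h2] at this
    exact this
  · intro b
    exact ⟨aeval (fun j => C (z j)⁻¹ * X j) b, by rw [← AlgHom.comp_apply, h1]; rfl⟩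

theorem spread_data (A : Type u) [CommRing A] [Algebra.FiniteType ℤ A]
    (B : Type u) [CommRing B] [Algebra ℚ B] [Algebra A B]
    [IsLocalization (Algebra.algebraMapSubmonoid A (nonZeroDivisors ℤ)) B]
    [Algebra.FiniteType ℚ B] [Nontrivial B] :
    ∃ (s : ℕ) (y : Fin s → A), (s : WithBot ℕ∞) ≤ ringKrullDim B ∧
      ∀ a : A, ∃ (z z' : ℤ) (H : Polynomial (MvPolynomial (Fin s) ℤ)), z ≠ 0 ∧ z' ≠ 0 ∧ H.Monic ∧
        z' • Polynomial.eval₂ ((aeval y : MvPolynomial (Fin s) ℤ →ₐ[ℤ] A) :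
          MvPolynomial (Fin s) ℤ →+* A) (z • a) H = 0 := by
  classical
  set M := Algebra.algebraMapSubmonoid A (nonZeroDivisors ℤ) with hM
  obtain ⟨s, g, hginj, hgint⟩ := exists_integral_inj_algHom_of_fg ℚ B
  have hy : ∀ j : Fin s, ∃ (yj : A) (zj : ℤ), zj ≠ 0 ∧
      (zj : B) * g (X j) = algebraMap A B yj := by
    intro j
    obtain ⟨⟨a, m⟩, hm⟩ := IsLocalization.surj M (g (X j))
    obtain ⟨zj, hzj, hzm⟩ := m.2
    refine ⟨a, zj, nonZeroDivisors.ne_zero hzj, ?_⟩
    rw [← hm, mul_comm]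
    congr 1
    show _ = algebraMap A B m.1
    rw [← hzm]
    simp
  choose y z hz hyz using hy
  have hσ := scale_bijective (fun j => (z j : ℚ)) (fun j => by exact_mod_cast hz j)
  let g' : MvPolynomial (Fin s) ℚ →ₐ[ℚ] B :=
    g.comp (aeval (fun j => C (z j : ℚ) * X j))
  have hg'X : ∀ j, g' (X j) = algebraMap A B (y j) := by
    intro j
    show g (aeval (fun j => C (z j : ℚ) * X j) (X j)) = _
    rw [aeval_X, map_mul, ← hyz j]
    congr 1
    rw [← MvPolynomial.algebraMap_eq, AlgHom.commutes]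
    simp
  have hg'inj : Function.Injective g' := hginj.comp hσ.1
  have hg'int : (g' : MvPolynomial (Fin s) ℚ →+* B).IsIntegral :=
    RingHom.IsIntegral.trans _ _ (RingHom.isIntegral_of_surjective _ hσ.2) hgint
  letI : Algebra (MvPolynomial (Fin s) ℚ) B := (g' : MvPolynomial (Fin s) ℚ →+* B).toAlgebra
  letI : Algebra (MvPolynomial (Fin s) ℤ) B :=
    ((g' : MvPolynomial (Fin s) ℚ →+* B).comp
      (algebraMap (MvPolynomial (Fin s) ℤ) (MvPolynomial (Fin s) ℚ))).toAlgebra
  haveI : IsScalarTower (MvPolynomial (Fin s) ℤ) (MvPolynomial (Fin s) ℚ) B :=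
    IsScalarTower.of_algebraMap_eq (fun x => rfl)
  haveI : Algebra.IsIntegral (MvPolynomial (Fin s) ℚ) B := ⟨hg'int⟩
  have hdim : (s : WithBot ℕ∞) ≤ ringKrullDim B := by
    have h1 := ringKrullDim_le_of_isIntegral_of_injective (R := MvPolynomial (Fin s) ℚ) (S := B)
      hg'inj
    rw [MvPolynomial.ringKrullDim_of_isNoetherianRing, ringKrullDim_eq_zero_of_field,
      zero_add] at h1
    simpa using h1
  refine ⟨s, y, hdim, fun a => ?_⟩
  have hkey : algebraMap (MvPolynomial (Fin s) ℤ) B =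
      (algebraMap A B).comp ((aeval y : MvPolynomial (Fin s) ℤ →ₐ[ℤ] A) :
        MvPolynomial (Fin s) ℤ →+* A) := by
    apply MvPolynomial.ringHom_ext
    · intro r
      exact (eq_intCast ((algebraMap (MvPolynomial (Fin s) ℤ) B).comp C) r).trans
        (eq_intCast (((algebraMap A B).comp ((aeval y : MvPolynomial (Fin s) ℤ →ₐ[ℤ] A) :
          MvPolynomial (Fin s) ℤ →+* A)).comp C) r).symm
    · intro j
      show g' (MvPolynomial.map (algebraMap ℤ ℚ) (X j)) = algebraMap A B (aeval y (X j))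
      rw [MvPolynomial.map_X, hg'X, aeval_X]
  have hx : IsIntegral (MvPolynomial (Fin s) ℚ) (algebraMap A B a) := hg'int _
  obtain ⟨⟨m, hm⟩, H, hHm, hH⟩ := IsIntegral.exists_multiple_integral_of_isLocalization
    ((nonZeroDivisors ℤ).map (C (σ := Fin s))) (algebraMap A B a) hx
  obtain ⟨zz, hzz, rfl⟩ := hm
  have hmx : (⟨C zz, ⟨zz, hzz, rfl⟩⟩ : (nonZeroDivisors ℤ).map (C (σ := Fin s))) • algebraMap A B a =
      algebraMap A B (zz • a) := by
    rw [Submonoid.smul_def, Algebra.smul_def, hkey]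
    simp
  rw [hmx, hkey, ← Polynomial.hom_eval₂] at hH
  obtain ⟨m', hm'⟩ := (IsLocalization.map_eq_zero_iff M B _).mp hH
  obtain ⟨z', hz', hzm'⟩ := m'.2
  refine ⟨zz, z', H, nonZeroDivisors.ne_zero hzz, nonZeroDivisors.ne_zero hz', hHm, ?_⟩
  rw [zsmul_eq_mul, ← hm', ← hzm']
  simp

theorem ringHom_ext_of_surjective {n : ℕ} {A F : Type*} [CommRing A] [CommRing F]
    (f : MvPolynomial (Fin n) ℤ →ₐ[ℤ] A) (hf : Function.Surjective f) (φ φ' : A →+* F)
    (h : ∀ i, φ (f (X i)) = φ' (f (X i))) : φ = φ' := by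
  have h1 : φ.comp (f : MvPolynomial (Fin n) ℤ →+* A) = φ'.comp (f : MvPolynomial (Fin n) ℤ →+* A) := by
    apply MvPolynomial.ringHom_ext
    · intro r
      exact (eq_intCast ((φ.comp (f : MvPolynomial (Fin n) ℤ →+* A)).comp C) r).trans
        (eq_intCast ((φ'.comp (f : MvPolynomial (Fin n) ℤ →+* A)).comp C) r).symm
    · intro i
      exact h i
  apply RingHom.ext
  intro a
  obtain ⟨p, rfl⟩ := hf a
  exact DFunLike.congr_fun h1 p

theorem finite_ringHom_of_finiteType (A : Type*) [CommRing A] [Algebra.FiniteType ℤ A]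
    (F : Type*) [CommRing F] [Finite F] : Finite (A →+* F) := by
  obtain ⟨n, f, hf⟩ := Algebra.FiniteType.iff_quotient_mvPolynomial''.mp
    (inferInstance : Algebra.FiniteType ℤ A)
  refine Finite.of_injective (fun (φ : A →+* F) (i : Fin n) => φ (f (X i))) ?_
  intro φ φ' h
  exact ringHom_ext_of_surjective f hf φ φ' (fun i => congrFun h i)

attribute [local instance] Algebra.TensorProduct.rightAlgebra in
theorem card_ringHom_generic (A : Type u) [CommRing A] [Algebra.FiniteType ℤ A] (r : ℕ)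
    (hr : ringKrullDim A ≤ r) :
    ∃ (Z : ℤ) (c : ℕ), Z ≠ 0 ∧ ∀ (F : Type u) [Field F] [Finite F], (Z : F) ≠ 0 →
      Nat.card (A →+* F) * Nat.card F ≤ c * Nat.card F ^ r := by
  classical
  let B := TensorProduct ℤ ℚ A
  haveI : IsLocalization (Algebra.algebraMapSubmonoid A (nonZeroDivisors ℤ)) B :=
    IsLocalization.tensorRight (R := ℤ) (S := A) ℚ (nonZeroDivisors ℤ)
  obtain ⟨n, f, hf⟩ := Algebra.FiniteType.iff_quotient_mvPolynomial''.mp
    (inferInstance : Algebra.FiniteType ℤ A)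
  rcases subsingleton_or_nontrivial B with hB | hB
  · have h0 : algebraMap A B 1 = 0 := Subsingleton.elim _ _
    obtain ⟨m, hm⟩ := (IsLocalization.map_eq_zero_iff
      (Algebra.algebraMapSubmonoid A (nonZeroDivisors ℤ)) B _).mp h0
    obtain ⟨z, hz, hzm⟩ := m.2
    refine ⟨z, 0, nonZeroDivisors.ne_zero hz, fun F _ _ hZ => ?_⟩
    haveI : IsEmpty (A →+* F) := ⟨fun φ => by
      apply hZ
      have h1 : (algebraMap ℤ A z) = 0 := by rw [hzm, ← hm, mul_one]
      have h2 := congrArg φ h1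
      rw [map_zero] at h2
      rw [← h2]
      simp⟩
    simp
  obtain ⟨s, y, hdim, hall⟩ := spread_data A B
  have hs : s + 1 ≤ r := by
    have h1 := succ_le_ringKrullDim_of_le_localization A B s hdim
    have h2 : (((s + 1 : ℕ)) : WithBot ℕ∞) ≤ ((r : ℕ) : WithBot ℕ∞) := h1.trans hr
    exact_mod_cast h2
  have hgen := fun i : Fin n => hall (f (X i))
  choose zz z' H hzz hz' hHm hH using hgen
  refine ⟨∏ i, zz i * z' i, ∏ i, (H i).natDegree,
    Finset.prod_ne_zero_iff.mpr fun i _ => mul_ne_zero (hzz i) (hz' i), fun F _ _ hZ => ?_⟩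
  have hZi : ∀ i, (zz i : F) ≠ 0 ∧ (z' i : F) ≠ 0 := by
    intro i
    rw [Int.cast_prod, Finset.prod_ne_zero_iff] at hZ
    have := hZ i (Finset.mem_univ i)
    rw [Int.cast_mul] at this
    exact ⟨left_ne_zero_of_mul this, right_ne_zero_of_mul this⟩
  haveI : Finite (A →+* F) := finite_ringHom_of_finiteType A F
  have hinjP : Function.Injective
      (fun (φ : MvPolynomial (Fin s) ℤ →+* F) (i : Fin s) => φ (X i)) :=
    fun φ φ' h => ringHom_ext_of_surjective (AlgHom.id ℤ _) Function.surjective_id φ φ'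
      (fun i => congrFun h i)
  haveI : Finite (MvPolynomial (Fin s) ℤ →+* F) := Finite.of_injective _ hinjP
  haveI : Fintype (A →+* F) := Fintype.ofFinite _
  haveI : Fintype (MvPolynomial (Fin s) ℤ →+* F) := Fintype.ofFinite _
  haveI : Fintype F := Fintype.ofFinite _
  have h1 := card_ringHom_le_of_roots
    ((aeval y : MvPolynomial (Fin s) ℤ →ₐ[ℤ] A) : MvPolynomial (Fin s) ℤ →+* A)
    (fun i => zz i • f (X i)) H hHm F
    (fun φ i => by
      have h2 := congrArg φ (hH i)
      rw [map_zero, zsmul_eq_mul, map_mul, map_intCast] at h2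
      have h3 := (mul_eq_zero.mp h2).resolve_left (hZi i).2
      rw [Polynomial.hom_eval₂] at h3
      exact h3)
    (fun φ φ' _ hb => by
      apply ringHom_ext_of_surjective f hf
      intro i
      have h2 := hb i
      rw [zsmul_eq_mul, map_mul, map_mul, map_intCast, map_intCast] at h2
      exact mul_left_cancel₀ (hZi i).1 h2)
  have h2 : Fintype.card (MvPolynomial (Fin s) ℤ →+* F) ≤ Fintype.card F ^ s := by
    have := Fintype.card_le_of_injective _ hinjP
    simpa using this
  rw [Nat.card_eq_fintype_card, Nat.card_eq_fintype_card]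
  calc Fintype.card (A →+* F) * Fintype.card F
      ≤ ((∏ i, (H i).natDegree) * Fintype.card F ^ s) * Fintype.card F :=
        Nat.mul_le_mul_right _ (h1.trans (Nat.mul_le_mul_left _ h2))
    _ = (∏ i, (H i).natDegree) * Fintype.card F ^ (s + 1) := by rw [pow_succ, mul_assoc]
    _ ≤ (∏ i, (H i).natDegree) * Fintype.card F ^ r :=
        Nat.mul_le_mul_left _ (Nat.pow_le_pow_right Fintype.card_pos hs)

end Spread

section CharP

open TensorProduct

theorem includeRight_surjective (p : ℕ) [NeZero p] (A : Type*) [CommRing A] :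
    Function.Surjective (Algebra.TensorProduct.includeRight : A →ₐ[ℤ] ZMod p ⊗[ℤ] A) := by
  intro b
  induction b using TensorProduct.induction_on with
  | zero => exact ⟨0, map_zero _⟩
  | tmul c a =>
    obtain ⟨n, rfl⟩ := ZMod.intCast_surjective c
    refine ⟨n • a, ?_⟩
    show (1 : ZMod p) ⊗ₜ[ℤ] (n • a) = (n : ZMod p) ⊗ₜ[ℤ] a
    rw [← TensorProduct.smul_tmul]
    simp
  | add x y hx hy =>
    obtain ⟨a, rfl⟩ := hx
    obtain ⟨a', rfl⟩ := hy
    exact ⟨a + a', map_add _ _ _⟩

theorem card_ringHom_charP (A : Type u) [CommRing A] [Algebra.FiniteType ℤ A] (r : ℕ)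
    (hr : ringKrullDim A ≤ r) (p : ℕ) [Fact p.Prime] :
    ∃ c : ℕ, ∀ (F : Type u) [Field F] [Finite F] [CharP F p],
      Nat.card (A →+* F) ≤ c * Nat.card F ^ r := by
  have hdim : ringKrullDim (ZMod p ⊗[ℤ] A) ≤ r :=
    (ringKrullDim_le_of_surjective
      ((Algebra.TensorProduct.includeRight : A →ₐ[ℤ] ZMod p ⊗[ℤ] A) : A →+* ZMod p ⊗[ℤ] A)
      (includeRight_surjective p A)).trans hr
  obtain ⟨c, hc⟩ := card_algHom_le (k := ZMod p) (ZMod p ⊗[ℤ] A) r hdim
  refine ⟨c, fun F _ _ _ => ?_⟩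
  letI : Algebra (ZMod p) F := ZMod.algebra F p
  haveI : Finite ((ZMod p ⊗[ℤ] A) →ₐ[ZMod p] F) := finite_algHom _ F
  let Φ : (A →+* F) → ((ZMod p ⊗[ℤ] A) →ₐ[ZMod p] F) := fun φ =>
    Algebra.TensorProduct.lift (Algebra.ofId (ZMod p) F) φ.toIntAlgHom (fun _ _ => Commute.all _ _)
  have hΦ : Function.Injective Φ := by
    intro φ φ' h
    apply RingHom.ext
    intro a
    have h1 := DFunLike.congr_fun h ((1 : ZMod p) ⊗ₜ[ℤ] a)
    simpa [Φ] using h1
  exact (Nat.card_le_card_of_injective Φ hΦ).trans (hc F)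

end CharP

/-- the ring-level arithmetic point-count bound -/
theorem card_ringHom_arith (A : Type u) [CommRing A] [Algebra.FiniteType ℤ A] (r : ℕ)
    (hr : ringKrullDim A ≤ r) :
    ∃ c p₀ : ℕ, ∀ (p m : ℕ), p.Prime → 1 ≤ m → ∀ (F : Type u) [Field F], Nat.card F = p ^ m →
      Nat.card (A →+* F) ≤ c * Nat.card F ^ r ∧
      (p₀ ≤ p → Nat.card (A →+* F) * Nat.card F ≤ c * Nat.card F ^ r) := by
  classical
  obtain ⟨Z, c₀, hZ0, hgen⟩ := card_ringHom_generic A r hr
  have hsp : ∀ p : ℕ, ∃ c : ℕ, p.Prime → ∀ (F : Type u) [Field F] [Finite F] [CharP F p],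
      Nat.card (A →+* F) ≤ c * Nat.card F ^ r := by
    intro p
    by_cases hp : p.Prime
    · haveI : Fact p.Prime := ⟨hp⟩
      obtain ⟨c, hc⟩ := card_ringHom_charP A r hr p
      exact ⟨c, fun _ => hc⟩
    · exact ⟨0, fun h => absurd h hp⟩
  choose cp hcp using hsp
  refine ⟨c₀ + ∑ p ∈ Finset.range (Z.natAbs + 1), cp p, Z.natAbs + 1, ?_⟩
  intro p m hp hm F _ hF
  haveI : Finite F := Nat.finite_of_card_ne_zero (by rw [hF]; exact pow_ne_zero _ hp.ne_zero)
  haveI : Fintype F := Fintype.ofFinite F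
  haveI : Fact p.Prime := ⟨hp⟩
  haveI : CharP F p := charP_of_card_eq_prime_pow (f := m) (by rw [← Nat.card_eq_fintype_card, hF])
  have hcard_pos : 0 < Nat.card F := Nat.card_pos
  have hgen' : Z.natAbs + 1 ≤ p → Nat.card (A →+* F) * Nat.card F ≤ c₀ * Nat.card F ^ r := by
    intro hle
    apply hgen F
    intro h0
    rw [CharP.intCast_eq_zero_iff F p] at h0
    have h1 : p ∣ Z.natAbs := Int.natCast_dvd.mp h0
    have h2 := Nat.le_of_dvd (Int.natAbs_pos.mpr hZ0) h1
    omega
  have hmono : c₀ * Nat.card F ^ r ≤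
      (c₀ + ∑ p ∈ Finset.range (Z.natAbs + 1), cp p) * Nat.card F ^ r :=
    Nat.mul_le_mul_right _ (Nat.le_add_right _ _)
  refine ⟨?_, fun hle => (hgen' hle).trans hmono⟩
  by_cases hle : Z.natAbs + 1 ≤ p
  · refine le_trans ?_ ((hgen' hle).trans hmono)
    exact Nat.le_mul_of_pos_right _ hcard_pos
  · have h1 := hcp p hp F
    refine h1.trans (Nat.mul_le_mul_right _ ?_)
    have h2 : cp p ≤ ∑ p ∈ Finset.range (Z.natAbs + 1), cp p :=
      Finset.single_le_sum (f := cp) (fun _ _ => Nat.zero_le _)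
        (Finset.mem_range.mpr (by omega))
    omega

end Groth.Agent.Lib.Helper79.PtBound
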