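import Mathlib
import Groth.Agent.Lib.Helper79.PtBound3

/-!
# Point-count bound for arithmetic schemes (helper79)
-/

set_option linter.style.haveILetI false

namespace Groth.Agent.Lib.Helper79.PtBound

open AlgebraicGeometry CategoryTheory

universe u

/-- every element of `Γ(Spec (ULift ℤ), ⊤)` is an integer -/
theorem intCast_surjective_base :
    Function.Surjective (Algebra.ofId ℤ Γ(Spec (CommRingCat.of (ULift.{u} ℤ)), ⊤)) := by
  intro x
  let e := (Scheme.ΓSpecIso (CommRingCat.of (ULift.{u} ℤ))).commRingCatIsoToRingEquiv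
  refine ⟨(e x).down, ?_⟩
  apply e.injective
  rw [Algebra.ofId_apply]
  have h1 : algebraMap ℤ Γ(Spec (CommRingCat.of (ULift.{u} ℤ)), ⊤) (e x).down =
      (((e x).down : ℤ) : Γ(Spec (CommRingCat.of (ULift.{u} ℤ)), ⊤)) := eq_intCast _ _
  rw [h1, map_intCast]
  rfl

/-- affine opens of a scheme locally of finite type over `ℤ` have finitely generated rings -/
theorem finiteType_int_of_affineOpen {X : Scheme.{u}}
    (f : X ⟶ Spec (CommRingCat.of (ULift.{u} ℤ))) [LocallyOfFiniteType f] (U : X.Opens)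
    (hU : IsAffineOpen U) : Algebra.FiniteType ℤ Γ(X, U) := by
  have e : U ≤ f ⁻¹ᵁ ⊤ := fun x _ => trivial
  have hft : (f.appLE ⊤ U e).hom.FiniteType :=
    (HasRingHomProperty.iff_appLE (P := @LocallyOfFiniteType)).mp inferInstance
      ⟨⊤, isAffineOpen_top _⟩ ⟨U, hU⟩ e
  letI := (f.appLE ⊤ U e).hom.toAlgebra
  haveI hft' : Algebra.FiniteType Γ(Spec (CommRingCat.of (ULift.{u} ℤ)), ⊤) Γ(X, U) := hft
  haveI : Algebra.FiniteType ℤ Γ(Spec (CommRingCat.of (ULift.{u} ℤ)), ⊤) :=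
    Algebra.FiniteType.of_surjective (Algebra.ofId ℤ _) intCast_surjective_base
  exact Algebra.FiniteType.trans (R := ℤ) (S := Γ(Spec (CommRingCat.of (ULift.{u} ℤ)), ⊤))
    inferInstance inferInstance

/-- morphisms from the spectrum of a field into `X` are covered by those into an open cover -/
theorem card_hom_le_sum {X : Scheme.{u}} {ι : Type*} [Fintype ι]
    (Y : ι → Scheme.{u}) (j : ∀ i, Y i ⟶ X) [∀ i, IsOpenImmersion (j i)]
    (hcov : ∀ x : X, ∃ i, x ∈ Set.range (j i))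
    (F : Type u) [Field F] (hfin : ∀ i, Finite (Spec (CommRingCat.of F) ⟶ Y i)) :
    Finite (Spec (CommRingCat.of F) ⟶ X) ∧
      Nat.card (Spec (CommRingCat.of F) ⟶ X) ≤ ∑ i, Nat.card (Spec (CommRingCat.of F) ⟶ Y i) := by
  let Ψ : (Σ i, (Spec (CommRingCat.of F) ⟶ Y i)) → (Spec (CommRingCat.of F) ⟶ X) := fun p =>
    p.2 ≫ j p.1
  have hΨ : Function.Surjective Ψ := by
    intro g
    let pt : Spec (CommRingCat.of F) := ⟨⊥, Ideal.isPrime_bot⟩
    obtain ⟨i, hi⟩ := hcov (g pt)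
    have hsub : Set.range g ⊆ Set.range (j i) := by
      rintro _ ⟨y, rfl⟩
      have : y = pt := @Subsingleton.elim _ (inferInstanceAs (Subsingleton (PrimeSpectrum F))) _ _
      rw [this]; exact hi
    exact ⟨⟨i, IsOpenImmersion.lift (j i) g hsub⟩, IsOpenImmersion.lift_fac _ _ _⟩
  haveI : Finite (Σ i, (Spec (CommRingCat.of F) ⟶ Y i)) := inferInstance
  refine ⟨Finite.of_surjective Ψ hΨ, ?_⟩
  refine (Nat.card_le_card_of_surjective Ψ hΨ).trans ?_
  rw [Nat.card_sigma]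

/-- morphisms `Spec F ⟶ Spec R` inject into ring homs -/
theorem card_hom_spec_le (R : CommRingCat.{u}) (F : Type u) [Field F] [Finite (R →+* F)] :
    Finite (Spec (CommRingCat.of F) ⟶ Spec R) ∧
      Nat.card (Spec (CommRingCat.of F) ⟶ Spec R) ≤ Nat.card (R →+* F) := by
  let Φ : (Spec (CommRingCat.of F) ⟶ Spec R) → (R →+* F) := fun g => (Spec.preimage g).hom
  have hΦ : Function.Injective Φ := by
    intro g g' h
    have h2 : Spec.preimage g = Spec.preimage g' := CommRingCat.hom_ext h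
    rw [← Spec.map_preimage g, h2, Spec.map_preimage]
  exact ⟨Finite.of_injective Φ hΦ, Nat.card_le_card_of_injective Φ hΦ⟩

/-- natural-number form of the arithmetic point-count bound -/
theorem exists_card_hom_le_nat {X : Scheme.{u}}
    (f : X ⟶ Spec (CommRingCat.of (ULift.{u} ℤ))) [LocallyOfFiniteType f] [QuasiCompact f] (r : ℕ)
    (hr : topologicalKrullDim X ≤ r) :
    ∃ c p₀ : ℕ, ∀ (p m : ℕ), p.Prime → 1 ≤ m → ∀ (F : Type u) [Field F], Nat.card F = p ^ m →
      Nat.card (Spec (CommRingCat.of F) ⟶ X) ≤ c * Nat.card F ^ r ∧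
      (p₀ ≤ p → Nat.card (Spec (CommRingCat.of F) ⟶ X) * Nat.card F ≤ c * Nat.card F ^ r) := by
  classical
  have : CompactSpace X := QuasiCompact.compactSpace_of_compactSpace f
  have hex : ∀ x : X, ∃ U : X.Opens, IsAffineOpen U ∧ x ∈ U := by
    intro x
    obtain ⟨_, ⟨U, hU, rfl⟩, hxU, -⟩ :=
      X.isBasis_affineOpens.exists_subset_of_mem_open (Set.mem_univ x) isOpen_univ
    exact ⟨U, hU, hxU⟩
  choose U hU hxU using hex
  obtain ⟨t, -, ht⟩ := isCompact_univ.elim_nhds_subcover (fun x => ((U x : X.Opens) : Set X))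
    (fun x _ => (U x).2.mem_nhds (hxU x))
  have hdim : ∀ y : X, ringKrullDim Γ(X, U y) ≤ r := by
    intro y
    rw [← PrimeSpectrum.topologicalKrullDim_eq_ringKrullDim Γ(X, U y)]
    change topologicalKrullDim (Spec Γ(X, U y)) ≤ r
    rw [← IsHomeomorph.topologicalKrullDim_eq _ (hU y).isoSpec.hom.homeomorph.isHomeomorph]
    exact (topologicalKrullDim_subspace_le X (U y)).trans hr
  have hb : ∀ y : X, ∃ c p₀ : ℕ, ∀ (p m : ℕ), p.Prime → 1 ≤ m → ∀ (F : Type u) [Field F],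
      Nat.card F = p ^ m →
      Nat.card (Γ(X, U y) →+* F) ≤ c * Nat.card F ^ r ∧
      (p₀ ≤ p → Nat.card (Γ(X, U y) →+* F) * Nat.card F ≤ c * Nat.card F ^ r) := by
    intro y
    haveI := finiteType_int_of_affineOpen f (U y) (hU y)
    exact card_ringHom_arith Γ(X, U y) r (hdim y)
  choose c p₀ hc using hb
  refine ⟨∑ y : t, c y.1, Finset.univ.sup (fun y : t => p₀ y.1), ?_⟩
  intro p m hp hm F _ hF
  haveI : Finite F := Nat.finite_of_card_ne_zero (by rw [hF]; exact pow_ne_zero _ hp.ne_zero)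
  have hcov : ∀ x : X, ∃ i : t, x ∈ Set.range ((hU i.1).fromSpec) := by
    intro x
    have := ht (Set.mem_univ x)
    simp only [Set.mem_iUnion] at this
    obtain ⟨y, hy, hxy⟩ := this
    refine ⟨⟨y, hy⟩, ?_⟩
    rw [(hU y).range_fromSpec]
    exact hxy
  have hfinR : ∀ y : X, Finite (Γ(X, U y) →+* F) := fun y => by
    haveI := finiteType_int_of_affineOpen f (U y) (hU y)
    exact finite_ringHom_of_finiteType _ F
  have hpiece : ∀ y : X, Finite (Spec (CommRingCat.of F) ⟶ Spec Γ(X, U y)) ∧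
      Nat.card (Spec (CommRingCat.of F) ⟶ Spec Γ(X, U y)) ≤ Nat.card (Γ(X, U y) →+* F) :=
    fun y => by
      haveI := hfinR y
      exact card_hom_spec_le Γ(X, U y) F
  have h1 := card_hom_le_sum (fun i : t => Spec Γ(X, U i.1)) (fun i => (hU i.1).fromSpec) hcov F
    (fun i => (hpiece i.1).1)
  constructor
  · refine h1.2.trans ?_
    rw [Finset.sum_mul]
    refine Finset.sum_le_sum fun i _ => ?_
    exact (hpiece i.1).2.trans (hc i.1 p m hp hm F hF).1
  · intro hle
    refine (Nat.mul_le_mul_right _ h1.2).trans ?_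
    rw [Finset.sum_mul, Finset.sum_mul]
    refine Finset.sum_le_sum fun i _ => ?_
    refine (Nat.mul_le_mul_right _ (hpiece i.1).2).trans ?_
    refine (hc i.1 p m hp hm F hF).2 ?_
    exact (Finset.le_sup (f := fun y : t => p₀ y.1) (Finset.mem_univ i)).trans hle

/-- finiteness of the set of points with values in a finite field -/
theorem finite_hom_spec_of_finite {X : Scheme.{u}}
    (f : X ⟶ Spec (CommRingCat.of (ULift.{u} ℤ))) [LocallyOfFiniteType f] [QuasiCompact f]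
    (F : Type u) [Field F] [Finite F] : Finite (Spec (CommRingCat.of F) ⟶ X) := by
  classical
  have : CompactSpace X := QuasiCompact.compactSpace_of_compactSpace f
  have hex : ∀ x : X, ∃ U : X.Opens, IsAffineOpen U ∧ x ∈ U := by
    intro x
    obtain ⟨_, ⟨U, hU, rfl⟩, hxU, -⟩ :=
      X.isBasis_affineOpens.exists_subset_of_mem_open (Set.mem_univ x) isOpen_univ
    exact ⟨U, hU, hxU⟩
  choose U hU hxU using hex
  obtain ⟨t, -, ht⟩ := isCompact_univ.elim_nhds_subcover (fun x => ((U x : X.Opens) : Set X))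
    (fun x _ => (U x).2.mem_nhds (hxU x))
  have hcov : ∀ x : X, ∃ i : t, x ∈ Set.range ((hU i.1).fromSpec) := by
    intro x
    have := ht (Set.mem_univ x)
    simp only [Set.mem_iUnion] at this
    obtain ⟨y, hy, hxy⟩ := this
    refine ⟨⟨y, hy⟩, ?_⟩
    rw [(hU y).range_fromSpec]
    exact hxy
  have hpiece : ∀ y : X, Finite (Spec (CommRingCat.of F) ⟶ Spec Γ(X, U y)) := fun y => by
    haveI := finiteType_int_of_affineOpen f (U y) (hU y)
    haveI : Finite (Γ(X, U y) →+* F) := finite_ringHom_of_finiteType _ F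
    exact (card_hom_spec_le Γ(X, U y) F).1
  exact (card_hom_le_sum (fun i : t => Spec Γ(X, U i.1)) (fun i => (hU i.1).fromSpec) hcov F
    (fun i => hpiece i.1)).1

theorem exists_card_hom_le_real {X : Scheme.{u}}
    (f : X ⟶ Spec (CommRingCat.of (ULift.{u} ℤ))) [LocallyOfFiniteType f] [QuasiCompact f] (r : ℕ)
    (hr : topologicalKrullDim X ≤ r) :
    ∃ (c : ℝ) (p₀ : ℕ), 0 < c ∧ ∀ (p m : ℕ), p.Prime → 1 ≤ m →
      ∀ (F : Type u) [Field F], Nat.card F = p ^ m →
        (p₀ ≤ p → (Nat.card (Spec (CommRingCat.of F) ⟶ X) : ℝ) ≤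
            c * (p : ℝ) ^ ((m : ℝ) * ((r : ℝ) - 1))) ∧
        (p < p₀ → (Nat.card (Spec (CommRingCat.of F) ⟶ X) : ℝ) ≤ c * (p : ℝ) ^ ((m : ℝ) * r)) := by
  obtain ⟨c, p₀, h⟩ := exists_card_hom_le_nat f r hr
  refine ⟨(c : ℝ) + 1, p₀, by positivity, ?_⟩
  intro p m hp hm F _ hF
  obtain ⟨h1, h2⟩ := h p m hp hm F hF
  have hp0 : (0 : ℝ) < p := by exact_mod_cast hp.pos
  have hq0 : (0 : ℝ) < (p : ℝ) ^ m := pow_pos hp0 m
  constructor
  · intro hle
    have h3 := h2 hle
    rw [hF] at h3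
    have h4 : (Nat.card (Spec (CommRingCat.of F) ⟶ X) : ℝ) * (p : ℝ) ^ m ≤
        (c : ℝ) * ((p : ℝ) ^ m) ^ r := by exact_mod_cast h3
    have h5 : (p : ℝ) ^ ((m : ℝ) * ((r : ℝ) - 1)) = ((p : ℝ) ^ m) ^ r / (p : ℝ) ^ m := by
      rw [Real.rpow_mul hp0.le, Real.rpow_natCast, Real.rpow_sub_one hq0.ne', Real.rpow_natCast]
    rw [h5, ← mul_div_assoc, le_div_iff₀ hq0]
    refine h4.trans ?_
    have : (0 : ℝ) ≤ ((p : ℝ) ^ m) ^ r := by positivity
    nlinarith
  · intro _
    rw [hF] at h1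
    have h4 : (Nat.card (Spec (CommRingCat.of F) ⟶ X) : ℝ) ≤ (c : ℝ) * ((p : ℝ) ^ m) ^ r := by
      exact_mod_cast h1
    have h5 : (p : ℝ) ^ ((m : ℝ) * (r : ℝ)) = ((p : ℝ) ^ m) ^ r := by
      rw [Real.rpow_mul hp0.le, Real.rpow_natCast, Real.rpow_natCast]
    rw [h5]
    refine h4.trans ?_
    have : (0 : ℝ) ≤ ((p : ℝ) ^ m) ^ r := by positivity
    nlinarith

end Groth.Agent.Lib.Helper79.PtBound
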