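import Mathlib
import Groth.Prelude.Def_W4c1zetahwZeta
import Groth.Agent.Lib.Helper79.EulerAbs
import Groth.Agent.Lib.Helper79.PtBound4

/-!
# The Dirichlet series of an arithmetic scheme: convergence and nonvanishing (helper79)
-/

set_option linter.style.haveILetI false

namespace Groth.Agent.Lib.Helper79.Euler

open AlgebraicGeometry CategoryTheory

universe u

open scoped Classical in
/-- norm of a point: size of the residue field at closed points, `0` otherwise -/
noncomputable def ptNorm (X : Scheme.{u}) (x : X) : ℕ :=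
  if IsClosed ({x} : Set X) then Nat.card (X.residueField x) else 0

theorem ptNorm_ne_one (X : Scheme.{u}) (x : X) : ptNorm X x ≠ 1 := by
  unfold ptNorm
  split_ifs
  · intro h
    rw [Nat.card_eq_one_iff_unique] at h
    exact not_subsingleton _ h.1
  · exact zero_ne_one

theorem ptNorm_of_ne_zero {X : Scheme.{u}} {x : X} (h : ptNorm X x ≠ 0) :
    IsClosed ({x} : Set X) ∧ ptNorm X x = Nat.card (X.residueField x) := by
  unfold ptNorm at h ⊢
  split_ifs at h ⊢ with hc
  · exact ⟨hc, rfl⟩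
  · exact absurd rfl h

theorem cycleNormCount_eq_cnt (X : Scheme.{u}) (n : ℕ) (hn : n ≠ 0) :
    Zeta.cycleNormCount X n = cnt (ptNorm X) n := by
  unfold Zeta.cycleNormCount cnt
  refine Nat.card_congr (Equiv.subtypeEquivRight fun α => ?_)
  show _ ↔ nrm (ptNorm X) α = n
  unfold nrm Finsupp.prod
  constructor
  · rintro ⟨hcl, hprod⟩
    rw [← hprod]
    refine Finset.prod_congr rfl fun x hx => ?_
    beta_reduce
    unfold ptNorm
    rw [if_pos (hcl x hx)]
  · intro hprod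
    have hne : ∀ x ∈ α.support, ptNorm X x ≠ 0 := by
      intro x hx h0
      apply hn
      rw [← hprod]
      refine Finset.prod_eq_zero hx ?_
      beta_reduce
      rw [h0, zero_pow (Finsupp.mem_support_iff.mp hx)]
    refine ⟨fun x hx => (ptNorm_of_ne_zero (hne x hx)).1, ?_⟩
    rw [← hprod]
    refine Finset.prod_congr rfl fun x hx => ?_
    beta_reduce
    rw [(ptNorm_of_ne_zero (hne x hx)).2]

theorem exists_ringEquiv_of_ptNorm_eq {X : Scheme.{u}} {n : ℕ} (hn : n ≠ 0) {x x₀ : X}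
    (hx : ptNorm X x = n) (h0 : ptNorm X x₀ = n) :
    Nonempty (X.residueField x ≃+* X.residueField x₀) := by
  have h1 := (ptNorm_of_ne_zero (by rw [hx]; exact hn)).2
  have h2 := (ptNorm_of_ne_zero (by rw [h0]; exact hn)).2
  haveI : Finite (X.residueField x) := Nat.finite_of_card_ne_zero (by rw [← h1, hx]; exact hn)
  haveI : Finite (X.residueField x₀) := Nat.finite_of_card_ne_zero (by rw [← h2, h0]; exact hn)
  haveI : Fintype (X.residueField x) := Fintype.ofFinite _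
  haveI : Fintype (X.residueField x₀) := Fintype.ofFinite _
  refine ⟨FiniteField.ringEquivOfCardEq ?_⟩
  rw [← Nat.card_eq_fintype_card, ← Nat.card_eq_fintype_card, ← h1, ← h2, hx, h0]

/-- the morphism `Spec κ(x₀) ⟶ X` with image `x`, for `x` with the same norm as `x₀` -/
noncomputable def ptHom {X : Scheme.{u}} {n : ℕ} (hn : n ≠ 0) {x x₀ : X}
    (hx : ptNorm X x = n) (h0 : ptNorm X x₀ = n) :
    Spec (CommRingCat.of (X.residueField x₀)) ⟶ X :=
  Spec.map (CommRingCat.ofHom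
    ((exists_ringEquiv_of_ptNorm_eq hn hx h0).some : X.residueField x →+* X.residueField x₀)) ≫
    X.fromSpecResidueField x

theorem ptHom_apply {X : Scheme.{u}} {n : ℕ} (hn : n ≠ 0) {x x₀ : X}
    (hx : ptNorm X x = n) (h0 : ptNorm X x₀ = n) (pt : Spec (CommRingCat.of (X.residueField x₀))) :
    (ptHom hn hx h0) pt = x := by
  unfold ptHom
  rw [Scheme.Hom.comp_apply]
  exact Scheme.fromSpecResidueField_apply x _

theorem card_le_card_hom {X : Scheme.{u}} {n : ℕ} (hn : n ≠ 0) (x₀ : X) (h0 : ptNorm X x₀ = n)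
    [Finite (Spec (CommRingCat.of (X.residueField x₀)) ⟶ X)] (T : Finset X)
    (hT : ∀ x ∈ T, ptNorm X x = n) :
    T.card ≤ Nat.card (Spec (CommRingCat.of (X.residueField x₀)) ⟶ X) := by
  classical
  haveI : Fintype (Spec (CommRingCat.of (X.residueField x₀)) ⟶ X) := Fintype.ofFinite _
  rw [Nat.card_eq_fintype_card, ← Finset.card_univ]
  refine Finset.card_le_card_of_injOn
    (fun x => if hx : ptNorm X x = n then ptHom hn hx h0 else ptHom hn h0 h0)
    (fun _ _ => Finset.mem_coe.mpr (Finset.mem_univ _)) ?_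
  intro x hx x' hx' h
  simp only [dif_pos (hT x hx), dif_pos (hT x' hx')] at h
  let pt : Spec (CommRingCat.of (X.residueField x₀)) := ⟨⊥, Ideal.isPrime_bot⟩
  rw [← ptHom_apply hn (hT x hx) h0 pt, ← ptHom_apply hn (hT x' hx') h0 pt, h]

open scoped Classical in
/-- the majorant -/
noncomputable def maj (c p₀ r : ℕ) (σ : ℝ) (n : ℕ) : ℝ :=
  (c : ℝ) * (n : ℝ) ^ ((r : ℝ) - 1 - σ) +
    ∑ p ∈ (Finset.range p₀).filter (2 ≤ ·),
      (c : ℝ) * (if n ∈ Set.range (fun m : ℕ => p ^ m) then (n : ℝ) ^ ((r : ℝ) - σ) else 0)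

theorem maj_nonneg (c p₀ r : ℕ) (σ : ℝ) (n : ℕ) : 0 ≤ maj c p₀ r σ n := by
  unfold maj
  refine add_nonneg (by positivity) (Finset.sum_nonneg fun p _ => ?_)
  split_ifs <;> positivity

open scoped Classical in
theorem summable_pow_indicator (p : ℕ) (hp : 2 ≤ p) (e : ℝ) (he : e < 0) :
    Summable (fun n : ℕ => if n ∈ Set.range (fun m : ℕ => p ^ m) then (n : ℝ) ^ e else 0) := by
  have hinj : Function.Injective (fun m : ℕ => p ^ m) := Nat.pow_right_injective hp
  rw [← Function.Injective.summable_iff hinj (fun n hn => if_neg hn)]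
  have hp0 : (0 : ℝ) < p := by exact_mod_cast (by omega : 0 < p)
  have h1 : ((fun n : ℕ => if n ∈ Set.range (fun m : ℕ => p ^ m) then (n : ℝ) ^ e else 0) ∘
      fun m : ℕ => p ^ m) = fun m : ℕ => ((p : ℝ) ^ e) ^ m := by
    funext m
    simp only [Function.comp_apply, Set.mem_range, exists_apply_eq_apply, if_true]
    rw [Nat.cast_pow, ← Real.rpow_natCast, ← Real.rpow_mul hp0.le, mul_comm, Real.rpow_mul hp0.le,
      Real.rpow_natCast]
  rw [h1]
  refine summable_geometric_of_lt_one (by positivity) ?_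
  exact Real.rpow_lt_one_of_one_lt_of_neg (by exact_mod_cast (by omega : 1 < p)) he

theorem summable_maj (c p₀ r : ℕ) (σ : ℝ) (hσ : (r : ℝ) < σ) : Summable (maj c p₀ r σ) := by
  unfold maj
  refine Summable.add ?_ ?_
  · exact (Real.summable_nat_rpow.mpr (by linarith)).mul_left _
  · refine summable_sum fun p hp => ?_
    have hp2 : 2 ≤ p := (Finset.mem_filter.mp hp).2
    exact (summable_pow_indicator p hp2 ((r : ℝ) - σ) (by linarith)).mul_left _

section Arith

variable {X : Scheme.{u}} (f : X ⟶ Spec (CommRingCat.of (ULift.{u} ℤ))) [LocallyOfFiniteType f]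
  [QuasiCompact f]

include f in
theorem fiber_bound (c p₀ r : ℕ)
    (hc : ∀ (p m : ℕ), p.Prime → 1 ≤ m → ∀ (F : Type u) [Field F], Nat.card F = p ^ m →
      Nat.card (Spec (CommRingCat.of F) ⟶ X) ≤ c * Nat.card F ^ r ∧
      (p₀ ≤ p → Nat.card (Spec (CommRingCat.of F) ⟶ X) * Nat.card F ≤ c * Nat.card F ^ r))
    (σ : ℝ) (hσ : (r : ℝ) < σ) (n : ℕ) (T : Finset X) (hT : ∀ x ∈ T, ptNorm X x = n) :
    (T.card : ℝ) * (n : ℝ) ^ (-σ) ≤ maj c p₀ r σ n := by
  classical
  have hσ0 : 0 < σ := lt_of_le_of_lt (Nat.cast_nonneg r) hσ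
  rcases T.eq_empty_or_nonempty with rfl | ⟨x₀, hx₀⟩
  · simpa using maj_nonneg c p₀ r σ n
  rcases Nat.eq_zero_or_pos n with rfl | hn
  · rw [Nat.cast_zero, Real.zero_rpow (neg_ne_zero.mpr hσ0.ne'), mul_zero]
    exact maj_nonneg _ _ _ _ _
  have h0 : ptNorm X x₀ = n := hT x₀ hx₀
  have h0' := (ptNorm_of_ne_zero (by rw [h0]; exact hn.ne')).2
  haveI : Finite (X.residueField x₀) :=
    Nat.finite_of_card_ne_zero (by rw [← h0', h0]; exact hn.ne')
  haveI : Fintype (X.residueField x₀) := Fintype.ofFinite _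
  obtain ⟨p, _, m, hp, hcard⟩ := FiniteField.card' (X.residueField x₀)
  have hcardn : Nat.card (X.residueField x₀) = p ^ (m : ℕ) := by
    rw [Nat.card_eq_fintype_card, hcard]
  have hnpm : n = p ^ (m : ℕ) := by rw [← h0, h0', hcardn]
  haveI : Finite (Spec (CommRingCat.of (X.residueField x₀)) ⟶ X) :=
    PtBound.finite_hom_spec_of_finite f _
  have hle := card_le_card_hom hn.ne' x₀ h0 T hT
  obtain ⟨hb1, hb2⟩ := hc p m hp m.2 (X.residueField x₀) hcardn
  rw [← h0', h0] at hb1 hb2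
  have hnR : (0 : ℝ) < n := by exact_mod_cast hn
  unfold maj
  by_cases hpp : p₀ ≤ p
  · have h1 : T.card * n ≤ c * n ^ r := (Nat.mul_le_mul_right _ hle).trans (hb2 hpp)
    have h2 : (T.card : ℝ) * n ≤ c * (n : ℝ) ^ r := by exact_mod_cast h1
    have h3 : (T.card : ℝ) * (n : ℝ) ^ (-σ) ≤ (c : ℝ) * (n : ℝ) ^ ((r : ℝ) - 1 - σ) := by
      have e1 : (n : ℝ) ^ ((r : ℝ) - 1 - σ) = (n : ℝ) ^ r * ((n : ℝ)⁻¹ * (n : ℝ) ^ (-σ)) := by
        rw [sub_eq_add_neg, sub_eq_add_neg, Real.rpow_add hnR, Real.rpow_add hnR,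
          Real.rpow_natCast, Real.rpow_neg_one, mul_assoc]
      rw [e1]
      have e2 : (T.card : ℝ) ≤ (c : ℝ) * (n : ℝ) ^ r * (n : ℝ)⁻¹ := by
        rw [le_mul_inv_iff₀ hnR]; exact h2
      calc (T.card : ℝ) * (n : ℝ) ^ (-σ) ≤ ((c : ℝ) * (n : ℝ) ^ r * (n : ℝ)⁻¹) * (n : ℝ) ^ (-σ) :=
            mul_le_mul_of_nonneg_right e2 (by positivity)
        _ = (c : ℝ) * ((n : ℝ) ^ r * ((n : ℝ)⁻¹ * (n : ℝ) ^ (-σ))) := by ring
    refine h3.trans (le_add_of_nonneg_right (Finset.sum_nonneg fun q _ => ?_))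
    split_ifs <;> positivity
  · have hp2 : 2 ≤ p := hp.two_le
    have h1 : T.card ≤ c * n ^ r := hle.trans hb1
    have h2 : (T.card : ℝ) ≤ c * (n : ℝ) ^ r := by exact_mod_cast h1
    have h3 : (T.card : ℝ) * (n : ℝ) ^ (-σ) ≤ (c : ℝ) * (n : ℝ) ^ ((r : ℝ) - σ) := by
      have e1 : (n : ℝ) ^ ((r : ℝ) - σ) = (n : ℝ) ^ r * (n : ℝ) ^ (-σ) := by
        rw [sub_eq_add_neg, Real.rpow_add hnR, Real.rpow_natCast]
      rw [e1, ← mul_assoc]
      exact mul_le_mul_of_nonneg_right h2 (by positivity)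
    have hmem : p ∈ (Finset.range p₀).filter (2 ≤ ·) :=
      Finset.mem_filter.mpr ⟨Finset.mem_range.mpr (by omega), hp2⟩
    have h4 : (c : ℝ) * (n : ℝ) ^ ((r : ℝ) - σ) ≤
        ∑ q ∈ (Finset.range p₀).filter (2 ≤ ·),
          (c : ℝ) * (if n ∈ Set.range (fun m : ℕ => q ^ m) then (n : ℝ) ^ ((r : ℝ) - σ) else 0) := by
      have h5 := Finset.single_le_sum (f := fun q : ℕ =>
        (c : ℝ) * (if n ∈ Set.range (fun m : ℕ => q ^ m) then (n : ℝ) ^ ((r : ℝ) - σ) else 0))
        (fun q _ => by split_ifs <;> positivity) hmem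
      refine le_trans (le_of_eq ?_) h5
      rw [if_pos ⟨(m : ℕ), hnpm.symm⟩]
    refine (h3.trans h4).trans (le_add_of_nonneg_left (by positivity))

include f in
theorem summable_ptNorm_rpow (r : ℕ) (hr : topologicalKrullDim X ≤ r) (σ : ℝ) (hσ : (r : ℝ) < σ) :
    Summable (fun x : X => (ptNorm X x : ℝ) ^ (-σ)) := by
  classical
  obtain ⟨c, p₀, hc⟩ := PtBound.exists_card_hom_le_nat f r hr
  have hS := summable_maj c p₀ r σ hσ
  refine summable_of_sum_le (c := ∑' n, maj c p₀ r σ n) (fun x => by positivity) (fun T => ?_)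
  rw [← Finset.sum_fiberwise_of_maps_to (s := T) (t := T.image (ptNorm X)) (g := ptNorm X)
    (fun x hx => Finset.mem_image_of_mem _ hx)]
  refine le_trans (Finset.sum_le_sum (f := fun n => ∑ x ∈ T with ptNorm X x = n,
    (ptNorm X x : ℝ) ^ (-σ)) (g := maj c p₀ r σ) fun n _ => ?_)
    (hS.sum_le_tsum _ (fun n _ => maj_nonneg _ _ _ _ _))
  have h1 : ∑ x ∈ T with ptNorm X x = n, (ptNorm X x : ℝ) ^ (-σ) =
      ((T.filter (fun x => ptNorm X x = n)).card : ℝ) * (n : ℝ) ^ (-σ) := by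
    rw [Finset.sum_congr rfl (g := fun _ => (n : ℝ) ^ (-σ))
      (fun x hx => by rw [(Finset.mem_filter.mp hx).2]), Finset.sum_const, nsmul_eq_mul]
  rw [h1]
  exact fiber_bound f c p₀ r hc σ hσ n _ (fun x hx => (Finset.mem_filter.mp hx).2)

include f in
/-- **S13086**: the Dirichlet series of an arithmetic scheme converges absolutely and has no zeros
for `Re s > dim`. -/
theorem abscissa_le_and_ne_zero (r : ℕ) (hr : topologicalKrullDim X ≤ r) :
    LSeries.abscissaOfAbsConv (Zeta.arithCoeff X) ≤ (r : ℝ) ∧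
      ∀ s : ℂ, (r : ℝ) < s.re → LSeries (Zeta.arithCoeff X) s ≠ 0 := by
  have hcongr : ∀ {n : ℕ}, n ≠ 0 → Zeta.arithCoeff X n = (fun n => (cnt (ptNorm X) n : ℂ)) n := by
    intro n hn
    show ((Zeta.cycleNormCount X n : ℕ) : ℂ) = _
    rw [cycleNormCount_eq_cnt X n hn]
  have hmain : ∀ s : ℂ, (r : ℝ) < s.re →
      LSeriesSummable (Zeta.arithCoeff X) s ∧ LSeries (Zeta.arithCoeff X) s ≠ 0 := by
    intro s hs
    have hσ0 : 0 < s.re := lt_of_le_of_lt (Nat.cast_nonneg r) hs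
    have h1 := lseries_cnt_summable_and_ne_zero (ptNorm X) s (ptNorm_ne_one X) hσ0
      (summable_ptNorm_rpow f r hr s.re hs)
    rw [LSeriesSummable_congr s hcongr, LSeries_congr hcongr s]
    exact h1
  refine ⟨?_, fun s hs => (hmain s hs).2⟩
  refine LSeries.abscissaOfAbsConv_le_of_forall_lt_LSeriesSummable fun y hy => ?_
  exact (hmain (y : ℂ) (by simpa using hy)).1

end Arith

section FiniteField

variable {k : Type u} [Field k] [Finite k]

/-- the structure map `Spec k ⟶ Spec ℤ` -/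
noncomputable def toSpecInt (k : Type u) [Field k] :
    Spec (CommRingCat.of k) ⟶ Spec (CommRingCat.of (ULift.{u} ℤ)) :=
  Spec.map (CommRingCat.ofHom ((Int.castRingHom k).comp (ULift.ringEquiv : ULift.{u} ℤ ≃+* ℤ).toRingHom))

instance : LocallyOfFiniteType (toSpecInt k) := by
  unfold toSpecInt
  rw [HasRingHomProperty.Spec_iff (P := @LocallyOfFiniteType)]
  show RingHom.FiniteType ((Int.castRingHom k).comp (ULift.ringEquiv : ULift.{u} ℤ ≃+* ℤ).toRingHom)
  letI := ((Int.castRingHom k).comp (ULift.ringEquiv : ULift.{u} ℤ ≃+* ℤ).toRingHom).toAlgebra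
  haveI : Module.Finite (ULift.{u} ℤ) k := Module.Finite.of_finite
  exact (inferInstance : Algebra.FiniteType (ULift.{u} ℤ) k)

/-- **S13084** -/
theorem abscissa_le_and_ne_zero_finiteField {Y : Scheme.{u}} (f : Y ⟶ Spec (CommRingCat.of k))
    [LocallyOfFiniteType f] [QuasiCompact f] (r : ℕ) (hr : topologicalKrullDim Y ≤ r) :
    LSeries.abscissaOfAbsConv (Zeta.arithCoeff Y) ≤ (r : ℝ) ∧
      ∀ s : ℂ, (r : ℝ) < s.re → LSeries (Zeta.arithCoeff Y) s ≠ 0 := by
  haveI : QuasiCompact (toSpecInt k) := by unfold toSpecInt; infer_instance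
  exact abscissa_le_and_ne_zero (f ≫ toSpecInt k) r hr

end FiniteField

end Groth.Agent.Lib.Helper79.Euler
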