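import Mathlib
import Groth.Agent.Lib.Helper16.FixApp
import Groth.Agent.Lib.Helper16.RingCoeffDescent

/-!
# Universal vanishing loci over a field (helper79)

Over a field `k`, for arbitrary `k`-schemes `A`, `X` and an ideal sheaf `𝓔` on `A ×_k X` there is
an ideal sheaf `𝓘` on `X` such that for every `x : T ⟶ X`, `𝓘` pulls back to zero along `x` iff
`𝓔` pulls back to zero along `A ◁ x : A ×_k T ⟶ A ×_k X`.  (Generalizes helper16's `FixApp`
from `A` affine to arbitrary `A`, using that everything is free over a field.)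
-/

set_option autoImplicit false
set_option linter.style.haveILetI false
set_option linter.unusedSectionVars false

universe u

open CategoryTheory CategoryTheory.Limits MonoidalCategory CartesianMonoidalCategory
  AlgebraicGeometry TopologicalSpace

namespace Groth.Agent.Lib.Helper79.FieldLocus

open Groth.Agent.Lib.Helper16.RingCoeff Groth.Agent.Lib.Helper16.FixCore
  Groth.Agent.Lib.Helper16.FixApp

section Cover

/-- an ideal sheaf vanishing on a jointly surjective family of open immersions vanishes -/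
theorem eq_bot_of_comap_eq_bot {Y : Scheme.{u}} (𝓙 : Y.IdealSheafData) {ι : Type*}
    (Z : ι → Scheme.{u}) (f : ∀ i, Z i ⟶ Y) [∀ i, IsOpenImmersion (f i)]
    (hcov : ∀ y : Y, ∃ i, y ∈ Set.range (f i)) (h : ∀ i, 𝓙.comap (f i) = ⊥) : 𝓙 = ⊥ := by
  let κ := Σ i, (Z i).affineOpens
  let W : κ → Y.affineOpens := fun c => ⟨f c.1 ''ᵁ c.2.1, c.2.2.image_of_isOpenImmersion (f c.1)⟩
  refine Scheme.IdealSheafData.ext_of_iSup_eq_top W ?_ ?_
  · rw [eq_top_iff]
    intro y _
    obtain ⟨i, z, rfl⟩ := hcov y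
    obtain ⟨_, ⟨U, hU, rfl⟩, hzU, -⟩ :=
      (Z i).isBasis_affineOpens.exists_subset_of_mem_open (Set.mem_univ z) isOpen_univ
    exact Opens.mem_iSup.mpr ⟨⟨i, ⟨U, hU⟩⟩, ⟨z, hzU, rfl⟩⟩
  · rintro ⟨i, U⟩
    have h1 := Scheme.IdealSheafData.ideal_comap_of_isOpenImmersion 𝓙 (f i) U
    rw [h i] at h1
    rw [Scheme.IdealSheafData.ideal_bot, Pi.bot_apply, eq_bot_iff]
    intro s hs
    have h2 : ((f i).appIso U.1).hom.hom s ∈
        Ideal.comap ((f i).appIso U.1).inv.hom (𝓙.ideal (W ⟨i, U⟩)) := by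
      rw [Ideal.mem_comap]
      have : ((f i).appIso U.1).inv.hom (((f i).appIso U.1).hom.hom s) = s := by
        rw [← CommRingCat.comp_apply, Iso.hom_inv_id]
        rfl
      rw [this]
      exact hs
    rw [← h1] at h2
    have h3 : ((f i).appIso U.1).hom.hom s = 0 := by
      simpa using h2
    have h4 : ((f i).appIso U.1).inv.hom (((f i).appIso U.1).hom.hom s) = s := by
      rw [← CommRingCat.comp_apply, Iso.hom_inv_id]
      rfl
    rw [h3, map_zero] at h4
    rw [Ideal.mem_bot]
    exact h4.symm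

end Cover

section Field

variable {k : Type u} [Field k]

/-- over a field, with `A` affine, the coordinate rings of `A ×_k X` have coefficient ideals -/
theorem hasCoeff_snd (A X : Over (Spec (CommRingCat.of k))) [IsAffine A.left]
    (V : X.left.affineOpens) : HasCoeff ((snd A X).left.app V.1) := by
  have hpb : IsPullback (fst A X).left (snd A X).left A.hom X.hom :=
    IsPullback.of_hasPullback A.hom X.hom
  have hVt : V.1 ≤ X.hom ⁻¹ᵁ (⊤ : (Spec (CommRingCat.of k)).Opens) := le_top
  have hUY : (snd A X).left ⁻¹ᵁ V.1 =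
      (fst A X).left ⁻¹ᵁ (A.hom ⁻¹ᵁ (⊤ : (Spec (CommRingCat.of k)).Opens)) ⊓
        (snd A X).left ⁻¹ᵁ V.1 := by
    refine (inf_eq_right.2 ?_).symm
    intro y _
    trivial
  have hiso := isIso_pushoutSection_of_isAffineOpen hpb
    (US := (⊤ : (Spec (CommRingCat.of k)).Opens)) (UT := V.1)
    (UX := A.hom ⁻¹ᵁ (⊤ : (Spec (CommRingCat.of k)).Opens)) hVt le_rfl hUY (isAffineOpen_top _) V.2
    ((isAffineOpen_top _).preimage A.hom)
  have hpo := (isIso_pushoutSection_iff hpb hVt le_rfl hUY).1 hiso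
  rw [← Scheme.Hom.app_eq_appLE, ← Scheme.Hom.app_eq_appLE] at hpo
  apply hasCoeff_of_projective
  letI := (A.hom.app (⊤ : (Spec (CommRingCat.of k)).Opens)).hom.toAlgebra
  letI := (X.hom.appLE (⊤ : (Spec (CommRingCat.of k)).Opens) V.1 hVt).hom.toAlgebra
  letI := ((snd A X).left.app V.1).hom.toAlgebra
  have hF : IsField Γ(Spec (CommRingCat.of k), ⊤) :=
    MulEquiv.isField (Field.toIsField k)
      (Scheme.ΓSpecIso (CommRingCat.of k)).commRingCatIsoToRingEquiv.toMulEquiv
  letI : Field Γ(Spec (CommRingCat.of k), ⊤) := hF.toField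
  haveI : Module.Projective Γ(Spec (CommRingCat.of k), ⊤)
      Γ(A.left, A.hom ⁻¹ᵁ (⊤ : (Spec (CommRingCat.of k)).Opens)) := Module.Projective.of_free
  exact Groth.Agent.Lib.Helper16.RingCoeffDescent.projective_of_isPushout
    (K := Γ(Spec (CommRingCat.of k), ⊤))
    (A0 := Γ(A.left, A.hom ⁻¹ᵁ (⊤ : (Spec (CommRingCat.of k)).Opens))) (R := Γ(X.left, V.1))
    (B := Γ((A ⊗ X).left, (snd A X).left ⁻¹ᵁ V.1)) _ hpo

section Main

variable (A X : Over (Spec (CommRingCat.of k))) (𝓔 : (A ⊗ X).left.IdealSheafData)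

/-- `A` restricted to an affine open -/
noncomputable abbrev AU (U : A.left.affineOpens) : Over (Spec (CommRingCat.of k)) := Over.mk (U.1.ι ≫ A.hom)

/-- the inclusion of the affine open -/
noncomputable abbrev jU (U : A.left.affineOpens) : AU A U ⟶ A := Over.homMk U.1.ι rfl

instance isAffine_AU (U : A.left.affineOpens) : IsAffine (AU A U).left := U.2

instance isAffineHom_AU (U : A.left.affineOpens) : IsAffineHom (AU A U).hom :=
  isAffineHom_of_isAffine _

theorem isPullback_whiskerRight {B B' : Over (Spec (CommRingCat.of k))} (j : B' ⟶ B)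
    (T : Over (Spec (CommRingCat.of k))) :
    IsPullback (j ▷ T).left (fst B' T).left (fst B T).left j.left := by
  have hR : IsPullback (fst B T).left (snd B T).left B.hom T.hom :=
    IsPullback.of_hasPullback B.hom T.hom
  have hC : IsPullback (fst B' T).left (snd B' T).left B'.hom T.hom :=
    IsPullback.of_hasPullback B'.hom T.hom
  refine IsPullback.of_right ?_ ?_ hR.flip
  · have e1 : (j ▷ T).left ≫ (snd B T).left = (snd B' T).left := by
      rw [← Over.comp_left, whiskerRight_snd]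
    have e2 : j.left ≫ B.hom = B'.hom := Over.w j
    rw [e1, e2]
    exact hC.flip
  · rw [← Over.comp_left, ← Over.comp_left, whiskerRight_fst]

instance isOpenImmersion_whiskerRight (U : A.left.affineOpens)
    (T : Over (Spec (CommRingCat.of k))) : IsOpenImmersion (jU A U ▷ T).left :=
  MorphismProperty.of_isPullback (P := @IsOpenImmersion) (isPullback_whiskerRight (jU A U) T).flip
    (inferInstanceAs (IsOpenImmersion U.1.ι))

theorem exists_mem_range_whiskerRight (T : Over (Spec (CommRingCat.of k))) (y : (A ⊗ T).left) :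
    ∃ U : A.left.affineOpens, y ∈ Set.range (jU A U ▷ T).left := by
  obtain ⟨_, ⟨U, hU, rfl⟩, hyU, -⟩ :=
    A.left.isBasis_affineOpens.exists_subset_of_mem_open (Set.mem_univ ((fst A T).left y))
      isOpen_univ
  refine ⟨⟨U, hU⟩, ?_⟩
  obtain ⟨o, ho, -⟩ := Scheme.exists_preimage_of_isPullback
    (isPullback_whiskerRight (jU A ⟨U, hU⟩) T) y (⟨_, hyU⟩ : (U : Scheme.{u})) (by
      show (fst A T).left y = (Scheme.Opens.ι U) ⟨_, hyU⟩
      rfl)
  exact ⟨o, ho⟩

/-- the universal vanishing ideal for the affine open `U` -/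
noncomputable def idealU (U : A.left.affineOpens) : X.left.IdealSheafData :=
  coreIdeal (snd (AU A U) X).left (𝓔.comap (jU A U ▷ X).left)
    (fun V => hasCoeff_snd (AU A U) X V)

/-- the universal vanishing ideal -/
noncomputable def ideal : X.left.IdealSheafData := ⨆ U, idealU A X 𝓔 U

theorem comap_idealU_eq_bot_iff (U : A.left.affineOpens) {T : Over (Spec (CommRingCat.of k))}
    (x : T ⟶ X) :
    (idealU A X 𝓔 U).comap x.left = ⊥ ↔ (𝓔.comap (A ◁ x).left).comap (jU A U ▷ T).left = ⊥ := by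
  unfold idealU
  rw [← comap_eq_bot_iff (snd (AU A U) X).left _ _ (isPullback_whiskerLeft x),
    ← Scheme.IdealSheafData.comap_comp, ← Scheme.IdealSheafData.comap_comp, ← Over.comp_left,
    ← Over.comp_left, whisker_exchange]

/-- **universal property** of the universal vanishing ideal over a field -/
theorem comap_ideal_eq_bot_iff {T : Over (Spec (CommRingCat.of k))} (x : T ⟶ X) :
    (ideal A X 𝓔).comap x.left = ⊥ ↔ 𝓔.comap (A ◁ x).left = ⊥ := by
  rw [comap_eq_bot_iff_le_ker]
  unfold ideal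
  rw [iSup_le_iff]
  constructor
  · intro h
    refine eq_bot_of_comap_eq_bot _ (fun U : A.left.affineOpens => ((AU A U) ⊗ T).left)
      (fun U => (jU A U ▷ T).left) (exists_mem_range_whiskerRight A T) ?_
    intro U
    rw [← comap_idealU_eq_bot_iff, comap_eq_bot_iff_le_ker]
    exact h U
  · intro h U
    rw [← comap_eq_bot_iff_le_ker, comap_idealU_eq_bot_iff, h]
    exact (Scheme.IdealSheafData.map_gc _).l_bot

/-- the closed subscheme of universal vanishing -/
theorem exists_closed :
    ∃ (Z : Over (Spec (CommRingCat.of k))) (i : Z ⟶ X), IsClosedImmersion i.left ∧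
      ∀ {T : Over (Spec (CommRingCat.of k))} (x : T ⟶ X),
        (∃ z : T ⟶ Z, z ≫ i = x) ↔ 𝓔.comap (A ◁ x).left = ⊥ := by
  set 𝓘 := ideal A X 𝓔 with h𝓘
  refine ⟨Over.mk (𝓘.subschemeι ≫ X.hom), Over.homMk 𝓘.subschemeι rfl,
    (inferInstance : IsClosedImmersion 𝓘.subschemeι), ?_⟩
  intro T x
  rw [← comap_ideal_eq_bot_iff, ← h𝓘, comap_eq_bot_iff_le_ker]
  constructor
  · rintro ⟨z, rfl⟩
    show 𝓘 ≤ (z.left ≫ 𝓘.subschemeι).ker
    calc 𝓘 = 𝓘.subschemeι.ker := 𝓘.ker_subschemeι.symm
      _ ≤ _ := Scheme.Hom.le_ker_comp _ _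
  · intro h
    have hle : 𝓘.subschemeι.ker ≤ x.left.ker := by
      rw [Scheme.IdealSheafData.ker_subschemeι]; exact h
    let z₀ : T.left ⟶ 𝓘.subscheme := IsClosedImmersion.lift 𝓘.subschemeι x.left hle
    have hz₀ : z₀ ≫ 𝓘.subschemeι = x.left := IsClosedImmersion.lift_fac _ _ _
    refine ⟨Over.homMk z₀ ?_, ?_⟩
    · show z₀ ≫ 𝓘.subschemeι ≫ X.hom = T.hom
      rw [← Category.assoc, hz₀]
      exact Over.w x
    · apply Over.OverMorphism.ext
      exact hz₀

end Main

end Field

end Groth.Agent.Lib.Helper79.FieldLocus
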