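import Mathlib
import Groth.Agent.Lib.Helper79.FieldLocus
import Groth.Agent.Lib.Helper43.SubGrp
import Groth.Agent.S0346
import Groth.Agent.S0351
import Groth.Prelude.Def_Red2

/-!
# Transporters, normalizers and centralizers in group schemes over a field (helper79)
-/

set_option autoImplicit false
set_option linter.style.haveILetI false
set_option linter.unusedSectionVars false

universe u

open CategoryTheory CategoryTheory.Limits MonoidalCategory CartesianMonoidalCategory MonObj GrpObj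
  AlgebraicGeometry TopologicalSpace

namespace Groth.Agent.Lib.Helper79.FieldTransp

open Groth.Agent.Lib.Helper16.FixApp Groth.Agent.Lib.Helper79

section Closed

variable {S : Scheme.{u}}

/-- the closed subscheme of an ideal sheaf, functorially -/
theorem exists_closed_of_ideal (X : Over S) (𝓘 : X.left.IdealSheafData) :
    ∃ (Z : Over S) (i : Z ⟶ X), IsClosedImmersion i.left ∧
      ∀ {T : Over S} (x : T ⟶ X), (∃ z : T ⟶ Z, z ≫ i = x) ↔ 𝓘.comap x.left = ⊥ := by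
  refine ⟨Over.mk (𝓘.subschemeι ≫ X.hom), Over.homMk 𝓘.subschemeι rfl,
    (inferInstance : IsClosedImmersion 𝓘.subschemeι), ?_⟩
  intro T x
  rw [comap_eq_bot_iff_le_ker]
  constructor
  · rintro ⟨z, rfl⟩
    show 𝓘 ≤ (z.left ≫ 𝓘.subschemeι).ker
    calc 𝓘 = 𝓘.subschemeι.ker := 𝓘.ker_subschemeι.symm
      _ ≤ _ := Scheme.Hom.le_ker_comp _ _
  · intro h
    have hle : 𝓘.subschemeι.ker ≤ x.left.ker := by
      rw [Scheme.IdealSheafData.ker_subschemeι]; exact h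
    let z₀ : T.left ⟶ 𝓘.subscheme := IsClosedImmersion.lift 𝓘.subschemeι x.left hle
    have hz₀ : z₀ ≫ 𝓘.subschemeι = x.left := IsClosedImmersion.lift_fac _ _ _
    refine ⟨Over.homMk z₀ ?_, ?_⟩
    · show z₀ ≫ 𝓘.subschemeι ≫ X.hom = T.hom
      rw [← Category.assoc, hz₀]
      exact Over.w x
    · apply Over.OverMorphism.ext
      exact hz₀

theorem comap_sup_eq_bot_iff {X T : Scheme.{u}} (𝓘₁ 𝓘₂ : X.IdealSheafData) (x : T ⟶ X) :
    (𝓘₁ ⊔ 𝓘₂).comap x = ⊥ ↔ 𝓘₁.comap x = ⊥ ∧ 𝓘₂.comap x = ⊥ := by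
  rw [comap_eq_bot_iff_le_ker, comap_eq_bot_iff_le_ker, comap_eq_bot_iff_le_ker, sup_le_iff]

end Closed

section Field

variable {k : Type u} [Field k] {A X W Y : Over (Spec (CommRingCat.of k))}

/-- `x` carries all points of `A` into `Y` under `φ` -/
def Into (φ : A ⊗ X ⟶ W) (y : Y ⟶ W) {T : Over (Spec (CommRingCat.of k))} (x : T ⟶ X) : Prop :=
  ∀ (T' : Over (Spec (CommRingCat.of k))) (t : T' ⟶ T) (a : T' ⟶ A),
    ∃ y' : T' ⟶ Y, y' ≫ y = lift a (t ≫ x) ≫ φ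

theorem into_iff (φ : A ⊗ X ⟶ W) (y : Y ⟶ W) {T : Over (Spec (CommRingCat.of k))} (x : T ⟶ X) :
    Into φ y x ↔ ∃ w : A ⊗ T ⟶ Y, w ≫ y = (A ◁ x) ≫ φ := by
  constructor
  · intro h
    obtain ⟨w, hw⟩ := h (A ⊗ T) (snd A T) (fst A T)
    refine ⟨w, ?_⟩
    have h2 : lift (fst A T) (snd A T ≫ x) = A ◁ x := by
      apply CartesianMonoidalCategory.hom_ext <;> simp
    rw [hw, h2]
  · rintro ⟨w, hw⟩ T' t a
    refine ⟨lift a t ≫ w, ?_⟩
    have h2 : lift a (t ≫ x) = lift a t ≫ (A ◁ x) := by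
      apply CartesianMonoidalCategory.hom_ext <;> simp
    rw [Category.assoc, hw, ← Category.assoc, h2]

theorem exists_ideal_into (φ : A ⊗ X ⟶ W) (y : Y ⟶ W) [IsClosedImmersion y.left] :
    ∃ 𝓘 : X.left.IdealSheafData, ∀ {T : Over (Spec (CommRingCat.of k))} (x : T ⟶ X),
      𝓘.comap x.left = ⊥ ↔ Into φ y x := by
  refine ⟨FieldLocus.ideal A X ((y.left.ker).comap φ.left), ?_⟩
  intro T x
  rw [FieldLocus.comap_ideal_eq_bot_iff, into_iff, ← Scheme.IdealSheafData.comap_comp,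
    comap_eq_bot_iff_le_ker]
  constructor
  · intro h
    let w₀ := IsClosedImmersion.lift y.left ((A ◁ x).left ≫ φ.left) h
    have hw₀ : w₀ ≫ y.left = (A ◁ x).left ≫ φ.left := IsClosedImmersion.lift_fac _ _ _
    refine ⟨Over.homMk w₀ ?_, ?_⟩
    · rw [← Over.w y, ← Category.assoc, hw₀, Category.assoc, Over.w φ, Over.w (A ◁ x)]
    · apply Over.OverMorphism.ext
      exact hw₀
  · rintro ⟨w, hw⟩
    have : (A ◁ x).left ≫ φ.left = w.left ≫ y.left := by
      rw [← Over.comp_left, ← Over.comp_left, hw]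
    rw [this]
    exact Scheme.Hom.le_ker_comp _ _

/-- a group scheme over a field is separated -/
theorem isSeparated_of_field (G : Over (Spec (CommRingCat.of k))) [GrpObj G] :
    IsSeparated G.hom := by
  rw [(Groth.Agent.S0346.result _ G).1]
  haveI : IsImmersion η[G].left := by
    haveI : IsImmersion (η[G].left ≫ G.hom) := by
      rw [Over.w η[G]]
      show IsImmersion (𝟙 _)
      infer_instance
    exact IsImmersion.of_comp η[G].left G.hom
  exact Groth.Agent.S0351.result k _ G η[G]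

end Field

section Grp

variable {E : Type*} [Category E] [CartesianMonoidalCategory E] {Z G : E} [GrpObj G]

/-- a monomorphism whose points form a subgroup functor carries a group structure -/
theorem exists_grpObj_of_mono (i : Z ⟶ G) [Mono i] (P : ∀ {T : E}, (T ⟶ G) → Prop)
    (hP : ∀ {T : E} (g : T ⟶ G), (∃ z : T ⟶ Z, z ≫ i = g) ↔ P g)
    (h1 : P η[G]) (hmul : ∀ {T : E} (a b : T ⟶ G), P a → P b → P (a * b))
    (hinv : ∀ {T : E} (a : T ⟶ G), P a → P a⁻¹) :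
    ∃ inst : GrpObj Z, @IsMonHom _ _ _ Z G inst.toMonObj _ i := by
  obtain ⟨e, he⟩ := (hP η[G]).2 h1
  have hi : P i := (hP i).1 ⟨𝟙 Z, Category.id_comp i⟩
  have hf : P (fst Z Z ≫ i) := (hP _).1 ⟨fst Z Z, rfl⟩
  have hs : P (snd Z Z ≫ i) := (hP _).1 ⟨snd Z Z, rfl⟩
  obtain ⟨m, hm⟩ := (hP _).2 (hmul _ _ hf hs)
  obtain ⟨j, hj⟩ := (hP _).2 (hinv _ hi)
  exact ⟨Groth.Agent.Lib.Helper43.SubGrp.grpOfMono i e he m hm j hj,
    Groth.Agent.Lib.Helper43.SubGrp.isMonHom_grpOfMono i e he m hm j hj⟩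

end Grp

section Norm

variable {Γ : Type*} [Group Γ]

/-- `g` normalizes the subset `𝓗` in both directions -/
def Norm (𝓗 : Set Γ) (g : Γ) : Prop :=
  (∀ c ∈ 𝓗, g * c * g⁻¹ ∈ 𝓗) ∧ (∀ c ∈ 𝓗, g⁻¹ * c * g ∈ 𝓗)

theorem norm_one (𝓗 : Set Γ) : Norm 𝓗 1 := by
  constructor <;> intro c hc <;> simpa using hc

theorem norm_mul (𝓗 : Set Γ) {a b : Γ} (ha : Norm 𝓗 a) (hb : Norm 𝓗 b) : Norm 𝓗 (a * b) := by
  constructor
  · intro c hc
    have := ha.1 _ (hb.1 c hc)
    have e : a * b * c * (a * b)⁻¹ = a * (b * c * b⁻¹) * a⁻¹ := by group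
    rw [e]
    exact this
  · intro c hc
    have := hb.2 _ (ha.2 c hc)
    have e : (a * b)⁻¹ * c * (a * b) = b⁻¹ * (a⁻¹ * c * a) * b := by group
    rw [e]
    exact this

theorem norm_inv (𝓗 : Set Γ) {a : Γ} (ha : Norm 𝓗 a) : Norm 𝓗 a⁻¹ := by
  constructor
  · intro c hc
    have := ha.2 c hc
    rwa [_root_.inv_inv]
  · intro c hc
    have := ha.1 c hc
    rwa [_root_.inv_inv]

end Norm

section Transp

variable {k : Type u} [Field k] {G Y Y' : Over (Spec (CommRingCat.of k))} [GrpObj G]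

/-- conjugation `(a, g) ↦ g a g⁻¹` -/
noncomputable def conj (y' : Y' ⟶ G) : Y' ⊗ G ⟶ G :=
  (snd Y' G) * (fst Y' G ≫ y') * (snd Y' G)⁻¹

/-- conjugation `(a, g) ↦ g⁻¹ a g` -/
noncomputable def conj' (y : Y ⟶ G) : Y ⊗ G ⟶ G :=
  (snd Y G)⁻¹ * (fst Y G ≫ y) * (snd Y G)

theorem lift_conj (y' : Y' ⟶ G) {T' : Over (Spec (CommRingCat.of k))} (a : T' ⟶ Y')
    (g : T' ⟶ G) : lift a g ≫ conj y' = g * (a ≫ y') * g⁻¹ := by
  unfold conj
  rw [MonObj.comp_mul, MonObj.comp_mul, GrpObj.comp_inv, lift_snd, lift_fst_assoc]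

theorem lift_conj' (y : Y ⟶ G) {T' : Over (Spec (CommRingCat.of k))} (a : T' ⟶ Y)
    (g : T' ⟶ G) : lift a g ≫ conj' y = g⁻¹ * (a ≫ y) * g := by
  unfold conj'
  rw [MonObj.comp_mul, MonObj.comp_mul, GrpObj.comp_inv, lift_snd, lift_fst_assoc]

/-- the transporter of `Y'` into the closed `Y` -/
theorem exists_transporter (y : Y ⟶ G) [IsClosedImmersion y.left] (y' : Y' ⟶ G) :
    ∃ 𝓘 : G.left.IdealSheafData, ∀ {T : Over (Spec (CommRingCat.of k))} (g : T ⟶ G),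
      𝓘.comap g.left = ⊥ ↔
        ∀ (S'' : Over (Spec (CommRingCat.of k))) (s : S'' ⟶ T) (x : S'' ⟶ Y'),
          ∃ x' : S'' ⟶ Y, (s ≫ g) * (x ≫ y') * (s ≫ g)⁻¹ = x' ≫ y := by
  obtain ⟨𝓘, h𝓘⟩ := exists_ideal_into (conj y') y
  refine ⟨𝓘, fun {T} g => ?_⟩
  rw [h𝓘]
  constructor
  · intro h S'' s x
    obtain ⟨x', hx'⟩ := h S'' s x
    exact ⟨x', by rw [hx', lift_conj]⟩
  · intro h S'' s x
    obtain ⟨x', hx'⟩ := h S'' s x
    exact ⟨x', by rw [lift_conj, hx']⟩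

/-- the inverse transporter of `Y` into the closed `Y'` -/
theorem exists_transporter' (y : Y ⟶ G) (y' : Y' ⟶ G) [IsClosedImmersion y'.left] :
    ∃ 𝓘 : G.left.IdealSheafData, ∀ {T : Over (Spec (CommRingCat.of k))} (g : T ⟶ G),
      𝓘.comap g.left = ⊥ ↔
        ∀ (S'' : Over (Spec (CommRingCat.of k))) (s : S'' ⟶ T) (x' : S'' ⟶ Y),
          ∃ x : S'' ⟶ Y', (s ≫ g)⁻¹ * (x' ≫ y) * (s ≫ g) = x ≫ y' := by
  obtain ⟨𝓘, h𝓘⟩ := exists_ideal_into (conj' y) y'
  refine ⟨𝓘, fun {T} g => ?_⟩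
  rw [h𝓘]
  constructor
  · intro h S'' s x
    obtain ⟨x', hx'⟩ := h S'' s x
    exact ⟨x', by rw [hx', lift_conj']⟩
  · intro h S'' s x
    obtain ⟨x', hx'⟩ := h S'' s x
    exact ⟨x', by rw [lift_conj', hx']⟩

end Transp

section Normalizer

variable {k : Type u} [Field k] {G H : Over (Spec (CommRingCat.of k))} [GrpObj G] [GrpObj H]

/-- the points `h'' ≫ h` -/
def pts (h : H ⟶ G) (X' : Over (Spec (CommRingCat.of k))) : Set (X' ⟶ G) :=
  Set.range (fun h'' : X' ⟶ H => h'' ≫ h)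

/-- the normalizer predicate -/
def NormP (h : H ⟶ G) {T : Over (Spec (CommRingCat.of k))} (g : T ⟶ G) : Prop :=
  ∀ (X' : Over (Spec (CommRingCat.of k))) (x : X' ⟶ T), Norm (pts h X') (x ≫ g)

theorem normP_iff (h : H ⟶ G) {T : Over (Spec (CommRingCat.of k))} (g : T ⟶ G) :
    NormP h g ↔ ∀ (X' : Over (Spec (CommRingCat.of k))) (x : X' ⟶ T) (h' : X' ⟶ H),
      (∃ h'' : X' ⟶ H, (x ≫ g) * (h' ≫ h) * (x ≫ g)⁻¹ = h'' ≫ h) ∧
      (∃ h'' : X' ⟶ H, (x ≫ g)⁻¹ * (h' ≫ h) * (x ≫ g) = h'' ≫ h) := by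
  constructor
  · intro hN X' x h'
    obtain ⟨h1, h2⟩ := hN X' x
    obtain ⟨a, ha⟩ := h1 _ ⟨h', rfl⟩
    obtain ⟨b, hb⟩ := h2 _ ⟨h', rfl⟩
    exact ⟨⟨a, ha.symm⟩, ⟨b, hb.symm⟩⟩
  · intro hN X' x
    constructor
    · rintro _ ⟨h', rfl⟩
      obtain ⟨a, ha⟩ := (hN X' x h').1
      exact ⟨a, ha.symm⟩
    · rintro _ ⟨h', rfl⟩
      obtain ⟨b, hb⟩ := (hN X' x h').2
      exact ⟨b, hb.symm⟩

/-- over a field, the normalizer of a closed subgroup scheme is a closed subgroup scheme -/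
theorem exists_normalizer (h : H ⟶ G) [IsClosedImmersion h.left] :
    ∃ (N : Over (Spec (CommRingCat.of k))) (_ : GrpObj N) (n : N ⟶ G),
      IsClosedImmersion n.left ∧ Red.IsNormalizerOf h n := by
  obtain ⟨𝓘₁, h₁⟩ := exists_transporter h h
  obtain ⟨𝓘₂, h₂⟩ := exists_transporter' h h
  obtain ⟨N, n, hn, hN⟩ := exists_closed_of_ideal G (𝓘₁ ⊔ 𝓘₂)
  haveI := hn
  haveI : Mono n := by
    haveI : Mono ((Over.forget _).map n) := by
      show Mono n.left
      infer_instance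
    exact (Over.forget _).mono_of_mono_map inferInstance
  have hP : ∀ {T : Over (Spec (CommRingCat.of k))} (g : T ⟶ G),
      (∃ z : T ⟶ N, z ≫ n = g) ↔ NormP h g := by
    intro T g
    rw [hN, comap_sup_eq_bot_iff, h₁, h₂, normP_iff]
    constructor
    · rintro ⟨ha, hb⟩ X' x h'
      exact ⟨ha X' x h', hb X' x h'⟩
    · intro hh
      exact ⟨fun X' x h' => (hh X' x h').1, fun X' x h' => (hh X' x h').2⟩
  obtain ⟨inst, hmon⟩ := exists_grpObj_of_mono n (fun {T} g => NormP h g) hP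
    (by
      intro X' x
      have : x ≫ η[G] = 1 := by
        rw [Hom.one_def]
        congr 1
        exact toUnit_unique _ _
      rw [this]
      exact norm_one _)
    (by
      intro T a b ha hb X' x
      rw [MonObj.comp_mul]
      exact norm_mul _ (ha X' x) (hb X' x))
    (by
      intro T a ha X' x
      rw [GrpObj.comp_inv]
      exact norm_inv _ (ha X' x))
  refine ⟨N, inst, n, hn, hmon, inferInstance, ?_⟩
  intro X g
  rw [hP, normP_iff]

end Normalizer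

end Groth.Agent.Lib.Helper79.FieldTransp
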