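import Mathlib
import Groth.Agent.Lib.Helper79.FieldTransp

/-!
# Centralizers and centres of group schemes over a field (helper79)
-/

set_option autoImplicit false
set_option linter.style.haveILetI false
set_option linter.unusedSectionVars false

universe u

open CategoryTheory CategoryTheory.Limits MonoidalCategory CartesianMonoidalCategory MonObj GrpObj
  AlgebraicGeometry TopologicalSpace

namespace Groth.Agent.Lib.Helper79.FieldCentre

open Groth.Agent.Lib.Helper79.FieldTransp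

variable {k : Type u} [Field k] {A Γ : Over (Spec (CommRingCat.of k))} [GrpObj Γ]

/-- `g` centralizes all points of `a : A ⟶ Γ` -/
def CentP (a : A ⟶ Γ) {T : Over (Spec (CommRingCat.of k))} (g : T ⟶ Γ) : Prop :=
  ∀ (T' : Over (Spec (CommRingCat.of k))) (t : T' ⟶ T) (b : T' ⟶ A),
    (t ≫ g) * (b ≫ a) = (b ≫ a) * (t ≫ g)

/-- `(b, g) ↦ (g a(b), a(b) g)` -/
noncomputable def comm2 (a : A ⟶ Γ) : A ⊗ Γ ⟶ Γ ⊗ Γ :=
  lift ((snd A Γ) * (fst A Γ ≫ a)) ((fst A Γ ≫ a) * (snd A Γ))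

theorem lift_comm2 (a : A ⟶ Γ) {T' : Over (Spec (CommRingCat.of k))} (b : T' ⟶ A) (g : T' ⟶ Γ) :
    lift b g ≫ comm2 a = lift (g * (b ≫ a)) ((b ≫ a) * g) := by
  unfold comm2
  rw [comp_lift, MonObj.comp_mul, MonObj.comp_mul, lift_snd, lift_fst_assoc]

theorem diag_left : (lift (𝟙 Γ) (𝟙 Γ)).left = pullback.diagonal Γ.hom := by
  apply pullback.hom_ext
  · rw [pullback.diagonal_fst]
    exact congrArg (fun m => m.left) (lift_fst (𝟙 Γ) (𝟙 Γ))
  · rw [pullback.diagonal_snd]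
    exact congrArg (fun m => m.left) (lift_snd (𝟙 Γ) (𝟙 Γ))

instance isClosedImmersion_diag : IsClosedImmersion (lift (𝟙 Γ) (𝟙 Γ)).left := by
  rw [diag_left]
  haveI := isSeparated_of_field Γ
  infer_instance

theorem into_comm2_iff (a : A ⟶ Γ) {T : Over (Spec (CommRingCat.of k))} (g : T ⟶ Γ) :
    Into (comm2 a) (lift (𝟙 Γ) (𝟙 Γ)) g ↔ CentP a g := by
  constructor
  · intro h T' t b
    obtain ⟨y', hy'⟩ := h T' t b
    rw [lift_comm2, comp_lift, Category.comp_id] at hy'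
    have h1 := congrArg (fun m => m ≫ fst Γ Γ) hy'
    have h2 := congrArg (fun m => m ≫ snd Γ Γ) hy'
    simp only [lift_fst, lift_snd] at h1 h2
    rw [← h1, ← h2]
  · intro h T' t b
    refine ⟨(t ≫ g) * (b ≫ a), ?_⟩
    rw [lift_comm2, comp_lift, Category.comp_id, ← h T' t b]

/-- over a field, the centralizer of any family of points is a closed subgroup scheme -/
theorem exists_centralizer (a : A ⟶ Γ) :
    ∃ (Z : Over (Spec (CommRingCat.of k))) (inst : GrpObj Z) (z : Z ⟶ Γ),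
      @IsMonHom _ _ _ Z Γ inst.toMonObj _ z ∧ IsClosedImmersion z.left ∧ Mono z ∧
      ∀ {T : Over (Spec (CommRingCat.of k))} (g : T ⟶ Γ),
        (∃ w : T ⟶ Z, w ≫ z = g) ↔ CentP a g := by
  obtain ⟨𝓘, h𝓘⟩ := exists_ideal_into (comm2 a) (lift (𝟙 Γ) (𝟙 Γ))
  obtain ⟨Z, z, hz, hZ⟩ := exists_closed_of_ideal Γ 𝓘
  haveI := hz
  haveI : Mono z := by
    haveI : Mono ((Over.forget _).map z) := by
      show Mono z.left
      infer_instance
    exact (Over.forget _).mono_of_mono_map inferInstance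
  have hP : ∀ {T : Over (Spec (CommRingCat.of k))} (g : T ⟶ Γ),
      (∃ w : T ⟶ Z, w ≫ z = g) ↔ CentP a g := by
    intro T g
    rw [hZ, h𝓘, into_comm2_iff]
  obtain ⟨inst, hmon⟩ := exists_grpObj_of_mono z (fun {T} g => CentP a g) hP
    (by
      intro T' t b
      have : t ≫ η[Γ] = 1 := by
        rw [Hom.one_def]
        congr 1
        exact toUnit_unique _ _
      rw [this, _root_.one_mul, _root_.mul_one])
    (by
      intro T x y hx hy T' t b
      rw [MonObj.comp_mul, _root_.mul_assoc, hy T' t b, ← _root_.mul_assoc, hx T' t b,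
        _root_.mul_assoc])
    (by
      intro T x hx T' t b
      rw [GrpObj.comp_inv]
      have := hx T' t b
      calc (t ≫ x)⁻¹ * (b ≫ a) = (t ≫ x)⁻¹ * ((b ≫ a) * (t ≫ x)) * (t ≫ x)⁻¹ := by group
        _ = (t ≫ x)⁻¹ * ((t ≫ x) * (b ≫ a)) * (t ≫ x)⁻¹ := by rw [this]
        _ = (b ≫ a) * (t ≫ x)⁻¹ := by group)
  exact ⟨Z, inst, z, hmon, hz, inferInstance, hP⟩

/-- the smallest closed subgroup scheme containing a rational point is commutative -/
theorem isCommMonObj_of_generated {G : Over (Spec (CommRingCat.of k))} [GrpObj G]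
    (g : 𝟙_ (Over (Spec (CommRingCat.of k))) ⟶ G) (i : Γ ⟶ G) [IsMonHom i]
    [IsClosedImmersion i.left]
    (hf : ∃ f' : 𝟙_ (Over (Spec (CommRingCat.of k))) ⟶ Γ, f' ≫ i = g)
    (hmin : ∀ (Γ' : Over (Spec (CommRingCat.of k))) (_ : GrpObj Γ') (i' : Γ' ⟶ G), IsMonHom i' →
      IsClosedImmersion i'.left →
        (∃ f'' : 𝟙_ (Over (Spec (CommRingCat.of k))) ⟶ Γ', f'' ≫ i' = g) →
          ∃ j : Γ ⟶ Γ', j ≫ i' = i) :
    IsCommMonObj Γ := by
  haveI : Mono i := by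
    haveI : Mono ((Over.forget _).map i) := by
      show Mono i.left
      infer_instance
    exact (Over.forget _).mono_of_mono_map inferInstance
  obtain ⟨f', hf'⟩ := hf
  -- step 1: `f'` is central
  obtain ⟨Z₁, inst₁, z₁, hm₁, hc₁, -, hP₁⟩ := exists_centralizer (Γ := Γ) f'
  have h1 : CentP f' f' := by
    intro T' t b
    have : t = b := toUnit_unique _ _
    rw [this]
  obtain ⟨w₁, hw₁⟩ := (hP₁ f').2 h1
  obtain ⟨j₁, hj₁⟩ := hmin Z₁ inst₁ (z₁ ≫ i)
    (letI := inst₁; haveI := hm₁; inferInstance)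
    (haveI := hc₁; inferInstanceAs (IsClosedImmersion (z₁.left ≫ i.left)))
    ⟨w₁, by rw [← Category.assoc, hw₁, hf']⟩
  have hj₁' : j₁ ≫ z₁ = 𝟙 Γ := by
    rw [← cancel_mono i, Category.assoc, hj₁, Category.id_comp]
  have hc : CentP f' (𝟙 Γ) := (hP₁ _).1 ⟨j₁, hj₁'⟩
  -- step 2: the centre is everything
  obtain ⟨Z₂, inst₂, z₂, hm₂, hc₂, -, hP₂⟩ := exists_centralizer (Γ := Γ) (𝟙 Γ)
  have h2 : CentP (𝟙 Γ) f' := by
    intro T' t b
    exact (hc T' b t).symm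
  obtain ⟨w₂, hw₂⟩ := (hP₂ f').2 h2
  obtain ⟨j₂, hj₂⟩ := hmin Z₂ inst₂ (z₂ ≫ i)
    (letI := inst₂; haveI := hm₂; inferInstance)
    (haveI := hc₂; inferInstanceAs (IsClosedImmersion (z₂.left ≫ i.left)))
    ⟨w₂, by rw [← Category.assoc, hw₂, hf']⟩
  have hj₂' : j₂ ≫ z₂ = 𝟙 Γ := by
    rw [← cancel_mono i, Category.assoc, hj₂, Category.id_comp]
  have hcc : CentP (𝟙 Γ) (𝟙 Γ) := (hP₂ _).1 ⟨j₂, hj₂'⟩
  have key := hcc (Γ ⊗ Γ) (fst Γ Γ) (snd Γ Γ)
  simp only [Category.comp_id] at key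
  refine ⟨?_⟩
  have e1 : fst Γ Γ * snd Γ Γ = μ[Γ] := by
    rw [Hom.mul_def, lift_fst_snd, Category.id_comp]
  have e2 : snd Γ Γ * fst Γ Γ = (β_ Γ Γ).hom ≫ μ[Γ] := by
    have e3 : lift (snd Γ Γ) (fst Γ Γ) = (β_ Γ Γ).hom := by
      apply CartesianMonoidalCategory.hom_ext <;> simp
    rw [Hom.mul_def, e3]
  rw [← e2, ← key, e1]

end Groth.Agent.Lib.Helper79.FieldCentre
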