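import Mathlib
import Groth.Agent.Lib.Helper79.FieldTransp
import Groth.Prelude.Def_AlgGrp

/-!
# The normal core of a closed subgroup scheme over a field (helper79)

For a closed subgroup scheme `i : Γ ⟶ G` over a field, the functor of points all of whose
conjugates lie in `Γ` is a closed subgroup scheme.  Application: the commutator subgroup of two
normal subgroups is normal.
-/

set_option autoImplicit false
set_option linter.style.haveILetI false
set_option linter.unusedSectionVars false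

universe u

open CategoryTheory CategoryTheory.Limits MonoidalCategory CartesianMonoidalCategory MonObj GrpObj
  AlgebraicGeometry TopologicalSpace

namespace Groth.Agent.Lib.Helper79.FieldCore

open Groth.Agent.Lib.Helper79.FieldTransp

variable {k : Type u} [Field k] {G Γ : Over (Spec (CommRingCat.of k))} [GrpObj G] [GrpObj Γ]

/-- the subgroup of `T'`-points of `G` coming from `Γ` -/
def ptsSubgroup (i : Γ ⟶ G) [IsMonHom i] (T' : Over (Spec (CommRingCat.of k))) :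
    Subgroup (T' ⟶ G) where
  carrier := Set.range (fun n : T' ⟶ Γ => n ≫ i)
  mul_mem' := by
    rintro _ _ ⟨a, rfl⟩ ⟨b, rfl⟩
    exact ⟨a * b, MonObj.mul_comp a b i⟩
  one_mem' := ⟨1, MonObj.one_comp i⟩
  inv_mem' := by
    rintro _ ⟨a, rfl⟩
    exact ⟨a⁻¹, GrpObj.inv_comp a i⟩

/-- all conjugates of `gm` lie in `Γ` -/
def CoreP (i : Γ ⟶ G) [IsMonHom i] {T : Over (Spec (CommRingCat.of k))} (gm : T ⟶ G) : Prop :=
  ∀ (T' : Over (Spec (CommRingCat.of k))) (t : T' ⟶ T) (g : T' ⟶ G),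
    g * (t ≫ gm) * g⁻¹ ∈ ptsSubgroup i T'

/-- `(g, gm) ↦ g gm g⁻¹` -/
noncomputable def conjL : G ⊗ G ⟶ G := (fst G G) * (snd G G) * (fst G G)⁻¹

theorem lift_conjL {T' : Over (Spec (CommRingCat.of k))} (g gm : T' ⟶ G) :
    lift g gm ≫ conjL = g * gm * g⁻¹ := by
  unfold conjL
  rw [MonObj.comp_mul, MonObj.comp_mul, GrpObj.comp_inv, lift_snd, lift_fst]

theorem into_conjL_iff (i : Γ ⟶ G) [IsMonHom i] {T : Over (Spec (CommRingCat.of k))}
    (gm : T ⟶ G) : Into conjL i gm ↔ CoreP i gm := by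
  constructor
  · intro h T' t g
    obtain ⟨n, hn⟩ := h T' t g
    rw [lift_conjL] at hn
    exact ⟨n, hn⟩
  · intro h T' t g
    obtain ⟨n, hn⟩ := h T' t g
    exact ⟨n, by rw [lift_conjL]; exact hn⟩

/-- the normal core is a closed subgroup scheme -/
theorem exists_core (i : Γ ⟶ G) [IsMonHom i] [IsClosedImmersion i.left] :
    ∃ (Z : Over (Spec (CommRingCat.of k))) (inst : GrpObj Z) (z : Z ⟶ G),
      @IsMonHom _ _ _ Z G inst.toMonObj _ z ∧ IsClosedImmersion z.left ∧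
      ∀ {T : Over (Spec (CommRingCat.of k))} (gm : T ⟶ G),
        (∃ w : T ⟶ Z, w ≫ z = gm) ↔ CoreP i gm := by
  obtain ⟨𝓘, h𝓘⟩ := exists_ideal_into (conjL (G := G)) i
  obtain ⟨Z, z, hz, hZ⟩ := exists_closed_of_ideal G 𝓘
  haveI := hz
  haveI : Mono z := by
    haveI : Mono ((Over.forget _).map z) := by
      show Mono z.left
      infer_instance
    exact (Over.forget _).mono_of_mono_map inferInstance
  have hP : ∀ {T : Over (Spec (CommRingCat.of k))} (gm : T ⟶ G),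
      (∃ w : T ⟶ Z, w ≫ z = gm) ↔ CoreP i gm := by
    intro T gm
    rw [hZ, h𝓘, into_conjL_iff]
  obtain ⟨inst, hmon⟩ := exists_grpObj_of_mono z (fun {T} gm => CoreP i gm) hP
    (by
      intro T' t g
      have : t ≫ η[G] = 1 := by
        rw [Hom.one_def]
        congr 1
        exact toUnit_unique _ _
      rw [this, _root_.mul_one, mul_inv_cancel]
      exact Subgroup.one_mem _)
    (by
      intro T x y hx hy T' t g
      rw [MonObj.comp_mul]
      have e : g * ((t ≫ x) * (t ≫ y)) * g⁻¹ = (g * (t ≫ x) * g⁻¹) * (g * (t ≫ y) * g⁻¹) := by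
        group
      rw [e]
      exact Subgroup.mul_mem _ (hx T' t g) (hy T' t g))
    (by
      intro T x hx T' t g
      rw [GrpObj.comp_inv]
      have e : g * (t ≫ x)⁻¹ * g⁻¹ = (g * (t ≫ x) * g⁻¹)⁻¹ := by group
      rw [e]
      exact Subgroup.inv_mem _ (hx T' t g))
  exact ⟨Z, inst, z, hmon, hz, hP⟩

/-- the commutator subgroup of two normal subgroups is normal -/
theorem isNormalHom_commutator {A B : Over (Spec (CommRingCat.of k))} [GrpObj A] [GrpObj B]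
    (a : A ⟶ G) (b : B ⟶ G) (hA : AlgGrp.IsNormalHom a) (hB : AlgGrp.IsNormalHom b)
    (i : Γ ⟶ G) [IsMonHom i] [IsClosedImmersion i.left]
    (hf : ∃ f' : A ⊗ B ⟶ Γ, f' ≫ i =
      (((fst A B) ≫ a) * ((snd A B) ≫ b) * ((fst A B) ≫ a)⁻¹ * ((snd A B) ≫ b)⁻¹))
    (hmin : ∀ (Γ' : Over (Spec (CommRingCat.of k))) (_ : GrpObj Γ') (i' : Γ' ⟶ G), IsMonHom i' →
      IsClosedImmersion i'.left →
        (∃ f'' : A ⊗ B ⟶ Γ', f'' ≫ i' =
          (((fst A B) ≫ a) * ((snd A B) ≫ b) * ((fst A B) ≫ a)⁻¹ * ((snd A B) ≫ b)⁻¹)) →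
          ∃ j : Γ ⟶ Γ', j ≫ i' = i) :
    AlgGrp.IsNormalHom i := by
  obtain ⟨f', hf'⟩ := hf
  obtain ⟨Z, inst, z, hmon, hz, hP⟩ := exists_core i
  set c : A ⊗ B ⟶ G :=
    (((fst A B) ≫ a) * ((snd A B) ≫ b) * ((fst A B) ≫ a)⁻¹ * ((snd A B) ≫ b)⁻¹) with hc
  have hcomm : ∀ {T' : Over (Spec (CommRingCat.of k))} (α : T' ⟶ A) (β : T' ⟶ B),
      lift α β ≫ c = (α ≫ a) * (β ≫ b) * (α ≫ a)⁻¹ * (β ≫ b)⁻¹ := by
    intro T' α β
    rw [hc, MonObj.comp_mul, MonObj.comp_mul, MonObj.comp_mul, GrpObj.comp_inv, GrpObj.comp_inv,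
      lift_fst_assoc, lift_snd_assoc]
  have hcore : CoreP i c := by
    intro T' t g
    obtain ⟨α', hα'⟩ := hA T' g (t ≫ fst A B)
    obtain ⟨β', hβ'⟩ := hB T' g (t ≫ snd A B)
    have e0 : t ≫ c = ((t ≫ fst A B) ≫ a) * ((t ≫ snd A B) ≫ b) * ((t ≫ fst A B) ≫ a)⁻¹ *
        ((t ≫ snd A B) ≫ b)⁻¹ := by
      rw [← hcomm]
      congr 1
      apply CartesianMonoidalCategory.hom_ext <;> simp
    have e1 : g * (t ≫ c) * g⁻¹ = (α' ≫ a) * (β' ≫ b) * (α' ≫ a)⁻¹ * (β' ≫ b)⁻¹ := by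
      rw [e0, ← hα', ← hβ']
      group
    rw [e1, ← hcomm]
    exact ⟨lift α' β' ≫ f', by
      show (lift α' β' ≫ f') ≫ i = lift α' β' ≫ c
      rw [Category.assoc, hf']⟩
  obtain ⟨w, hw⟩ := (hP c).2 hcore
  obtain ⟨j, hj⟩ := hmin Z inst z hmon hz ⟨w, hw⟩
  have hi : CoreP i i := (hP i).1 ⟨j, hj⟩
  intro T g n
  obtain ⟨n', hn'⟩ := hi T n g
  exact ⟨n', hn'.symm⟩

end Groth.Agent.Lib.Helper79.FieldCore
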