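import Mathlib
import Groth.Prelude.Def_NonAbH2
import Groth.Agent.Lib.Helper40.TorsorTriv
import Groth.Agent.Lib.Helper40.LocTrivCov
import Groth.Agent.Lib.Helper43.GaGm
import Groth.Agent.Lib.Helper79.AmitsurH1

/-!
# fpqc torsors under the additive group are Zariski locally trivial (helper79)
-/

set_option autoImplicit false
set_option linter.style.haveILetI false
set_option linter.unusedSectionVars false

universe u

open CategoryTheory Limits AlgebraicGeometry MonoidalCategory CartesianMonoidalCategory MonObj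
open TensorProduct

namespace Groth.Agent.Lib.Helper79.GaTorsor

open Groth.Agent.Lib.Helper40.ActPts Groth.Agent.Lib.Helper40.TorsorTriv
  Groth.Agent.Lib.Helper43 Groth.Agent.Lib.Helper40.FpqcCov

variable {S : Scheme.{u}} {A : Type u} [CommRing A] (j : Spec (CommRingCat.of A) ⟶ S)

/-- `Spec R` over `S` for an `A`-algebra `R` -/
noncomputable abbrev TA (R : Type u) [CommRing R] [Algebra A R] : Over S :=
  Over.mk (Spec.map (CommRingCat.ofHom (algebraMap A R)) ≫ j)

/-- functoriality of `TA` -/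
noncomputable def TAmap {R R' : Type u} [CommRing R] [CommRing R'] [Algebra A R] [Algebra A R']
    (θ : R →ₐ[A] R') : TA j R' ⟶ TA j R :=
  Over.homMk (Spec.map (CommRingCat.ofHom θ.toRingHom)) (by
    simp only [Over.mk_hom]
    rw [← Category.assoc, ← Spec.map_comp, ← CommRingCat.ofHom_comp]
    congr 3
    exact θ.comp_algebraMap)

theorem TAmap_left {R R' : Type u} [CommRing R] [CommRing R'] [Algebra A R] [Algebra A R']
    (θ : R →ₐ[A] R') : (TAmap j θ).left = Spec.map (CommRingCat.ofHom θ.toRingHom) := rfl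

theorem TAmap_comp {R R' R'' : Type u} [CommRing R] [CommRing R'] [CommRing R''] [Algebra A R]
    [Algebra A R'] [Algebra A R''] (θ : R →ₐ[A] R') (θ' : R' →ₐ[A] R'') :
    TAmap j θ' ≫ TAmap j θ = TAmap j (θ'.comp θ) := by
  apply Over.OverMorphism.ext
  rw [Over.comp_left, TAmap_left, TAmap_left, TAmap_left]
  exact (Spec.map_comp (CommRingCat.ofHom θ.toRingHom) (CommRingCat.ofHom θ'.toRingHom)).symm

/-- the function of a point of `𝔾_a` with values in `Spec R` -/
noncomputable def fn {R : Type u} [CommRing R] [Algebra A R] (g : TA j R ⟶ Red.Ga S) : R :=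
  (Scheme.ΓSpecIso (CommRingCat.of R)).hom (Red.gaFn g)

theorem fn_mul {R : Type u} [CommRing R] [Algebra A R] (g g' : TA j R ⟶ Red.Ga S) :
    fn j (g * g') = fn j g + fn j g' := by
  unfold fn
  rw [gaFn_mul, map_add]

theorem fn_injective {R : Type u} [CommRing R] [Algebra A R] :
    Function.Injective (fn j : (TA j R ⟶ Red.Ga S) → R) := by
  intro g g' h
  apply gaFn_injective
  exact (ConcreteCategory.bijective_of_isIso (Scheme.ΓSpecIso (CommRingCat.of R)).hom).1 h

theorem fn_surjective {R : Type u} [CommRing R] [Algebra A R] (r : R) :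
    ∃ g : TA j R ⟶ Red.Ga S, fn j g = r := by
  obtain ⟨g, hg⟩ := gaFn_surjective (X := TA j R) ((Scheme.ΓSpecIso (CommRingCat.of R)).inv r)
  refine ⟨g, ?_⟩
  unfold fn
  rw [hg]
  exact congrFun (congrArg DFunLike.coe
    (congrArg CommRingCat.Hom.hom (Scheme.ΓSpecIso (CommRingCat.of R)).inv_hom_id)) r

theorem fn_map {R R' : Type u} [CommRing R] [CommRing R'] [Algebra A R] [Algebra A R']
    (θ : R →ₐ[A] R') (g : TA j R ⟶ Red.Ga S) : fn j (TAmap j θ ≫ g) = θ (fn j g) := by
  unfold fn
  rw [gaFn_comp, TAmap_left]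
  have h := Scheme.ΓSpecIso_naturality (CommRingCat.ofHom θ.toRingHom)
  have h2 := congrArg (fun m => m.hom (Red.gaFn g)) h
  exact h2

section torsor

variable {X : Over S} (a : AlgGrp.Action (Red.Ga S) X) (hps : NonAbH1.IsPseudoTorsorSch a)

/-- the difference of two points of a pseudo-torsor -/
noncomputable def dv {T : Over S} (u v : T ⟶ X) : T ⟶ Red.Ga S := lift u v ≫ divMap a hps

theorem dv_smul {T : Over S} (u v : T ⟶ X) : smul a (dv a hps u v) v = u :=
  smul_divMap a hps u v

theorem dv_of_smul {T : Over S} (g : T ⟶ Red.Ga S) (v : T ⟶ X) : dv a hps (smul a g v) v = g :=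
  divMap_smul a hps g v

theorem comp_dv {T' T : Over S} (t : T' ⟶ T) (u v : T ⟶ X) :
    t ≫ dv a hps u v = dv a hps (t ≫ u) (t ≫ v) := by
  unfold dv
  rw [← Category.assoc, comp_lift]

theorem dv_trans {T : Over S} (u v w : T ⟶ X) :
    dv a hps u v * dv a hps v w = dv a hps u w := by
  have h : smul a (dv a hps u v * dv a hps v w) w = u := by
    rw [Groth.Agent.Lib.Helper40.ActPts.mul_smul, dv_smul, dv_smul]
  rw [← dv_of_smul a hps (dv a hps u v * dv a hps v w) w, h]

instance flat_SpecMap (B : Type u) [CommRing B] [Algebra A B] [Module.Flat A B] :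
    Flat (Spec.map (CommRingCat.ofHom (algebraMap A B))) := by
  rw [HasRingHomProperty.Spec_iff (P := @Flat)]
  exact RingHom.flat_algebraMap_iff.mpr inferInstance

instance surjective_SpecMap (B : Type u) [CommRing B] [Algebra A B] [Module.FaithfullyFlat A B] :
    Surjective (Spec.map (CommRingCat.ofHom (algebraMap A B))) :=
  ⟨PrimeSpectrum.comap_surjective_of_faithfullyFlat⟩

include a hps in
open Groth.Agent.Lib.Helper79.AmitsurH1 in
/-- descent of a section of a `𝔾_a`-pseudo-torsor along a faithfully flat ring map -/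
theorem exists_section (B : Type u) [CommRing B] [Algebra A B] [Module.FaithfullyFlat A B]
    (x₁ : TA j B ⟶ X) : Nonempty (TA j A ⟶ X) := by
  let iL : B →ₐ[A] B ⊗[A] B := Algebra.TensorProduct.includeLeft
  let iR : B →ₐ[A] B ⊗[A] B := Algebra.TensorProduct.includeRight
  let q₁ := TAmap j iL
  let q₂ := TAmap j iR
  let c := dv a hps (q₁ ≫ x₁) (q₂ ≫ x₁)
  let ρ₁₂ : B ⊗[A] B →ₐ[A] B ⊗[A] (B ⊗[A] B) := Algebra.TensorProduct.map (AlgHom.id A B) iL
  let ρ₁₃ : B ⊗[A] B →ₐ[A] B ⊗[A] (B ⊗[A] B) := Algebra.TensorProduct.map (AlgHom.id A B) iR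
  let ρ₂₃ : B ⊗[A] B →ₐ[A] B ⊗[A] (B ⊗[A] B) := Algebra.TensorProduct.includeRight
  have e1 : ρ₁₂.comp iR = ρ₂₃.comp iL := by
    ext b; simp [ρ₁₂, ρ₂₃, iL, iR]
  have e2 : ρ₁₂.comp iL = ρ₁₃.comp iL := by
    ext b; simp [ρ₁₂, ρ₁₃, iL, iR]
  have e3 : ρ₂₃.comp iR = ρ₁₃.comp iR := by
    ext b; simp [ρ₂₃, ρ₁₃, iL, iR]
  have hc : (TAmap j ρ₁₂ ≫ c) * (TAmap j ρ₂₃ ≫ c) = TAmap j ρ₁₃ ≫ c := by
    simp only [c, comp_dv, ← Category.assoc, q₁, q₂, TAmap_comp]
    rw [e1, ← e2, ← e3]
    exact dv_trans a hps _ _ _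
  have hγ : d1 A B (fn j c) = 0 := by
    have h := congrArg (fn j) hc
    rw [fn_mul, fn_map, fn_map, fn_map] at h
    have : d1 A B (fn j c) = ρ₂₃ (fn j c) - ρ₁₃ (fn j c) + ρ₁₂ (fn j c) := rfl
    rw [this, ← h]
    abel
  obtain ⟨b, hb⟩ := exists_eq_d0 A B (fn j c) hγ
  obtain ⟨g, hg⟩ := fn_surjective j (R := B) b
  have key : q₁ ≫ smul a g x₁ = q₂ ≫ smul a g x₁ := by
    rw [comp_smul, comp_smul]
    have h1 : q₁ ≫ x₁ = smul a c (q₂ ≫ x₁) := (dv_smul a hps _ _).symm
    rw [h1, ← Groth.Agent.Lib.Helper40.ActPts.mul_smul]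
    congr 1
    apply fn_injective j
    rw [fn_mul, fn_map, fn_map, hg, hb]
    simp [iL, iR]
  -- descent
  let e : TA j B ⟶ TA j A := TAmap j (Algebra.ofId A B)
  have he : IsCov e.left := by
    change IsCov (Spec.map (CommRingCat.ofHom (algebraMap A B)))
    exact (IsQCov.of_quasiCompact _).isCov
  obtain ⟨y, -⟩ := exists_desc_over he (smul a g x₁) (fun R' u v huv => by
    have huv' : u.left ≫ Spec.map (CommRingCat.ofHom (algebraMap A B)) =
        v.left ≫ Spec.map (CommRingCat.ofHom (algebraMap A B)) :=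
      congrArg (fun m => m.left) huv
    let t₀ : R'.left ⟶ Spec (CommRingCat.of (B ⊗[A] B)) :=
      pullback.lift u.left v.left huv' ≫ (pullbackSpecIso A B B).hom
    have ht₀ : t₀ ≫ (TA j (B ⊗[A] B)).hom = R'.hom := by
      have hu := Over.w u
      simp only [Over.mk_hom] at hu ⊢
      rw [← hu]
      have h3 : t₀ ≫ Spec.map (CommRingCat.ofHom (algebraMap A (B ⊗[A] B))) =
          u.left ≫ Spec.map (CommRingCat.ofHom (algebraMap A B)) := by
        change (pullback.lift u.left v.left huv' ≫ (pullbackSpecIso A B B).hom) ≫ _ = _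
        rw [Category.assoc, pullbackSpecIso_hom_base, pullback.lift_fst_assoc]
      rw [← Category.assoc, h3, Category.assoc]
    let t : R' ⟶ TA j (B ⊗[A] B) := Over.homMk t₀ ht₀
    have ht1 : t ≫ q₁ = u := by
      apply Over.OverMorphism.ext
      change (pullback.lift u.left v.left huv' ≫ (pullbackSpecIso A B B).hom) ≫
        Spec.map (CommRingCat.ofHom iL.toRingHom) = u.left
      rw [Category.assoc]
      have := pullbackSpecIso_hom_fst A B B
      rw [show (CommRingCat.ofHom iL.toRingHom) =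
        CommRingCat.ofHom (Algebra.TensorProduct.includeLeftRingHom) from rfl, this,
        pullback.lift_fst]
    have ht2 : t ≫ q₂ = v := by
      apply Over.OverMorphism.ext
      change (pullback.lift u.left v.left huv' ≫ (pullbackSpecIso A B B).hom) ≫
        Spec.map (CommRingCat.ofHom iR.toRingHom) = v.left
      rw [Category.assoc]
      have := pullbackSpecIso_hom_snd A B B
      rw [show (CommRingCat.ofHom iR.toRingHom) =
        CommRingCat.ofHom (RingHomClass.toRingHom
          (Algebra.TensorProduct.includeRight : B →ₐ[A] B ⊗[A] B)) from rfl, this,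
        pullback.lift_snd]
    rw [← ht1, ← ht2, Category.assoc, Category.assoc, key])
  exact ⟨y⟩

end torsor

set_option backward.isDefEq.respectTransparency.types false in
instance isAffineHom_Ga {S : Scheme.{u}} : IsAffineHom (Red.Ga S).hom := by
  change IsAffineHom (pullback.snd _ _)
  have : IsAffineHom (Red.GaZ.{u}).hom := by
    change IsAffineHom (Spec.map (CommRingCat.ofHom (algebraMap (ULift.{u} ℤ)
      (SymmetricAlgebra (ULift.{u} ℤ) (ULift.{u} ℤ)))))
    infer_instance
  exact MorphismProperty.pullback_snd (P := @IsAffineHom) _ _ this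

theorem flat_GaZ : Flat (Red.GaZ.{u}).hom := by
  change Flat (Spec.map (CommRingCat.ofHom (algebraMap (ULift.{u} ℤ)
    (SymmetricAlgebra (ULift.{u} ℤ) (ULift.{u} ℤ)))))
  rw [HasRingHomProperty.Spec_iff (P := @Flat)]
  exact RingHom.flat_algebraMap_iff.mpr inferInstance

instance flat_Ga {S : Scheme.{u}} : Flat (Red.Ga S).hom := by
  change Flat (pullback.snd _ _)
  have := flat_GaZ.{u}
  infer_instance

section main

variable {X : Over S} (a : AlgGrp.Action (Red.Ga S) X)

/-- a `𝔾_a`-pseudo-torsor which is affine, flat and surjective over `S` has a section over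
every affine scheme mapping to `S` -/
theorem hasSectionOver_of_affine (hps : NonAbH1.IsPseudoTorsorSch a) [IsAffineHom X.hom]
    [Flat X.hom] [Surjective X.hom] : NonAbH1.HasSectionOver X j := by
  let P := pullback X.hom j
  haveI : IsAffine P := isAffine_of_isAffineHom (pullback.snd X.hom j)
  let g : Spec Γ(P, ⊤) ⟶ Spec (CommRingCat.of A) := P.isoSpec.inv ≫ pullback.snd X.hom j
  let φ : CommRingCat.of A ⟶ Γ(P, ⊤) := Spec.preimage g
  have hφ : Spec.map φ = g := Spec.map_preimage g
  haveI hgF : Flat (Spec.map φ) := by rw [hφ]; infer_instance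
  haveI hgS : Surjective (Spec.map φ) := by rw [hφ]; infer_instance
  algebraize [φ.hom]
  haveI : Module.Flat A Γ(P, ⊤) := by
    rw [HasRingHomProperty.Spec_iff (P := @Flat)] at hgF
    exact RingHom.flat_algebraMap_iff.mp hgF
  haveI : Module.FaithfullyFlat A Γ(P, ⊤) :=
    Module.FaithfullyFlat.of_comap_surjective hgS.surj
  let x₁ : TA j Γ(P, ⊤) ⟶ X := Over.homMk (P.isoSpec.inv ≫ pullback.fst X.hom j) (by
    simp only [Over.mk_hom]
    change _ = Spec.map φ ≫ j
    rw [hφ, Category.assoc, Category.assoc, pullback.condition])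
  obtain ⟨y⟩ := exists_section j a hps Γ(P, ⊤) x₁
  refine ⟨y.left, ?_⟩
  have hy := Over.w y
  simp only [Over.mk_hom] at hy
  rw [hy]
  rw [Algebra.algebraMap_self, CommRingCat.ofHom_id, Spec.map_id, Category.id_comp]

end main

/-- **fpqc torsors under `𝔾_a` are Zariski locally trivial.** -/
theorem isTorsorFor_zariski {S : Scheme.{u}} {X : Over S} (a : AlgGrp.Action (Red.Ga S) X)
    (h : NonAbH1.IsTorsorFor Scheme.fpqcPrecoverage a) :
    NonAbH1.IsTorsorFor Scheme.zariskiPrecoverage a := by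
  have hps := h.1
  haveI hAff : IsAffineHom X.hom := isAffineHom_hom_of_isTorsorFor_fpqc a h
  haveI hFlat : Flat X.hom := flat_hom_of_isTorsorFor_fpqc a h
  haveI hSurj : Surjective X.hom := surjective_hom_of_isTorsorFor_fpqc a h
  refine ⟨hps, Presieve.ofArrows (fun U : S.affineOpens => Spec Γ(S, U.1))
    (fun U => U.2.fromSpec), ?_, ?_⟩
  · rw [Scheme.ofArrows_mem_precoverage_iff]
    refine ⟨fun x => ?_, fun U => IsAffineOpen.isOpenImmersion_fromSpec U.2⟩
    obtain ⟨U, hU, hxU, -⟩ := TopologicalSpace.Opens.isBasis_iff_nbhd.mp S.isBasis_affineOpens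
      (TopologicalSpace.Opens.mem_top x)
    refine ⟨⟨U, hU⟩, ?_⟩
    have hU' : IsAffineOpen U := hU
    change x ∈ Set.range ⇑(hU'.fromSpec)
    rw [hU'.range_fromSpec]
    exact hxU
  · rintro _ _ ⟨U⟩
    exact hasSectionOver_of_affine (A := Γ(S, U.1)) U.2.fromSpec a hps

end Groth.Agent.Lib.Helper79.GaTorsor
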