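import Mathlib

/-!
# Zariski-local Hilbert 90 for faithfully flat ring maps (helper79)

For `A → B` faithfully flat and a unit `γ ∈ B ⊗ B` satisfying the cocycle condition
`γ₁₂ γ₂₃ = γ₁₃`, the module `L = {l | γ (l ⊗ 1) = 1 ⊗ l}` generates the unit ideal of `B`, and
around every prime of `A` there are `f` and `l ∈ L` with `l` a unit of `B_f`.
-/

set_option autoImplicit false
set_option linter.style.haveILetI false
set_option linter.unusedSectionVars false

universe u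

open TensorProduct

namespace Groth.Agent.Lib.Helper79.Hilbert90

variable (A B : Type u) [CommRing A] [CommRing B] [Algebra A B]

/-- `b ⊗ b' ↦ b ⊗ (b' ⊗ 1)` -/
noncomputable def ρ₁₂ : B ⊗[A] B →ₐ[A] B ⊗[A] (B ⊗[A] B) :=
  Algebra.TensorProduct.map (AlgHom.id A B)
    (Algebra.TensorProduct.includeLeft : B →ₐ[A] B ⊗[A] B)

/-- `b ⊗ b' ↦ b ⊗ (1 ⊗ b')` -/
noncomputable def ρ₁₃ : B ⊗[A] B →ₐ[A] B ⊗[A] (B ⊗[A] B) :=
  Algebra.TensorProduct.map (AlgHom.id A B)
    (Algebra.TensorProduct.includeRight : B →ₐ[A] B ⊗[A] B)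

/-- `x ↦ 1 ⊗ x` -/
noncomputable def ρ₂₃ : B ⊗[A] B →ₐ[A] B ⊗[A] (B ⊗[A] B) :=
  Algebra.TensorProduct.includeRight

variable {A B}

/-- the twisted difference map `b ↦ γ (b ⊗ 1) - 1 ⊗ b` -/
noncomputable def DD (γ : B ⊗[A] B) : B →ₗ[A] B ⊗[A] B :=
  (LinearMap.mulLeft A γ) ∘ₗ
    (Algebra.TensorProduct.includeLeft : B →ₐ[A] B ⊗[A] B).toLinearMap -
    (Algebra.TensorProduct.includeRight : B →ₐ[A] B ⊗[A] B).toLinearMap

@[simp] theorem DD_apply (γ : B ⊗[A] B) (b : B) :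
    DD γ b = γ * (b ⊗ₜ[A] (1 : B)) - (1 : B) ⊗ₜ[A] b := by
  simp [DD]

/-- the module of twisted invariants -/
noncomputable def LL (γ : B ⊗[A] B) : Submodule A B := LinearMap.ker (DD γ)

theorem mem_LL (γ : B ⊗[A] B) (l : B) :
    l ∈ LL γ ↔ γ * (l ⊗ₜ[A] (1 : B)) = (1 : B) ⊗ₜ[A] l := by
  rw [LL, LinearMap.mem_ker, DD_apply, sub_eq_zero]

/-- the contraction `b₀ ⊗ x ↦ (b₀ ⊗ 1) x` -/
noncomputable def κ : B ⊗[A] (B ⊗[A] B) →ₐ[A] B ⊗[A] B :=
  Algebra.TensorProduct.productMap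
    (Algebra.TensorProduct.includeLeft : B →ₐ[A] B ⊗[A] B) (AlgHom.id A (B ⊗[A] B))

theorem κ_ρ₁₂ (y : B ⊗[A] B) :
    κ (ρ₁₂ A B y) = (Algebra.TensorProduct.lmul' A (S := B) y) ⊗ₜ[A] (1 : B) := by
  induction y with
  | zero => simp
  | add y₁ y₂ h₁ h₂ => simp only [map_add, h₁, h₂, add_tmul]
  | tmul b c => simp [κ, ρ₁₂]

theorem κ_ρ₁₃ (y : B ⊗[A] B) : κ (ρ₁₃ A B y) = y := by
  induction y with
  | zero => simp
  | add y₁ y₂ h₁ h₂ => simp only [map_add, h₁, h₂]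
  | tmul b c => simp [κ, ρ₁₃]

theorem κ_ρ₂₃ (y : B ⊗[A] B) : κ (ρ₂₃ A B y) = y := by
  simp only [κ, ρ₂₃, Algebra.TensorProduct.includeRight_apply,
    Algebra.TensorProduct.productMap_apply_tmul, map_one, AlgHom.id_apply, one_mul]

theorem lmul_eq_one (γ : B ⊗[A] B) (hγ : IsUnit γ)
    (hc : ρ₁₂ A B γ * ρ₂₃ A B γ = ρ₁₃ A B γ) :
    Algebra.TensorProduct.lmul' A (S := B) γ = 1 := by
  have h := congrArg κ hc
  rw [map_mul, κ_ρ₁₂, κ_ρ₁₃, κ_ρ₂₃] at h
  have h2 := congrArg (Algebra.TensorProduct.lmul' A (S := B)) h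
  rw [map_mul, Algebra.TensorProduct.lmul'_apply_tmul, mul_one] at h2
  have hu : IsUnit (Algebra.TensorProduct.lmul' A (S := B) γ) := hγ.map _
  exact hu.mul_eq_left.mp h2

theorem lTensor_DD (γ : B ⊗[A] B) (y : B ⊗[A] B) :
    (DD γ).lTensor B y = ρ₂₃ A B γ * ρ₁₂ A B y - ρ₁₃ A B y := by
  induction y with
  | zero => simp
  | add y₁ y₂ h₁ h₂ =>
    simp only [map_add, h₁, h₂, mul_add]
    abel
  | tmul b c =>
    simp [ρ₁₂, ρ₁₃, ρ₂₃, tmul_sub]

theorem one_mem_span [Module.Flat A B] (γ : B ⊗[A] B) (hγ : IsUnit γ)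
    (hc : ρ₁₂ A B γ * ρ₂₃ A B γ = ρ₁₃ A B γ) :
    (1 : B) ∈ Ideal.span (LL γ : Set B) := by
  have h0 : (DD γ).lTensor B γ = 0 := by
    rw [lTensor_DD, mul_comm, hc, sub_self]
  have hex : Function.Exact ((LL γ).subtype.lTensor B) ((DD γ).lTensor B) :=
    Module.Flat.lTensor_exact B (LinearMap.exact_subtype_ker_map (DD γ))
  obtain ⟨z, hz⟩ := (hex γ).mp h0
  have key : ∀ z : B ⊗[A] (LL γ), Algebra.TensorProduct.lmul' A (S := B)
      ((LL γ).subtype.lTensor B z) ∈ Ideal.span (LL γ : Set B) := by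
    intro z
    induction z with
    | zero => simp
    | add z₁ z₂ h₁ h₂ =>
      simp only [map_add]
      exact Ideal.add_mem _ h₁ h₂
    | tmul b l =>
      rw [LinearMap.lTensor_tmul, Algebra.TensorProduct.lmul'_apply_tmul]
      exact Ideal.mul_mem_left _ _ (Ideal.subset_span l.2)
  have := key z
  rwa [hz, lmul_eq_one γ hγ hc] at this

open CategoryTheory Limits AlgebraicGeometry in
/-- two primes of `B` over the same prime of `A` come from a prime of `B ⊗ B` -/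
theorem exists_prime_tensor (q₁ q₂ : PrimeSpectrum B)
    (h : PrimeSpectrum.comap (algebraMap A B) q₁ = PrimeSpectrum.comap (algebraMap A B) q₂) :
    ∃ Q : PrimeSpectrum (B ⊗[A] B),
      PrimeSpectrum.comap (Algebra.TensorProduct.includeLeftRingHom : B →+* B ⊗[A] B) Q = q₁ ∧
      PrimeSpectrum.comap (RingHomClass.toRingHom
        (Algebra.TensorProduct.includeRight : B →ₐ[A] B ⊗[A] B)) Q = q₂ := by
  let f := Spec.map (CommRingCat.ofHom (algebraMap A B))
  obtain ⟨z, hz₁, hz₂⟩ := Scheme.Pullback.exists_preimage_pullback (f := f) (g := f)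
    (q₁ : Spec (CommRingCat.of B)) (q₂ : Spec (CommRingCat.of B)) h
  refine ⟨(pullbackSpecIso A B B).hom z, ?_, ?_⟩
  · have h1 := congrArg (fun m => (m : _ → _) z) (congrArg (fun m => m.base)
      (pullbackSpecIso_hom_fst A B B))
    exact h1.trans hz₁
  · have h1 := congrArg (fun m => (m : _ → _) z) (congrArg (fun m => m.base)
      (pullbackSpecIso_hom_snd A B B))
    exact h1.trans hz₂

theorem mem_of_comap_eq (γ : B ⊗[A] B) (l : B) (hl : l ∈ LL γ) (q₁ q₂ : PrimeSpectrum B)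
    (h : PrimeSpectrum.comap (algebraMap A B) q₁ = PrimeSpectrum.comap (algebraMap A B) q₂)
    (h1 : l ∈ q₁.asIdeal) : l ∈ q₂.asIdeal := by
  obtain ⟨Q, hQ₁, hQ₂⟩ := exists_prime_tensor q₁ q₂ h
  rw [mem_LL] at hl
  have h2 : l ⊗ₜ[A] (1 : B) ∈ Q.asIdeal := by
    rw [← hQ₁] at h1
    exact h1
  have h3 : (1 : B) ⊗ₜ[A] l ∈ Q.asIdeal := by
    rw [← hl]
    exact Ideal.mul_mem_left _ _ h2
  rw [← hQ₂]
  exact h3

/-- Zariski-local Hilbert 90 -/
theorem exists_local_unit [Module.FaithfullyFlat A B] (γ : B ⊗[A] B) (hγ : IsUnit γ)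
    (hc : ρ₁₂ A B γ * ρ₂₃ A B γ = ρ₁₃ A B γ) (p : PrimeSpectrum A) :
    ∃ f : A, f ∉ p.asIdeal ∧ ∃ l ∈ LL γ, ∃ (b' : B) (n : ℕ),
      b' * l = algebraMap A B (f ^ n) := by
  have h1 := one_mem_span γ hγ hc
  obtain ⟨q, hq⟩ := PrimeSpectrum.comap_surjective_of_faithfullyFlat (A := A) (B := B) p
  obtain ⟨l, hl, hlq⟩ : ∃ l ∈ LL γ, l ∉ q.asIdeal := by
    by_contra hcon
    push Not at hcon
    have : Ideal.span (LL γ : Set B) ≤ q.asIdeal := Ideal.span_le.mpr fun l hl => hcon l hl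
    exact q.isPrime.ne_top ((Ideal.eq_top_iff_one _).mpr (this h1))
  let π := PrimeSpectrum.comap (algebraMap A B)
  have hquot : Topology.IsQuotientMap π :=
    PrimeSpectrum.isQuotientMap_of_generalizingMap
      PrimeSpectrum.comap_surjective_of_faithfullyFlat
      (RingHom.Flat.generalizingMap_comap (RingHom.flat_algebraMap_iff.mpr inferInstance))
  let W : Set (PrimeSpectrum A) := π '' (PrimeSpectrum.basicOpen l : Set (PrimeSpectrum B))
  have hpre : π ⁻¹' W = (PrimeSpectrum.basicOpen l : Set (PrimeSpectrum B)) := by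
    apply Set.Subset.antisymm
    · rintro q' ⟨q'', hq'', hqq⟩
      intro hmem
      exact hq'' (mem_of_comap_eq γ l hl q' q'' hqq.symm hmem)
    · exact Set.subset_preimage_image _ _
  have hW : IsOpen W := by
    rw [← hquot.isOpen_preimage, hpre]
    exact (PrimeSpectrum.basicOpen l).isOpen
  have hpW : p ∈ W := ⟨q, hlq, hq⟩
  obtain ⟨_, ⟨f, rfl⟩, hpf, hfW⟩ :=
    PrimeSpectrum.isTopologicalBasis_basic_opens.exists_subset_of_mem_open hpW hW
  refine ⟨f, hpf, l, hl, ?_⟩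
  have hle : PrimeSpectrum.basicOpen (algebraMap A B f) ≤ PrimeSpectrum.basicOpen l := by
    intro q' hq'
    have : π q' ∈ W := hfW (by
      change f ∉ (π q').asIdeal
      exact hq')
    have : q' ∈ π ⁻¹' W := this
    rw [hpre] at this
    exact this
  rw [PrimeSpectrum.basicOpen_le_basicOpen_iff, Ideal.mem_radical_iff] at hle
  obtain ⟨n, hn⟩ := hle
  obtain ⟨b', hb'⟩ := Ideal.mem_span_singleton'.mp hn
  exact ⟨b', n, by rw [hb', map_pow]⟩

/-- an element with a multiple a power of `f` becomes a unit after inverting `f` -/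
theorem isUnit_tmul (f : A) (l b' : B) (n : ℕ) (h : b' * l = algebraMap A B (f ^ n)) :
    IsUnit ((1 : Localization.Away f) ⊗ₜ[A] l) := by
  have hu : IsUnit (algebraMap A (Localization.Away f) (f ^ n)) := by
    rw [map_pow]
    exact (IsLocalization.Away.algebraMap_isUnit f).pow n
  have h2 : ((1 : Localization.Away f) ⊗ₜ[A] b') * ((1 : Localization.Away f) ⊗ₜ[A] l) =
      (algebraMap A (Localization.Away f) (f ^ n)) ⊗ₜ[A] (1 : B) := by
    rw [Algebra.TensorProduct.tmul_mul_tmul, one_mul, h, Algebra.algebraMap_eq_smul_one,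
      Algebra.algebraMap_eq_smul_one, TensorProduct.smul_tmul]
  have h3 : IsUnit ((algebraMap A (Localization.Away f) (f ^ n)) ⊗ₜ[A] (1 : B)) :=
    hu.map (Algebra.TensorProduct.includeLeft : Localization.Away f →ₐ[A] _)
  rw [← h2] at h3
  exact isUnit_of_mul_isUnit_right h3

end Groth.Agent.Lib.Helper79.Hilbert90
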