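import Mathlib
import Groth.Prelude.Def_NonAbH2
import Groth.Agent.Lib.Helper79.GaTorsor
import Groth.Agent.Lib.Helper79.Hilbert90

/-!
# fpqc torsors under the multiplicative group are Zariski locally trivial (helper79)
-/

set_option autoImplicit false
set_option linter.style.haveILetI false
set_option linter.unusedSectionVars false

universe u

open CategoryTheory Limits AlgebraicGeometry MonoidalCategory CartesianMonoidalCategory MonObj
open TensorProduct

namespace Groth.Agent.Lib.Helper79.GmTorsor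

open Groth.Agent.Lib.Helper40.ActPts Groth.Agent.Lib.Helper40.TorsorTriv
  Groth.Agent.Lib.Helper43 Groth.Agent.Lib.Helper40.FpqcCov Groth.Agent.Lib.Helper79.GaTorsor

variable {S : Scheme.{u}} {A : Type u} [CommRing A] (j : Spec (CommRingCat.of A) ⟶ S)

/-- descent of a point along a faithfully flat map `A₁ → B₁` of `A`-algebras, the gluing
condition being checked on `B₁ ⊗[A] B₁` -/
theorem exists_desc {X : Over S} (A₁ B₁ : Type u) [CommRing A₁] [CommRing B₁] [Algebra A A₁]
    [Algebra A B₁] [Algebra A₁ B₁] [IsScalarTower A A₁ B₁] [Module.FaithfullyFlat A₁ B₁]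
    (x : TA j B₁ ⟶ X)
    (key : TAmap j (Algebra.TensorProduct.includeLeft : B₁ →ₐ[A] B₁ ⊗[A] B₁) ≫ x =
      TAmap j (Algebra.TensorProduct.includeRight : B₁ →ₐ[A] B₁ ⊗[A] B₁) ≫ x) :
    Nonempty (TA j A₁ ⟶ X) := by
  let iL : B₁ →ₐ[A] B₁ ⊗[A] B₁ := Algebra.TensorProduct.includeLeft
  let iR : B₁ →ₐ[A] B₁ ⊗[A] B₁ := Algebra.TensorProduct.includeRight
  let q₁ := TAmap j iL
  let q₂ := TAmap j iR
  let e : TA j B₁ ⟶ TA j A₁ := TAmap j (IsScalarTower.toAlgHom A A₁ B₁)
  have he : IsCov e.left := by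
    change IsCov (Spec.map (CommRingCat.ofHom (algebraMap A₁ B₁)))
    exact (IsQCov.of_quasiCompact _).isCov
  obtain ⟨y, -⟩ := exists_desc_over he x (fun R' u v huv => by
    have huv₀ : u.left ≫ Spec.map (CommRingCat.ofHom (algebraMap A₁ B₁)) =
        v.left ≫ Spec.map (CommRingCat.ofHom (algebraMap A₁ B₁)) :=
      congrArg (fun m => m.left) huv
    have hAB : Spec.map (CommRingCat.ofHom (algebraMap A B₁)) =
        Spec.map (CommRingCat.ofHom (algebraMap A₁ B₁)) ≫
          Spec.map (CommRingCat.ofHom (algebraMap A A₁)) := by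
      rw [← Spec.map_comp, ← CommRingCat.ofHom_comp, ← IsScalarTower.algebraMap_eq]
    have huv' : u.left ≫ Spec.map (CommRingCat.ofHom (algebraMap A B₁)) =
        v.left ≫ Spec.map (CommRingCat.ofHom (algebraMap A B₁)) := by
      rw [hAB, reassoc_of% huv₀]
    let t₀ : R'.left ⟶ Spec (CommRingCat.of (B₁ ⊗[A] B₁)) :=
      pullback.lift u.left v.left huv' ≫ (pullbackSpecIso A B₁ B₁).hom
    have ht₀ : t₀ ≫ (TA j (B₁ ⊗[A] B₁)).hom = R'.hom := by
      have hu := Over.w u
      simp only [Over.mk_hom] at hu ⊢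
      rw [← hu]
      have h3 : t₀ ≫ Spec.map (CommRingCat.ofHom (algebraMap A (B₁ ⊗[A] B₁))) =
          u.left ≫ Spec.map (CommRingCat.ofHom (algebraMap A B₁)) := by
        change (pullback.lift u.left v.left huv' ≫ (pullbackSpecIso A B₁ B₁).hom) ≫ _ = _
        rw [Category.assoc, pullbackSpecIso_hom_base, pullback.lift_fst_assoc]
      rw [← Category.assoc, h3, Category.assoc]
    let t : R' ⟶ TA j (B₁ ⊗[A] B₁) := Over.homMk t₀ ht₀
    have ht1 : t ≫ q₁ = u := by
      apply Over.OverMorphism.ext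
      change (pullback.lift u.left v.left huv' ≫ (pullbackSpecIso A B₁ B₁).hom) ≫
        Spec.map (CommRingCat.ofHom iL.toRingHom) = u.left
      rw [Category.assoc]
      have := pullbackSpecIso_hom_fst A B₁ B₁
      rw [show (CommRingCat.ofHom iL.toRingHom) =
        CommRingCat.ofHom (Algebra.TensorProduct.includeLeftRingHom) from rfl, this,
        pullback.lift_fst]
    have ht2 : t ≫ q₂ = v := by
      apply Over.OverMorphism.ext
      change (pullback.lift u.left v.left huv' ≫ (pullbackSpecIso A B₁ B₁).hom) ≫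
        Spec.map (CommRingCat.ofHom iR.toRingHom) = v.left
      rw [Category.assoc]
      have := pullbackSpecIso_hom_snd A B₁ B₁
      rw [show (CommRingCat.ofHom iR.toRingHom) =
        CommRingCat.ofHom (RingHomClass.toRingHom
          (Algebra.TensorProduct.includeRight : B₁ →ₐ[A] B₁ ⊗[A] B₁)) from rfl, this,
        pullback.lift_snd]
    rw [← ht1, ← ht2, Category.assoc, Category.assoc, key])
  exact ⟨y⟩

/-- `A_f ⊗ B` -/
abbrev Bf (f : A) (B : Type u) [CommRing B] [Algebra A B] : Type u := Localization.Away f ⊗[A] B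

/-- the function of a point of `𝔾_m` with values in `Spec R` -/
noncomputable def fnm {R : Type u} [CommRing R] [Algebra A R] (g : TA j R ⟶ Red.Gm S) : R :=
  (Scheme.ΓSpecIso (CommRingCat.of R)).hom (Red.gmFn g)

theorem fnm_mul {R : Type u} [CommRing R] [Algebra A R] (g g' : TA j R ⟶ Red.Gm S) :
    fnm j (g * g') = fnm j g * fnm j g' := by
  unfold fnm
  rw [gmFn_mul, map_mul]

theorem fnm_isUnit {R : Type u} [CommRing R] [Algebra A R] (g : TA j R ⟶ Red.Gm S) :
    IsUnit (fnm j g) :=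
  (gmFn_isUnit g).map _

theorem fnm_injective {R : Type u} [CommRing R] [Algebra A R] :
    Function.Injective (fnm j : (TA j R ⟶ Red.Gm S) → R) := by
  intro g g' h
  apply gmFn_injective
  exact (ConcreteCategory.bijective_of_isIso (Scheme.ΓSpecIso (CommRingCat.of R)).hom).1 h

theorem fnm_surjective {R : Type u} [CommRing R] [Algebra A R] (r : R) (hr : IsUnit r) :
    ∃ g : TA j R ⟶ Red.Gm S, fnm j g = r := by
  obtain ⟨g, hg⟩ := gmFn_surjective (X := TA j R) ((Scheme.ΓSpecIso (CommRingCat.of R)).inv r)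
    (hr.map _)
  refine ⟨g, ?_⟩
  unfold fnm
  rw [hg]
  exact congrFun (congrArg DFunLike.coe
    (congrArg CommRingCat.Hom.hom (Scheme.ΓSpecIso (CommRingCat.of R)).inv_hom_id)) r

theorem fnm_map {R R' : Type u} [CommRing R] [CommRing R'] [Algebra A R] [Algebra A R']
    (θ : R →ₐ[A] R') (g : TA j R ⟶ Red.Gm S) : fnm j (TAmap j θ ≫ g) = θ (fnm j g) := by
  unfold fnm
  rw [gmFn_comp, TAmap_left]
  have h := Scheme.ΓSpecIso_naturality (CommRingCat.ofHom θ.toRingHom)
  have h2 := congrArg (fun m => m.hom (Red.gmFn g)) h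
  exact h2

section torsor

variable {X : Over S} (a : AlgGrp.Action (Red.Gm S) X) (hps : NonAbH1.IsPseudoTorsorSch a)

/-- the difference of two points of a pseudo-torsor -/
noncomputable def dvm {T : Over S} (u v : T ⟶ X) : T ⟶ Red.Gm S := lift u v ≫ divMap a hps

theorem dvm_smul {T : Over S} (u v : T ⟶ X) : smul a (dvm a hps u v) v = u :=
  smul_divMap a hps u v

theorem dvm_of_smul {T : Over S} (g : T ⟶ Red.Gm S) (v : T ⟶ X) :
    dvm a hps (smul a g v) v = g :=
  divMap_smul a hps g v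

theorem comp_dvm {T' T : Over S} (t : T' ⟶ T) (u v : T ⟶ X) :
    t ≫ dvm a hps u v = dvm a hps (t ≫ u) (t ≫ v) := by
  unfold dvm
  rw [← Category.assoc, comp_lift]

theorem dvm_trans {T : Over S} (u v w : T ⟶ X) :
    dvm a hps u v * dvm a hps v w = dvm a hps u w := by
  have h : smul a (dvm a hps u v * dvm a hps v w) w = u := by
    rw [Groth.Agent.Lib.Helper40.ActPts.mul_smul, dvm_smul, dvm_smul]
  rw [← dvm_of_smul a hps (dvm a hps u v * dvm a hps v w) w, h]

/-- the cocycle of a point of a pseudo-torsor with values in `B` -/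
noncomputable def cocyc (B : Type u) [CommRing B] [Algebra A B] (x₁ : TA j B ⟶ X) : B ⊗[A] B :=
  fnm j (dvm a hps
    (TAmap j (Algebra.TensorProduct.includeLeft : B →ₐ[A] B ⊗[A] B) ≫ x₁)
    (TAmap j (Algebra.TensorProduct.includeRight : B →ₐ[A] B ⊗[A] B) ≫ x₁))

open Groth.Agent.Lib.Helper79.Hilbert90 in
theorem cocyc_spec (B : Type u) [CommRing B] [Algebra A B] (x₁ : TA j B ⟶ X) :
    IsUnit (cocyc j a hps B x₁) ∧
      ρ₁₂ A B (cocyc j a hps B x₁) * ρ₂₃ A B (cocyc j a hps B x₁) =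
        ρ₁₃ A B (cocyc j a hps B x₁) := by
  refine ⟨fnm_isUnit j _, ?_⟩
  let iL : B →ₐ[A] B ⊗[A] B := Algebra.TensorProduct.includeLeft
  let iR : B →ₐ[A] B ⊗[A] B := Algebra.TensorProduct.includeRight
  let q₁ := TAmap j iL
  let q₂ := TAmap j iR
  let c := dvm a hps (q₁ ≫ x₁) (q₂ ≫ x₁)
  have e1 : (ρ₁₂ A B).comp iR = (ρ₂₃ A B).comp iL := by
    ext b; simp [ρ₁₂, ρ₂₃, iL, iR]
  have e2 : (ρ₁₂ A B).comp iL = (ρ₁₃ A B).comp iL := by
    ext b; simp [ρ₁₂, ρ₁₃, iL]
  have e3 : (ρ₂₃ A B).comp iR = (ρ₁₃ A B).comp iR := by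
    ext b; simp [ρ₂₃, ρ₁₃, iR]
  have hc : (TAmap j (ρ₁₂ A B) ≫ c) * (TAmap j (ρ₂₃ A B) ≫ c) = TAmap j (ρ₁₃ A B) ≫ c := by
    simp only [c, comp_dvm, ← Category.assoc, q₁, q₂, TAmap_comp]
    rw [e1, ← e2, ← e3]
    exact dvm_trans a hps _ _ _
  have h := congrArg (fnm j) hc
  rw [fnm_mul, fnm_map, fnm_map, fnm_map] at h
  exact h

include a hps in
open Groth.Agent.Lib.Helper79.Hilbert90 in
/-- a twisted invariant which becomes a unit after inverting `f` gives a section over
`Spec A_f` -/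
theorem exists_section_away (B : Type u) [CommRing B] [Algebra A B] [Module.FaithfullyFlat A B]
    (x₁ : TA j B ⟶ X) (f : A) (l : B) (hl : l ∈ LL (cocyc j a hps B x₁))
    (hu : IsUnit ((1 : Localization.Away f) ⊗ₜ[A] l)) :
    Nonempty (TA j (Localization.Away f) ⟶ X) := by
  let iL : B →ₐ[A] B ⊗[A] B := Algebra.TensorProduct.includeLeft
  let iR : B →ₐ[A] B ⊗[A] B := Algebra.TensorProduct.includeRight
  let iL₁ : Bf f B →ₐ[A] Bf f B ⊗[A] Bf f B := Algebra.TensorProduct.includeLeft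
  let iR₁ : Bf f B →ₐ[A] Bf f B ⊗[A] Bf f B := Algebra.TensorProduct.includeRight
  let incR : B →ₐ[A] Bf f B := Algebra.TensorProduct.includeRight
  let τ : B ⊗[A] B →ₐ[A] Bf f B ⊗[A] Bf f B := Algebra.TensorProduct.map incR incR
  let x₁f : TA j (Bf f B) ⟶ X := TAmap j incR ≫ x₁
  let Q₁ : TA j (Bf f B ⊗[A] Bf f B) ⟶ TA j (Bf f B) :=
    TAmap j (R := Bf f B) (R' := Bf f B ⊗[A] Bf f B) iL₁
  let Q₂ : TA j (Bf f B ⊗[A] Bf f B) ⟶ TA j (Bf f B) :=
    TAmap j (R := Bf f B) (R' := Bf f B ⊗[A] Bf f B) iR₁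
  let T : TA j (Bf f B ⊗[A] Bf f B) ⟶ TA j (B ⊗[A] B) :=
    TAmap j (R := B ⊗[A] B) (R' := Bf f B ⊗[A] Bf f B) τ
  let c := dvm a hps (TAmap j iL ≫ x₁) (TAmap j iR ≫ x₁)
  obtain ⟨g, hg⟩ := fnm_surjective j (R := Bf f B) ((1 : Localization.Away f) ⊗ₜ[A] l) hu
  have e1 : iL₁.comp incR = τ.comp iL := by
    ext b; simp [iL₁, incR, τ, iL]
  have e2 : iR₁.comp incR = τ.comp iR := by
    ext b; simp [iR₁, incR, τ, iR]
  have h1 : Q₁ ≫ x₁f = T ≫ (TAmap j iL ≫ x₁) := by
    simp only [x₁f, Q₁, T, ← Category.assoc, TAmap_comp]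
    rw [e1]
  have h2 : Q₂ ≫ x₁f = T ≫ (TAmap j iR ≫ x₁) := by
    simp only [x₁f, Q₂, T, ← Category.assoc, TAmap_comp]
    rw [e2]
  have key : Q₁ ≫ smul a g x₁f = Q₂ ≫ smul a g x₁f := by
    rw [comp_smul, comp_smul, h1]
    have h3 : TAmap j iL ≫ x₁ = smul a c (TAmap j iR ≫ x₁) := (dvm_smul a hps _ _).symm
    rw [h3, comp_smul, ← h2, ← Groth.Agent.Lib.Helper40.ActPts.mul_smul]
    congr 1
    apply fnm_injective j
    rw [fnm_mul, fnm_map, fnm_map, fnm_map, hg]
    rw [mem_LL] at hl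
    have h4 := congrArg τ hl
    rw [map_mul] at h4
    have h5 : τ (l ⊗ₜ[A] (1 : B)) = iL₁ ((1 : Localization.Away f) ⊗ₜ[A] l) := by
      simp [τ, iL₁, incR, Algebra.TensorProduct.one_def]
    have h6 : τ ((1 : B) ⊗ₜ[A] l) = iR₁ ((1 : Localization.Away f) ⊗ₜ[A] l) := by
      simp [τ, iR₁, incR, Algebra.TensorProduct.one_def]
    rw [h5, h6] at h4
    exact (mul_comm (iL₁ ((1 : Localization.Away f) ⊗ₜ[A] l)) (τ (fnm j c))).trans h4
  exact exists_desc j (Localization.Away f) (Bf f B) (smul a g x₁f) key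

end torsor

set_option backward.isDefEq.respectTransparency.types false in
instance isAffineHom_Gm {S : Scheme.{u}} : IsAffineHom (Red.Gm S).hom := by
  change IsAffineHom (pullback.snd _ _)
  have : IsAffineHom (Red.diag (ULift.{u} ℤ) ℤ).hom := by
    change IsAffineHom (Spec.map (CommRingCat.ofHom (algebraMap (ULift.{u} ℤ)
      (MonoidAlgebra (ULift.{u} ℤ) (Multiplicative ℤ)))))
    infer_instance
  exact MorphismProperty.pullback_snd (P := @IsAffineHom) _ _ this

theorem flat_GmZ : Flat (Red.diag (ULift.{u} ℤ) ℤ).hom := by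
  change Flat (Spec.map (CommRingCat.ofHom (algebraMap (ULift.{u} ℤ)
    (MonoidAlgebra (ULift.{u} ℤ) (Multiplicative ℤ)))))
  rw [HasRingHomProperty.Spec_iff (P := @Flat)]
  exact RingHom.flat_algebraMap_iff.mpr inferInstance

instance flat_Gm {S : Scheme.{u}} : Flat (Red.Gm S).hom := by
  change Flat (pullback.snd _ _)
  have := flat_GmZ.{u}
  infer_instance

section main

variable {X : Over S} (a : AlgGrp.Action (Red.Gm S) X)

open Groth.Agent.Lib.Helper79.Hilbert90 in
/-- a `𝔾_m`-pseudo-torsor which is affine, flat and surjective over `S` has a section over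
a basic open neighbourhood of every point of an affine scheme mapping to `S` -/
theorem hasSectionOver_local (hps : NonAbH1.IsPseudoTorsorSch a) [IsAffineHom X.hom]
    [Flat X.hom] [Surjective X.hom] (p : PrimeSpectrum A) :
    ∃ f : A, f ∉ p.asIdeal ∧ NonAbH1.HasSectionOver X
      (Spec.map (CommRingCat.ofHom (algebraMap A (Localization.Away f))) ≫ j) := by
  let P := pullback X.hom j
  haveI : IsAffine P := isAffine_of_isAffineHom (pullback.snd X.hom j)
  let g : Spec Γ(P, ⊤) ⟶ Spec (CommRingCat.of A) := P.isoSpec.inv ≫ pullback.snd X.hom j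
  let φ : CommRingCat.of A ⟶ Γ(P, ⊤) := Spec.preimage g
  have hφ : Spec.map φ = g := Spec.map_preimage g
  haveI hgF : Flat (Spec.map φ) := by rw [hφ]; infer_instance
  haveI hgS : Surjective (Spec.map φ) := by rw [hφ]; infer_instance
  algebraize [φ.hom]
  haveI : Module.Flat A Γ(P, ⊤) := by
    rw [HasRingHomProperty.Spec_iff (P := @Flat)] at hgF
    exact RingHom.flat_algebraMap_iff.mp hgF
  haveI : Module.FaithfullyFlat A Γ(P, ⊤) :=
    Module.FaithfullyFlat.of_comap_surjective hgS.surj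
  let x₁ : TA j Γ(P, ⊤) ⟶ X := Over.homMk (P.isoSpec.inv ≫ pullback.fst X.hom j) (by
    simp only [Over.mk_hom]
    change _ = Spec.map φ ≫ j
    rw [hφ, Category.assoc, Category.assoc, pullback.condition])
  obtain ⟨hγ, hc⟩ := cocyc_spec j a hps Γ(P, ⊤) x₁
  obtain ⟨f, hfp, l, hl, b', n, hb'⟩ := exists_local_unit (cocyc j a hps Γ(P, ⊤) x₁) hγ hc p
  have hu := isUnit_tmul f l b' n hb'
  obtain ⟨y⟩ := exists_section_away j a hps Γ(P, ⊤) x₁ f l hl hu
  refine ⟨f, hfp, y.left, ?_⟩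
  have hy := Over.w y
  simp only [Over.mk_hom] at hy
  exact hy

end main

/-- the basic open `D(f) ⊆ U ⊆ S` as a morphism from an affine scheme -/
noncomputable def cov {S : Scheme.{u}} (U : S.affineOpens) (f : Γ(S, U.1)) :
    Spec (CommRingCat.of (Localization.Away f)) ⟶ S :=
  Spec.map (CommRingCat.ofHom (algebraMap Γ(S, U.1) (Localization.Away f))) ≫
    IsAffineOpen.fromSpec (U := U.1) U.2

instance isOpenImmersion_cov {S : Scheme.{u}} (U : S.affineOpens) (f : Γ(S, U.1)) :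
    IsOpenImmersion (cov U f) := by
  haveI : IsOpenImmersion (IsAffineOpen.fromSpec (U := U.1) U.2) :=
    IsAffineOpen.isOpenImmersion_fromSpec (U := U.1) U.2
  unfold cov
  infer_instance

theorem mem_range_cov {S : Scheme.{u}} (U : S.affineOpens) (f : Γ(S, U.1))
    (p : Spec Γ(S, U.1)) (hfp : f ∉ p.asIdeal) :
    (IsAffineOpen.fromSpec (U := U.1) U.2) p ∈ Set.range ⇑(cov U f) := by
  have hp' : p ∈ Set.range
      (PrimeSpectrum.comap (algebraMap Γ(S, U.1) (Localization.Away f))) := by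
    rw [PrimeSpectrum.localization_away_comap_range (Localization.Away f) f]
    exact hfp
  obtain ⟨p', hp'⟩ := hp'
  let p'' : Spec (CommRingCat.of (Localization.Away f)) := p'
  refine ⟨p'', ?_⟩
  have hU' : IsAffineOpen U.1 := U.2
  change (Spec.map (CommRingCat.ofHom (algebraMap Γ(S, U.1) (Localization.Away f))) ≫
    hU'.fromSpec) p'' = hU'.fromSpec p
  have h1 : (Spec.map (CommRingCat.ofHom (algebraMap Γ(S, U.1) (Localization.Away f)))) p'' = p :=
    hp'
  rw [Scheme.Hom.comp_apply, h1]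

/-- **fpqc torsors under `𝔾_m` are Zariski locally trivial.** -/
theorem isTorsorFor_zariski {S : Scheme.{u}} {X : Over S} (a : AlgGrp.Action (Red.Gm S) X)
    (h : NonAbH1.IsTorsorFor Scheme.fpqcPrecoverage a) :
    NonAbH1.IsTorsorFor Scheme.zariskiPrecoverage a := by
  have hps := h.1
  haveI hAff : IsAffineHom X.hom := isAffineHom_hom_of_isTorsorFor_fpqc a h
  haveI hFlat : Flat X.hom := flat_hom_of_isTorsorFor_fpqc a h
  haveI hSurj : Surjective X.hom := surjective_hom_of_isTorsorFor_fpqc a h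
  let I := {t : (Σ U : S.affineOpens, Γ(S, U.1)) // NonAbH1.HasSectionOver X (cov t.1 t.2)}
  refine ⟨hps, Presieve.ofArrows
    (fun t : I => Spec (CommRingCat.of (Localization.Away t.1.2)))
    (fun t => cov t.1.1 t.1.2), ?_, ?_⟩
  · rw [Scheme.ofArrows_mem_precoverage_iff]
    refine ⟨fun x => ?_, fun t => isOpenImmersion_cov _ _⟩
    obtain ⟨U, hU, hxU, -⟩ := TopologicalSpace.Opens.isBasis_iff_nbhd.mp S.isBasis_affineOpens
      (TopologicalSpace.Opens.mem_top x)
    have hU' : IsAffineOpen U := hU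
    have hx : x ∈ Set.range ⇑(hU'.fromSpec) := by
      rw [hU'.range_fromSpec]
      exact hxU
    obtain ⟨p, hp⟩ := hx
    obtain ⟨f, hfp, hsec⟩ := hasSectionOver_local (A := Γ(S, U)) hU'.fromSpec a hps p
    refine ⟨⟨⟨⟨U, hU⟩, f⟩, hsec⟩, ?_⟩
    rw [← hp]
    exact mem_range_cov ⟨U, hU⟩ f p hfp
  · rintro _ _ ⟨t⟩
    exact t.2

end Groth.Agent.Lib.Helper79.GmTorsor
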