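import Mathlib
import Groth.Prelude.Def_NonAbH2
import Groth.Agent.Lib.Helper79.GmTorsor

/-!
# Torsors under finite connected group schemes over a field (helper79)

A finite connected group scheme `G` over a field `K` has only the trivial point with values in any
reduced `K`-scheme.  Hence a pseudo-torsor under `G` has at most one point with values in a reduced
scheme, and a point with values in a faithfully flat `K`-algebra `C` with `C ⊗ C` reduced descends
to a rational point.
-/

set_option autoImplicit false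
set_option linter.style.haveILetI false
set_option linter.unusedSectionVars false

universe u

open CategoryTheory Limits AlgebraicGeometry MonoidalCategory CartesianMonoidalCategory MonObj
open TensorProduct

namespace Groth.Agent.Lib.Helper79.FinConnTorsor

open Groth.Agent.Lib.Helper40.ActPts Groth.Agent.Lib.Helper40.TorsorTriv
  Groth.Agent.Lib.Helper79.GaTorsor Groth.Agent.Lib.Helper79.GmTorsor

/-- in a ring with connected spectrum which is finite over a field, the kernel of a ring map to a
field consists of nilpotent elements -/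
theorem isNilpotent_of_mem_ker {K₀ A F : Type u} [Field K₀] [CommRing A] [Algebra K₀ A]
    [Module.Finite K₀ A] [Field F] (hconn : PreconnectedSpace (PrimeSpectrum A)) (ε : A →+* F)
    (x : A) (hx : ε x = 0) : IsNilpotent x := by
  haveI : IsArtinianRing A := isArtinian_of_tower K₀ inferInstance
  haveI : DiscreteTopology (PrimeSpectrum A) := inferInstance
  haveI : Subsingleton (PrimeSpectrum A) := PreconnectedSpace.trivial_of_discrete
  rw [nilpotent_iff_mem_prime]
  intro J hJ
  have hk : (RingHom.ker ε).IsPrime := RingHom.ker_isPrime ε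
  have : (⟨J, hJ⟩ : PrimeSpectrum A) = ⟨RingHom.ker ε, hk⟩ := Subsingleton.elim _ _
  have hJ' : J = RingHom.ker ε := congrArg PrimeSpectrum.asIdeal this
  rw [hJ']
  exact hx

variable {K : Type u} [Field K] {G : Over (Spec (CommRingCat.of K))}

/-- a finite connected `K`-scheme with a rational point has at most one point with values in a
reduced `K`-scheme -/
theorem pts_subsingleton [IsFinite G.hom] [ConnectedSpace G.left]
    (e : Spec (CommRingCat.of K) ⟶ G.left) (he : e ≫ G.hom = 𝟙 _)
    {T : Over (Spec (CommRingCat.of K))} [IsReduced T.left] (g h : T ⟶ G) : g = h := by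
  haveI : IsAffine G.left := isAffine_of_isAffineHom G.hom
  -- the coordinate ring as a finite `K`-algebra
  let s : CommRingCat.of K ⟶ Γ(G.left, ⊤) :=
    (Scheme.ΓSpecIso (CommRingCat.of K)).inv ≫ G.hom.appTop
  have hsfin : s.hom.Finite := by
    have h1 : (G.hom.appTop).hom.Finite := Scheme.Hom.finite_appTop G.hom
    have h2 : ((Scheme.ΓSpecIso (CommRingCat.of K)).inv).hom.Finite :=
      RingHom.Finite.of_surjective _
        (ConcreteCategory.bijective_of_isIso (Scheme.ΓSpecIso (CommRingCat.of K)).inv).2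
    exact h1.comp h2
  algebraize [s.hom]
  haveI : Module.Finite K Γ(G.left, ⊤) := hsfin
  let ε : Γ(G.left, ⊤) →+* K :=
    ((Scheme.ΓSpecIso (CommRingCat.of K)).hom.hom).comp e.appTop.hom
  have hconn : ConnectedSpace (Spec Γ(G.left, ⊤)) :=
    Function.Surjective.connectedSpace
      (ConcreteCategory.bijective_of_isIso (G.left.isoSpec.hom.base)).2
      (G.left.isoSpec.hom.continuous)
  have hpre : PreconnectedSpace (PrimeSpectrum Γ(G.left, ⊤)) := hconn.toPreconnectedSpace
  have hεs : ∀ k : K, ε (s.hom k) = k := by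
    intro k
    have h1 : G.hom.appTop ≫ e.appTop = 𝟙 _ := by
      rw [← Scheme.Hom.comp_appTop, he]
      rfl
    have h2 : s ≫ e.appTop ≫ (Scheme.ΓSpecIso (CommRingCat.of K)).hom = 𝟙 _ := by
      simp only [s, Category.assoc]
      rw [reassoc_of% h1, Iso.inv_hom_id]
    exact congrFun (congrArg DFunLike.coe (congrArg CommRingCat.Hom.hom h2)) k
  -- every point is determined by the structure morphism
  have key : ∀ (g : T ⟶ G) (a : Γ(G.left, ⊤)),
      g.left.appTop.hom a = T.hom.appTop.hom ((Scheme.ΓSpecIso (CommRingCat.of K)).inv.hom (ε a)) := by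
    intro g a
    have hnil : IsNilpotent (a - s.hom (ε a)) := by
      apply isNilpotent_of_mem_ker (K₀ := K) hpre ε
      rw [map_sub, hεs, sub_self]
    have h0 : g.left.appTop.hom (a - s.hom (ε a)) = 0 :=
      (hnil.map g.left.appTop.hom).eq_zero
    rw [map_sub, sub_eq_zero] at h0
    rw [h0]
    have hw : G.hom.appTop ≫ g.left.appTop = T.hom.appTop := by
      rw [← Scheme.Hom.comp_appTop, Over.w g]
    have := congrFun (congrArg DFunLike.coe (congrArg CommRingCat.Hom.hom hw))
      ((Scheme.ΓSpecIso (CommRingCat.of K)).inv.hom (ε a))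
    exact this
  apply Over.OverMorphism.ext
  apply ext_of_isAffine
  ext a
  rw [key g a, key h a]

section torsor

variable [GrpObj G] {X : Over (Spec (CommRingCat.of K))} (a : AlgGrp.Action G X)
  (hps : NonAbH1.IsPseudoTorsorSch a)

include a hps in
/-- a pseudo-torsor under a finite connected group has at most one point with values in a reduced
scheme -/
theorem pts_torsor_subsingleton [IsFinite G.hom] [ConnectedSpace G.left]
    {T : Over (Spec (CommRingCat.of K))} [IsReduced T.left] (u v : T ⟶ X) : u = v := by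
  have h1 := smul_divMap a hps u v
  have h2 : (lift u v ≫ divMap a hps) = 1 :=
    pts_subsingleton (η[G]).left (Over.w η[G]) _ _
  rw [h2, Groth.Agent.Lib.Helper40.ActPts.one_smul] at h1
  exact h1.symm

include a hps in
/-- a point with values in a faithfully flat `K`-algebra `C` with `C ⊗ C` reduced descends -/
theorem hasSection_of_point [IsFinite G.hom] [ConnectedSpace G.left]
    (C : Type u) [CommRing C] [Algebra K C] [Module.FaithfullyFlat K C]
    [IsReduced (C ⊗[K] C)] (x₁ : Spec (CommRingCat.of C) ⟶ X.left)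
    (hx₁ : x₁ ≫ X.hom = Spec.map (CommRingCat.ofHom (algebraMap K C))) :
    NonAbH1.HasSectionOver X (𝟙 (Spec (CommRingCat.of K))) := by
  let j : Spec (CommRingCat.of K) ⟶ Spec (CommRingCat.of K) := 𝟙 _
  let x : TA j C ⟶ X := Over.homMk x₁ (by
    simp only [Over.mk_hom, j, Category.comp_id]
    exact hx₁)
  haveI : IsReduced (TA j (C ⊗[K] C)).left :=
    (inferInstance : IsReduced (Spec (CommRingCat.of (C ⊗[K] C))))
  obtain ⟨y⟩ := exists_desc j K C x (pts_torsor_subsingleton a hps _ _)
  refine ⟨y.left, ?_⟩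
  have hy := Over.w y
  simp only [Over.mk_hom] at hy
  rw [hy, Algebra.algebraMap_self, CommRingCat.ofHom_id, Spec.map_id, Category.id_comp]

end torsor

/-- extracting a nonempty member with a section from a covering of `Spec K` -/
theorem exists_member {P : MorphismProperty Scheme.{u}} {X : Over (Spec (CommRingCat.of K))}
    (h : NonAbH1.IsLocallyTrivialFor (Scheme.precoverage P) X) :
    ∃ (U : Scheme.{u}) (f : U ⟶ Spec (CommRingCat.of K)) (s : U ⟶ X.left),
      P f ∧ Nonempty U ∧ s ≫ X.hom = f := by
  obtain ⟨R, hR, hsec⟩ := h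
  have hR1 := hR.1
  rw [Presieve.mem_comap_jointlySurjectivePrecoverage_iff] at hR1
  obtain ⟨U, f, hf, u, -⟩ := hR1 (⊥ : PrimeSpectrum K)
  obtain ⟨s, hs⟩ := hsec f hf
  exact ⟨U, f, s, hR.2 hf, ⟨u⟩, hs⟩

section main

variable [GrpObj G] {X : Over (Spec (CommRingCat.of K))} (a : AlgGrp.Action G X)

/-- torsors for the étale topology under a finite connected group scheme over a field are
trivial -/
theorem hasSection_of_etale [IsFinite G.hom] [ConnectedSpace G.left]
    (h : NonAbH1.IsTorsorFor Scheme.etalePrecoverage a) :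
    NonAbH1.HasSectionOver X (𝟙 (Spec (CommRingCat.of K))) := by
  obtain ⟨hps, hloc⟩ := h
  obtain ⟨U, f, s, hf, ⟨u⟩, hs⟩ := exists_member (P := @Etale) hloc
  haveI : Etale f := hf
  obtain ⟨V, hV, huV, -⟩ := TopologicalSpace.Opens.isBasis_iff_nbhd.mp U.isBasis_affineOpens
    (TopologicalSpace.Opens.mem_top u)
  have hV' : IsAffineOpen V := hV
  haveI : Nonempty V := ⟨⟨u, huV⟩⟩
  let g : Spec Γ(U, V) ⟶ Spec (CommRingCat.of K) := hV'.fromSpec ≫ f
  let φ : CommRingCat.of K ⟶ Γ(U, V) := Spec.preimage g
  have hφ : Spec.map φ = g := Spec.map_preimage g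
  haveI hE : Etale (Spec.map φ) := by rw [hφ]; infer_instance
  algebraize [φ.hom]
  haveI : Algebra.Etale K Γ(U, V) := by
    rw [HasRingHomProperty.Spec_iff (P := @Etale)] at hE
    exact RingHom.etale_algebraMap.mp hE
  haveI : Nontrivial Γ(U, V) := Scheme.component_nontrivial U V
  haveI : Algebra.FormallyUnramified K (Γ(U, V) ⊗[K] Γ(U, V)) :=
    Algebra.FormallyUnramified.comp K Γ(U, V) _
  haveI : Algebra.FiniteType K (Γ(U, V) ⊗[K] Γ(U, V)) :=
    Algebra.FiniteType.trans (S := Γ(U, V)) inferInstance inferInstance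
  haveI : IsReduced (Γ(U, V) ⊗[K] Γ(U, V)) :=
    Algebra.FormallyUnramified.isReduced_of_field K (Γ(U, V) ⊗[K] Γ(U, V))
  refine hasSection_of_point a hps Γ(U, V) (hV'.fromSpec ≫ s) ?_
  rw [Category.assoc, hs]
  exact hφ.symm

/-- torsors for the fppf topology under a finite connected group scheme over a perfect field are
trivial -/
theorem hasSection_of_fppf [PerfectField K] [IsFinite G.hom] [ConnectedSpace G.left]
    (h : NonAbH1.IsTorsorFor Scheme.fppfPrecoverage a) :
    NonAbH1.HasSectionOver X (𝟙 (Spec (CommRingCat.of K))) := by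
  obtain ⟨hps, hloc⟩ := h
  obtain ⟨U, f, s, hf, ⟨u⟩, hs⟩ :=
    exists_member (P := @Flat ⊓ @LocallyOfFinitePresentation) hloc
  haveI : LocallyOfFinitePresentation f := hf.2
  obtain ⟨V, hV, huV, -⟩ := TopologicalSpace.Opens.isBasis_iff_nbhd.mp U.isBasis_affineOpens
    (TopologicalSpace.Opens.mem_top u)
  have hV' : IsAffineOpen V := hV
  haveI : Nonempty V := ⟨⟨u, huV⟩⟩
  let g : Spec Γ(U, V) ⟶ Spec (CommRingCat.of K) := hV'.fromSpec ≫ f
  let φ : CommRingCat.of K ⟶ Γ(U, V) := Spec.preimage g
  have hφ : Spec.map φ = g := Spec.map_preimage g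
  haveI hE : LocallyOfFiniteType (Spec.map φ) := by rw [hφ]; infer_instance
  algebraize [φ.hom]
  haveI : Algebra.FiniteType K Γ(U, V) := by
    rw [HasRingHomProperty.Spec_iff (P := @LocallyOfFiniteType)] at hE
    exact hE
  haveI : Nontrivial Γ(U, V) := Scheme.component_nontrivial U V
  obtain ⟨n, hn⟩ := Ideal.exists_maximal Γ(U, V)
  letI : Field (Γ(U, V) ⧸ n) := Ideal.Quotient.field n
  haveI : Algebra.FiniteType K (Γ(U, V) ⧸ n) :=
    Algebra.FiniteType.of_surjective (Ideal.Quotient.mkₐ K n) (Ideal.Quotient.mkₐ_surjective K n)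
  haveI : Module.Finite K (Γ(U, V) ⧸ n) := finite_of_finite_type_of_isJacobsonRing K _
  haveI : Algebra.IsSeparable K (Γ(U, V) ⧸ n) := inferInstance
  haveI : Algebra.FormallyUnramified K (Γ(U, V) ⧸ n) :=
    Algebra.FormallyUnramified.of_isSeparable K _
  haveI : Algebra.FormallyUnramified K ((Γ(U, V) ⧸ n) ⊗[K] (Γ(U, V) ⧸ n)) :=
    Algebra.FormallyUnramified.comp K (Γ(U, V) ⧸ n) _
  haveI : IsReduced ((Γ(U, V) ⧸ n) ⊗[K] (Γ(U, V) ⧸ n)) :=
    Algebra.FormallyUnramified.isReduced_of_field K _
  refine hasSection_of_point a hps (Γ(U, V) ⧸ n)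
    (Spec.map (CommRingCat.ofHom (Ideal.Quotient.mk n)) ≫ hV'.fromSpec ≫ s) ?_
  rw [Category.assoc, Category.assoc, hs]
  change _ ≫ g = _
  rw [← hφ, ← Spec.map_comp]
  rfl

end main

end Groth.Agent.Lib.Helper79.FinConnTorsor
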