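import Mathlib
import Groth.Prelude.Def_NonAbH2
import Groth.Agent.Lib.Helper79.FinConnTorsor

/-!
# Torsors under finite connected group schemes become trivial after a Frobenius twist (helper79)

For a finite connected group scheme `G` over a field `K` of characteristic `p` there is `n` such
that every fppf `G`-torsor `X` admits a `K`-morphism from `Spec K` regarded as a `K`-scheme through
the `n`-th iterate of Frobenius.
-/

set_option autoImplicit false
set_option linter.style.haveILetI false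
set_option linter.unusedSectionVars false

universe u

open CategoryTheory Limits AlgebraicGeometry MonoidalCategory CartesianMonoidalCategory MonObj
open TensorProduct

namespace Groth.Agent.Lib.Helper79.FinConnFrob

open Groth.Agent.Lib.Helper40.ActPts Groth.Agent.Lib.Helper40.TorsorTriv
  Groth.Agent.Lib.Helper79.GaTorsor Groth.Agent.Lib.Helper79.GmTorsor
  Groth.Agent.Lib.Helper79.FinConnTorsor

variable {K : Type u} [Field K] {G : Over (Spec (CommRingCat.of K))}

/-- a uniform bound on the nilpotency of the augmentation ideal -/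
theorem exists_pow_eq_zero [IsFinite G.hom] [ConnectedSpace G.left]
    (e : Spec (CommRingCat.of K) ⟶ G.left) :
    ∃ N : ℕ, ∀ a : Γ(G.left, ⊤), e.appTop.hom a = 0 → a ^ N = 0 := by
  haveI : IsAffine G.left := isAffine_of_isAffineHom G.hom
  let s : CommRingCat.of K ⟶ Γ(G.left, ⊤) :=
    (Scheme.ΓSpecIso (CommRingCat.of K)).inv ≫ G.hom.appTop
  have hsfin : s.hom.Finite := by
    have h1 : (G.hom.appTop).hom.Finite := Scheme.Hom.finite_appTop G.hom
    have h2 : ((Scheme.ΓSpecIso (CommRingCat.of K)).inv).hom.Finite :=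
      RingHom.Finite.of_surjective _
        (ConcreteCategory.bijective_of_isIso (Scheme.ΓSpecIso (CommRingCat.of K)).inv).2
    exact h1.comp h2
  algebraize [s.hom]
  haveI : Module.Finite K Γ(G.left, ⊤) := hsfin
  haveI : IsArtinianRing Γ(G.left, ⊤) := isArtinian_of_tower K inferInstance
  let ε : Γ(G.left, ⊤) →+* K :=
    ((Scheme.ΓSpecIso (CommRingCat.of K)).hom.hom).comp e.appTop.hom
  have hconn : ConnectedSpace (Spec Γ(G.left, ⊤)) :=
    Function.Surjective.connectedSpace
      (ConcreteCategory.bijective_of_isIso (G.left.isoSpec.hom.base)).2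
      (G.left.isoSpec.hom.continuous)
  have hpre : PreconnectedSpace (PrimeSpectrum Γ(G.left, ⊤)) := hconn.toPreconnectedSpace
  obtain ⟨N, hN⟩ := IsArtinianRing.isNilpotent_nilradical (R := Γ(G.left, ⊤))
  refine ⟨N, fun a ha => ?_⟩
  have hnil : IsNilpotent a := by
    apply isNilpotent_of_mem_ker (K₀ := K) hpre ε
    change (Scheme.ΓSpecIso (CommRingCat.of K)).hom.hom (e.appTop.hom a) = 0
    rw [ha, map_zero]
  have hmem : a ∈ nilradical Γ(G.left, ⊤) := mem_nilradical.mpr hnil
  have : a ^ N ∈ (nilradical Γ(G.left, ⊤)) ^ N := Ideal.pow_mem_pow hmem N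
  rw [hN] at this
  exact this

/-- two points of `G` which kill the augmentation ideal are equal -/
theorem pts_eq_of_kills [IsFinite G.hom]
    (e : Spec (CommRingCat.of K) ⟶ G.left) (he : e ≫ G.hom = 𝟙 _)
    {T : Over (Spec (CommRingCat.of K))} (g h : T ⟶ G)
    (hg : ∀ a : Γ(G.left, ⊤), e.appTop.hom a = 0 → g.left.appTop.hom a = 0)
    (hh : ∀ a : Γ(G.left, ⊤), e.appTop.hom a = 0 → h.left.appTop.hom a = 0) : g = h := by
  haveI : IsAffine G.left := isAffine_of_isAffineHom G.hom
  have h1 : G.hom.appTop ≫ e.appTop = 𝟙 _ := by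
    rw [← Scheme.Hom.comp_appTop, he]
    rfl
  have key : ∀ (g : T ⟶ G) (_ : ∀ a : Γ(G.left, ⊤), e.appTop.hom a = 0 → g.left.appTop.hom a = 0)
      (a : Γ(G.left, ⊤)),
      g.left.appTop.hom a = T.hom.appTop.hom (e.appTop.hom a) := by
    intro g hg a
    have h0 : e.appTop.hom (a - G.hom.appTop.hom (e.appTop.hom a)) = 0 := by
      rw [map_sub]
      have := congrFun (congrArg DFunLike.coe (congrArg CommRingCat.Hom.hom h1)) (e.appTop.hom a)
      change e.appTop.hom a - e.appTop.hom (G.hom.appTop.hom (e.appTop.hom a)) = 0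
      rw [sub_eq_zero]
      exact this.symm
    have h2 := hg _ h0
    rw [map_sub, sub_eq_zero] at h2
    rw [h2]
    have hw : G.hom.appTop ≫ g.left.appTop = T.hom.appTop := by
      rw [← Scheme.Hom.comp_appTop, Over.w g]
    exact congrFun (congrArg DFunLike.coe (congrArg CommRingCat.Hom.hom hw)) (e.appTop.hom a)
  apply Over.OverMorphism.ext
  apply ext_of_isAffine
  ext a
  rw [key g hg a, key h hh a]

theorem one_kills [GrpObj G] {T : Over (Spec (CommRingCat.of K))} (b : Γ(G.left, ⊤))
    (hb : (η[G]).left.appTop.hom b = 0) : (1 : T ⟶ G).left.appTop.hom b = 0 := by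
  rw [CategoryTheory.Hom.one_def, Over.comp_left, Scheme.Hom.comp_appTop]
  change (toUnit T).left.appTop.hom ((η[G]).left.appTop.hom b) = 0
  rw [hb, map_zero]

section frob

variable (K) (p : ℕ) [Fact p.Prime] [CharP K p] (n : ℕ)

/-- `Spec` of the iterated Frobenius of `K` -/
noncomputable abbrev jn : Spec (CommRingCat.of K) ⟶ Spec (CommRingCat.of K) :=
  Spec.map (CommRingCat.ofHom (iterateFrobenius K p n))

/-- the iterated Frobenius of a `K`-algebra as a morphism of `K`-schemes -/
noncomputable def FR (R : Type u) [CommRing R] [Algebra K R] [CharP R p] :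
    TA (jn K p n) R ⟶ TA (𝟙 (Spec (CommRingCat.of K))) R :=
  Over.homMk (Spec.map (CommRingCat.ofHom (iterateFrobenius R p n))) (by
    simp only [Over.mk_hom, Category.comp_id]
    rw [← Spec.map_comp, ← Spec.map_comp, ← CommRingCat.ofHom_comp, ← CommRingCat.ofHom_comp]
    congr 2
    ext k
    simp [iterateFrobenius_def, map_pow])

theorem FR_left (R : Type u) [CommRing R] [Algebra K R] [CharP R p] :
    (FR K p n R).left = Spec.map (CommRingCat.ofHom (iterateFrobenius R p n)) := rfl

theorem FR_natural {R R' : Type u} [CommRing R] [CommRing R'] [Algebra K R] [Algebra K R']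
    [CharP R p] [CharP R' p] (θ : R →ₐ[K] R') :
    TAmap (jn K p n) θ ≫ FR K p n R = FR K p n R' ≫ TAmap (𝟙 (Spec (CommRingCat.of K))) θ := by
  apply Over.OverMorphism.ext
  rw [Over.comp_left, Over.comp_left, FR_left, FR_left, TAmap_left, TAmap_left]
  rw [← Spec.map_comp, ← Spec.map_comp, ← CommRingCat.ofHom_comp, ← CommRingCat.ofHom_comp]
  congr 2
  ext r
  simp [iterateFrobenius_def, map_pow]

theorem SpecMap_frob_appTop (R : Type u) [CommRing R] [CharP R p] {Y : Scheme.{u}}
    (t : Spec (CommRingCat.of R) ⟶ Y) (a : Γ(Y, ⊤)) :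
    (Spec.map (CommRingCat.ofHom (iterateFrobenius R p n)) ≫ t).appTop.hom a =
      (t.appTop.hom a) ^ (p ^ n) := by
  rw [Scheme.Hom.comp_appTop]
  change (Spec.map (CommRingCat.ofHom (iterateFrobenius R p n))).appTop.hom (t.appTop.hom a) = _
  generalize t.appTop.hom a = r
  have h := Scheme.ΓSpecIso_naturality (CommRingCat.ofHom (iterateFrobenius R p n))
  have h2 := congrArg (fun m => m.hom r) h
  apply (ConcreteCategory.bijective_of_isIso (Scheme.ΓSpecIso (CommRingCat.of R)).hom).1
  refine h2.trans ?_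
  change iterateFrobenius R p n ((Scheme.ΓSpecIso (CommRingCat.of R)).hom.hom r) = _
  rw [iterateFrobenius_def]
  exact (map_pow (Scheme.ΓSpecIso (CommRingCat.of R)).hom.hom r (p ^ n)).symm

variable {K}

/-- the main step: a torsor acquires a point over the `n`-th Frobenius twist of `Spec K` as soon
as `p ^ n` bounds the nilpotency of the augmentation ideal -/
theorem hasSection_frob [GrpObj G] [IsFinite G.hom]
    (N : ℕ) (hN : ∀ a : Γ(G.left, ⊤), (η[G]).left.appTop.hom a = 0 → a ^ N = 0)
    (hn : N ≤ p ^ n) {X : Over (Spec (CommRingCat.of K))} (a : AlgGrp.Action G X)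
    (h : NonAbH1.IsTorsorFor Scheme.fppfPrecoverage a) :
    NonAbH1.HasSectionOver X (Spec.map (CommRingCat.ofHom (iterateFrobenius K p n))) := by
  obtain ⟨hps, hloc⟩ := h
  obtain ⟨U, f, s, hf, ⟨u⟩, hs⟩ :=
    exists_member (P := @Flat ⊓ @LocallyOfFinitePresentation) hloc
  obtain ⟨V, hV, huV, -⟩ := TopologicalSpace.Opens.isBasis_iff_nbhd.mp U.isBasis_affineOpens
    (TopologicalSpace.Opens.mem_top u)
  have hV' : IsAffineOpen V := hV
  haveI : Nonempty V := ⟨⟨u, huV⟩⟩
  let g : Spec Γ(U, V) ⟶ Spec (CommRingCat.of K) := hV'.fromSpec ≫ f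
  let φ : CommRingCat.of K ⟶ Γ(U, V) := Spec.preimage g
  have hφ : Spec.map φ = g := Spec.map_preimage g
  algebraize [φ.hom]
  haveI : Nontrivial Γ(U, V) := Scheme.component_nontrivial U V
  haveI : CharP Γ(U, V) p := charP_of_injective_algebraMap (algebraMap K Γ(U, V)).injective p
  haveI : Nontrivial (Γ(U, V) ⊗[K] Γ(U, V)) :=
    (Algebra.TensorProduct.includeLeft_injective (R := K) (S := K) (A := Γ(U, V))
      (B := Γ(U, V)) (algebraMap K Γ(U, V)).injective).nontrivial
  haveI : CharP (Γ(U, V) ⊗[K] Γ(U, V)) p :=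
    charP_of_injective_algebraMap (algebraMap K (Γ(U, V) ⊗[K] Γ(U, V))).injective p
  let x₀ : TA (𝟙 (Spec (CommRingCat.of K))) Γ(U, V) ⟶ X := Over.homMk (hV'.fromSpec ≫ s) (by
    simp only [Over.mk_hom, Category.comp_id]
    rw [Category.assoc, hs]
    exact hφ.symm)
  let x : TA (jn K p n) Γ(U, V) ⟶ X := FR K p n Γ(U, V) ≫ x₀
  have key : TAmap (jn K p n)
        (Algebra.TensorProduct.includeLeft : Γ(U, V) →ₐ[K] Γ(U, V) ⊗[K] Γ(U, V)) ≫ x =
      TAmap (jn K p n)
        (Algebra.TensorProduct.includeRight : Γ(U, V) →ₐ[K] Γ(U, V) ⊗[K] Γ(U, V)) ≫ x := by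
    simp only [x, ← Category.assoc]
    rw [FR_natural, FR_natural, Category.assoc, Category.assoc]
    set u₁ := TAmap (𝟙 (Spec (CommRingCat.of K)))
      (Algebra.TensorProduct.includeLeft : Γ(U, V) →ₐ[K] Γ(U, V) ⊗[K] Γ(U, V)) ≫ x₀
    set u₂ := TAmap (𝟙 (Spec (CommRingCat.of K)))
      (Algebra.TensorProduct.includeRight : Γ(U, V) →ₐ[K] Γ(U, V) ⊗[K] Γ(U, V)) ≫ x₀
    have h1 := smul_divMap a hps u₁ u₂
    rw [← h1, comp_smul]
    have h2 : FR K p n (Γ(U, V) ⊗[K] Γ(U, V)) ≫ (lift u₁ u₂ ≫ divMap a hps) = 1 := by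
      apply pts_eq_of_kills (η[G]).left (Over.w η[G])
      · intro b hb
        rw [Over.comp_left, FR_left, SpecMap_frob_appTop, ← map_pow,
          pow_eq_zero_of_le hn (hN b hb), map_zero]
      · intro b hb
        exact one_kills b hb
    rw [h2, Groth.Agent.Lib.Helper40.ActPts.one_smul]
  obtain ⟨y⟩ := exists_desc (jn K p n) K Γ(U, V) x key
  refine ⟨y.left, ?_⟩
  have hy := Over.w y
  simp only [Over.mk_hom] at hy
  rw [hy, Algebra.algebraMap_self, CommRingCat.ofHom_id, Spec.map_id, Category.id_comp]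

end frob

/-- uniform trivialisation after a Frobenius twist -/
theorem exists_frob_section (p : ℕ) [ExpChar K p] [GrpObj G] [IsFinite G.hom]
    [ConnectedSpace G.left] :
    ∃ n : ℕ, ∀ (X : Over (Spec (CommRingCat.of K))) (a : AlgGrp.Action G X),
      NonAbH1.IsTorsorFor Scheme.fppfPrecoverage a →
      NonAbH1.HasSectionOver X (Spec.map (CommRingCat.ofHom (iterateFrobenius K p n))) := by
  rcases ‹ExpChar K p› with _ | ⟨hp⟩
  · refine ⟨0, fun X a h => ?_⟩
    rw [iterateFrobenius_zero, CommRingCat.ofHom_id, Spec.map_id]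
    exact hasSection_of_fppf a h
  · haveI : Fact p.Prime := ⟨hp⟩
    obtain ⟨N, hN⟩ := exists_pow_eq_zero (G := G) (η[G]).left
    refine ⟨N, fun X a h => hasSection_frob p N N hN ?_ a h⟩
    exact (Nat.lt_pow_self hp.one_lt).le

end Groth.Agent.Lib.Helper79.FinConnFrob
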