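import Mathlib

/-!
If `B → R` is an algebra, `I` a finitely generated ideal of `R` with `R ⧸ I` finite over `B`,
then every finite `R`-module killed by a power of `I` is finite over `B`.
In particular `R ⧸ I ^ k` is a finite `B`-module.
-/

namespace Groth.Agent.Lib.Helper79

universe v

variable {B R : Type*} [CommRing B] [CommRing R] [Algebra B R]

theorem finite_of_smul_top_eq_bot (I : Ideal R) [Module.Finite B (R ⧸ I)]
    (M : Type v) [AddCommGroup M] [Module R M] [Module B M] [IsScalarTower B R M]
    [Module.Finite R M] (h : I • (⊤ : Submodule R M) = ⊥) : Module.Finite B M := by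
  have hM : Module.IsTorsionBySet R M (I : Set R) := by
    intro x a
    have : (a : R) • x ∈ I • (⊤ : Submodule R M) := Submodule.smul_mem_smul a.2 trivial
    rw [h] at this
    simpa using this
  letI := hM.module
  haveI : IsScalarTower B (R ⧸ I) M := hM.isScalarTower
  haveI : IsScalarTower R (R ⧸ I) M := hM.isScalarTower
  haveI : Module.Finite (R ⧸ I) M := Module.Finite.of_restrictScalars_finite R (R ⧸ I) M
  exact Module.Finite.trans (R ⧸ I) M

theorem finite_of_pow_smul_top_eq_bot (I : Ideal R) (hI : I.FG) [Module.Finite B (R ⧸ I)] (k : ℕ) :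
    ∀ (M : Type v) [AddCommGroup M] [Module R M] [Module B M] [IsScalarTower B R M]
      [Module.Finite R M], (I ^ k • (⊤ : Submodule R M) = ⊥) → Module.Finite B M := by
  induction k with
  | zero =>
    intro M _ _ _ _ _ h
    rw [pow_zero, Ideal.one_eq_top, Submodule.top_smul] at h
    have : Subsingleton M := by
      refine ⟨fun x y ↦ ?_⟩
      have hx : x ∈ (⊤ : Submodule R M) := trivial
      have hy : y ∈ (⊤ : Submodule R M) := trivial
      rw [h] at hx hy
      rw [(Submodule.mem_bot R).mp hx, (Submodule.mem_bot R).mp hy]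
    infer_instance
  | succ k ih =>
    intro M _ _ _ _ _ h
    let N : Submodule R M := I • ⊤
    have hNfg : N.FG := Submodule.FG.smul hI (Module.Finite.fg_top)
    haveI : Module.Finite R N := Module.Finite.iff_fg.mpr hNfg
    have hN : I ^ k • (⊤ : Submodule R N) = ⊥ := by
      apply Submodule.map_injective_of_injective N.injective_subtype
      rw [Submodule.map_smul'', Submodule.map_top, Submodule.range_subtype, Submodule.map_bot]
      change I ^ k • (I • (⊤ : Submodule R M)) = ⊥
      rw [← mul_smul, ← pow_succ, h]
    haveI hNB : Module.Finite B N := ih N hN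
    have hQ : I • (⊤ : Submodule R (M ⧸ N)) = ⊥ := by
      rw [← Submodule.range_mkQ N, ← Submodule.map_top, ← Submodule.map_smul'']
      exact (Submodule.mkQ_map_self N)
    haveI hQB : Module.Finite B (M ⧸ N) := finite_of_smul_top_eq_bot I (M ⧸ N) hQ
    -- conclude
    let f : M →ₗ[B] M ⧸ N := N.mkQ.restrictScalars B
    have h1 : ((⊤ : Submodule B M).map f).FG := by
      have : (⊤ : Submodule B M).map f = ⊤ := by
        rw [Submodule.map_top, LinearMap.range_eq_top]
        exact N.mkQ_surjective
      rw [this]
      exact Module.Finite.fg_top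
    have h2 : ((⊤ : Submodule B M) ⊓ LinearMap.ker f).FG := by
      have hker : (⊤ : Submodule B M) ⊓ LinearMap.ker f =
          (⊤ : Submodule B N).map (N.subtype.restrictScalars B) := by
        ext x
        simp only [Submodule.mem_inf, Submodule.mem_top, true_and, LinearMap.mem_ker,
          Submodule.map_top, LinearMap.mem_range]
        constructor
        · intro hx
          have : x ∈ N := by
            have := (Submodule.Quotient.mk_eq_zero N).mp hx
            exact this
          exact ⟨⟨x, this⟩, rfl⟩
        · rintro ⟨y, rfl⟩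
          exact (Submodule.Quotient.mk_eq_zero N).mpr y.2
      rw [hker]
      exact (Module.Finite.fg_top (R := B) (M := N)).map _
    exact ⟨Submodule.fg_of_fg_map_of_fg_inf_ker f h1 h2⟩

theorem finite_quotient_pow (I : Ideal R) (hI : I.FG) [Module.Finite B (R ⧸ I)] (k : ℕ) :
    Module.Finite B (R ⧸ I ^ k) := by
  refine finite_of_pow_smul_top_eq_bot I hI k (R ⧸ I ^ k) ?_
  rw [eq_bot_iff]
  intro x hx
  refine Submodule.smul_induction_on hx ?_ ?_
  · intro a ha y _
    obtain ⟨y, rfl⟩ := Ideal.Quotient.mk_surjective y
    rw [Submodule.mem_bot]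
    change a • (Ideal.Quotient.mk (I ^ k) y) = 0
    rw [← Ideal.Quotient.mk_eq_mk, ← Submodule.Quotient.mk_smul, Ideal.Quotient.mk_eq_mk,
      Ideal.Quotient.eq_zero_iff_mem, smul_eq_mul]
    exact Ideal.mul_mem_right _ _ ha
  · intro x y hx hy
    exact Submodule.add_mem _ hx hy

end Groth.Agent.Lib.Helper79
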