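import Mathlib

/-!
# The fixed locus of a family of endomorphisms of a scheme
-/

set_option autoImplicit false
set_option linter.style.haveILetI false
open CategoryTheory CategoryTheory.Limits AlgebraicGeometry TopologicalSpace
universe u v

namespace Groth.Agent.Lib.Helper79.FixLocus

variable {X Z : Scheme.{u}} {G : Type v}

/-- `ι : Z ⟶ X` is the fixed locus of the family `σ` of endomorphisms of `X`. -/
def IsFixedLocus (σ : G → (X ⟶ X)) (ι : Z ⟶ X) : Prop :=
  (∀ g, ι ≫ σ g = ι) ∧
    ∀ (T : Scheme.{u}) (t : T ⟶ X), (∀ g, t ≫ σ g = t) → ∃! t' : T ⟶ Z, t' ≫ ι = t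

namespace IsFixedLocus

variable {σ : G → (X ⟶ X)} {ι : Z ⟶ X}

theorem mono (h : IsFixedLocus σ ι) : Mono ι := by
  constructor
  intro T a b hab
  have hfix : ∀ g, (a ≫ ι) ≫ σ g = a ≫ ι := fun g => by rw [Category.assoc, h.1 g]
  obtain ⟨t', -, huniq⟩ := h.2 T (a ≫ ι) hfix
  exact (huniq a rfl).trans (huniq b hab.symm).symm

/-- the fixed locus is unique up to unique isomorphism. -/
theorem iso {Z' : Scheme.{u}} {ι' : Z' ⟶ X} (h : IsFixedLocus σ ι) (h' : IsFixedLocus σ ι') :
    ∃ e : Z ≅ Z', e.hom ≫ ι' = ι := by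
  obtain ⟨a, ha, -⟩ := h'.2 Z ι h.1
  obtain ⟨b, hb, -⟩ := h.2 Z' ι' h'.1
  haveI := h.mono
  haveI := h'.mono
  refine ⟨⟨a, b, ?_, ?_⟩, ha⟩
  · rw [← cancel_mono ι, Category.assoc, hb, ha, Category.id_comp]
  · rw [← cancel_mono ι', Category.assoc, ha, hb, Category.id_comp]

/-- restriction of the fixed locus to a stable open. -/
theorem restrict (h : IsFixedLocus σ ι) (V : X.Opens) (σV : G → (V.toScheme ⟶ V.toScheme))
    (hσV : ∀ g, σV g ≫ V.ι = V.ι ≫ σ g) : IsFixedLocus σV (ι ∣_ V) := by
  have hpb := isPullback_morphismRestrict ι V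
  constructor
  · intro g
    rw [← cancel_mono V.ι, Category.assoc, hσV, morphismRestrict_ι_assoc, h.1 g,
      morphismRestrict_ι]
  · intro T t ht
    have hfix : ∀ g, (t ≫ V.ι) ≫ σ g = t ≫ V.ι := fun g => by
      rw [Category.assoc, ← hσV, reassoc_of% (ht g)]
    obtain ⟨t', ht', huniq⟩ := h.2 T (t ≫ V.ι) hfix
    refine ⟨hpb.lift t t' ht'.symm, hpb.lift_fst _ _ _, ?_⟩
    intro s hs
    apply hpb.hom_ext
    · rw [hpb.lift_fst, hs]
    · rw [hpb.lift_snd]
      apply huniq
      rw [Category.assoc, ← morphismRestrict_ι, reassoc_of% hs]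

/-- transport of the fixed locus along an isomorphism. -/
theorem conj {X' : Scheme.{u}} (h : IsFixedLocus σ ι) (e : X ≅ X') (σ' : G → (X' ⟶ X'))
    (hσ' : ∀ g, e.hom ≫ σ' g = σ g ≫ e.hom) : IsFixedLocus σ' (ι ≫ e.hom) := by
  constructor
  · intro g
    rw [Category.assoc, hσ', reassoc_of% (h.1 g)]
  · intro T t ht
    have hfix : ∀ g, (t ≫ e.inv) ≫ σ g = t ≫ e.inv := fun g => by
      rw [← cancel_mono e.hom, Category.assoc, Category.assoc, ← hσ', Category.assoc,
        Iso.inv_hom_id_assoc, Iso.inv_hom_id, Category.comp_id, ht g]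
    obtain ⟨t', ht', huniq⟩ := h.2 T (t ≫ e.inv) hfix
    refine ⟨t', ?_, ?_⟩
    · show t' ≫ ι ≫ e.hom = t
      rw [reassoc_of% ht', Iso.inv_hom_id, Category.comp_id]
    · intro s hs
      apply huniq
      show s ≫ ι = t ≫ e.inv
      have hs' : s ≫ ι ≫ e.hom = t := hs
      rw [← hs', Category.assoc, Category.assoc, Iso.hom_inv_id, Category.comp_id]

end IsFixedLocus

/-- the fixed locus of a family of `S`-endomorphisms of a separated `S`-scheme exists and is a closed
subscheme. -/
theorem exists_isFixedLocus_closedImmersion {S : Scheme.{u}} (f : X ⟶ S) [IsSeparated f]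
    (σ : G → (X ⟶ X)) (hσ : ∀ g, σ g ≫ f = f) :
    ∃ (Z : Scheme.{u}) (ι : Z ⟶ X), IsClosedImmersion ι ∧ IsFixedLocus σ ι := by
  -- the equalizer of `σ g` and the identity
  let γ : ∀ g : G, X ⟶ pullback f f := fun g =>
    pullback.lift (σ g) (𝟙 X) (by rw [hσ, Category.id_comp])
  let E : G → Scheme.{u} := fun g => pullback (pullback.diagonal f) (γ g)
  let i : ∀ g, E g ⟶ X := fun g => pullback.snd (pullback.diagonal f) (γ g)
  have hi : ∀ g, i g ≫ σ g = i g := by
    intro g
    have h1 := pullback.condition (f := pullback.diagonal f) (g := γ g)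
    have h2 := congrArg (fun k => k ≫ pullback.fst f f) h1
    have h3 := congrArg (fun k => k ≫ pullback.snd f f) h1
    simp only [Category.assoc, pullback.diagonal_fst, pullback.diagonal_snd, Category.comp_id] at h2 h3
    simp only [γ, pullback.lift_fst, pullback.lift_snd, Category.comp_id] at h2 h3
    show pullback.snd (pullback.diagonal f) (γ g) ≫ σ g = pullback.snd (pullback.diagonal f) (γ g)
    rw [← h2, h3]
  have hlift : ∀ (g : G) (T : Scheme.{u}) (t : T ⟶ X), t ≫ σ g = t → ∃ l : T ⟶ E g, l ≫ i g = t := by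
    intro g T t ht
    refine ⟨pullback.lift t t ?_, pullback.lift_snd _ _ _⟩
    apply pullback.hom_ext
    · simp only [Category.assoc, pullback.diagonal_fst, Category.comp_id, γ, pullback.lift_fst, ht]
    · simp only [Category.assoc, pullback.diagonal_snd, Category.comp_id, γ, pullback.lift_snd]
  haveI : ∀ g, IsClosedImmersion (i g) := fun g =>
    inferInstanceAs (IsClosedImmersion (pullback.snd (pullback.diagonal f) (γ g)))
  let I : X.IdealSheafData := ⨆ g, (i g).ker
  refine ⟨I.subscheme, I.subschemeι, inferInstance, ?_, ?_⟩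
  · intro g
    have hle : (i g).ker ≤ I.subschemeι.ker := by
      rw [Scheme.IdealSheafData.ker_subschemeι]
      exact le_iSup (fun g => (i g).ker) g
    rw [← IsClosedImmersion.lift_fac (i g) I.subschemeι hle, Category.assoc, hi g]
  · intro T t ht
    have hle : I.subschemeι.ker ≤ t.ker := by
      rw [Scheme.IdealSheafData.ker_subschemeι]
      refine iSup_le fun g => ?_
      obtain ⟨l, hl⟩ := hlift g T t (ht g)
      rw [← hl]
      exact Scheme.Hom.le_ker_comp l (i g)
    refine ⟨IsClosedImmersion.lift I.subschemeι t hle, IsClosedImmersion.lift_fac _ _ _, ?_⟩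
    intro s hs
    rw [← cancel_mono I.subschemeι, hs, IsClosedImmersion.lift_fac]

/-- the fixed locus of a family of endomorphisms of an affine scheme. -/
theorem isFixedLocus_spec (B : CommRingCat.{u}) (a : G → (B ⟶ B)) (J : Ideal B)
    (hJ : J = Ideal.span {x | ∃ (g : G) (b : B), x = (a g).hom b - b}) :
    IsFixedLocus (fun g => Spec.map (a g))
      (Spec.map (CommRingCat.ofHom (Ideal.Quotient.mk J))) := by
  have hmk : ∀ g, a g ≫ CommRingCat.ofHom (Ideal.Quotient.mk J) =
      CommRingCat.ofHom (Ideal.Quotient.mk J) := by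
    intro g
    apply CommRingCat.hom_ext
    apply RingHom.ext
    intro b
    show Ideal.Quotient.mk J ((a g).hom b) = Ideal.Quotient.mk J b
    rw [Ideal.Quotient.eq, hJ]
    exact Ideal.subset_span ⟨g, b, rfl⟩
  constructor
  · intro g
    show Spec.map (CommRingCat.ofHom (Ideal.Quotient.mk J)) ≫ Spec.map (a g) = _
    rw [← Spec.map_comp, hmk]
  · intro T t ht
    let τ : B ⟶ Γ(T, ⊤) := (Scheme.ΓSpecIso B).inv ≫ t.appTop
    have htτ : t = T.toSpecΓ ≫ Spec.map τ := by
      have h1 := Scheme.toSpecΓ_naturality t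
      have h2 : t = (t ≫ (Spec B).toSpecΓ) ≫ Spec.map (Scheme.ΓSpecIso B).inv := by
        rw [Category.assoc, toSpecΓ_SpecMap_ΓSpecIso_inv, Category.comp_id]
      rw [h2, h1, Category.assoc, ← Spec.map_comp]
    have haτ : ∀ g, a g ≫ τ = τ := by
      intro g
      show a g ≫ (Scheme.ΓSpecIso B).inv ≫ t.appTop = (Scheme.ΓSpecIso B).inv ≫ t.appTop
      rw [Scheme.ΓSpecIso_inv_naturality_assoc, ← Scheme.Hom.comp_appTop]
      have := ht g
      simp only at this
      rw [this]
    have hkill : ∀ x ∈ J, τ.hom x = 0 := by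
      intro x hx
      have hle : J ≤ RingHom.ker τ.hom := by
        rw [hJ, Ideal.span_le]
        rintro _ ⟨g, b, rfl⟩
        show τ.hom ((a g).hom b - b) = 0
        rw [map_sub, sub_eq_zero]
        exact congrArg (fun k => k.hom b) (haτ g)
      exact hle hx
    let τ' : CommRingCat.of (B ⧸ J) ⟶ Γ(T, ⊤) :=
      CommRingCat.ofHom (Ideal.Quotient.lift J τ.hom hkill)
    have hττ' : CommRingCat.ofHom (Ideal.Quotient.mk J) ≫ τ' = τ := by
      apply CommRingCat.hom_ext
      apply RingHom.ext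
      intro b
      rfl
    refine ⟨T.toSpecΓ ≫ Spec.map τ', ?_, ?_⟩
    · show (T.toSpecΓ ≫ Spec.map τ') ≫ Spec.map (CommRingCat.ofHom (Ideal.Quotient.mk J)) = t
      rw [Category.assoc, ← Spec.map_comp, hττ', ← htτ]
    · intro s hs
      have hs' : s ≫ Spec.map (CommRingCat.ofHom (Ideal.Quotient.mk J)) = t := hs
      rw [← cancel_mono (Spec.map (CommRingCat.ofHom (Ideal.Quotient.mk J))), hs', Category.assoc,
        ← Spec.map_comp, hττ', ← htτ]

end Groth.Agent.Lib.Helper79.FixLocus
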