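import Mathlib

/-!
# The coinvariant quotient `B ⧸ (g b - b)` of a smooth algebra by a finite group of invertible order
is smooth
-/

set_option autoImplicit false
set_option linter.style.haveILetI false
universe u

namespace Groth.Agent.Lib.Helper79.FixSmoothAlg

variable {A B : Type u} [CommRing A] [CommRing B] [Algebra A B]
variable {G : Type*} [Group G] (a : G →* (B →ₐ[A] B))

/-- the ideal generated by the `g b - b`. -/
def J : Ideal B := Ideal.span {x | ∃ (g : G) (b : B), x = a g b - b}

theorem sub_mem_J (g : G) (b : B) : a g b - b ∈ J a := Ideal.subset_span ⟨g, b, rfl⟩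

theorem a_mul (g h : G) (b : B) : a (g * h) b = a g (a h b) := by
  rw [map_mul]; rfl

/-- `J` is finitely generated when `B` is of finite type. -/
theorem fg_J [Finite G] [Algebra.FiniteType A B] : (J a).FG := by
  classical
  cases nonempty_fintype G
  obtain ⟨s, hs⟩ := (Algebra.FiniteType.out : (⊤ : Subalgebra A B).FG)
  let T : Finset B := (Finset.univ ×ˢ s).image (fun gb : G × B => a gb.1 gb.2 - gb.2)
  refine ⟨T, ?_⟩
  apply le_antisymm
  · rw [Ideal.span_le]
    intro x hx
    obtain ⟨⟨g, b⟩, -, rfl⟩ := Finset.mem_image.mp hx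
    exact sub_mem_J a g b
  · rw [J, Ideal.span_le]
    rintro _ ⟨g, b, rfl⟩
    let Sg : Subalgebra A B :=
      { carrier := {b | a g b - b ∈ Ideal.span (T : Set B)}
        mul_mem' := fun {x y} hx hy => by
          have e : a g (x * y) - x * y = a g x * (a g y - y) + (a g x - x) * y := by
            rw [map_mul]; ring
          show a g (x * y) - x * y ∈ Ideal.span (T : Set B)
          rw [e]
          exact add_mem (Ideal.mul_mem_left _ _ hy) (Ideal.mul_mem_right _ _ hx)
        add_mem' := fun {x y} hx hy => by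
          have e : a g (x + y) - (x + y) = (a g x - x) + (a g y - y) := by
            rw [map_add]; ring
          show a g (x + y) - (x + y) ∈ Ideal.span (T : Set B)
          rw [e]
          exact add_mem hx hy
        algebraMap_mem' := fun c => by
          show a g (algebraMap A B c) - algebraMap A B c ∈ Ideal.span (T : Set B)
          rw [AlgHom.commutes, sub_self]
          exact zero_mem _ }
    have hle : Algebra.adjoin A (s : Set B) ≤ Sg := by
      apply Algebra.adjoin_le
      intro b hb
      show a g b - b ∈ Ideal.span (T : Set B)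
      apply Ideal.subset_span
      exact Finset.mem_image.mpr ⟨(g, b), Finset.mem_product.mpr ⟨Finset.mem_univ _, hb⟩, rfl⟩
    rw [hs] at hle
    exact hle (Algebra.mem_top : b ∈ (⊤ : Subalgebra A B))

/-- the averaging argument: the coinvariant quotient of a formally smooth algebra by a finite
group of invertible order is formally smooth. -/
theorem formallySmooth_quotient [Finite G] [Algebra.FormallySmooth A B]
    (hn : IsUnit ((Nat.card G : ℕ) : A)) : Algebra.FormallySmooth A (B ⧸ J a) := by
  classical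
  cases nonempty_fintype G
  obtain ⟨u, hu⟩ := hn
  have hun : (↑u⁻¹ : A) * (Fintype.card G : A) = 1 := by
    rw [← Nat.card_eq_fintype_card, ← hu, Units.inv_mul]
  refine Algebra.FormallySmooth.of_comp_surjective ?_
  intro C _ _ I hI f
  obtain ⟨φ, hφ⟩ := Algebra.FormallySmooth.comp_surjective A B I hI
    (f.comp (Ideal.Quotient.mkₐ A (J a)))
  have hφ' : ∀ x : B, Ideal.Quotient.mk I (φ x) = f (Ideal.Quotient.mk (J a) x) :=
    fun x => AlgHom.congr_fun hφ x
  have hmk : ∀ (g : G) (x : B), Ideal.Quotient.mk (J a) (a g x) = Ideal.Quotient.mk (J a) x := by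
    intro g x
    rw [Ideal.Quotient.eq]
    exact sub_mem_J a g x
  -- the averaged lift
  let φ'fun : B → C := fun x => (↑u⁻¹ : A) • ∑ g : G, φ (a g x)
  have hsum : ∀ x : B, ∑ g : G, φ (a g x) = (Fintype.card G : A) • φ'fun x := by
    intro x
    show _ = (Fintype.card G : A) • ((↑u⁻¹ : A) • ∑ g : G, φ (a g x))
    rw [smul_smul, mul_comm, hun, one_smul]
  have hmkφ' : ∀ x : B, Ideal.Quotient.mk I (φ'fun x) = f (Ideal.Quotient.mk (J a) x) := by
    intro x
    show Ideal.Quotient.mk I ((↑u⁻¹ : A) • ∑ g : G, φ (a g x)) = _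
    have h1 : Ideal.Quotient.mk I ((↑u⁻¹ : A) • ∑ g : G, φ (a g x)) =
        (↑u⁻¹ : A) • ∑ g : G, Ideal.Quotient.mk I (φ (a g x)) := by
      rw [← Ideal.Quotient.mkₐ_eq_mk A, map_smul, map_sum]
    rw [h1]
    simp only [hφ', hmk]
    rw [Finset.sum_const, Finset.card_univ, ← Nat.cast_smul_eq_nsmul A, smul_smul, hun, one_smul]
  let ε : G → B → C := fun g x => φ (a g x) - φ'fun x
  have hεI : ∀ g x, ε g x ∈ I := by
    intro g x
    rw [← Ideal.Quotient.eq_zero_iff_mem, map_sub, hφ', hmkφ', hmk, sub_self]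
  have hεsum : ∀ x, ∑ g : G, ε g x = 0 := by
    intro x
    show ∑ g : G, (φ (a g x) - φ'fun x) = 0
    rw [Finset.sum_sub_distrib, hsum, Finset.sum_const, Finset.card_univ,
      ← Nat.cast_smul_eq_nsmul A, sub_self]
  have hεε : ∀ g x y, ε g x * ε g y = 0 := by
    intro g x y
    have : ε g x * ε g y ∈ I ^ 2 := by
      rw [pow_two]; exact Ideal.mul_mem_mul (hεI g x) (hεI g y)
    rw [hI] at this
    exact this
  have hφ'mul : ∀ x y, φ'fun (x * y) = φ'fun x * φ'fun y := by
    intro x y
    have h1 : ∑ g : G, φ (a g (x * y)) =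
        (Fintype.card G : A) • (φ'fun x * φ'fun y) := by
      have h2 : ∀ g : G, φ (a g (x * y)) =
          φ'fun x * φ'fun y + φ'fun x * ε g y + ε g x * φ'fun y + ε g x * ε g y := by
        intro g
        show φ (a g (x * y)) = _
        rw [map_mul, map_mul]
        show _ = φ'fun x * φ'fun y + φ'fun x * (φ (a g y) - φ'fun y) +
          (φ (a g x) - φ'fun x) * φ'fun y + (φ (a g x) - φ'fun x) * (φ (a g y) - φ'fun y)
        ring
      simp only [h2, hεε, add_zero]
      rw [Finset.sum_add_distrib, Finset.sum_add_distrib, Finset.sum_const, Finset.card_univ]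
      have e1 : ∑ g : G, φ'fun x * ε g y = 0 := by rw [← Finset.mul_sum, hεsum, mul_zero]
      have e2 : ∑ g : G, ε g x * φ'fun y = 0 := by rw [← Finset.sum_mul, hεsum, zero_mul]
      rw [e1, e2, add_zero, add_zero, ← Nat.cast_smul_eq_nsmul A]
    have h3 : φ'fun (x * y) = (↑u⁻¹ : A) • ∑ g : G, φ (a g (x * y)) := rfl
    rw [h3, h1, smul_smul, hun, one_smul]
  let φ' : B →ₐ[A] C :=
    { toFun := φ'fun
      map_one' := by
        show (↑u⁻¹ : A) • ∑ g : G, φ (a g 1) = 1
        simp only [map_one, Finset.sum_const, Finset.card_univ]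
        rw [← Nat.cast_smul_eq_nsmul A, smul_smul, hun, one_smul]
      map_mul' := hφ'mul
      map_zero' := by
        show (↑u⁻¹ : A) • ∑ g : G, φ (a g 0) = 0
        simp
      map_add' := fun x y => by
        show (↑u⁻¹ : A) • ∑ g : G, φ (a g (x + y)) =
          (↑u⁻¹ : A) • ∑ g : G, φ (a g x) + (↑u⁻¹ : A) • ∑ g : G, φ (a g y)
        simp only [map_add, Finset.sum_add_distrib, smul_add]
      commutes' := fun c => by
        show (↑u⁻¹ : A) • ∑ g : G, φ (a g (algebraMap A B c)) = algebraMap A C c
        simp only [AlgHom.commutes, Finset.sum_const, Finset.card_univ]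
        rw [← Nat.cast_smul_eq_nsmul A, smul_smul, hun, one_smul] }
  have hφ'inv : ∀ (h : G) (x : B), φ' (a h x) = φ' x := by
    intro h x
    show (↑u⁻¹ : A) • ∑ g : G, φ (a g (a h x)) = (↑u⁻¹ : A) • ∑ g : G, φ (a g x)
    congr 1
    refine Fintype.sum_equiv (Equiv.mulRight h) _ _ (fun g => ?_)
    rw [Equiv.coe_mulRight, a_mul]
  have hkill : ∀ x ∈ J a, φ' x = 0 := by
    intro x hx
    have hle : J a ≤ RingHom.ker φ'.toRingHom := by
      rw [J, Ideal.span_le]
      rintro _ ⟨g, b, rfl⟩
      show φ' (a g b - b) = 0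
      rw [map_sub, hφ'inv, sub_self]
    exact hle hx
  refine ⟨Ideal.Quotient.liftₐ (J a) φ' hkill, ?_⟩
  apply AlgHom.ext
  intro y
  obtain ⟨x, rfl⟩ := Ideal.Quotient.mk_surjective y
  show Ideal.Quotient.mk I (φ' x) = f (Ideal.Quotient.mk (J a) x)
  exact hmkφ' x

/-- the coinvariant quotient of a smooth algebra is smooth. -/
theorem smooth_quotient [Finite G] [Algebra.Smooth A B]
    (hn : IsUnit ((Nat.card G : ℕ) : A)) : Algebra.Smooth A (B ⧸ J a) where
  formallySmooth := formallySmooth_quotient a hn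
  finitePresentation := Algebra.FinitePresentation.quotient (fg_J a)

end Groth.Agent.Lib.Helper79.FixSmoothAlg
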