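import Groth.Prelude.Def_SGA1
import Groth.Agent.Lib.Helper69.QuotGlue
import Groth.Agent.S13606
import Mathlib

/-!
# `SGA1.IsQuot` is local on the target
-/

set_option autoImplicit false
open CategoryTheory CategoryTheory.Limits AlgebraicGeometry TopologicalSpace
universe u

namespace Groth.Agent.Lib.Helper79.QuotLocal

variable {X Y : Scheme.{u}} {G : Type u} [Group G]

theorem inj_transfer (p : X ⟶ Y) (W' : Y.Opens) (V' : X.Opens) (hE : V' = p ⁻¹ᵁ W')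
    (e : V' ≤ p ⁻¹ᵁ W') (h : Function.Injective (p.appLE W' V' e).hom) :
    Function.Injective (p.app W').hom := by
  subst hE
  rw [Scheme.Hom.app_eq_appLE]
  exact h

theorem range_transfer (ρ : G →* Aut X) (p : X ⟶ Y) (hinv : ∀ g : G, (ρ g).hom ≫ p = p)
    (W' : Y.Opens) (V' : X.Opens) (hE : V' = p ⁻¹ᵁ W') (e1 : V' ≤ p ⁻¹ᵁ W')
    (e2 : ∀ g : G, V' ≤ (ρ g).hom ⁻¹ᵁ V')
    (h : ∀ s : Γ(X, V'), (∀ g : G, ((ρ g).hom.appLE V' V' (e2 g)).hom s = s) →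
      s ∈ Set.range (p.appLE W' V' e1).hom)
    (s : Γ(X, p ⁻¹ᵁ W'))
    (hs : ∀ g : G, ((ρ g).hom.appLE (p ⁻¹ᵁ W') (p ⁻¹ᵁ W')
      (SGA1.preimage_le_of_inv ρ p hinv g W')).hom s = s) :
    s ∈ Set.range (p.app W').hom := by
  subst hE
  rw [Scheme.Hom.app_eq_appLE]
  exact h s hs

/-- the consequences of `IsQuot (p ∣_ U)` for sections of `p` over opens contained in `U`. -/
theorem of_restrict (ρ : G →* Aut X) (p : X ⟶ Y) (hinv : ∀ g : G, (ρ g).hom ≫ p = p)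
    (U : Y.Opens) (ρU : G →* Aut (p ⁻¹ᵁ U).toScheme)
    (hρU : ∀ g : G, (ρU g).hom ≫ (p ⁻¹ᵁ U).ι = (p ⁻¹ᵁ U).ι ≫ (ρ g).hom)
    (hQ : SGA1.IsQuot ρU (p ∣_ U)) (W' : Y.Opens) (hW' : W' ≤ U) :
    Function.Injective (p.app W').hom ∧
      ∀ s : Γ(X, p ⁻¹ᵁ W'), (∀ g : G, ((ρ g).hom.appLE (p ⁻¹ᵁ W') (p ⁻¹ᵁ W')
        (SGA1.preimage_le_of_inv ρ p hinv g W')).hom s = s) → s ∈ Set.range (p.app W').hom := by
  obtain ⟨W, hW⟩ : ∃ W : U.toScheme.Opens, U.ι ''ᵁ W = W' := by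
    refine ⟨U.ι ⁻¹ᵁ W', ?_⟩
    apply le_antisymm
    · rintro _ ⟨y, hy, rfl⟩
      exact hy
    · intro y hy
      exact ⟨⟨y, hW' hy⟩, hy, rfl⟩
  subst hW
  have hE := image_morphismRestrict_preimage p U W
  have he2 : ∀ g : G, (p ⁻¹ᵁ U).ι ''ᵁ ((p ∣_ U) ⁻¹ᵁ W) ≤
      (ρ g).hom ⁻¹ᵁ ((p ⁻¹ᵁ U).ι ''ᵁ ((p ∣_ U) ⁻¹ᵁ W)) := by
    intro g
    have h1 := SGA1.preimage_le_of_inv ρU (p ∣_ U) hQ.inv g W
    rintro _ ⟨y, hy, rfl⟩
    have h2 := h1 hy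
    refine ⟨(ρU g).hom y, h2, ?_⟩
    have h3 : ((ρU g).hom ≫ (p ⁻¹ᵁ U).ι) y = ((p ⁻¹ᵁ U).ι ≫ (ρ g).hom) y := by rw [hρU g]
    exact h3
  have e0 : (p ∣_ U).app W = p.appLE (U.ι ''ᵁ W) ((p ⁻¹ᵁ U).ι ''ᵁ ((p ∣_ U) ⁻¹ᵁ W))
      hE.le := morphismRestrict_app' p U W
  constructor
  · refine inj_transfer p _ _ hE hE.le ?_
    rw [← e0]
    exact hQ.injective W
  · refine range_transfer ρ p hinv _ _ hE hE.le he2 ?_
    intro s hs
    rw [← e0]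
    refine (hQ.range_iff W s).mpr ?_
    intro g
    rw [Groth.Agent.S13606.restrict_appLE (ρU g).hom (ρ g).hom (hρU g) _ _ _ (he2 g)]
    exact hs g

/-- `IsQuot` can be checked on an open cover of the target. -/
theorem isQuot_of_openCover (ρ : G →* Aut X) (p : X ⟶ Y) (hinv : ∀ g : G, (ρ g).hom ≫ p = p)
    {ι : Type*} (U : ι → Y.Opens) (hU : ⨆ i, U i = ⊤)
    (h : ∀ i, ∃ ρU : G →* Aut (p ⁻¹ᵁ U i).toScheme,
      (∀ g : G, (ρU g).hom ≫ (p ⁻¹ᵁ U i).ι = (p ⁻¹ᵁ U i).ι ≫ (ρ g).hom) ∧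
        SGA1.IsQuot ρU (p ∣_ U i)) :
    SGA1.IsQuot ρ p := by
  have haff : IsAffineHom p := by
    have := @HasAffineProperty.instIsZariskiLocalAtTarget _ _
      AlgebraicGeometry.instHasAffinePropertyIsAffineHomIsAffine.{u}
    refine IsZariskiLocalAtTarget.of_iSup_eq_top U hU fun i => ?_
    obtain ⟨ρU, -, hQ⟩ := h i
    exact hQ.affine
  have hloc : ∀ i (W' : Y.Opens), W' ≤ U i → Function.Injective (p.app W').hom ∧
      ∀ s : Γ(X, p ⁻¹ᵁ W'), (∀ g : G, ((ρ g).hom.appLE (p ⁻¹ᵁ W') (p ⁻¹ᵁ W')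
        (SGA1.preimage_le_of_inv ρ p hinv g W')).hom s = s) → s ∈ Set.range (p.app W').hom := by
    intro i W' hW'
    obtain ⟨ρU, hρU, hQ⟩ := h i
    exact of_restrict ρ p hinv (U i) ρU hρU hQ W' hW'
  have hinj : ∀ V : Y.Opens, Function.Injective (p.app V).hom := by
    intro V t₁ t₂ ht
    refine Y.IsSheaf.section_ext (U := Opposite.op V) fun y hy => ?_
    have hy' : y ∈ ⨆ i, U i := by rw [hU]; trivial
    obtain ⟨i, hyi⟩ := Opens.mem_iSup.mp hy'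
    refine ⟨V ⊓ U i, inf_le_left, ⟨hy, hyi⟩, ?_⟩
    apply (hloc i (V ⊓ U i) inf_le_right).1
    have e1 : Y.presheaf.map (homOfLE (inf_le_left : V ⊓ U i ≤ V)).op ≫ p.app (V ⊓ U i) =
        p.app V ≫ X.presheaf.map (homOfLE (p.preimage_mono inf_le_left)).op :=
      p.naturality _
    have a1 := congrArg (fun k => k.hom t₁) e1
    have a2 := congrArg (fun k => k.hom t₂) e1
    simp only [CommRingCat.hom_comp, RingHom.comp_apply] at a1 a2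
    exact a1.trans ((congrArg _ ht).trans a2.symm)
  refine ⟨haff, hinv, hinj, ?_⟩
  refine Groth.Agent.Lib.Helper69.QuotGlue.range_iff_of_basis ρ p hinv hinj
    {W' : Y.Opens | ∃ i, W' ≤ U i} ?_ ?_
  · rw [Opens.isBasis_iff_nbhd]
    intro V y hy
    have hy' : y ∈ ⨆ i, U i := by rw [hU]; trivial
    obtain ⟨i, hyi⟩ := Opens.mem_iSup.mp hy'
    exact ⟨V ⊓ U i, ⟨i, inf_le_right⟩, ⟨hy, hyi⟩, inf_le_left⟩
  · rintro W' ⟨i, hW'⟩ s hs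
    exact (hloc i W' hW').2 s hs

end Groth.Agent.Lib.Helper79.QuotLocal
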