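import Groth.Prelude.Def_SGA1
import Groth.Agent.Lib.Helper79.QuotTransport
import Groth.Agent.Lib.Helper79.RestrictAut
import Groth.Agent.Lib.Helper79.QuotLocal
import Groth.Agent.S12059
import Mathlib

/-!
# An affine-local criterion for `SGA1.IsQuot`
-/

set_option autoImplicit false
set_option linter.style.haveILetI false
open CategoryTheory CategoryTheory.Limits AlgebraicGeometry TopologicalSpace
universe u

namespace Groth.Agent.Lib.Helper79.QuotAffineCrit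

open Groth.Agent.Lib.Helper79.RestrictAut

variable {X Y : Scheme.{u}} {G : Type u} [Group G]

theorem appLE_congr_hom {X Y : Scheme.{u}} (k k' : X ⟶ Y) (h : k = k') (U : Y.Opens) (V : X.Opens)
    (e : V ≤ k ⁻¹ᵁ U) (e' : V ≤ k' ⁻¹ᵁ U) : k.appLE U V e = k'.appLE U V e' := by
  subst h
  rfl

/-- the affine criterion over one affine open of the target. -/
theorem isQuot_restrict_of_isAffineOpen [Finite G] (ρ : G →* Aut X) (f : X ⟶ Y)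
    (hinv : ∀ g : G, (ρ g).hom ≫ f = f) (U : Y.Opens) (hU : IsAffineOpen U)
    (hV : IsAffineOpen (f ⁻¹ᵁ U))
    (hinj : Function.Injective (f.app U).hom)
    (hrange : ∀ s : Γ(X, f ⁻¹ᵁ U), (∀ g : G, ((ρ g).hom.appLE (f ⁻¹ᵁ U) (f ⁻¹ᵁ U)
      (SGA1.preimage_le_of_inv ρ f hinv g U)).hom s = s) → s ∈ Set.range (f.app U).hom)
    (ρU : G →* Aut (f ⁻¹ᵁ U).toScheme)
    (hρU : ∀ g : G, (ρU g).hom ≫ (f ⁻¹ᵁ U).ι = (f ⁻¹ᵁ U).ι ≫ (ρ g).hom) :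
    SGA1.IsQuot ρU (f ∣_ U) := by
  have e : ∀ g : G, f ⁻¹ᵁ U ≤ (ρ g).hom ⁻¹ᵁ (f ⁻¹ᵁ U) :=
    fun g => SGA1.preimage_le_of_inv ρ f hinv g U
  -- the action on sections
  have haL_one : (ρ 1).hom.appLE (f ⁻¹ᵁ U) (f ⁻¹ᵁ U) (e 1) = 𝟙 _ := by
    rw [appLE_congr_hom (ρ 1).hom (𝟙 X) (hom_one ρ) _ _ (e 1) le_rfl]
    simp only [Scheme.Hom.appLE, Scheme.Hom.id_app]
    exact X.presheaf.map_id _
  have haL_mul : ∀ g h : G, (ρ (g * h)).hom.appLE (f ⁻¹ᵁ U) (f ⁻¹ᵁ U) (e (g * h)) =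
      (ρ g).hom.appLE (f ⁻¹ᵁ U) (f ⁻¹ᵁ U) (e g) ≫ (ρ h).hom.appLE (f ⁻¹ᵁ U) (f ⁻¹ᵁ U) (e h) := by
    intro g h
    rw [Scheme.Hom.appLE_comp_appLE]
    exact appLE_congr_hom _ _ (hom_mul ρ h g) _ _ _ _
  let φ : G →* (Γ(X, f ⁻¹ᵁ U) →+* Γ(X, f ⁻¹ᵁ U)) :=
    { toFun := fun g => ((ρ g⁻¹).hom.appLE (f ⁻¹ᵁ U) (f ⁻¹ᵁ U) (e g⁻¹)).hom
      map_one' := by
        have h1 : ((ρ (1 : G)⁻¹).hom.appLE (f ⁻¹ᵁ U) (f ⁻¹ᵁ U) (e (1 : G)⁻¹)) = 𝟙 _ := by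
          rw [appLE_congr_hom (ρ (1 : G)⁻¹).hom (ρ 1).hom (by rw [inv_one]) _ _ _ (e 1), haL_one]
        rw [h1]
        rfl
      map_mul' := fun g h => by
        have h1 : ((ρ (g * h)⁻¹).hom.appLE (f ⁻¹ᵁ U) (f ⁻¹ᵁ U) (e (g * h)⁻¹)) =
            (ρ h⁻¹).hom.appLE (f ⁻¹ᵁ U) (f ⁻¹ᵁ U) (e h⁻¹) ≫
              (ρ g⁻¹).hom.appLE (f ⁻¹ᵁ U) (f ⁻¹ᵁ U) (e g⁻¹) := by
          rw [← haL_mul]
          exact appLE_congr_hom _ _ (by rw [mul_inv_rev]) _ _ _ _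
        rw [h1]
        rfl }
  letI : MulSemiringAction G Γ(X, f ⁻¹ᵁ U) := MulSemiringAction.compHom _ φ
  have hsmul : ∀ (g : G) (a : Γ(X, f ⁻¹ᵁ U)),
      g • a = ((ρ g⁻¹).hom.appLE (f ⁻¹ᵁ U) (f ⁻¹ᵁ U) (e g⁻¹)).hom a := fun g a => rfl
  letI : Algebra Γ(Y, U) Γ(X, f ⁻¹ᵁ U) := (f.app U).hom.toAlgebra
  have halg : ∀ b : Γ(Y, U), algebraMap Γ(Y, U) Γ(X, f ⁻¹ᵁ U) b = (f.app U).hom b := fun b => rfl
  have hfix : ∀ (g : G) (b : Γ(Y, U)),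
      ((ρ g).hom.appLE (f ⁻¹ᵁ U) (f ⁻¹ᵁ U) (e g)).hom ((f.app U).hom b) = (f.app U).hom b := by
    intro g b
    have h1 : f.app U ≫ (ρ g).hom.appLE (f ⁻¹ᵁ U) (f ⁻¹ᵁ U) (e g) = f.app U := by
      rw [Scheme.Hom.app_eq_appLE, Scheme.Hom.appLE_comp_appLE]
      exact appLE_congr_hom _ _ (hinv g) _ _ _ _
    exact congrArg (fun k => k.hom b) h1
  haveI : SMulCommClass G Γ(Y, U) Γ(X, f ⁻¹ᵁ U) :=
    ⟨fun g b a => by
      rw [Algebra.smul_def, Algebra.smul_def, smul_mul', halg, hsmul g ((f.app U).hom b), hfix]⟩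
  haveI : Algebra.IsInvariant Γ(Y, U) Γ(X, f ⁻¹ᵁ U) G :=
    ⟨fun a ha => by
      obtain ⟨b, hb⟩ := hrange a (fun g => by
        have := ha g⁻¹
        rw [hsmul, inv_inv] at this
        exact this)
      exact ⟨b, hb⟩⟩
  haveI : FaithfulSMul Γ(Y, U) Γ(X, f ⁻¹ᵁ U) :=
    (faithfulSMul_iff_algebraMap_injective _ _).mpr hinj
  -- the action on the spectrum
  let ρS : G →* Aut (Spec (CommRingCat.of Γ(X, f ⁻¹ᵁ U))) :=
    (hV.isoSpec.conjAut).toMonoidHom.comp ρU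
  have hρS : ∀ g : G, (ρS g).hom = hV.isoSpec.inv ≫ (ρU g).hom ≫ hV.isoSpec.hom := fun g => rfl
  have hres : ∀ g : G, (ρU g).hom = (ρ g).hom.resLE (f ⁻¹ᵁ U) (f ⁻¹ᵁ U) (e g) := by
    intro g
    rw [← cancel_mono (f ⁻¹ᵁ U).ι, hρU, Scheme.Hom.resLE_comp_ι]
  have hρS' : ∀ g : G, (ρS g).hom =
      Spec.map ((ρ g).hom.appLE (f ⁻¹ᵁ U) (f ⁻¹ᵁ U) (e g)) := by
    intro g
    rw [hρS, hres, IsAffineOpen.isoSpec_hom, ← Scheme.Opens.toSpecΓ_SpecMap_appLE,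
      IsAffineOpen.isoSpec_inv_toSpecΓ_assoc]
  have hrange' : Set.range (fun g : G => (ρS g).hom) =
      Set.range (fun g : G => Spec.map (CommRingCat.ofHom
        (MulSemiringAction.toRingHom G Γ(X, f ⁻¹ᵁ U) g))) := by
    ext m
    constructor
    · rintro ⟨g, rfl⟩
      refine ⟨g⁻¹, ?_⟩
      show Spec.map (CommRingCat.ofHom (MulSemiringAction.toRingHom G Γ(X, f ⁻¹ᵁ U) g⁻¹)) =
        (ρS g).hom
      rw [hρS' g]
      congr 1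
      apply CommRingCat.hom_ext
      apply RingHom.ext
      intro a
      show g⁻¹ • a = _
      rw [hsmul]
      exact congrArg (fun k : Γ(X, f ⁻¹ᵁ U) ⟶ Γ(X, f ⁻¹ᵁ U) => k.hom a)
        (appLE_congr_hom (ρ g⁻¹⁻¹).hom (ρ g).hom (by rw [inv_inv]) (f ⁻¹ᵁ U) (f ⁻¹ᵁ U)
          (e g⁻¹⁻¹) (e g))
    · rintro ⟨g, rfl⟩
      refine ⟨g⁻¹, ?_⟩
      show (ρS g⁻¹).hom =
        Spec.map (CommRingCat.ofHom (MulSemiringAction.toRingHom G Γ(X, f ⁻¹ᵁ U) g))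
      rw [hρS' g⁻¹]
      congr 1
  have hQ := Groth.Agent.S12059.result G Γ(X, f ⁻¹ᵁ U) Γ(Y, U) ρS hrange'
  have hfac : f ∣_ U = hV.isoSpec.hom ≫ Spec.map (CommRingCat.ofHom
      (algebraMap Γ(Y, U) Γ(X, f ⁻¹ᵁ U))) ≫ hU.isoSpec.inv := by
    have h1 : CommRingCat.ofHom (algebraMap Γ(Y, U) Γ(X, f ⁻¹ᵁ U)) = f.app U := rfl
    rw [h1, IsAffineOpen.isoSpec_hom, ← Category.assoc, Scheme.Opens.toSpecΓ_naturality,
      Category.assoc, IsAffineOpen.toSpecΓ_isoSpec_inv, Category.comp_id]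
  rw [hfac]
  refine Groth.Agent.Lib.Helper79.QuotTransport.isQuot_iso_comp ρS _
    (Groth.Agent.Lib.Helper79.QuotTransport.isQuot_comp_iso ρS _ hQ hU.isoSpec.inv)
    hV.isoSpec.hom ρU ?_
  intro g
  rw [hρS, Iso.hom_inv_id_assoc]

/-- the affine criterion for `IsQuot` on a cover of the target by affine opens. -/
theorem isQuot_of_affine_cover [Finite G] (ρ : G →* Aut X) (f : X ⟶ Y)
    (hinv : ∀ g : G, (ρ g).hom ≫ f = f) {ι : Type*} (U : ι → Y.Opens) (hU : ⨆ i, U i = ⊤)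
    (haff : ∀ i, IsAffineOpen (U i)) (haffX : ∀ i, IsAffineOpen (f ⁻¹ᵁ U i))
    (hinj : ∀ i, Function.Injective (f.app (U i)).hom)
    (hrange : ∀ i (s : Γ(X, f ⁻¹ᵁ U i)), (∀ g : G, ((ρ g).hom.appLE (f ⁻¹ᵁ U i) (f ⁻¹ᵁ U i)
      (SGA1.preimage_le_of_inv ρ f hinv g (U i))).hom s = s) →
        s ∈ Set.range (f.app (U i)).hom) :
    SGA1.IsQuot ρ f := by
  refine Groth.Agent.Lib.Helper79.QuotLocal.isQuot_of_openCover ρ f hinv U hU ?_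
  intro i
  have hstab : ∀ (g : G) (x : X), x ∈ f ⁻¹ᵁ U i → (ρ g).hom.base x ∈ f ⁻¹ᵁ U i := by
    intro g x hx
    show f.base ((ρ g).hom.base x) ∈ U i
    rw [← Scheme.Hom.comp_apply, hinv]
    exact hx
  exact ⟨restrictAut ρ _ hstab, restrictAut_ι ρ _ hstab,
    isQuot_restrict_of_isAffineOpen ρ f hinv (U i) (haff i) (haffX i) (hinj i) (hrange i) _
      (restrictAut_ι ρ _ hstab)⟩

end Groth.Agent.Lib.Helper79.QuotAffineCrit
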