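import Groth.Agent.Lib.Helper79.FixLocus
import Groth.Agent.Lib.Helper79.FixSmoothAlg
import Groth.Agent.Lib.Helper79.QuotStable
import Groth.Agent.Lib.Helper79.QuotAffineCrit
import Mathlib

/-!
# The fixed locus of a finite group of invertible order acting on a smooth scheme is smooth
-/

set_option autoImplicit false
set_option linter.style.haveILetI false
open CategoryTheory CategoryTheory.Limits AlgebraicGeometry TopologicalSpace
universe u

namespace Groth.Agent.Lib.Helper79.FixLocusSmooth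

open Groth.Agent.Lib.Helper79.FixLocus Groth.Agent.Lib.Helper79.RestrictAut
  Groth.Agent.Lib.Helper79.QuotAffineCrit

variable {X S Z : Scheme.{u}} {H : Type u} [Group H]

/-- the local piece: over a stable affine open `V` of `X` lying over an affine open `U` of `S`. -/
theorem smooth_piece [Finite H] (f : X ⟶ S) [Smooth f] (ρ : H →* Aut X)
    (hρ : ∀ h, (ρ h).hom ≫ f = f) (hn : IsUnit ((Nat.card H : ℕ) : Γ(S, ⊤)))
    (ι : Z ⟶ X) (hZ : IsFixedLocus (fun h => (ρ h).hom) ι)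
    (U : S.Opens) (hU : IsAffineOpen U) (V : X.Opens) (hV : IsAffineOpen V) (hle : V ≤ f ⁻¹ᵁ U)
    (hstab : ∀ (h : H) (x : X), x ∈ V → (ρ h).hom.base x ∈ V) :
    Smooth ((ι ⁻¹ᵁ V).ι ≫ ι ≫ f) := by
  have e : ∀ h : H, V ≤ (ρ h).hom ⁻¹ᵁ V := fun h x hx => hstab h x hx
  -- the action on sections over `V`
  letI : Algebra Γ(S, U) Γ(X, V) := (f.appLE U V hle).hom.toAlgebra
  have halg : ∀ c : Γ(S, U), algebraMap Γ(S, U) Γ(X, V) c = (f.appLE U V hle).hom c := fun c => rfl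
  have hfix : ∀ h : H, f.appLE U V hle ≫ (ρ h).hom.appLE V V (e h) = f.appLE U V hle := by
    intro h
    rw [Scheme.Hom.appLE_comp_appLE]
    exact appLE_congr_hom _ _ (hρ h) _ _ _ _
  have haL_one : (ρ 1).hom.appLE V V (e 1) = 𝟙 _ := by
    rw [appLE_congr_hom (ρ 1).hom (𝟙 X) (hom_one ρ) _ _ (e 1) le_rfl]
    simp only [Scheme.Hom.appLE, Scheme.Hom.id_app]
    exact X.presheaf.map_id _
  have haL_mul : ∀ g h : H, (ρ (g * h)).hom.appLE V V (e (g * h)) =
      (ρ g).hom.appLE V V (e g) ≫ (ρ h).hom.appLE V V (e h) := by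
    intro g h
    rw [Scheme.Hom.appLE_comp_appLE]
    exact appLE_congr_hom _ _ (hom_mul ρ h g) _ _ _ _
  let aG : H →* (Γ(X, V) →ₐ[Γ(S, U)] Γ(X, V)) :=
    { toFun := fun h =>
        { toRingHom := ((ρ h⁻¹).hom.appLE V V (e h⁻¹)).hom
          commutes' := fun c => congrArg (fun k => k.hom c) (hfix h⁻¹) }
      map_one' := by
        apply AlgHom.ext
        intro b
        have h1 : ((ρ (1 : H)⁻¹).hom.appLE V V (e (1 : H)⁻¹)) = 𝟙 _ := by
          rw [appLE_congr_hom (ρ (1 : H)⁻¹).hom (ρ 1).hom (by rw [inv_one]) _ _ _ (e 1), haL_one]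
        exact congrArg (fun k => k.hom b) h1
      map_mul' := fun g h => by
        apply AlgHom.ext
        intro b
        have h1 : ((ρ (g * h)⁻¹).hom.appLE V V (e (g * h)⁻¹)) =
            (ρ h⁻¹).hom.appLE V V (e h⁻¹) ≫ (ρ g⁻¹).hom.appLE V V (e g⁻¹) := by
          rw [← haL_mul]
          exact appLE_congr_hom _ _ (by rw [mul_inv_rev]) _ _ _ _
        exact congrArg (fun k => k.hom b) h1 }
  have haG : ∀ (h : H) (b : Γ(X, V)), aG h b = ((ρ h⁻¹).hom.appLE V V (e h⁻¹)).hom b :=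
    fun h b => rfl
  -- smoothness of the coinvariant quotient
  haveI : Algebra.Smooth Γ(S, U) Γ(X, V) :=
    HasRingHomProperty.appLE (P := @Smooth) f inferInstance ⟨U, hU⟩ ⟨V, hV⟩ hle
  have hn' : IsUnit ((Nat.card H : ℕ) : Γ(S, U)) := by
    have := hn.map (S.presheaf.map (homOfLE (le_top : U ≤ ⊤)).op).hom
    rwa [map_natCast] at this
  have hsm : Algebra.Smooth Γ(S, U) (Γ(X, V) ⧸ Groth.Agent.Lib.Helper79.FixSmoothAlg.J aG) :=
    Groth.Agent.Lib.Helper79.FixSmoothAlg.smooth_quotient aG hn'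
  -- the fixed locus of `V`
  have hZV : IsFixedLocus (fun h => restrictHom ρ V hstab h) (ι ∣_ V) :=
    hZ.restrict V _ (fun h => restrictHom_ι ρ V hstab h)
  have hres : ∀ h : H, restrictHom ρ V hstab h = (ρ h).hom.resLE V V (e h) := by
    intro h
    rw [← cancel_mono V.ι, restrictHom_ι, Scheme.Hom.resLE_comp_ι]
  have hZS : IsFixedLocus (fun h => Spec.map ((ρ h).hom.appLE V V (e h)))
      ((ι ∣_ V) ≫ hV.isoSpec.hom) := by
    refine hZV.conj hV.isoSpec _ (fun h => ?_)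
    rw [hres, IsAffineOpen.isoSpec_hom, Scheme.Opens.toSpecΓ_SpecMap_appLE]
  have hJ : Groth.Agent.Lib.Helper79.FixSmoothAlg.J aG =
      Ideal.span {x | ∃ (h : H) (b : Γ(X, V)),
        x = ((ρ h).hom.appLE V V (e h)).hom b - b} := by
    unfold Groth.Agent.Lib.Helper79.FixSmoothAlg.J
    congr 1
    ext x
    constructor
    · rintro ⟨h, b, rfl⟩
      exact ⟨h⁻¹, b, by rw [haG]⟩
    · rintro ⟨h, b, rfl⟩
      refine ⟨h⁻¹, b, ?_⟩
      rw [haG]
      exact congrArg (fun k : Γ(X, V) ⟶ Γ(X, V) => k.hom b - b)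
        (appLE_congr_hom (ρ h).hom (ρ h⁻¹⁻¹).hom (by rw [inv_inv]) V V (e h) (e h⁻¹⁻¹))
  have hSpec := isFixedLocus_spec Γ(X, V) (fun h => (ρ h).hom.appLE V V (e h))
    (Groth.Agent.Lib.Helper79.FixSmoothAlg.J aG) hJ
  obtain ⟨eiso, heiso⟩ := hZS.iso hSpec
  -- factor the morphism
  have hfac : (ι ⁻¹ᵁ V).ι ≫ ι ≫ f = eiso.hom ≫
      Spec.map (f.appLE U V hle ≫ CommRingCat.ofHom
        (Ideal.Quotient.mk (Groth.Agent.Lib.Helper79.FixSmoothAlg.J aG))) ≫ hU.fromSpec := by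
    rw [Spec.map_comp, Category.assoc, IsAffineOpen.SpecMap_appLE_fromSpec f hU hV hle,
      reassoc_of% heiso, IsAffineOpen.isoSpec_hom_fromSpec_assoc, ← morphismRestrict_ι_assoc]
  rw [hfac]
  have hψ : (f.appLE U V hle ≫ CommRingCat.ofHom
      (Ideal.Quotient.mk (Groth.Agent.Lib.Helper79.FixSmoothAlg.J aG))).hom.Smooth := by
    have h1 : (algebraMap Γ(S, U)
        (Γ(X, V) ⧸ Groth.Agent.Lib.Helper79.FixSmoothAlg.J aG)).Smooth :=
      RingHom.smooth_algebraMap.mpr hsm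
    exact h1
  haveI : Smooth (Spec.map (f.appLE U V hle ≫ CommRingCat.ofHom
      (Ideal.Quotient.mk (Groth.Agent.Lib.Helper79.FixSmoothAlg.J aG)))) :=
    (HasRingHomProperty.Spec_iff (P := @Smooth)).mpr hψ
  infer_instance

/-- the fixed locus of a finite group of invertible order acting on a smooth `S`-scheme is smooth
over `S`. -/
theorem smooth_of_isFixedLocus [Finite H] (f : X ⟶ S) [Smooth f] (ρ : H →* Aut X)
    (hρ : ∀ h, (ρ h).hom ≫ f = f) (hn : IsUnit ((Nat.card H : ℕ) : Γ(S, ⊤)))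
    (ι : Z ⟶ X) (hZ : IsFixedLocus (fun h => (ρ h).hom) ι) : Smooth (ι ≫ f) := by
  have hloc := HasRingHomProperty.instIsZariskiLocalAtSource (P := @Smooth.{u})
  refine IsZariskiLocalAtSource.of_iSup_eq_top (P := @Smooth)
    (fun k : {p : S.Opens × X.Opens // IsAffineOpen p.1 ∧ IsAffineOpen p.2 ∧ p.2 ≤ f ⁻¹ᵁ p.1 ∧
      ∀ (h : H) (x : X), x ∈ p.2 → (ρ h).hom.base x ∈ p.2} => ι ⁻¹ᵁ k.1.2) ?_ ?_
  · rw [eq_top_iff]
    intro z _
    have hfixz : ∀ h : H, (ρ h).hom.base (ι.base z) = ι.base z := by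
      intro h
      have := congrArg (fun k => k.base z) (hZ.1 h)
      simpa using this
    obtain ⟨U, hU, hxU, -⟩ := Opens.isBasis_iff_nbhd.mp S.isBasis_affineOpens
      (show f.base (ι.base z) ∈ (⊤ : S.Opens) from trivial)
    obtain ⟨V₀, hV₀, hxV₀, hV₀U⟩ := Opens.isBasis_iff_nbhd.mp X.isBasis_affineOpens
      (show ι.base z ∈ f ⁻¹ᵁ U from hxU)
    obtain ⟨V, hV, hstab, hxV, hVle⟩ := Groth.Agent.Lib.Helper79.QuotStable.exists_stable_affine ρ
      V₀ hV₀ ⊤ (ι.base z) (fun h => by rw [hfixz h]; exact ⟨hxV₀, trivial⟩)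
    exact Opens.mem_iSup.2 ⟨⟨(U, V), hU, hV, (hVle.trans inf_le_left).trans hV₀U, hstab⟩, hxV⟩
  · rintro ⟨⟨U, V⟩, hU, hV, hle, hstab⟩
    exact smooth_piece f ρ hρ hn ι hZ U hU V hV hle hstab

end Groth.Agent.Lib.Helper79.FixLocusSmooth
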