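import Mathlib

/-!
# Residue fields of a base change are generated by the two factors (helper79)
-/

namespace Groth.Agent.Lib.Helper79.FrobDeg

open AlgebraicGeometry CategoryTheory

universe u

/-- cancellation of `Spec.map` of an injective ring map for morphisms into an affine scheme -/
theorem cancel_SpecMap_of_injective {A B R₀ : CommRingCat.{u}} (i : A ⟶ B)
    (hi : Function.Injective i.hom) {u v : Spec A ⟶ Spec R₀}
    (h : Spec.map i ≫ u = Spec.map i ≫ v) : u = v := by
  obtain ⟨u', rfl⟩ := Spec.map_surjective u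
  obtain ⟨v', rfl⟩ := Spec.map_surjective v
  rw [← Spec.map_comp, ← Spec.map_comp] at h
  have h2 := Spec.map_injective h
  congr 1
  ext x
  apply hi
  exact congrArg (fun φ => φ.hom x) h2

section Gen

variable {k : Type u} [Field k] {Y X : Scheme.{u}} {R₀ : CommRingCat.{u}}
  (hY : Y ⟶ Spec (CommRingCat.of k)) (π : Y ⟶ X) (f : X ⟶ Spec R₀)
  (ι : Spec (CommRingCat.of k) ⟶ Spec R₀)

/-- the structure map `k → κ(w)` -/
noncomputable def sκ (w : Y) : CommRingCat.of k ⟶ Y.residueField w :=
  Spec.preimage (Y.fromSpecResidueField w ≫ hY)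

theorem SpecMap_sκ (w : Y) : Spec.map (sκ hY w) = Y.fromSpecResidueField w ≫ hY :=
  Spec.map_preimage _

/-- The residue field of a point of a base change is generated by the residue field of its image
and the new base field. -/
theorem closure_range_eq_top (hπ : IsPullback π hY f ι) (w : Y) :
    Subfield.closure (Set.range (π.residueFieldMap w).hom ∪ Set.range (sκ hY w).hom) = ⊤ := by
  set M : Subfield (Y.residueField w) :=
    Subfield.closure (Set.range (π.residueFieldMap w).hom ∪ Set.range (sκ hY w).hom) with hM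
  let MC : CommRingCat.{u} := CommRingCat.of ↥M
  let i : MC ⟶ Y.residueField w := CommRingCat.ofHom M.subtype
  have hi : Function.Injective i.hom := Subtype.val_injective
  let ι₀' : X.residueField (π w) ⟶ MC := CommRingCat.ofHom
    ((π.residueFieldMap w).hom.codRestrict M
      (fun x => Subfield.subset_closure (Or.inl ⟨x, rfl⟩)))
  let sκ' : CommRingCat.of k ⟶ MC := CommRingCat.ofHom
    ((sκ hY w).hom.codRestrict M (fun x => Subfield.subset_closure (Or.inr ⟨x, rfl⟩)))
  have h1 : ι₀' ≫ i = π.residueFieldMap w := by ext x; rfl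
  have h2 : sκ' ≫ i = sκ hY w := by ext x; rfl
  let a : Spec MC ⟶ X := Spec.map ι₀' ≫ X.fromSpecResidueField (π w)
  let b : Spec MC ⟶ Spec (CommRingCat.of k) := Spec.map sκ'
  have ha : Spec.map i ≫ a = Y.fromSpecResidueField w ≫ π := by
    show Spec.map i ≫ Spec.map ι₀' ≫ X.fromSpecResidueField (π w) = _
    rw [← Category.assoc, ← Spec.map_comp, h1,
      Scheme.Hom.SpecMap_residueFieldMap_fromSpecResidueField]
  have hb : Spec.map i ≫ b = Y.fromSpecResidueField w ≫ hY := by
    show Spec.map i ≫ Spec.map sκ' = _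
    rw [← Spec.map_comp, h2, SpecMap_sκ]
  have hab : a ≫ f = b ≫ ι := by
    apply cancel_SpecMap_of_injective i hi
    rw [← Category.assoc, ha, ← Category.assoc, hb, Category.assoc, Category.assoc, hπ.w]
  let t : Spec MC ⟶ Y := hπ.lift a b hab
  have ht : Spec.map i ≫ t = Y.fromSpecResidueField w := by
    apply hπ.hom_ext
    · rw [Category.assoc, hπ.lift_fst, ha]
    · rw [Category.assoc, hπ.lift_snd, hb]
  -- `t` corresponds to a point `x` and `σ : κ(x) → M`
  obtain ⟨⟨x, σ⟩, hxσ⟩ := (Scheme.SpecToEquivOfField ↥M Y).symm.surjective t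
  have ht2 : t = Spec.map σ ≫ Y.fromSpecResidueField x := hxσ.symm
  rw [ht2, ← Category.assoc, ← Spec.map_comp] at ht
  have h3 : (Scheme.SpecToEquivOfField (Y.residueField w) Y).symm ⟨x, σ ≫ i⟩ =
      (Scheme.SpecToEquivOfField (Y.residueField w) Y).symm ⟨w, 𝟙 _⟩ := by
    show Spec.map (σ ≫ i) ≫ Y.fromSpecResidueField x = Spec.map (𝟙 _) ≫ Y.fromSpecResidueField w
    rw [ht, Spec.map_id, Category.id_comp]
  have h4 := (Scheme.SpecToEquivOfField (Y.residueField w) Y).symm.injective h3
  rw [Scheme.SpecToEquivOfField_eq_iff] at h4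
  obtain ⟨e, he⟩ := h4
  rw [eq_top_iff]
  intro z _
  have h5 : (Y.residueFieldCongr e).hom.hom ((Y.residueFieldCongr e).inv.hom z) = z :=
    congrArg (fun φ => φ.hom z) (Y.residueFieldCongr e).inv_hom_id
  have h6 := congrArg (fun φ => φ.hom ((Y.residueFieldCongr e).inv.hom z)) he
  simp only [CommRingCat.hom_comp, RingHom.comp_apply, Category.comp_id] at h6
  rw [h5] at h6
  rw [← h6]
  exact (σ.hom ((Y.residueFieldCongr e).inv.hom z)).2

end Gen

end Groth.Agent.Lib.Helper79.FrobDeg
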