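import Mathlib
import Groth.Prelude.Def_WeilCoh
import Groth.Agent.Lib.Helper78.WeilPush

/-!
# Pure algebra consequences of the axioms of a Weil cohomology theory

dimension of a product, trace of a product for all classes, Künneth induction, sign bookkeeping,
dual families for Poincaré duality.
-/

namespace Groth.Agent.Lib.Helper79.Weil

open AlgebraicGeometry CategoryTheory TensorProduct WeilCoh Groth.Agent.Lib.Helper78

universe u v w

variable {k : Type u} [Field k] {P : ObjectProperty (Over (Spec (CommRingCat.of k)))}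
variable {K : Type v} [Field K] (T : TheoryOn.{u, v, w} k P K)

/-- Induction on homogeneous components. -/
theorem hom_induction (X : P.FullSubcategory) {C : T.H X → Prop} (a : T.H X)
    (hom : ∀ i, ∀ x ∈ T.gr X i, C x) (add : ∀ x y, C x → C y → C (x + y)) : C a := by
  have h : a ∈ ⨆ i, T.gr X i := by
    rw [(T.decomp X).submodule_iSup_eq_top]; trivial
  exact Submodule.iSup_induction (T.gr X) (motive := C) h hom (hom 0 0 (zero_mem _)) add

theorem exists_top_class (X : P.FullSubcategory) :
    ∃ a ∈ T.gr X (2 * (dim X.obj.left : ℤ)), T.tr X a = 1 := by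
  obtain ⟨a, ha⟩ := (T.tr_bijective X).2 1
  exact ⟨a.1, a.2, ha⟩

include T in
/-- The dimension of a product is the sum of the dimensions (from `tr_prod` and `tr_vanish`). -/
theorem dim_prod {X Y Q : P.FullSubcategory} (p : Q ⟶ X) (q : Q ⟶ Y) (hQ : IsProd p q) :
    dim Q.obj.left = dim X.obj.left + dim Y.obj.left := by
  obtain ⟨a, ha, hta⟩ := exists_top_class T X
  obtain ⟨b, hb, htb⟩ := exists_top_class T Y
  have h1 := T.tr_prod p q hQ a b ha hb
  rw [hta, htb, mul_one] at h1
  by_contra hne
  have hmem : T.pull p a * T.pull q b ∈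
      T.gr Q (2 * (dim X.obj.left : ℤ) + 2 * (dim Y.obj.left : ℤ)) :=
    SetLike.mul_mem_graded (T.pull_mem p _ a ha) (T.pull_mem q _ b hb)
  have h0 := T.tr_vanish Q _ _ hmem (by omega)
  rw [h0] at h1
  exact zero_ne_one h1

/-- The trace of a product class, for arbitrary classes. -/
theorem tr_prod_gen {X Y Q : P.FullSubcategory} (p : Q ⟶ X) (q : Q ⟶ Y) (hQ : IsProd p q)
    (a : T.H X) (b : T.H Y) :
    T.tr Q (T.pull p a * T.pull q b) = T.tr X a * T.tr Y b := by
  have hd := dim_prod T p q hQ
  refine hom_induction T X (C := fun a => T.tr Q (T.pull p a * T.pull q b) = T.tr X a * T.tr Y b)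
    a ?_ ?_
  · intro i a ha
    refine hom_induction T Y
      (C := fun b => T.tr Q (T.pull p a * T.pull q b) = T.tr X a * T.tr Y b) b ?_ ?_
    · intro j b hb
      by_cases hi : i = 2 * (dim X.obj.left : ℤ)
      · by_cases hj : j = 2 * (dim Y.obj.left : ℤ)
        · subst hi hj
          exact T.tr_prod p q hQ a b ha hb
        · rw [T.tr_vanish Y j b hb hj, mul_zero]
          have hmem : T.pull p a * T.pull q b ∈ T.gr Q (i + j) :=
            SetLike.mul_mem_graded (T.pull_mem p _ a ha) (T.pull_mem q _ b hb)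
          exact T.tr_vanish Q _ _ hmem (by omega)
      · rw [T.tr_vanish X i a ha hi, zero_mul]
        have hmem : T.pull p a * T.pull q b ∈ T.gr Q (i + j) :=
          SetLike.mul_mem_graded (T.pull_mem p _ a ha) (T.pull_mem q _ b hb)
        by_cases hij : i + j = 2 * (dim Q.obj.left : ℤ)
        · rcases lt_or_gt_of_ne hi with h | h
          · have hj : 2 * (dim Y.obj.left : ℤ) < j := by omega
            have : b = 0 := by
              have := T.vanish Y j (Or.inr hj)
              rw [this] at hb
              simpa using hb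
            rw [this, map_zero, mul_zero, map_zero]
          · have : a = 0 := by
              have := T.vanish X i (Or.inr h)
              rw [this] at ha
              simpa using ha
            rw [this, map_zero, zero_mul, map_zero]
        · exact T.tr_vanish Q _ _ hmem hij
    · intro x y hx hy
      rw [map_add, mul_add, map_add, map_add, mul_add, hx, hy]
  · intro x y hx hy
    rw [map_add, add_mul, map_add, map_add, add_mul, hx, hy]

/-- Künneth induction: a property of classes on a product that holds for products of pulled back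
homogeneous classes and is additive holds for all classes. -/
theorem kunneth_induction {X Y Q : P.FullSubcategory} (p : Q ⟶ X) (q : Q ⟶ Y) (hQ : IsProd p q)
    {C : T.H Q → Prop} (z : T.H Q)
    (h : ∀ i j, ∀ a ∈ T.gr X i, ∀ b ∈ T.gr Y j, C (T.pull p a * T.pull q b))
    (add : ∀ x y, C x → C y → C (x + y)) : C z := by
  obtain ⟨t, rfl⟩ := (T.kunneth p q hQ).2 z
  induction t using TensorProduct.induction_on with
  | zero =>
    have := h 0 0 0 (zero_mem _) 0 (zero_mem _)
    simpa using this
  | tmul a b =>
    have e : kunnethMap K (T.pull p) (T.pull q) (a ⊗ₜ b) = T.pull p a * T.pull q b := by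
      simp [kunnethMap]
    rw [e]
    refine hom_induction T X (C := fun a => C (T.pull p a * T.pull q b)) a ?_ ?_
    · intro i a ha
      refine hom_induction T Y (C := fun b => C (T.pull p a * T.pull q b)) b ?_ ?_
      · intro j b hb
        exact h i j a ha b hb
      · intro x y hx hy
        rw [map_add, mul_add]; exact add _ _ hx hy
    · intro x y hx hy
      rw [map_add, add_mul]; exact add _ _ hx hy
  | add x y hx hy =>
    rw [map_add]; exact add _ _ hx hy

/-- The sign of graded commutativity depends only on parities. -/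
theorem sgn_eq (i j : ℤ) :
    ((-1 : K) ^ (i.natAbs * j.natAbs)) = if (i % 2 = 0 ∨ j % 2 = 0) then 1 else -1 := by
  split_ifs with h
  · apply Even.neg_one_pow
    rw [Nat.even_mul, Int.natAbs_even, Int.natAbs_even, Int.even_iff, Int.even_iff]
    exact h
  · apply Odd.neg_one_pow
    rw [Nat.odd_mul, Int.natAbs_odd, Int.natAbs_odd, Int.odd_iff, Int.odd_iff]
    omega

theorem comm_of_even (X : P.FullSubcategory) (i j : ℤ) (a b : T.H X) (ha : a ∈ T.gr X i)
    (hb : b ∈ T.gr X j) (h : i % 2 = 0 ∨ j % 2 = 0) : a * b = b * a := by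
  rw [T.gradedComm X i j a b ha hb, sgn_eq, if_pos h, one_smul]

theorem anticomm_of_odd (X : P.FullSubcategory) (i j : ℤ) (a b : T.H X) (ha : a ∈ T.gr X i)
    (hb : b ∈ T.gr X j) (h : ¬ (i % 2 = 0 ∨ j % 2 = 0)) : a * b = - (b * a) := by
  rw [T.gradedComm X i j a b ha hb, sgn_eq, if_neg h, neg_one_smul]

/-- `(-1)^i` for an integer `i`, as an element of `K`. -/
def sg (i : ℤ) : K := if i % 2 = 0 then 1 else -1

theorem sg_mul_sg (i : ℤ) : (sg i : K) * sg i = 1 := by
  unfold sg; split_ifs <;> simp

theorem sg_even {i : ℤ} (h : i % 2 = 0) : (sg i : K) = 1 := by simp [sg, h]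

theorem sg_odd {i : ℤ} (h : ¬ i % 2 = 0) : (sg i : K) = -1 := by simp [sg, h]

theorem sg_natCast (n : ℕ) : (sg (n : ℤ) : K) = (-1) ^ n := by
  unfold sg
  split_ifs with h
  · exact (Even.neg_one_pow (by rw [Nat.even_iff]; omega)).symm
  · exact (Odd.neg_one_pow (by rw [Nat.odd_iff]; omega)).symm

/-- `a b = (-1)^{ij} b a` with the sign as an explicit `if`. -/
theorem gradedComm' (X : P.FullSubcategory) (i j : ℤ) (a b : T.H X) (ha : a ∈ T.gr X i)
    (hb : b ∈ T.gr X j) :
    a * b = (if (i % 2 = 0 ∨ j % 2 = 0) then (1 : K) else -1) • (b * a) := by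
  rw [T.gradedComm X i j a b ha hb, sgn_eq]

theorem eq_zero_of_mem_gr_of_lt (X : P.FullSubcategory) {i : ℤ} {a : T.H X} (ha : a ∈ T.gr X i)
    (h : i < 0 ∨ 2 * (dim X.obj.left : ℤ) < i) : a = 0 := by
  have := T.vanish X i h
  rw [this] at ha
  simpa using ha

/-- Dual family for Poincaré duality. -/
theorem exists_dual_family (X : P.FullSubcategory) (r : ℤ) {ι : Type*} [Fintype ι] [DecidableEq ι]
    (e : Module.Basis ι K ↥(T.gr X r)) :
    ∃ f : ι → ↥(T.gr X (2 * (dim X.obj.left : ℤ) - r)), ∀ i l : ι,
      T.tr X ((f l : T.H X) * (e i : T.H X)) = if i = l then 1 else 0 := by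
  have := T.duality X (2 * (dim X.obj.left : ℤ) - r) r (by omega)
  refine ⟨fun l => (pairing K (T.gr X (2 * (dim X.obj.left : ℤ) - r)) (T.gr X r)
    (T.tr X)).toPerfPair.symm (e.coord l), fun i l => ?_⟩
  have h := LinearMap.apply_symm_toPerfPair_self
    (pairing K (T.gr X (2 * (dim X.obj.left : ℤ) - r)) (T.gr X r) (T.tr X)) (e.coord l)
  have h := LinearMap.congr_fun h (e i)
  rw [pairing_apply] at h
  rw [h, Module.Basis.coord_apply, Module.Basis.repr_self, Finsupp.single_apply]

/-- Expansion of a class in a basis through a dual family. -/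
theorem coord_eq_tr (X : P.FullSubcategory) (r : ℤ) {ι : Type*} [Fintype ι] [DecidableEq ι]
    (e : Module.Basis ι K ↥(T.gr X r)) (f : ι → T.H X)
    (hef : ∀ i l : ι, T.tr X (f l * (e i : T.H X)) = if i = l then 1 else 0)
    (y : ↥(T.gr X r)) (l : ι) : e.repr y l = T.tr X (f l * (y : T.H X)) := by
  conv_rhs => rw [← e.sum_repr y]
  rw [Submodule.coe_sum, Finset.mul_sum, map_sum]
  simp only [Submodule.coe_smul, mul_smul_comm, map_smul, hef, smul_eq_mul, mul_ite, mul_one,
    mul_zero]
  rw [Finset.sum_ite_eq' Finset.univ l]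
  simp

/-- The trace of an endomorphism through a basis and a dual family. -/
theorem trace_eq_sum_tr (X : P.FullSubcategory) (r : ℤ) {ι : Type*} [Fintype ι] [DecidableEq ι]
    (e : Module.Basis ι K ↥(T.gr X r)) (f : ι → T.H X)
    (hef : ∀ i l : ι, T.tr X (f l * (e i : T.H X)) = if i = l then 1 else 0)
    (u : ↥(T.gr X r) →ₗ[K] ↥(T.gr X r)) :
    LinearMap.trace K _ u = ∑ i, T.tr X (f i * (u (e i) : T.H X)) := by
  rw [LinearMap.trace_eq_matrix_trace K e u, Matrix.trace]
  refine Finset.sum_congr rfl fun i _ => ?_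
  rw [Matrix.diag_apply, LinearMap.toMatrix_apply, coord_eq_tr T X r e f hef]

end Groth.Agent.Lib.Helper79.Weil
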