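import Mathlib
import Groth.Prelude.Def_WeilCoh
import Groth.Prelude.Def_P1
import Groth.Agent.S9705
import Groth.Agent.Lib.Helper79.BMTop
import Groth.Agent.Lib.Helper79.WeilAlg

/-!
# Geometry of the objects of `WeilCoh.Var k`

properness, the point object, closed points, sections.
-/

namespace Groth.Agent.Lib.Helper79.Weil

open AlgebraicGeometry CategoryTheory WeilCoh

universe u v w

variable {k : Type u} [Field k]

theorem isProper_hom (X : Var k) : IsProper X.obj.hom := by
  obtain ⟨_, ⟨n, i, hi, hfac⟩, _⟩ := X.property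
  rw [← hfac]
  have := Groth.Agent.S9705.isProper_toBase n (Spec (CommRingCat.of k))
  infer_instance

instance (X : Var k) : IsProper X.obj.hom := isProper_hom X

instance (X : Var k) : IrreducibleSpace ↥X.obj.left := X.property.2.2

theorem w_sm {X Y : Var k} (f : X ⟶ Y) : sm f ≫ Y.obj.hom = X.obj.hom := Over.w f.hom

theorem isSeparated_sm {X Y : Var k} (f : X ⟶ Y) : IsSeparated (sm f) := by
  have : IsSeparated (sm f ≫ Y.obj.hom) := by rw [w_sm]; infer_instance
  exact IsSeparated.of_comp (sm f) Y.obj.hom

theorem isProper_sm {X Y : Var k} (f : X ⟶ Y) : IsProper (sm f) := by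
  have : IsProper (sm f ≫ Y.obj.hom) := by rw [w_sm]; infer_instance
  exact IsProper.of_comp (sm f) Y.obj.hom

/-- A section of a morphism in `Var k` is a closed immersion. -/
theorem isClosedImmersion_section {X Q : Var k} (j : X ⟶ Q) (p : Q ⟶ X) (h : j ≫ p = 𝟙 X) :
    IsClosedImmersion (sm j) := by
  have h' : sm j ≫ sm p = 𝟙 _ := by
    have := congrArg (fun f => f.hom.left) h
    simpa using this
  have : IsSeparated (sm p) := isSeparated_sm p
  have : IsClosedImmersion (sm j ≫ sm p) := by rw [h']; infer_instance
  exact IsClosedImmersion.of_comp (sm j) (sm p)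

theorem sect_toBase (S : Scheme.{u}) (i : Fin (1 + 1)) :
    P1.sect S i ≫ CohB1.ProjSpaceOver.toBase 1 S = 𝟙 S := by
  unfold P1.sect CohB1.ProjSpaceOver.toBase
  exact Limits.pullback.lift_snd _ _ _

theorem isVar_pt (k : Type u) [Field k] : IsVar k (Over.mk (𝟙 (Spec (CommRingCat.of k)))) := by
  refine ⟨?_, ⟨1, P1.sect (Spec (CommRingCat.of k)) 0, ?_, ?_⟩, ?_⟩
  · show Smooth (𝟙 _); infer_instance
  · have hp := Groth.Agent.S9705.isProper_toBase 1 (Spec (CommRingCat.of k))
    have h := sect_toBase (Spec (CommRingCat.of k)) 0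
    have : IsClosedImmersion (P1.sect (Spec (CommRingCat.of k)) 0 ≫
        CohB1.ProjSpaceOver.toBase 1 (Spec (CommRingCat.of k))) := by rw [h]; infer_instance
    exact IsClosedImmersion.of_comp _ (CohB1.ProjSpaceOver.toBase 1 (Spec (CommRingCat.of k)))
  · exact sect_toBase _ 0
  · show IrreducibleSpace (Spec (CommRingCat.of k)); infer_instance

/-- The point `Spec k` as an object of `Var k`. -/
noncomputable def pt (k : Type u) [Field k] : Var k := ⟨Over.mk (𝟙 (Spec (CommRingCat.of k))), isVar_pt k⟩

theorem dim_pt (k : Type u) [Field k] : dim (pt k).obj.left = 0 := by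
  show natDim (PrimeSpectrum k) = 0
  unfold natDim
  rw [PrimeSpectrum.topologicalKrullDim_eq_ringKrullDim, ringKrullDim_eq_zero_of_field]
  rfl

/-- The structure morphism as a morphism to the point. -/
noncomputable def toPt (X : Var k) : X ⟶ pt k := ObjectProperty.homMk (Over.homMk X.obj.hom)

@[simp] theorem sm_toPt (X : Var k) : sm (toPt X) = X.obj.hom := rfl

theorem natDim_of_subsingleton (S : Type u) [TopologicalSpace S] [Subsingleton S] :
    natDim S = 0 := by
  have h := topologicalKrullDim_zero_of_discreteTopology S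
  unfold natDim
  rcases hd : topologicalKrullDim S with _ | d
  · rfl
  · rw [hd] at h
    have h' : d ≤ 0 := WithBot.coe_le_coe.mp h
    have : d = 0 := le_antisymm h' bot_le
    subst this; rfl

theorem pdim_of_isClosed {X : Scheme.{u}} (x : X) (hx : IsClosed ({x} : Set X)) : pdim X x = 0 := by
  unfold pdim
  rw [hx.closure_eq]
  exact natDim_of_subsingleton _

theorem pdim_genericPoint (X : Scheme.{u}) [IrreducibleSpace ↥X] :
    pdim X (genericPoint ↥X) = dim X := by
  unfold pdim dim
  rw [genericPoint_spec ↥X]
  exact BMTop.natDim_homeomorph (Homeomorph.Set.univ ↥X)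

theorem residueDegree_eq_one_of_surjective {X Y : Scheme.{u}} (f : X ⟶ Y) (x : X)
    (h : Function.Surjective (f.residueFieldMap x).hom) : f.residueDegree x = 1 := by
  unfold Scheme.Hom.residueDegree
  let _ := (f.residueFieldMap x).hom.toAlgebra
  have hinj : Function.Injective (Algebra.linearMap (Y.residueField (f x)) (X.residueField x)) :=
    (f.residueFieldMap x).hom.injective
  have e := LinearEquiv.ofBijective
    (Algebra.linearMap (Y.residueField (f x)) (X.residueField x)) ⟨hinj, h⟩
  rw [← e.finrank_eq]
  exact Module.finrank_self _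

theorem residueDegree_eq_one_of_isClosed [IsAlgClosed k] {X : Scheme.{u}}
    (f : X ⟶ Spec (CommRingCat.of k)) [LocallyOfFiniteType f] (x : X)
    (hx : IsClosed ({x} : Set X)) : f.residueDegree x = 1 := by
  apply residueDegree_eq_one_of_surjective
  have h1 : Spec.map (residueFieldIsoBase f x hx).inv = X.fromSpecResidueField x ≫ f :=
    SpecMap_residueFieldIsoBase_inv f x hx
  have h2 := Scheme.Hom.SpecMap_residueFieldMap_fromSpecResidueField f x
  have h3 : (residueFieldIsoBase f x hx).inv =
      Spec.preimage ((Spec (CommRingCat.of k)).fromSpecResidueField (f x)) ≫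
        f.residueFieldMap x := by
    apply Spec.map_injective
    rw [Spec.map_comp, Spec.map_preimage, h1, h2]
  intro y
  obtain ⟨c, hc⟩ := ((ConcreteCategory.isIso_iff_bijective (residueFieldIsoBase f x hx).inv).mp
    inferInstance).2 y
  refine ⟨(Spec.preimage ((Spec (CommRingCat.of k)).fromSpecResidueField (f x))).hom c, ?_⟩
  rw [← hc, h3]; rfl

end Groth.Agent.Lib.Helper79.Weil
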