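import Mathlib
import Groth.Prelude.Def_WeilCoh
import Groth.Agent.Lib.Helper79.WeilGeom

/-!
# Closed points, the class of a closed point, the class of the generic point
-/

namespace Groth.Agent.Lib.Helper79.Weil

open AlgebraicGeometry CategoryTheory WeilCoh Groth.Agent.Lib.Helper78

universe u v w

variable {k : Type u} [Field k]

theorem isField_stalk_pt (w : Spec (CommRingCat.of k)) :
    IsField ((Spec (CommRingCat.of k)).presheaf.stalk w) := by
  rw [Subsingleton.elim w (genericPoint _)]
  exact Field.toIsField (Spec (CommRingCat.of k)).functionField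

theorem preimMult_eq_one_of_isField {X Y : Scheme.{u}} (f : X ⟶ Y) (ξ : Y) (w : X)
    (h : f w ∈ closure ({ξ} : Set Y)) (hF : IsField (X.presheaf.stalk w)) :
    preimMult f ξ w h = 1 := by
  unfold preimMult
  have hker : RingHom.ker (Cyc.specMap (f w) ξ (specializes_iff_mem_closure.mpr h)) ≤
      IsLocalRing.maximalIdeal _ := IsLocalRing.le_maximalIdeal (RingHom.ker_ne_top _)
  have hI : Ideal.map (f.stalkMap w).hom
      (RingHom.ker (Cyc.specMap (f w) ξ (specializes_iff_mem_closure.mpr h))) = ⊥ := by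
    have h1 : Ideal.map (f.stalkMap w).hom
        (RingHom.ker (Cyc.specMap (f w) ξ (specializes_iff_mem_closure.mpr h))) ≤
        IsLocalRing.maximalIdeal (X.presheaf.stalk w) :=
      (Ideal.map_mono hker).trans
        (((IsLocalRing.local_hom_TFAE (f.stalkMap w).hom).out 0 2).mp
          (inferInstance : IsLocalHom (f.stalkMap w).hom))
    rw [IsLocalRing.isField_iff_maximalIdeal_eq.mp hF] at h1
    exact le_bot_iff.mp h1
  rw [hI]
  have hmax : (⊥ : Ideal (X.presheaf.stalk w)).IsMaximal := by
    rw [← IsLocalRing.isField_iff_maximalIdeal_eq.mp hF]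
    exact IsLocalRing.maximalIdeal.isMaximal _
  have : IsSimpleModule (X.presheaf.stalk w) (X.presheaf.stalk w ⧸ (⊥ : Ideal (X.presheaf.stalk w))) :=
    isSimpleModule_iff_isCoatom.mpr (Ideal.isMaximal_def.mp hmax)
  rw [Module.length_eq_one_iff.mpr this]
  rfl

section Theory

variable [IsAlgClosed k] {K : Type v} [Field K] (T : TheoryOn.{u, v, w} k (IsVar k) K)

/-- `Tr_X(cl(x)) = 1` for a closed point `x`. -/
theorem tr_cl_of_isClosed (X : Var k) (x : X.obj.left) (hx : IsClosed ({x} : Set X.obj.left)) :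
    T.tr X (T.cl X x) = 1 := by
  have h1 : (1 : T.H (pt k)) ∈ T.gr (pt k) (2 * (pdim X.obj.left x : ℤ)) := by
    rw [pdim_of_isClosed x hx]
    simpa using SetLike.one_mem_graded (T.gr (pt k))
  have h := T.cl_push (toPt X) x 1 h1
  rw [map_one, mul_one] at h
  have hp := T.point (pt k) (dim_pt k)
  rw [hp.1, mul_one, hp.2, mul_one] at h
  have hd : (sm (toPt X)).residueDegree x = 1 :=
    residueDegree_eq_one_of_isClosed X.obj.hom x hx
  rw [h, hd]; simp

/-- The `k`-point of a closed point as a morphism in `Var k`. -/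
noncomputable def ofPoint (X : Var k) (x : X.obj.left) (hx : IsClosed ({x} : Set X.obj.left)) :
    pt k ⟶ X :=
  ObjectProperty.homMk (Over.homMk (pointOfClosedPoint X.obj.hom x hx)
    (pointOfClosedPoint_comp X.obj.hom x hx))

omit [IsAlgClosed k] in
theorem exists_closed_point (X : Var k) : ∃ x : X.obj.left, IsClosed ({x} : Set X.obj.left) := by
  have : JacobsonSpace ↥X.obj.left := LocallyOfFiniteType.jacobsonSpace X.obj.hom
  obtain ⟨x, -, hx⟩ := nonempty_inter_closedPoints (X := ↥X.obj.left) (Z := Set.univ)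
    Set.univ_nonempty isOpen_univ.isLocallyClosed
  exact ⟨x, hx⟩

omit [IsAlgClosed k] in
/-- Every class of degree zero is a multiple of 1. -/
theorem exists_eq_smul_one (X : Var k) (a : T.H X) (ha : a ∈ T.gr X 0) : ∃ c : K, a = c • 1 := by
  obtain ⟨t, ht, htr⟩ := exists_top_class T X
  refine ⟨T.tr X (a * t), ?_⟩
  have h1 : (T.tr X (a * t)) • (1 : T.H X) ∈ T.gr X 0 :=
    (T.gr X 0).smul_mem _ (SetLike.one_mem_graded (T.gr X))
  refine eq_of_forall_tr_mul_eq T X 0 (2 * (dim X.obj.left : ℤ)) (by omega) _ _ ha h1 ?_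
  intro b hb
  have hb' : b = T.tr X b • t := by
    have hinj := (T.tr_bijective X).1
    have : (⟨b, hb⟩ : ↥(T.gr X (2 * (dim X.obj.left : ℤ)))) =
        ⟨T.tr X b • t, (T.gr X _).smul_mem _ ht⟩ := by
      apply hinj
      simp [LinearMap.domRestrict_apply, htr]
    exact congrArg Subtype.val this
  rw [hb']
  simp [htr]

omit [IsAlgClosed k] in
theorem pdim_pt (w : (pt k).obj.left) : pdim (pt k).obj.left w = 0 := by
  have : Subsingleton ↥(pt k).obj.left := inferInstanceAs (Subsingleton (Spec (CommRingCat.of k)))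
  unfold pdim
  exact natDim_of_subsingleton _

/-- The class of the generic point is 1. -/
theorem cl_genericPoint (X : Var k) : T.cl X (genericPoint ↥X.obj.left) = 1 := by
  obtain ⟨x, hx⟩ := exists_closed_point X
  have hsub : Subsingleton ↥(pt k).obj.left :=
    inferInstanceAs (Subsingleton (Spec (CommRingCat.of k)))
  have hcod : codim X.obj.left (genericPoint ↥X.obj.left) = 0 := by
    unfold codim; rw [pdim_genericPoint]; simp
  have hmem : T.cl X (genericPoint ↥X.obj.left) ∈ T.gr X 0 := by
    have := T.cl_mem X (genericPoint ↥X.obj.left)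
    rw [hcod] at this; simpa using this
  obtain ⟨c, hc⟩ := exists_eq_smul_one T X _ hmem
  have hpre : (sm (ofPoint X x hx)) ⁻¹' closure ({genericPoint ↥X.obj.left} : Set X.obj.left) =
      Set.univ := by
    rw [genericPoint_spec]; rfl
  have hpull := T.cl_pull (ofPoint X x hx) (genericPoint ↥X.obj.left) (by
    intro w _
    rw [pdim_pt, pdim_genericPoint, dim_pt]
    push_cast; ring) (Or.inr (by
    intro w hw
    exact preimMult_eq_one_of_isField _ _ _ _ (isField_stalk_pt w)))
  have hp := T.point (pt k) (dim_pt k)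
  have hw0 : IsCompPt ((sm (ofPoint X x hx)) ⁻¹'
      closure ({genericPoint ↥X.obj.left} : Set X.obj.left))
      (IsLocalRing.closedPoint k : Spec (CommRingCat.of k)) := by
    rw [hpre]
    exact ⟨trivial, fun w' _ _ => Subsingleton.elim _ _⟩
  have : Unique {w : (pt k).obj.left // IsCompPt ((sm (ofPoint X x hx)) ⁻¹'
      closure ({genericPoint ↥X.obj.left} : Set X.obj.left)) w} :=
    ⟨⟨⟨_, hw0⟩⟩, fun a => Subtype.ext (Subsingleton.elim _ _)⟩
  have hsum : (∑ᶠ w : {w : (pt k).obj.left // IsCompPt ((sm (ofPoint X x hx)) ⁻¹'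
      closure ({genericPoint ↥X.obj.left} : Set X.obj.left)) w},
      (preimMult (sm (ofPoint X x hx)) (genericPoint ↥X.obj.left) w.1 w.2.1 : K) •
        T.cl (pt k) w.1) = 1 := by
    rw [finsum_unique]
    have hm := preimMult_eq_one_of_isField (sm (ofPoint X x hx)) (genericPoint ↥X.obj.left)
      (default : {w : (pt k).obj.left // IsCompPt ((sm (ofPoint X x hx)) ⁻¹'
      closure ({genericPoint ↥X.obj.left} : Set X.obj.left)) w}).1 (default : {w : (pt k).obj.left // IsCompPt ((sm (ofPoint X x hx)) ⁻¹'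
      closure ({genericPoint ↥X.obj.left} : Set X.obj.left)) w}).2.1 (isField_stalk_pt _)
    rw [hm, hp.1]; simp
  rw [hsum, hc] at hpull
  simp only [map_smul, map_one] at hpull
  have h2 := congrArg (T.tr (pt k)) hpull
  rw [map_smul, hp.2, smul_eq_mul, mul_one] at h2
  rw [hc, h2, one_smul]

end Theory

end Groth.Agent.Lib.Helper79.Weil
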