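import Mathlib
import Groth.Prelude.Def_WeilCoh
import Groth.Agent.Lib.Helper79.WeilPt

/-!
# Sections of morphisms in `Var k`: residue degree one, dimensions of closures preserved
-/

namespace Groth.Agent.Lib.Helper79.Weil

open AlgebraicGeometry CategoryTheory WeilCoh Groth.Agent.Lib.Helper78

universe u v w

variable {k : Type u} [Field k]

theorem sm_section {X Q : Var k} (j : X ⟶ Q) (p : Q ⟶ X) (h : j ≫ p = 𝟙 X) :
    sm j ≫ sm p = 𝟙 _ := by
  have := congrArg (fun f => f.hom.left) h
  simpa using this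

theorem sm_comp {X Y Z : Var k} (f : X ⟶ Y) (g : Y ⟶ Z) : sm (f ≫ g) = sm f ≫ sm g := rfl

theorem residueDegree_section {X Q : Var k} (j : X ⟶ Q) (p : Q ⟶ X) (h : j ≫ p = 𝟙 X)
    (x : X.obj.left) : (sm j).residueDegree x = 1 := by
  apply residueDegree_eq_one_of_surjective
  have h' := sm_section j p h
  have h1 := Scheme.Hom.residueFieldMap_congr h' x
  rw [Scheme.residueFieldMap_comp, Scheme.residueFieldMap_id] at h1
  intro y
  have hiso : Function.Bijective
      (X.obj.left.residueFieldCongr (by rw [h'] : (sm j ≫ sm p) x = (𝟙 X.obj.left : _ ⟶ _) x)).hom :=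
    (ConcreteCategory.isIso_iff_bijective _).mp inferInstance
  obtain ⟨c, hc⟩ := hiso.2 y
  refine ⟨(sm p).residueFieldMap (sm j x) c, ?_⟩
  have h2 := congrArg (fun φ => φ.hom c) h1
  exact h2.trans hc

theorem pdim_section {X Q : Var k} (j : X ⟶ Q) (p : Q ⟶ X) (h : j ≫ p = 𝟙 X)
    (x : X.obj.left) : pdim Q.obj.left (sm j x) = pdim X.obj.left x := by
  have hci := isClosedImmersion_section j p h
  have hce : Topology.IsClosedEmbedding (sm j) := (sm j).isClosedEmbedding
  have hcl : closure ({sm j x} : Set Q.obj.left) = (sm j) '' closure ({x} : Set X.obj.left) := by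
    rw [← hce.closure_image_eq, Set.image_singleton]
  unfold pdim
  rw [hcl]
  exact (BMTop.natDim_homeomorph (hce.isEmbedding.homeomorphImage _)).symm

section Theory

variable {K : Type v} [Field K] (T : TheoryOn.{u, v, w} k (IsVar k) K)

/-- the push-forward identity along a section -/
theorem tr_cl_section_mul {X Q : Var k} (j : X ⟶ Q) (p : Q ⟶ X) (h : j ≫ p = 𝟙 X)
    (x : X.obj.left) (a : T.H Q) (ha : a ∈ T.gr Q (2 * (pdim X.obj.left x : ℤ))) :
    T.tr Q (T.cl Q (sm j x) * a) = T.tr X (T.cl X x * T.pull j a) := by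
  have := T.cl_push j x a ha
  rw [residueDegree_section j p h x] at this
  simpa using this.symm

theorem pull_section {X Q : Var k} (j : X ⟶ Q) (p : Q ⟶ X) (h : j ≫ p = 𝟙 X) (a : T.H X) :
    T.pull j (T.pull p a) = a := by
  have := T.pull_comp j p
  rw [h, T.pull_id] at this
  exact (congrArg (fun φ => φ a) this).symm

theorem pull_pull {X Y Z : Var k} (f : X ⟶ Y) (g : Y ⟶ Z) (a : T.H Z) :
    T.pull f (T.pull g a) = T.pull (f ≫ g) a := by
  rw [T.pull_comp]; rfl

include T in
/-- A retract has at most the dimension of the ambient object (from the axioms). -/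
theorem dim_le_of_section {X Q : Var k} (j : X ⟶ Q) (p : Q ⟶ X) (h : j ≫ p = 𝟙 X) :
    dim X.obj.left ≤ dim Q.obj.left := by
  obtain ⟨t, ht, htr⟩ := exists_top_class T X
  by_contra hlt
  push Not at hlt
  have h0 : T.pull p t = 0 :=
    eq_zero_of_mem_gr_of_lt T Q (T.pull_mem p _ t ht) (Or.inr (by omega))
  have := pull_section T j p h t
  rw [h0, map_zero] at this
  rw [← this, map_zero] at htr
  exact zero_ne_one htr

end Theory

end Groth.Agent.Lib.Helper79.Weil
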