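import Mathlib
import Groth.Prelude.Def_WeilCoh
import Groth.Agent.Lib.Helper79.WeilSec

/-!
# The class of a graph and the Lefschetz trace formula from the axioms
-/

namespace Groth.Agent.Lib.Helper79.Weil

open AlgebraicGeometry CategoryTheory WeilCoh Groth.Agent.Lib.Helper78

universe u v w

variable {k : Type u} [Field k] [IsAlgClosed k] {K : Type v} [Field K]
  (T : TheoryOn.{u, v, w} k (IsVar k) K)

/-- The class of the image of the generic point under a section `j` of `p : P → X`, paired with any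
class on `P`. -/
theorem tr_cl_section_generic {X P : Var k} (p : P ⟶ X) (j : X ⟶ P) (hjp : j ≫ p = 𝟙 X) (z : T.H P) :
    T.tr P (T.cl P (sm j (genericPoint ↥X.obj.left)) * z) = T.tr X (T.pull j z) := by
  have hpd : pdim P.obj.left (sm j (genericPoint ↥X.obj.left)) = dim X.obj.left := by
    rw [pdim_section j p hjp, pdim_genericPoint]
  refine hom_induction T P (C := fun z => T.tr P (T.cl P (sm j (genericPoint ↥X.obj.left)) * z) =
    T.tr X (T.pull j z)) z ?_ ?_
  · intro m z hz
    by_cases hm : m = 2 * (dim X.obj.left : ℤ)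
    · subst hm
      have := tr_cl_section_mul T j p hjp (genericPoint ↥X.obj.left) z
        (by rw [pdim_genericPoint]; exact hz)
      rw [this, cl_genericPoint, one_mul]
    · rw [T.tr_vanish X m _ (T.pull_mem j m z hz) hm]
      have hmem := SetLike.mul_mem_graded (T.cl_mem P (sm j (genericPoint ↥X.obj.left))) hz
      refine T.tr_vanish P _ _ hmem ?_
      have hle : pdim P.obj.left (sm j (genericPoint ↥X.obj.left)) ≤ dim P.obj.left := by
        rw [hpd]; exact dim_le_of_section T j p hjp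
      unfold codim
      rw [hpd] at hle ⊢
      push_cast [Nat.cast_sub hle]
      omega
  · intro a b ha hb
    rw [mul_add, map_add, map_add, map_add, ha, hb]

omit [IsAlgClosed k] in
/-- `p^*a q^*b p^*x q^*y = ± p^*(a x) q^*(b y)`. -/
theorem mul_mul_mul_pull {X Y P : Var k} (p : P ⟶ X) (q : P ⟶ Y) (a x : T.H X) (b y : T.H Y)
    (u s : ℤ) (hb : b ∈ T.gr Y u) (hx : x ∈ T.gr X s) :
    T.pull p a * T.pull q b * (T.pull p x * T.pull q y) =
      (if (u % 2 = 0 ∨ s % 2 = 0) then (1 : K) else -1) •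
        (T.pull p (a * x) * T.pull q (b * y)) := by
  have h1 : T.pull q b * T.pull p x =
      (if (u % 2 = 0 ∨ s % 2 = 0) then (1 : K) else -1) • (T.pull p x * T.pull q b) :=
    gradedComm' T P u s _ _ (T.pull_mem q u b hb) (T.pull_mem p s x hx)
  calc T.pull p a * T.pull q b * (T.pull p x * T.pull q y)
      = T.pull p a * (T.pull q b * T.pull p x) * T.pull q y := by noncomm_ring
    _ = _ := by
      rw [h1, map_mul, map_mul]
      simp only [mul_smul_comm, smul_mul_assoc]
      congr 1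
      noncomm_ring

omit [IsAlgClosed k] in
/-- The pairing of one Künneth-type dual sum with a product class. -/
theorem tr_dualsum_mul {X P : Var k} (φ : X ⟶ X) (p q : P ⟶ X) (hP : IsProd p q)
    (r : ℤ) {ι : Type} [Fintype ι] [DecidableEq ι]
    (e : Module.Basis ι K ↥(T.gr X r))
    (f : ι → ↥(T.gr X (2 * (dim X.obj.left : ℤ) - r)))
    (hef : ∀ i l : ι, T.tr X ((f l : T.H X) * (e i : T.H X)) = if i = l then 1 else 0)
    (s t : ℤ) (x y : T.H X) (hx : x ∈ T.gr X s) (hy : y ∈ T.gr X t) :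
    T.tr P ((∑ i : ι, T.pull p (T.pull φ (e i : T.H X)) * T.pull q (f i : T.H X)) *
        (T.pull p x * T.pull q y)) =
      if r = t then
        (if ((2 * (dim X.obj.left : ℤ) - r) % 2 = 0 ∨ s % 2 = 0) then (1 : K) else -1) *
          T.tr X (T.pull φ y * x)
      else 0 := by
  rw [Finset.sum_mul, map_sum]
  have hterm : ∀ i : ι, T.tr P (T.pull p (T.pull φ (e i : T.H X)) * T.pull q (f i : T.H X) *
      (T.pull p x * T.pull q y)) =
      (if ((2 * (dim X.obj.left : ℤ) - r) % 2 = 0 ∨ s % 2 = 0) then (1 : K) else -1) *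
        (T.tr X (T.pull φ (e i : T.H X) * x) * T.tr X ((f i : T.H X) * y)) := by
    intro i
    rw [mul_mul_mul_pull T p q _ x _ y _ s (f i).2 hx, map_smul, tr_prod_gen T p q hP, smul_eq_mul]
  simp only [hterm]
  by_cases hrt : r = t
  · rw [if_pos hrt]
    subst hrt
    rw [← Finset.mul_sum]
    congr 1
    have hy' : y = ∑ i, (e.repr ⟨y, hy⟩ i) • (e i : T.H X) := by
      have := congrArg Subtype.val (e.sum_repr ⟨y, hy⟩)
      rw [Submodule.coe_sum] at this
      simpa using this.symm
    have hc : ∀ i, T.tr X ((f i : T.H X) * y) = e.repr ⟨y, hy⟩ i := fun i =>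
      (coord_eq_tr T X r e (fun i => (f i : T.H X)) hef ⟨y, hy⟩ i).symm
    simp only [hc]
    conv_rhs => rw [hy']
    rw [map_sum, Finset.sum_mul, map_sum]
    refine Finset.sum_congr rfl fun i _ => ?_
    rw [map_smul, smul_mul_assoc, map_smul, smul_eq_mul, mul_comm]
  · rw [if_neg hrt]
    apply Finset.sum_eq_zero
    intro i _
    have hmem : (f i : T.H X) * y ∈ T.gr X (2 * (dim X.obj.left : ℤ) - r + t) :=
      SetLike.mul_mem_graded (f i).2 hy
    rw [T.tr_vanish X _ _ hmem (by omega), mul_zero, mul_zero]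

/-- The class of the graph of `φ` through bases and dual families. -/
theorem cl_graph_eq {X P : Var k} (φ : X ⟶ X) (p q : P ⟶ X) (hP : IsProd p q)
    (j : X ⟶ P) (hjp : j ≫ p = 𝟙 X) (hjq : j ≫ q = φ)
    (ι : ℕ → Type) [∀ r, Fintype (ι r)] [∀ r, DecidableEq (ι r)]
    (e : (r : ℕ) → Module.Basis (ι r) K ↥(T.gr X (r : ℤ)))
    (f : (r : ℕ) → ι r → ↥(T.gr X (2 * (dim X.obj.left : ℤ) - r)))
    (hef : ∀ r, r ≤ 2 * dim X.obj.left → ∀ i l : ι r,
      T.tr X ((f r l : T.H X) * (e r i : T.H X)) = if i = l then 1 else 0) :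
    T.cl P (sm j (genericPoint ↥X.obj.left)) =
      ∑ r ∈ Finset.range (2 * dim X.obj.left + 1), ∑ i : ι r,
        T.pull p (T.pull φ (e r i : T.H X)) * T.pull q (f r i : T.H X) := by
  have hd : dim P.obj.left = dim X.obj.left + dim X.obj.left := dim_prod T p q hP
  have hpd : pdim P.obj.left (sm j (genericPoint ↥X.obj.left)) = dim X.obj.left := by
    rw [pdim_section j p hjp, pdim_genericPoint]
  have hcl : T.cl P (sm j (genericPoint ↥X.obj.left)) ∈ T.gr P (2 * (dim X.obj.left : ℤ)) := by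
    refine mem_gr_of_eq T P ?_ (T.cl_mem P _)
    unfold codim
    rw [hpd, hd]
    push_cast
    omega
  have hR : (∑ r ∈ Finset.range (2 * dim X.obj.left + 1), ∑ i : ι r,
        T.pull p (T.pull φ (e r i : T.H X)) * T.pull q (f r i : T.H X)) ∈
        T.gr P (2 * (dim X.obj.left : ℤ)) := by
    refine Submodule.sum_mem _ fun r _ => Submodule.sum_mem _ fun i _ => ?_
    refine mem_gr_of_eq T P ?_ (SetLike.mul_mem_graded
      (T.pull_mem p _ _ (T.pull_mem φ _ _ (e r i).2)) (T.pull_mem q _ _ (f r i).2))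
    omega
  refine eq_of_forall_tr_mul_eq T P (2 * (dim X.obj.left : ℤ)) (2 * (dim X.obj.left : ℤ))
    (by rw [hd]; push_cast; ring) _ _ hcl hR ?_
  intro b _
  refine kunneth_induction T p q hP
    (C := fun b => T.tr P (T.cl P (sm j (genericPoint ↥X.obj.left)) * b) =
      T.tr P ((∑ r ∈ Finset.range (2 * dim X.obj.left + 1), ∑ i : ι r,
        T.pull p (T.pull φ (e r i : T.H X)) * T.pull q (f r i : T.H X)) * b)) b ?_ ?_
  · intro s t x hx y hy
    rw [tr_cl_section_generic T p j hjp, map_mul, pull_section T j p hjp, pull_pull, hjq,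
      Finset.sum_mul, map_sum]
    by_cases ht : t < 0 ∨ 2 * (dim X.obj.left : ℤ) < t
    · have hy0 : y = 0 := eq_zero_of_mem_gr_of_lt T X hy ht
      subst hy0
      simp
    · push Not at ht
      obtain ⟨t', rfl⟩ := Int.eq_ofNat_of_zero_le ht.1
      have ht' : t' ∈ Finset.range (2 * dim X.obj.left + 1) := by
        rw [Finset.mem_range]; omega
      rw [Finset.sum_eq_single_of_mem t' ht']
      · rw [tr_dualsum_mul T φ p q hP (t' : ℤ) (e t') (f t') (hef t' (by omega)) s (t' : ℤ) x y hx hy,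
          if_pos rfl]
        have hc := gradedComm' T X s (t' : ℤ) x (T.pull φ y) hx (T.pull_mem φ _ y hy)
        rw [hc, map_smul, smul_eq_mul]
        by_cases hst : s + t' = 2 * (dim X.obj.left : ℤ)
        · congr 1
          split_ifs <;> first | rfl | omega
        · have hmem : T.pull φ y * x ∈ T.gr X ((t' : ℤ) + s) :=
            SetLike.mul_mem_graded (T.pull_mem φ _ y hy) hx
          rw [T.tr_vanish X _ _ hmem (by omega), mul_zero, mul_zero]
      · intro r hr hrt
        rw [tr_dualsum_mul T φ p q hP (r : ℤ) (e r) (f r) (hef r (by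
          rw [Finset.mem_range] at hr; omega)) s (t' : ℤ) x y hx hy, if_neg (by exact_mod_cast hrt)]
  · intro a b ha hb
    rw [mul_add, map_add, ha, hb, mul_add, map_add]

/-- The Lefschetz trace formula. -/
theorem lefschetz {X P : Var k} (φ : X ⟶ X) (p q : P ⟶ X) (hP : IsProd p q) (j d : X ⟶ P)
    (hjp : j ≫ p = 𝟙 X) (hjq : j ≫ q = φ) (hdp : d ≫ p = 𝟙 X) (hdq : d ≫ q = 𝟙 X) :
    T.tr P (T.cl P (sm j (genericPoint ↥X.obj.left)) * T.cl P (sm d (genericPoint ↥X.obj.left))) =
      ∑ i ∈ Finset.range (2 * dim X.obj.left + 1),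
        (-1 : K) ^ i * LinearMap.trace K ↥(T.gr X (i : ℤ)) (T.pullDeg φ (i : ℤ)) := by
  have hd : dim P.obj.left = dim X.obj.left + dim X.obj.left := dim_prod T p q hP
  have hmem : ∀ (j : X ⟶ P), j ≫ p = 𝟙 X →
      T.cl P (sm j (genericPoint ↥X.obj.left)) ∈ T.gr P (2 * (dim X.obj.left : ℤ)) := by
    intro j hjp
    have hpd : pdim P.obj.left (sm j (genericPoint ↥X.obj.left)) = dim X.obj.left := by
      rw [pdim_section j p hjp, pdim_genericPoint]
    refine mem_gr_of_eq T P ?_ (T.cl_mem P _)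
    unfold codim
    rw [hpd, hd]
    omega
  rw [comm_of_even T P _ _ _ _ (hmem j hjp) (hmem d hdp) (Or.inl (by omega)),
    tr_cl_section_generic T p d hdp]
  let e : (r : ℕ) → Module.Basis (Fin (Module.finrank K ↥(T.gr X (r : ℤ)))) K ↥(T.gr X (r : ℤ)) :=
    fun r => Module.finBasis K _
  choose f hf using fun r : ℕ => exists_dual_family T X (r : ℤ) (e r)
  rw [cl_graph_eq T φ p q hP j hjp hjq _ e f (fun r _ => hf r), map_sum, map_sum]
  refine Finset.sum_congr rfl fun r _ => ?_
  rw [trace_eq_sum_tr T X (r : ℤ) (e r) (fun i => (f r i : T.H X)) (hf r), map_sum, map_sum,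
    Finset.mul_sum]
  refine Finset.sum_congr rfl fun i _ => ?_
  rw [map_mul, pull_section T d p hdp, pull_pull, hdq, T.pull_id]
  have hc := gradedComm' T X (r : ℤ) (2 * (dim X.obj.left : ℤ) - r) (T.pull φ (e r i : T.H X))
    (f r i : T.H X) (T.pull_mem φ _ _ (e r i).2) (f r i).2
  show T.tr X (T.pull φ (e r i : T.H X) * (f r i : T.H X)) = _
  rw [hc, map_smul, smul_eq_mul]
  congr 1
  rcases Nat.even_or_odd r with h | h
  · rw [h.neg_one_pow, if_pos (Or.inl (by rw [Nat.even_iff] at h; omega))]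
  · rw [h.neg_one_pow, if_neg (by rw [Nat.odd_iff] at h; omega)]

end Groth.Agent.Lib.Helper79.Weil
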