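import Mathlib
import Groth.Prelude.Def_WeilCoh
import Groth.Agent.Lib.Helper79.WeilLef

/-!
# Cohomological correspondences: classes on a product acting by pull-back, cup product, push-forward
-/

namespace Groth.Agent.Lib.Helper79.Weil

open AlgebraicGeometry CategoryTheory WeilCoh Groth.Agent.Lib.Helper78

universe u v w

variable {k : Type u} [Field k] {K : Type v} [Field K]
  (T : TheoryOn.{u, v, w} k (IsVar k) K)

/-- The action of a class `φ ∈ H^n(P)` as a correspondence: `x ↦ q_*(p^* x ∪ φ)` on `H^i(X)`. -/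
noncomputable def corr {X Y P : Var k} (p : P ⟶ X) (q : P ⟶ Y) (n : ℤ) (φ : ↥(T.gr P n)) (i : ℤ) :
    ↥(T.gr X i) →ₗ[K] ↥(T.gr Y (i + n + 2 * (dim Y.obj.left : ℤ) - 2 * (dim P.obj.left : ℤ))) :=
  (T.push q (i + n)) ∘ₗ
    ((LinearMap.mulRight K (φ : T.H P)).restrict (p := T.gr P i) (q := T.gr P (i + n))
      (fun x hx => SetLike.mul_mem_graded hx φ.2)) ∘ₗ
    (T.pullDeg p i)

theorem tr_corr_mul {X Y P : Var k} (p : P ⟶ X) (q : P ⟶ Y) (n : ℤ) (φ : ↥(T.gr P n)) (i : ℤ)
    (x : ↥(T.gr X i)) (y : T.H Y) (hy : y ∈ T.gr Y (2 * (dim P.obj.left : ℤ) - (i + n))) :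
    T.tr Y ((corr T p q n φ i x : T.H Y) * y) =
      T.tr P (T.pull p (x : T.H X) * (φ : T.H P) * T.pull q y) := by
  unfold corr
  exact tr_push_mul T q (i + n) _ y hy

/-- A correspondence class is determined by its action. -/
theorem corr_injective {X Y P : Var k} (p : P ⟶ X) (q : P ⟶ Y) (hP : IsProd p q) (n : ℤ)
    (φ φ' : ↥(T.gr P n)) (h : ∀ i, corr T p q n φ i = corr T p q n φ' i) : φ = φ' := by
  apply Subtype.ext
  refine eq_of_forall_tr_mul_eq' T P (2 * (dim P.obj.left : ℤ) - n) n (by omega) _ _ φ.2 φ'.2 ?_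
  intro b _
  refine kunneth_induction T p q hP
    (C := fun b => T.tr P (b * (φ : T.H P)) = T.tr P (b * (φ' : T.H P))) b ?_ ?_
  · intro s t x hx y hy
    have hc : ∀ ψ : ↥(T.gr P n), T.pull p x * T.pull q y * (ψ : T.H P) =
        (if (t % 2 = 0 ∨ n % 2 = 0) then (1 : K) else -1) •
          (T.pull p x * (ψ : T.H P) * T.pull q y) := by
      intro ψ
      rw [mul_assoc, gradedComm' T P t n _ _ (T.pull_mem q t y hy) ψ.2, mul_smul_comm, mul_assoc]
    rw [hc φ, hc φ', map_smul, map_smul]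
    congr 1
    by_cases ht : t = 2 * (dim P.obj.left : ℤ) - (s + n)
    · subst ht
      rw [← tr_corr_mul T p q n φ s ⟨x, hx⟩ y hy, ← tr_corr_mul T p q n φ' s ⟨x, hx⟩ y hy, h s]
    · have hm : ∀ ψ : ↥(T.gr P n), T.pull p x * (ψ : T.H P) * T.pull q y ∈ T.gr P (s + n + t) :=
        fun ψ => SetLike.mul_mem_graded (SetLike.mul_mem_graded (T.pull_mem p s x hx) ψ.2)
          (T.pull_mem q t y hy)
      rw [T.tr_vanish P _ _ (hm φ) (by omega), T.tr_vanish P _ _ (hm φ') (by omega)]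
  · intro a b ha hb
    rw [add_mul, map_add, ha, hb, add_mul, map_add]

/-- The class built from a family of linear maps through bases and dual families. -/
noncomputable def dualSum {X Y P : Var k} (p : P ⟶ X) (q : P ⟶ Y) (n : ℤ)
    (ι : ℕ → Type) [∀ r, Fintype (ι r)]
    (e : (r : ℕ) → Module.Basis (ι r) K ↥(T.gr X (r : ℤ)))
    (f : (r : ℕ) → ι r → ↥(T.gr X (2 * (dim X.obj.left : ℤ) - r)))
    (u : (i : ℤ) → ↥(T.gr X i) →ₗ[K]
      ↥(T.gr Y (i + n + 2 * (dim Y.obj.left : ℤ) - 2 * (dim P.obj.left : ℤ)))) : T.H P :=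
  ∑ m ∈ Finset.range (2 * dim X.obj.left + 1), ∑ l : ι m,
    ((-1 : K) ^ m) • (T.pull p (f m l : T.H X) * T.pull q (u (m : ℤ) (e m l) : T.H Y))

theorem dualSum_mem {X Y P : Var k} (p : P ⟶ X) (q : P ⟶ Y) (hP : IsProd p q) (n : ℤ)
    (ι : ℕ → Type) [∀ r, Fintype (ι r)]
    (e : (r : ℕ) → Module.Basis (ι r) K ↥(T.gr X (r : ℤ)))
    (f : (r : ℕ) → ι r → ↥(T.gr X (2 * (dim X.obj.left : ℤ) - r)))
    (u : (i : ℤ) → ↥(T.gr X i) →ₗ[K]
      ↥(T.gr Y (i + n + 2 * (dim Y.obj.left : ℤ) - 2 * (dim P.obj.left : ℤ)))) :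
    dualSum T p q n ι e f u ∈ T.gr P n := by
  have hd := dim_prod T p q hP
  unfold dualSum
  refine Submodule.sum_mem _ fun m _ => Submodule.sum_mem _ fun l _ => Submodule.smul_mem _ _ ?_
  refine mem_gr_of_eq T P ?_ (SetLike.mul_mem_graded (T.pull_mem p _ _ (f m l).2)
    (T.pull_mem q _ _ (u (m : ℤ) (e m l)).2))
  rw [hd]; push_cast; ring

/-- The class `dualSum u` acts as the family `u`. -/
theorem corr_dualSum {X Y P : Var k} (p : P ⟶ X) (q : P ⟶ Y) (hP : IsProd p q) (n : ℤ)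
    (ι : ℕ → Type) [∀ r, Fintype (ι r)] [∀ r, DecidableEq (ι r)]
    (e : (r : ℕ) → Module.Basis (ι r) K ↥(T.gr X (r : ℤ)))
    (f : (r : ℕ) → ι r → ↥(T.gr X (2 * (dim X.obj.left : ℤ) - r)))
    (hef : ∀ r, ∀ i l : ι r,
      T.tr X ((f r l : T.H X) * (e r i : T.H X)) = if i = l then 1 else 0)
    (u : (i : ℤ) → ↥(T.gr X i) →ₗ[K]
      ↥(T.gr Y (i + n + 2 * (dim Y.obj.left : ℤ) - 2 * (dim P.obj.left : ℤ)))) (i : ℤ) :
    corr T p q n ⟨dualSum T p q n ι e f u, dualSum_mem T p q hP n ι e f u⟩ i = u i := by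
  have hd := dim_prod T p q hP
  apply LinearMap.ext
  intro x
  by_cases hi : i < 0 ∨ 2 * (dim X.obj.left : ℤ) < i
  · have hx0 : x = 0 := Subtype.ext (eq_zero_of_mem_gr_of_lt T X x.2 hi)
    rw [hx0, map_zero, map_zero]
  · push Not at hi
    obtain ⟨m, rfl⟩ := Int.eq_ofNat_of_zero_le hi.1
    have hm : m ∈ Finset.range (2 * dim X.obj.left + 1) := by rw [Finset.mem_range]; omega
    apply Subtype.ext
    refine eq_of_forall_tr_mul_eq T Y _ (2 * (dim P.obj.left : ℤ) - ((m : ℤ) + n)) (by omega) _ _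
      (corr T p q n _ (m : ℤ) x).2 (u (m : ℤ) x).2 ?_
    intro y hy
    rw [tr_corr_mul T p q n _ (m : ℤ) x y hy]
    show T.tr P (T.pull p (x : T.H X) * dualSum T p q n ι e f u * T.pull q y) = _
    unfold dualSum
    rw [Finset.mul_sum, Finset.sum_mul, map_sum, Finset.sum_eq_single_of_mem m hm]
    · rw [Finset.mul_sum, Finset.sum_mul, map_sum]
      have hterm : ∀ l : ι m, T.tr P (T.pull p (x : T.H X) * ((-1 : K) ^ m •
          (T.pull p (f m l : T.H X) * T.pull q (u (m : ℤ) (e m l) : T.H Y))) * T.pull q y) =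
          (e m).repr x l * T.tr Y ((u (m : ℤ) (e m l) : T.H Y) * y) := by
        intro l
        have h1 : T.pull p (x : T.H X) * ((-1 : K) ^ m •
            (T.pull p (f m l : T.H X) * T.pull q (u (m : ℤ) (e m l) : T.H Y))) * T.pull q y =
            (-1 : K) ^ m • (T.pull p ((x : T.H X) * (f m l : T.H X)) *
              T.pull q ((u (m : ℤ) (e m l) : T.H Y) * y)) := by
          rw [map_mul, map_mul]
          simp only [mul_smul_comm, smul_mul_assoc]
          congr 1
          noncomm_ring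
        rw [h1, map_smul, tr_prod_gen T p q hP, smul_eq_mul,
          gradedComm' T X (m : ℤ) (2 * (dim X.obj.left : ℤ) - m) _ _ x.2 (f m l).2, map_smul,
          smul_eq_mul, ← coord_eq_tr T X (m : ℤ) (e m) (fun l => (f m l : T.H X)) (hef m) x l]
        have hs : (-1 : K) ^ m * ((if ((m : ℤ) % 2 = 0 ∨ (2 * (dim X.obj.left : ℤ) - m) % 2 = 0)
            then (1 : K) else -1) * (e m).repr x l) = (e m).repr x l := by
          rcases Nat.even_or_odd m with h | h
          · rw [h.neg_one_pow, if_pos (Or.inl (by rw [Nat.even_iff] at h; omega))]; ring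
          · rw [h.neg_one_pow, if_neg (by rw [Nat.odd_iff] at h; omega)]; ring
        rw [← mul_assoc, hs]
      simp only [hterm]
      have hx' : x = ∑ l, ((e m).repr x l) • e m l := ((e m).sum_repr x).symm
      conv_rhs => rw [hx']
      rw [map_sum, Submodule.coe_sum, Finset.sum_mul, map_sum]
      refine Finset.sum_congr rfl fun l _ => ?_
      rw [map_smul, Submodule.coe_smul, smul_mul_assoc, map_smul, smul_eq_mul]
    · intro r hr hrm
      rw [Finset.mul_sum, Finset.sum_mul, map_sum]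
      apply Finset.sum_eq_zero
      intro l _
      have h1 : T.pull p (x : T.H X) * ((-1 : K) ^ r •
          (T.pull p (f r l : T.H X) * T.pull q (u (r : ℤ) (e r l) : T.H Y))) * T.pull q y =
          (-1 : K) ^ r • (T.pull p ((x : T.H X) * (f r l : T.H X)) *
            T.pull q ((u (r : ℤ) (e r l) : T.H Y) * y)) := by
        rw [map_mul, map_mul]
        simp only [mul_smul_comm, smul_mul_assoc]
        congr 1
        noncomm_ring
      have hmem : (x : T.H X) * (f r l : T.H X) ∈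
          T.gr X ((m : ℤ) + (2 * (dim X.obj.left : ℤ) - r)) :=
        SetLike.mul_mem_graded x.2 (f r l).2
      rw [h1, map_smul, tr_prod_gen T p q hP, T.tr_vanish X _ _ hmem (by
        have : (r : ℤ) ≠ m := by exact_mod_cast hrm
        omega), zero_mul, smul_zero]

end Groth.Agent.Lib.Helper79.Weil
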