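import Mathlib
import Groth.Prelude.Def_WeilCoh
import Groth.Agent.Lib.Helper79.WeilCorr

/-!
# Composition of correspondences and the swap
-/

namespace Groth.Agent.Lib.Helper79.Weil

open AlgebraicGeometry CategoryTheory WeilCoh Groth.Agent.Lib.Helper78

universe u v w

variable {k : Type u} [Field k] {K : Type v} [Field K]
  (T : TheoryOn.{u, v, w} k (IsVar k) K)

/-- The trace is invariant under the swap of the factors of a product. -/
theorem tr_pull_swap {X Y P P' : Var k} (p : P ⟶ X) (q : P ⟶ Y) (hP : IsProd p q)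
    (p' : P' ⟶ Y) (q' : P' ⟶ X) (hP' : IsProd p' q')
    (σ : P ⟶ P') (hσ₁ : σ ≫ p' = q) (hσ₂ : σ ≫ q' = p) (z : T.H P') :
    T.tr P (T.pull σ z) = T.tr P' z := by
  refine kunneth_induction T p' q' hP' (C := fun z => T.tr P (T.pull σ z) = T.tr P' z) z ?_ ?_
  · intro s t y hy x hx
    rw [map_mul, pull_pull, pull_pull, hσ₁, hσ₂, tr_prod_gen T p' q' hP',
      gradedComm' T P s t _ _ (T.pull_mem q s y hy) (T.pull_mem p t x hx), map_smul,
      tr_prod_gen T p q hP, smul_eq_mul]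
    by_cases hs : s = 2 * (dim Y.obj.left : ℤ)
    · rw [if_pos (Or.inl (by omega)), one_mul, mul_comm]
    · rw [T.tr_vanish Y s y hy hs, mul_zero, mul_zero, zero_mul]
  · intro a b ha hb
    rw [map_add, map_add, map_add, ha, hb]

/-- The key identity for the trace of a composite of correspondences. -/
theorem tr_mul_mul_pull_swap {X Y P P' : Var k} (p : P ⟶ X) (q : P ⟶ Y) (hP : IsProd p q)
    (p' : P' ⟶ Y) (q' : P' ⟶ X) (hP' : IsProd p' q')
    (σ : P ⟶ P') (hσ₁ : σ ≫ p' = q) (hσ₂ : σ ≫ q' = p) (n' : ℤ) (ψ : ↥(T.gr P' n'))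
    (c d : ℤ) (a : T.H X) (ha : a ∈ T.gr X c) (v : ↥(T.gr Y d))
    (hc : c = 2 * (dim P'.obj.left : ℤ) - (d + n')) :
    T.tr P (T.pull p a * T.pull q (v : T.H Y) * T.pull σ (ψ : T.H P')) =
      T.tr X (a * (corr T p' q' n' ψ d v : T.H X)) := by
  have h1 : T.pull p a * T.pull q (v : T.H Y) * T.pull σ (ψ : T.H P') =
      T.pull σ (T.pull q' a * (T.pull p' (v : T.H Y) * (ψ : T.H P'))) := by
    rw [map_mul, map_mul, pull_pull, pull_pull, hσ₁, hσ₂, mul_assoc]
  have hmem : T.pull p' (v : T.H Y) * (ψ : T.H P') ∈ T.gr P' (d + n') :=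
    SetLike.mul_mem_graded (T.pull_mem p' d _ v.2) ψ.2
  rw [h1, tr_pull_swap T p q hP p' q' hP' σ hσ₁ hσ₂,
    gradedComm' T P' c (d + n') _ _ (T.pull_mem q' c a ha) hmem, map_smul,
    gradedComm' T X c _ a _ ha (corr T p' q' n' ψ d v).2, map_smul,
    tr_corr_mul T p' q' n' ψ d v a (hc ▸ ha)]
  congr 1
  split_ifs <;> first | rfl | omega

end Groth.Agent.Lib.Helper79.Weil
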