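import Mathlib
import Groth.Prelude.Def_WeilCoh
import Groth.Agent.Lib.Helper79.WeilCorr2

/-!
# Graphs in a product, the action of a transposed graph, polynomial combinations of graphs
-/

namespace Groth.Agent.Lib.Helper79.Weil

open AlgebraicGeometry CategoryTheory WeilCoh Groth.Agent.Lib.Helper78

universe u v w

variable {k : Type u} [Field k]

/-- Morphisms into a product. -/
theorem exists_lift {Z X Y P : Var k} (p : P ⟶ X) (q : P ⟶ Y) (hP : IsProd p q)
    (a : Z ⟶ X) (b : Z ⟶ Y) : ∃ j : Z ⟶ P, j ≫ p = a ∧ j ≫ q = b := by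
  have hab : sm a ≫ X.obj.hom = sm b ≫ Y.obj.hom := by rw [w_sm, w_sm]
  have h1 : hP.lift (sm a) (sm b) hab ≫ sm p = sm a := hP.lift_fst _ _ _
  have h2 : hP.lift (sm a) (sm b) hab ≫ sm q = sm b := hP.lift_snd _ _ _
  have hw : hP.lift (sm a) (sm b) hab ≫ P.obj.hom = Z.obj.hom := by
    rw [← w_sm p, ← Category.assoc, h1, w_sm]
  refine ⟨ObjectProperty.homMk (Over.homMk (hP.lift (sm a) (sm b) hab) hw), ?_, ?_⟩
  · apply ObjectProperty.hom_ext
    apply Over.OverMorphism.ext
    exact h1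
  · apply ObjectProperty.hom_ext
    apply Over.OverMorphism.ext
    exact h2

variable [IsAlgClosed k] {K : Type v} [Field K] (T : TheoryOn.{u, v, w} k (IsVar k) K)

omit [IsAlgClosed k] in
theorem cl_section_mem {X P : Var k} (p q : P ⟶ X) (hP : IsProd p q) (j : X ⟶ P)
    (hjq : j ≫ q = 𝟙 X) :
    T.cl P (sm j (genericPoint ↥X.obj.left)) ∈ T.gr P (2 * (dim X.obj.left : ℤ)) := by
  have hd : dim P.obj.left = dim X.obj.left + dim X.obj.left := dim_prod T p q hP
  have hpd : pdim P.obj.left (sm j (genericPoint ↥X.obj.left)) = dim X.obj.left := by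
    rw [pdim_section j q hjq, pdim_genericPoint]
  refine mem_gr_of_eq T P ?_ (T.cl_mem P _)
  unfold codim
  rw [hpd, hd]
  omega

/-- The transposed graph of `g` acts as `g^*`. -/
theorem corr_cl_graphT {X P : Var k} (p q : P ⟶ X) (hP : IsProd p q) (j : X ⟶ P)
    (g : X ⟶ X) (hjp : j ≫ p = g) (hjq : j ≫ q = 𝟙 X) (i : ℤ) (b : ↥(T.gr X i)) :
    (corr T p q (2 * (dim X.obj.left : ℤ))
      ⟨T.cl P (sm j (genericPoint ↥X.obj.left)), cl_section_mem T p q hP j hjq⟩ i b : T.H X) =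
      T.pull g (b : T.H X) := by
  have hd : dim P.obj.left = dim X.obj.left + dim X.obj.left := dim_prod T p q hP
  refine eq_of_forall_tr_mul_eq T X _
    (2 * (dim P.obj.left : ℤ) - (i + 2 * (dim X.obj.left : ℤ))) (by omega) _ _
    (corr T p q _ _ i b).2
    (mem_gr_of_eq T X (by rw [hd]; push_cast; ring) (T.pull_mem g i b b.2)) ?_
  intro y hy
  rw [tr_corr_mul T p q _ _ i b y hy]
  show T.tr P (T.pull p (b : T.H X) * T.cl P (sm j (genericPoint ↥X.obj.left)) * T.pull q y) = _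
  rw [comm_of_even T P i _ _ _ (T.pull_mem p i b b.2) (cl_section_mem T p q hP j hjq)
    (Or.inr (by omega)), mul_assoc, tr_cl_section_generic T q j hjq, map_mul, pull_pull, hjp,
    pull_section T j q hjq]

omit [IsAlgClosed k] in
theorem corr_add {X Y P : Var k} (p : P ⟶ X) (q : P ⟶ Y) (n : ℤ) (φ φ' : ↥(T.gr P n)) (i : ℤ)
    (x : ↥(T.gr X i)) : corr T p q n (φ + φ') i x = corr T p q n φ i x + corr T p q n φ' i x := by
  unfold corr
  simp only [LinearMap.comp_apply]
  rw [← map_add]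
  congr 1
  exact Subtype.ext (mul_add _ _ _)

omit [IsAlgClosed k] in
theorem corr_smul {X Y P : Var k} (p : P ⟶ X) (q : P ⟶ Y) (n : ℤ) (c : K) (φ : ↥(T.gr P n))
    (i : ℤ) (x : ↥(T.gr X i)) : corr T p q n (c • φ) i x = c • corr T p q n φ i x := by
  unfold corr
  simp only [LinearMap.comp_apply]
  rw [← map_smul]
  congr 1
  exact Subtype.ext (mul_smul_comm _ _ _)

omit [IsAlgClosed k] in
theorem corr_zero {X Y P : Var k} (p : P ⟶ X) (q : P ⟶ Y) (n : ℤ) (i : ℤ)
    (x : ↥(T.gr X i)) : corr T p q n 0 i x = 0 := by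
  have := corr_smul T p q n (0 : K) 0 i x
  simpa using this

omit [IsAlgClosed k] in
theorem corr_sum {X Y P : Var k} (p : P ⟶ X) (q : P ⟶ Y) (n : ℤ) {ι : Type*} (s : Finset ι)
    (φ : ι → ↥(T.gr P n)) (i : ℤ) (x : ↥(T.gr X i)) :
    corr T p q n (∑ m ∈ s, φ m) i x = ∑ m ∈ s, corr T p q n (φ m) i x := by
  classical
  induction s using Finset.induction_on with
  | empty => simp [corr_zero]
  | insert a s ha ih => rw [Finset.sum_insert ha, Finset.sum_insert ha, corr_add, ih]

/-- Iterates of an endomorphism. -/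
noncomputable def Fpow {X : Var k} (F : X ⟶ X) : ℕ → (X ⟶ X)
  | 0 => 𝟙 X
  | m + 1 => F ≫ Fpow F m

omit [IsAlgClosed k] in
theorem pullDeg_Fpow {X : Var k} (F : X ⟶ X) (i : ℤ) (m : ℕ) :
    T.pullDeg (Fpow F m) i = (T.pullDeg F i) ^ m := by
  induction m with
  | zero =>
    apply LinearMap.ext; intro x; apply Subtype.ext
    show T.pull (𝟙 X) (x : T.H X) = x
    rw [T.pull_id]; rfl
  | succ m ih =>
    rw [pow_succ', ← ih]
    apply LinearMap.ext; intro x; apply Subtype.ext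
    show T.pull (F ≫ Fpow F m) (x : T.H X) = T.pull F (T.pull (Fpow F m) (x : T.H X))
    rw [T.pull_comp]; rfl

/-- A polynomial combination of the classes of the transposed graphs of the iterates of `F` acts on
`H^i` as the polynomial in `F^*`. -/
theorem corr_poly_graph {X P : Var k} (p q : P ⟶ X) (hP : IsProd p q) (F : X ⟶ X)
    (j : ℕ → (X ⟶ P)) (hjp : ∀ m, j m ≫ p = Fpow F m) (hjq : ∀ m, j m ≫ q = 𝟙 X)
    (g : Polynomial K) (i : ℤ) (b : ↥(T.gr X i)) :
    (corr T p q (2 * (dim X.obj.left : ℤ))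
      (∑ m ∈ Finset.range (g.natDegree + 1), g.coeff m •
        (⟨T.cl P (sm (j m) (genericPoint ↥X.obj.left)), cl_section_mem T p q hP (j m) (hjq m)⟩ :
          ↥(T.gr P (2 * (dim X.obj.left : ℤ))))) i b : T.H X) =
      ((Polynomial.aeval (T.pullDeg F i) g) b : T.H X) := by
  rw [corr_sum, Polynomial.aeval_eq_sum_range, LinearMap.sum_apply, Submodule.coe_sum,
    Submodule.coe_sum]
  refine Finset.sum_congr rfl fun m _ => ?_
  rw [corr_smul, Submodule.coe_smul, corr_cl_graphT T p q hP (j m) (Fpow F m) (hjp m) (hjq m),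
    LinearMap.smul_apply, Submodule.coe_smul, ← pullDeg_Fpow]
  rfl

end Groth.Agent.Lib.Helper79.Weil
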