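import Mathlib
import Groth.Prelude.Def_WeilCoh
import Groth.Agent.Lib.Helper79.WeilLef
import Groth.Agent.Lib.Helper79.WeilPt
import Groth.Agent.Lib.Helper79.WeilProj

/-!
# Intersection of a graph with the diagonal: counting fixed points (helper79)
-/

namespace Groth.Agent.Lib.Helper79.Weil

open AlgebraicGeometry CategoryTheory WeilCoh Groth.Agent.Lib.Helper78

universe u v w

variable {k : Type u} [Field k]

/-- closure of the image of the generic point under a section is the range. -/
theorem closure_section_generic {X P : Var k} (d : X ⟶ P) (p : P ⟶ X) (h : d ≫ p = 𝟙 X) :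
    closure ({sm d (genericPoint ↥X.obj.left)} : Set P.obj.left) = Set.range (sm d) := by
  have hci := isClosedImmersion_section d p h
  have hce : Topology.IsClosedEmbedding (sm d) := (sm d).isClosedEmbedding
  rw [← Set.image_singleton, hce.closure_image_eq, genericPoint_spec, Set.image_univ]

theorem mem_closure_section_iff {X P : Var k} (p : P ⟶ X) (j d : X ⟶ P)
    (hjp : j ≫ p = 𝟙 X) (hdp : d ≫ p = 𝟙 X) (w : X.obj.left) :
    sm j w ∈ closure ({sm d (genericPoint ↥X.obj.left)} : Set P.obj.left) ↔ sm j w = sm d w := by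
  rw [closure_section_generic d p hdp]
  constructor
  · rintro ⟨v, hv⟩
    have h1 : sm p (sm d v) = v := by
      rw [← Scheme.Hom.comp_apply, sm_section d p hdp]; rfl
    have h2 : sm p (sm j w) = w := by
      rw [← Scheme.Hom.comp_apply, sm_section j p hjp]; rfl
    have : v = w := by rw [← h1, hv, h2]
    rw [← hv, this]
  · intro h
    exact ⟨w, h.symm⟩

theorem fix_of_mem {X P : Var k} (q : P ⟶ X) (G : X ⟶ X) (j d : X ⟶ P)
    (hjq : j ≫ q = G) (hdq : d ≫ q = 𝟙 X) (w : X.obj.left) (h : sm j w = sm d w) :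
    sm G w = w := by
  have h1 : sm q (sm d w) = w := by
    rw [← Scheme.Hom.comp_apply, sm_section d q hdq]; rfl
  have h2 : sm q (sm j w) = sm G w := by
    rw [← Scheme.Hom.comp_apply, ← sm_comp, hjq]
  rw [← h2, h, h1]

variable [IsAlgClosed k]

instance : Subsingleton ↥(Spec (CommRingCat.of k)) :=
  inferInstanceAs (Subsingleton (PrimeSpectrum k))

instance : Nonempty ↥(Spec (CommRingCat.of k)) :=
  inferInstanceAs (Nonempty (PrimeSpectrum k))

set_option backward.isDefEq.respectTransparency.types false in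
/-- Two `k`-points with the same image point are equal. -/
theorem ext_of_apply_eq' {X : Scheme.{u}} {f g : Spec (CommRingCat.of k) ⟶ X}
    (h : X ⟶ Spec (CommRingCat.of k)) [LocallyOfFiniteType h]
    (hf : f ≫ h = 𝟙 _) (hg : g ≫ h = 𝟙 _) (a : ↥(Spec (CommRingCat.of k)))
    (H : f a = g a) : f = g := by
  apply ext_of_apply_closedPoint_eq h hf hg
  have : a = IsLocalRing.closedPoint k := Subsingleton.elim _ _
  rw [← this]
  exact H

theorem point_comp_eq_of_fix {X : Var k} (G : X ⟶ X) (w : X.obj.left)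
    (hw : IsClosed ({w} : Set X.obj.left)) (hG : sm G w = w) :
    pointOfClosedPoint X.obj.hom w hw ≫ sm G = pointOfClosedPoint X.obj.hom w hw := by
  apply ext_of_apply_eq' X.obj.hom _ _ (Classical.arbitrary _)
  · rw [Scheme.Hom.comp_apply, pointOfClosedPoint_apply, hG]
  · rw [Category.assoc, w_sm, pointOfClosedPoint_comp]
  · exact pointOfClosedPoint_comp _ _ _

theorem mem_of_fix {X P : Var k} (p q : P ⟶ X) (hP : IsProd p q) (G : X ⟶ X) (j d : X ⟶ P)
    (hjp : j ≫ p = 𝟙 X) (hjq : j ≫ q = G) (hdp : d ≫ p = 𝟙 X) (hdq : d ≫ q = 𝟙 X)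
    (w : X.obj.left) (hw : IsClosed ({w} : Set X.obj.left)) (hG : sm G w = w) :
    sm j w = sm d w := by
  have hs := point_comp_eq_of_fix G w hw hG
  set s := pointOfClosedPoint X.obj.hom w hw with hs_def
  have h : s ≫ sm j = s ≫ sm d := by
    apply hP.hom_ext
    · rw [Category.assoc, Category.assoc, sm_section j p hjp, sm_section d p hdp]
    · have h1 : sm j ≫ sm q = sm G := by rw [← sm_comp, hjq]
      rw [Category.assoc, Category.assoc, h1, sm_section d q hdq, hs, Category.comp_id]
  have h2 := congrArg (fun φ : Spec (CommRingCat.of k) ⟶ P.obj.left =>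
    φ (Classical.arbitrary ↥(Spec (CommRingCat.of k)))) h
  simp only [Scheme.Hom.comp_apply] at h2
  rw [hs_def, pointOfClosedPoint_apply] at h2
  exact h2

/-- The inverse image of the diagonal under the graph is the set of closed fixed points,
provided that set is finite. -/
theorem preimage_diag_eq {X P : Var k} (p q : P ⟶ X) (hP : IsProd p q) (G : X ⟶ X) (j d : X ⟶ P)
    (hjp : j ≫ p = 𝟙 X) (hjq : j ≫ q = G) (hdp : d ≫ p = 𝟙 X) (hdq : d ≫ q = 𝟙 X)
    (hfin : {w : X.obj.left | IsClosed ({w} : Set X.obj.left) ∧ sm G w = w}.Finite) :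
    (sm j) ⁻¹' closure ({sm d (genericPoint ↥X.obj.left)} : Set P.obj.left) =
      {w : X.obj.left | IsClosed ({w} : Set X.obj.left) ∧ sm G w = w} := by
  set S := (sm j) ⁻¹' closure ({sm d (genericPoint ↥X.obj.left)} : Set P.obj.left) with hS
  set Fc := {w : X.obj.left | IsClosed ({w} : Set X.obj.left) ∧ sm G w = w} with hFc
  have hSc : IsClosed S := isClosed_closure.preimage (sm j).continuous
  have : JacobsonSpace ↥X.obj.left := LocallyOfFiniteType.jacobsonSpace X.obj.hom
  have h1 : S ∩ closedPoints ↥X.obj.left = Fc := by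
    ext w
    constructor
    · rintro ⟨hwS, hwc⟩
      exact ⟨hwc, fix_of_mem q G j d hjq hdq w ((mem_closure_section_iff p j d hjp hdp w).mp hwS)⟩
    · rintro ⟨hwc, hG⟩
      exact ⟨(mem_closure_section_iff p j d hjp hdp w).mpr
        (mem_of_fix p q hP G j d hjp hjq hdp hdq w hwc hG), hwc⟩
  have h2 : IsClosed Fc := by
    have : Fc = ⋃ w ∈ Fc, {w} := by simp
    rw [this]
    exact hfin.isClosed_biUnion (fun w hw => hw.1)
  have h3 := JacobsonSpace.closure_inter_closedPoints_eq_closure hSc.isLocallyClosed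
  rw [h1, h2.closure_eq, hSc.closure_eq] at h3
  exact h3.symm

theorem isCompPt_iff_of_forall_isClosed {X : Scheme.{u}} (S : Set X)
    (hS : ∀ w ∈ S, IsClosed ({w} : Set X)) (w : X) : IsCompPt S w ↔ w ∈ S := by
  constructor
  · exact fun h => h.1
  · intro h
    refine ⟨h, fun w' hw' hsp => ?_⟩
    have := hsp.mem_closed (hS w' hw') (Set.mem_singleton w')
    exact (Set.mem_singleton_iff.mp this).symm

variable {K : Type v} [Field K] (T : TheoryOn.{u, v, w} k (IsVar k) K)

/-- Intersection number of the graph of `G` with the diagonal, when the fixed points are finitely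
many and each has multiplicity one. -/
theorem tr_graph_diag {X P : Var k} (p q : P ⟶ X) (hP : IsProd p q) (G : X ⟶ X) (j d : X ⟶ P)
    (hjp : j ≫ p = 𝟙 X) (hjq : j ≫ q = G) (hdp : d ≫ p = 𝟙 X) (hdq : d ≫ q = 𝟙 X)
    (hfin : {w : X.obj.left | IsClosed ({w} : Set X.obj.left) ∧ sm G w = w}.Finite)
    (hmult : ∀ (w : X.obj.left) (_ : IsClosed ({w} : Set X.obj.left)) (_ : sm G w = w)
      (h : sm j w ∈ closure ({sm d (genericPoint ↥X.obj.left)} : Set P.obj.left)),
      preimMult (sm j) (sm d (genericPoint ↥X.obj.left)) w h = 1) :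
    T.tr P (T.cl P (sm j (genericPoint ↥X.obj.left)) * T.cl P (sm d (genericPoint ↥X.obj.left))) =
      (Nat.card {w : X.obj.left // IsClosed ({w} : Set X.obj.left) ∧ sm G w = w} : K) := by
  have hS := preimage_diag_eq p q hP G j d hjp hjq hdp hdq hfin
  have hcomp : ∀ w : X.obj.left,
      IsCompPt ((sm j) ⁻¹' closure ({sm d (genericPoint ↥X.obj.left)} : Set P.obj.left)) w ↔
        (IsClosed ({w} : Set X.obj.left) ∧ sm G w = w) := by
    intro w
    rw [isCompPt_iff_of_forall_isClosed _ (fun w hw => by rw [hS] at hw; exact hw.1), hS]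
    rfl
  rw [tr_cl_section_generic T p j hjp]
  have hd : dim P.obj.left = dim X.obj.left + dim X.obj.left := dim_prod T p q hP
  have hpull := T.cl_pull j (sm d (genericPoint ↥X.obj.left)) (by
      intro w hw
      rw [pdim_of_isClosed w ((hcomp w).mp hw).1, pdim_section d p hdp, pdim_genericPoint, hd]
      push_cast; ring)
    (Or.inr (fun w hw => hmult w ((hcomp w).mp hw).1 ((hcomp w).mp hw).2 hw.1))
  rw [hpull]
  have hfin' : Finite {w : X.obj.left //
      IsCompPt ((sm j) ⁻¹' closure ({sm d (genericPoint ↥X.obj.left)} : Set P.obj.left)) w} := by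
    have : Finite {w : X.obj.left // IsClosed ({w} : Set X.obj.left) ∧ sm G w = w} := hfin
    exact Finite.of_injective (fun w => (⟨w.1, (hcomp w.1).mp w.2⟩ :
      {w : X.obj.left // IsClosed ({w} : Set X.obj.left) ∧ sm G w = w}))
      (fun a b h => Subtype.ext (congrArg (fun z => z.1) h))
  have := Fintype.ofFinite {w : X.obj.left //
      IsCompPt ((sm j) ⁻¹' closure ({sm d (genericPoint ↥X.obj.left)} : Set P.obj.left)) w}
  rw [finsum_eq_sum_of_fintype, map_sum]
  have hterm : ∀ w : {w : X.obj.left //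
      IsCompPt ((sm j) ⁻¹' closure ({sm d (genericPoint ↥X.obj.left)} : Set P.obj.left)) w},
      T.tr X ((preimMult (sm j) (sm d (genericPoint ↥X.obj.left)) w.1 w.2.1 : K) • T.cl X w.1) = 1 := by
    intro w
    rw [hmult w.1 ((hcomp w.1).mp w.2).1 ((hcomp w.1).mp w.2).2 w.2.1, Nat.cast_one, one_smul,
      tr_cl_of_isClosed T X w.1 ((hcomp w.1).mp w.2).1]
  rw [Finset.sum_congr rfl (fun w _ => hterm w), Finset.sum_const, Finset.card_univ, nsmul_eq_mul,
    mul_one, ← Nat.card_eq_fintype_card]
  congr 1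
  exact Nat.card_congr (Equiv.subtypeEquivRight hcomp)

end Groth.Agent.Lib.Helper79.Weil
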