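import Mathlib
import Groth.Prelude.Def_Cyc

/-!
# Pulled-back germs (helper79)

`pg g y W h a` is the germ at `y` of the pull-back along `g : Y ⟶ X` of the section `a` over `W`.
-/

namespace Groth.Agent.Lib.Helper79.Zeta

open AlgebraicGeometry CategoryTheory

universe u

/-- pulled-back germ -/
noncomputable def pg {Y X : Scheme.{u}} (g : Y ⟶ X) (y : Y) (W : X.Opens) (h : g y ∈ W)
    (a : Γ(X, W)) : Y.presheaf.stalk y :=
  (g.stalkMap y).hom (X.presheaf.germ W (g y) h a)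

theorem pg_congr {Y X : Scheme.{u}} {g g' : Y ⟶ X} (e : g = g') (y : Y) (W : X.Opens) (h : g y ∈ W)
    (a : Γ(X, W)) : pg g y W h a = pg g' y W (e ▸ h) a := by
  subst e; rfl

theorem stalkMap_pg {Z Y X : Scheme.{u}} (t : Z ⟶ Y) (g : Y ⟶ X) (z : Z) (W : X.Opens)
    (h : g (t z) ∈ W) (a : Γ(X, W)) :
    (t.stalkMap z).hom (pg g (t z) W h a) = pg (t ≫ g) z W h a := by
  unfold pg
  rw [Scheme.Hom.stalkMap_comp]
  rfl

theorem pg_add {Y X : Scheme.{u}} (g : Y ⟶ X) (y : Y) (W : X.Opens) (h : g y ∈ W)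
    (a b : Γ(X, W)) : pg g y W h (a + b) = pg g y W h a + pg g y W h b := by
  unfold pg; rw [map_add, map_add]

theorem pg_pow {Y X : Scheme.{u}} (g : Y ⟶ X) (y : Y) (W : X.Opens) (h : g y ∈ W)
    (a : Γ(X, W)) (n : ℕ) : pg g y W h (a ^ n) = pg g y W h a ^ n := by
  unfold pg; rw [map_pow, map_pow]

/-- `stalkSpecializes` of a pulled-back germ. -/
theorem stalkSpecializes_pg {Y X : Scheme.{u}} (g : Y ⟶ X) (y ξ : Y) (hs : ξ ⤳ y) (W : X.Opens)
    (h : g y ∈ W) (h' : g ξ ∈ W) (a : Γ(X, W)) :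
    (Y.presheaf.stalkSpecializes hs).hom (pg g y W h a) = pg g ξ W h' a := by
  unfold pg
  have h1 := Scheme.Hom.stalkSpecializes_stalkMap_apply g ξ y hs (X.presheaf.germ W (g y) h a)
  rw [← h1]
  congr 1
  exact TopCat.Presheaf.germ_stalkSpecializes_apply _ _ _ _

/-- The residue class of a pulled-back germ, after a further morphism. -/
theorem residueFieldMap_residue_pg {Z Y X : Scheme.{u}} (t : Z ⟶ Y) (g : Y ⟶ X) (z : Z)
    (W : X.Opens) (h : g (t z) ∈ W) (a : Γ(X, W)) :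
    (t.residueFieldMap z).hom ((Y.residue (t z)).hom (pg g (t z) W h a)) =
      (Z.residue z).hom (pg (t ≫ g) z W h a) := by
  rw [← stalkMap_pg]
  have := Scheme.residue_residueFieldMap t z
  exact congrArg (fun φ => φ.hom (pg g (t z) W h a)) this

/-- A morphism that is the identity on points and the `q`-th power on sections raises pulled-back
germs to the `q`-th power. -/
theorem pg_comp_frob {Y X : Scheme.{u}} (FX : X ⟶ X) (q : ℕ)
    (hle : ∀ U : X.Opens, U ≤ FX ⁻¹ᵁ U)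
    (hFapp : ∀ (U : X.Opens) (s : Γ(X, U)), (FX.appLE U U (hle U)).hom s = s ^ q)
    (g : Y ⟶ X) (y : Y) (W : X.Opens) (h : (g ≫ FX) y ∈ W) (h' : g y ∈ W) (a : Γ(X, W)) :
    pg (g ≫ FX) y W h a = pg g y W h' a ^ q := by
  rw [← pg_pow, ← hFapp W a]
  unfold pg
  rw [Scheme.Hom.stalkMap_comp]
  show (g.stalkMap y).hom ((FX.stalkMap (g y)).hom (X.presheaf.germ W (FX (g y)) h a)) = _
  congr 1
  have h1 := Scheme.Hom.germ_stalkMap_apply FX W (g y) h a
  refine h1.trans ?_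
  rw [Scheme.Hom.appLE]
  exact (TopCat.Presheaf.germ_res_apply X.presheaf (homOfLE (hle W)) (g y) h' _).symm

theorem pg_congr' {Y X : Scheme.{u}} {g g' : Y ⟶ X} (e : g = g') (y : Y) (W : X.Opens)
    (h : g y ∈ W) (h' : g' y ∈ W) (a : Γ(X, W)) : pg g y W h a = pg g' y W h' a := by
  subst e; rfl

theorem stalkMap_pg' {Z Y X : Scheme.{u}} (t : Z ⟶ Y) (g : Y ⟶ X) (z : Z) (W : X.Opens)
    (h : g (t z) ∈ W) (h' : (t ≫ g) z ∈ W) (a : Γ(X, W)) :
    (t.stalkMap z).hom (pg g (t z) W h a) = pg (t ≫ g) z W h' a :=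
  stalkMap_pg t g z W h a

/-- `stalkMap` of a pulled-back germ, followed by an identification of the composite. -/
theorem stalkMap_pg_of_eq {Z Y X : Scheme.{u}} (t : Z ⟶ Y) (g : Y ⟶ X) (g' : Z ⟶ X)
    (e : t ≫ g = g') (z : Z) (W : X.Opens)
    (h : g (t z) ∈ W) (h' : g' z ∈ W) (a : Γ(X, W)) :
    (t.stalkMap z).hom (pg g (t z) W h a) = pg g' z W h' a :=
  (stalkMap_pg t g z W h a).trans (pg_congr' e z W _ h' a)

theorem residueFieldMap_residue_pg_of_eq {Z Y X : Scheme.{u}} (t : Z ⟶ Y) (g : Y ⟶ X)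
    (g' : Z ⟶ X) (e : t ≫ g = g') (z : Z)
    (W : X.Opens) (h : g (t z) ∈ W) (h' : g' z ∈ W) (a : Γ(X, W)) :
    (t.residueFieldMap z).hom ((Y.residue (t z)).hom (pg g (t z) W h a)) =
      (Z.residue z).hom (pg g' z W h' a) :=
  (residueFieldMap_residue_pg t g z W h a).trans
    (congrArg (Z.residue z).hom (pg_congr' e z W _ h' a))

end Groth.Agent.Lib.Helper79.Zeta
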