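import Mathlib
import Groth.Prelude.Def_Cyc
import Groth.Agent.Lib.Helper79.ZetaGerm

/-!
# The graph of a Frobenius meets the diagonal with multiplicity one (helper79)
-/

namespace Groth.Agent.Lib.Helper79.Zeta

open AlgebraicGeometry CategoryTheory

universe u

variable {k : Type u} [Field k]

/-- the closed point of `Spec k` as a point of the scheme -/
noncomputable def cp (k : Type u) [Field k] : ↥(Spec (CommRingCat.of k)) :=
  IsLocalRing.closedPoint k

section GEN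

variable {Y X B₀ : Scheme.{u}} (hY : Y ⟶ Spec (CommRingCat.of k))

/-- structure map `k → O_{Y,y}` -/
noncomputable def sw (y : Y) : CommRingCat.of k ⟶ Y.presheaf.stalk y :=
  Spec.preimage (Y.fromSpecStalk y ≫ hY)

theorem SpecMap_sw (y : Y) : Spec.map (sw hY y) = Y.fromSpecStalk y ≫ hY := Spec.map_preimage _

/-- evaluation at a `k`-point -/
noncomputable def ev (s : Spec (CommRingCat.of k) ⟶ Y) :
    Y.presheaf.stalk (s (cp k)) ⟶ CommRingCat.of k :=
  Scheme.stalkClosedPointTo s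

theorem SpecMap_ev (s : Spec (CommRingCat.of k) ⟶ Y) :
    Spec.map (ev s) ≫ Y.fromSpecStalk (s (cp k)) = s :=
  Scheme.Spec_stalkClosedPointTo_fromSpecStalk s

instance (s : Spec (CommRingCat.of k) ⟶ Y) : IsLocalHom (ev s).hom :=
  Scheme.isLocalHom_stalkClosedPointTo' s

theorem sw_ev (s : Spec (CommRingCat.of k) ⟶ Y) (hs : s ≫ hY = 𝟙 _) :
    sw hY (s (cp k)) ≫ ev s = 𝟙 _ := by
  apply Spec.map_injective
  rw [Spec.map_comp, SpecMap_sw, ← Category.assoc, SpecMap_ev, hs, Spec.map_id]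

theorem ev_sw_apply (s : Spec (CommRingCat.of k) ⟶ Y) (hs : s ≫ hY = 𝟙 _) (c : k) :
    (ev s).hom ((sw hY (s (cp k))).hom c) = c := by
  have := congrArg (fun φ : CommRingCat.of k ⟶ CommRingCat.of k => φ.hom c) (sw_ev hY s hs)
  exact this

theorem ev_eq_zero_of_mem (s : Spec (CommRingCat.of k) ⟶ Y)
    (r : Y.presheaf.stalk (s (cp k))) (hr : r ∈ IsLocalRing.maximalIdeal (Y.presheaf.stalk (s (cp k)))) :
    (ev s).hom r = 0 := by
  by_contra h
  have hu : IsUnit ((ev s).hom r) := Ne.isUnit h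
  have := (isUnit_map_iff (ev s).hom r).mp hu
  exact ((IsLocalRing.mem_maximalIdeal r).mp hr) this

theorem mem_of_ev_eq_zero (s : Spec (CommRingCat.of k) ⟶ Y)
    (r : Y.presheaf.stalk (s (cp k))) (hr : (ev s).hom r = 0) :
    r ∈ IsLocalRing.maximalIdeal (Y.presheaf.stalk (s (cp k))) := by
  rw [IsLocalRing.mem_maximalIdeal]
  intro hu
  have := hu.map (ev s).hom
  rw [hr] at this
  exact not_isUnit_zero this

variable (π : Y ⟶ X) (f : X ⟶ B₀) (ι : Spec (CommRingCat.of k) ⟶ B₀)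

/-- Generation of the maximal ideal at a `k`-point of a base change. -/
theorem gen (hπ : IsPullback π hY f ι) (s : Spec (CommRingCat.of k) ⟶ Y) (hs : s ≫ hY = 𝟙 _)
    (J : Ideal (Y.presheaf.stalk (s (cp k))))
    (hJ : ∀ a : X.presheaf.stalk (π (s (cp k))),
      (π.stalkMap (s (cp k))).hom a -
        (sw hY (s (cp k))).hom ((ev s).hom ((π.stalkMap (s (cp k))).hom a)) ∈ J)
    (r : Y.presheaf.stalk (s (cp k))) :
    r - (sw hY (s (cp k))).hom ((ev s).hom r) ∈ J := by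
  let R : CommRingCat := Y.presheaf.stalk (s (cp k))
  let mk : R ⟶ CommRingCat.of (R ⧸ J) := CommRingCat.ofHom (Ideal.Quotient.mk J)
  let θ : R ⟶ R := ev s ≫ sw hY (s (cp k))
  have key : Spec.map mk ≫ Y.fromSpecStalk (s (cp k)) =
      Spec.map (θ ≫ mk) ≫ Y.fromSpecStalk (s (cp k)) := by
    apply hπ.hom_ext
    · rw [Category.assoc, Category.assoc, ← Scheme.SpecMap_stalkMap_fromSpecStalk, ← Category.assoc,
        ← Category.assoc, ← Spec.map_comp, ← Spec.map_comp]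
      congr 2
      ext a
      show Ideal.Quotient.mk J ((π.stalkMap (s (cp k))).hom a) =
        Ideal.Quotient.mk J ((sw hY (s (cp k))).hom ((ev s).hom ((π.stalkMap (s (cp k))).hom a)))
      rw [Ideal.Quotient.eq]
      exact hJ a
    · rw [Category.assoc, Category.assoc, ← SpecMap_sw, ← Spec.map_comp, ← Spec.map_comp]
      congr 1
      show sw hY (s (cp k)) ≫ mk = sw hY (s (cp k)) ≫ (ev s ≫ sw hY (s (cp k))) ≫ mk
      rw [Category.assoc, ← Category.assoc (sw hY (s (cp k))), sw_ev hY s hs, Category.id_comp]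
  have key2 : mk = θ ≫ mk := Spec.map_injective ((cancel_mono _).mp key)
  have := congrArg (fun φ : R ⟶ CommRingCat.of (R ⧸ J) => φ.hom r) key2
  exact Ideal.Quotient.eq.mp this

end GEN

section Mult

variable {Y P X B₀ : Scheme.{u}} (hY : Y ⟶ Spec (CommRingCat.of k)) (π : Y ⟶ X) (f : X ⟶ B₀)
  (ι : Spec (CommRingCat.of k) ⟶ B₀)

theorem map_ker_le_maximalIdeal {Y P : Scheme.{u}} (jj : Y ⟶ P) (w : Y) (ξ : P) (hsp : ξ ⤳ jj w) :
    Ideal.map (jj.stalkMap w).hom (RingHom.ker (Cyc.specMap (jj w) ξ hsp)) ≤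
      IsLocalRing.maximalIdeal (Y.presheaf.stalk w) := by
  have hker : RingHom.ker (Cyc.specMap (jj w) ξ hsp) ≤ IsLocalRing.maximalIdeal _ :=
    IsLocalRing.le_maximalIdeal (RingHom.ker_ne_top _)
  exact (Ideal.map_mono hker).trans
    (((IsLocalRing.local_hom_TFAE (jj.stalkMap w).hom).out 0 2).mp
      (inferInstance : IsLocalHom (jj.stalkMap w).hom))

theorem frob_sub_mem (pp qq : P ⟶ Y) (jj dd : Y ⟶ P) (hjp : jj ≫ pp = 𝟙 Y)
    (hdp : dd ≫ pp = 𝟙 Y) (hdq : dd ≫ qq = 𝟙 Y)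
    (Φ : X ⟶ X) (hjq : jj ≫ qq ≫ π = π ≫ Φ) (hΦpt : ∀ x : X, Φ x = x) (N : ℕ)
    (hΦ : ∀ (y : Y) (W : X.Opens) (h : (π ≫ Φ) y ∈ W) (h' : π y ∈ W) (a : Γ(X, W)),
      pg (π ≫ Φ) y W h a = pg π y W h' a ^ N)
    (w η : Y) (hη : η ⤳ w) (hsp : dd η ⤳ jj w) (W : X.Opens) (hW : π w ∈ W) (a : Γ(X, W)) :
    pg π w W hW a - pg π w W hW a ^ N ∈
      Ideal.map (jj.stalkMap w).hom (RingHom.ker (Cyc.specMap (jj w) (dd η) hsp)) := by
  have e1 : (pp ≫ π) (jj w) = π w := by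
    rw [Scheme.Hom.comp_apply, ← Scheme.Hom.comp_apply jj pp, hjp]; rfl
  have e2 : (qq ≫ π) (jj w) = π w := by
    rw [← Scheme.Hom.comp_apply jj (qq ≫ π), hjq, Scheme.Hom.comp_apply, hΦpt]
  have h1 : (pp ≫ π) (jj w) ∈ W := by rw [e1]; exact hW
  have h2 : (qq ≫ π) (jj w) ∈ W := by rw [e2]; exact hW
  have hηW : π η ∈ W := (hη.map π.continuous).mem_open W.2 hW
  have e1' : (pp ≫ π) (dd η) = π η := by
    rw [Scheme.Hom.comp_apply, ← Scheme.Hom.comp_apply dd pp, hdp]; rfl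
  have e2' : (qq ≫ π) (dd η) = π η := by
    rw [Scheme.Hom.comp_apply, ← Scheme.Hom.comp_apply dd qq, hdq]; rfl
  have h1' : (pp ≫ π) (dd η) ∈ W := by rw [e1']; exact hηW
  have h2' : (qq ≫ π) (dd η) ∈ W := by rw [e2']; exact hηW
  have hEker : pg (pp ≫ π) (jj w) W h1 a - pg (qq ≫ π) (jj w) W h2 a ∈
      RingHom.ker (Cyc.specMap (jj w) (dd η) hsp) := by
    rw [RingHom.mem_ker]
    apply (dd.residueFieldMap η).hom.injective
    rw [map_zero]
    show (dd.residueFieldMap η).hom ((P.residue (dd η)).hom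
      ((P.presheaf.stalkSpecializes hsp).hom
        (pg (pp ≫ π) (jj w) W h1 a - pg (qq ≫ π) (jj w) W h2 a))) = 0
    rw [map_sub, stalkSpecializes_pg _ _ _ hsp W h1 h1' a, stalkSpecializes_pg _ _ _ hsp W h2 h2' a,
      map_sub, map_sub,
      residueFieldMap_residue_pg_of_eq dd (pp ≫ π) π
        (by rw [← Category.assoc, hdp, Category.id_comp]) η W h1' hηW a,
      residueFieldMap_residue_pg_of_eq dd (qq ≫ π) π
        (by rw [← Category.assoc, hdq, Category.id_comp]) η W h2' hηW a, sub_self]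
  have hmem := Ideal.mem_map_of_mem (jj.stalkMap w).hom hEker
  have hcomp : (jj.stalkMap w).hom (pg (pp ≫ π) (jj w) W h1 a - pg (qq ≫ π) (jj w) W h2 a) =
      pg π w W hW a - pg π w W hW a ^ N := by
    have hΦW : (π ≫ Φ) w ∈ W := by rw [Scheme.Hom.comp_apply, hΦpt]; exact hW
    rw [map_sub, stalkMap_pg_of_eq jj (pp ≫ π) π
        (by rw [← Category.assoc, hjp, Category.id_comp]) w W h1 hW a,
      stalkMap_pg_of_eq jj (qq ≫ π) (π ≫ Φ) hjq w W h2 hΦW a, hΦ w W hΦW hW a]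
  rw [hcomp] at hmem
  exact hmem

/-- char-`p` computation: from `u - u^N ∈ I` to `u - c ∈ I`. -/
theorem sub_const_mem {R : Type*} [CommRing R] [IsLocalRing R] (p n : ℕ) [Fact p.Prime] [CharP R p]
    (hn : 0 < n) (I : Ideal R) (u c : R) (hc : c ^ (p ^ n) = c)
    (hg : u - c ∈ IsLocalRing.maximalIdeal R) (hu : u - u ^ (p ^ n) ∈ I) : u - c ∈ I := by
  have hN : 1 < p ^ n := Nat.one_lt_pow hn.ne' (Fact.out : p.Prime).one_lt
  have h1 : u - u ^ (p ^ n) = (u - c) * (1 - (u - c) ^ (p ^ n - 1)) := by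
    have h2 : (u - c) ^ (p ^ n) = u ^ (p ^ n) - c := by rw [sub_pow_char_pow, hc]
    have h3 : (u - c) * (u - c) ^ (p ^ n - 1) = (u - c) ^ (p ^ n) := by
      rw [← pow_succ']; congr 1; omega
    rw [mul_sub, mul_one, h3, h2]; ring
  have hunit : IsUnit (1 - (u - c) ^ (p ^ n - 1)) := by
    apply IsLocalRing.isUnit_one_sub_self_of_mem_nonunits
    rw [← IsLocalRing.mem_maximalIdeal]
    exact Ideal.pow_mem_of_mem _ hg _ (by omega)
  rw [h1] at hu
  exact (Ideal.mul_unit_mem_iff_mem I hunit).mp hu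

theorem ideal_eq_maximal (hπ : IsPullback π hY f ι)
    (pp qq : P ⟶ Y) (jj dd : Y ⟶ P) (hjp : jj ≫ pp = 𝟙 Y)
    (hdp : dd ≫ pp = 𝟙 Y) (hdq : dd ≫ qq = 𝟙 Y)
    (Φ : X ⟶ X) (hjq : jj ≫ qq ≫ π = π ≫ Φ) (hΦpt : ∀ x : X, Φ x = x)
    (p n : ℕ) [Fact p.Prime] [CharP k p] (hn : 0 < n)
    (hΦ : ∀ (y : Y) (W : X.Opens) (h : (π ≫ Φ) y ∈ W) (h' : π y ∈ W) (a : Γ(X, W)),
      pg (π ≫ Φ) y W h a = pg π y W h' a ^ (p ^ n))
    (s : Spec (CommRingCat.of k) ⟶ Y) (hs : s ≫ hY = 𝟙 _) (η : Y) (hη : η ⤳ s (cp k))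
    (hsp : dd η ⤳ jj (s (cp k))) :
    Ideal.map (jj.stalkMap (s (cp k))).hom
        (RingHom.ker (Cyc.specMap (jj (s (cp k))) (dd η) hsp)) =
      IsLocalRing.maximalIdeal (Y.presheaf.stalk (s (cp k))) := by
  have hle := map_ker_le_maximalIdeal jj (s (cp k)) (dd η) hsp
  refine le_antisymm hle ?_
  have : CharP (Y.presheaf.stalk (s (cp k))) p :=
    charP_of_injective_ringHom (sw hY (s (cp k))).hom.injective p
  have hJ : ∀ a : X.presheaf.stalk (π (s (cp k))),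
      (π.stalkMap (s (cp k))).hom a -
        (sw hY (s (cp k))).hom ((ev s).hom ((π.stalkMap (s (cp k))).hom a)) ∈
      Ideal.map (jj.stalkMap (s (cp k))).hom
        (RingHom.ker (Cyc.specMap (jj (s (cp k))) (dd η) hsp)) := by
    intro a
    obtain ⟨W, hW, a', rfl⟩ := X.presheaf.exists_germ_eq a
    have hmem := frob_sub_mem π pp qq jj dd hjp hdp hdq Φ hjq hΦpt (p ^ n) hΦ (s (cp k)) η hη hsp
      W hW a'
    change pg π (s (cp k)) W hW a' -
        (sw hY (s (cp k))).hom ((ev s).hom (pg π (s (cp k)) W hW a')) ∈ _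
    have hev := ev_eq_zero_of_mem s _ (hle hmem)
    rw [map_sub, map_pow, sub_eq_zero] at hev
    apply sub_const_mem p n hn _ _ _ _ _ hmem
    · rw [← map_pow, ← hev]
    · apply mem_of_ev_eq_zero
      rw [map_sub, ev_sw_apply hY s hs, sub_self]
  intro r hr
  have h1 := gen hY π f ι hπ s hs _ hJ r
  rw [ev_eq_zero_of_mem s r hr, map_zero, sub_zero] at h1
  exact h1

/-- multiplicity one -/
theorem preimMult_eq_one_of_ideal_eq {Y P : Scheme.{u}} (jj : Y ⟶ P) (w : Y) (ξ : P)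
    (hsp : ξ ⤳ jj w)
    (h : Ideal.map (jj.stalkMap w).hom (RingHom.ker (Cyc.specMap (jj w) ξ hsp)) =
      IsLocalRing.maximalIdeal (Y.presheaf.stalk w)) :
    (Module.length (Y.presheaf.stalk w)
      (Y.presheaf.stalk w ⧸ Ideal.map (jj.stalkMap w).hom
        (RingHom.ker (Cyc.specMap (jj w) ξ hsp)))).toNat = 1 := by
  rw [h]
  have : IsSimpleModule (Y.presheaf.stalk w)
      (Y.presheaf.stalk w ⧸ IsLocalRing.maximalIdeal (Y.presheaf.stalk w)) :=
    isSimpleModule_iff_isCoatom.mpr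
      (Ideal.isMaximal_def.mp (IsLocalRing.maximalIdeal.isMaximal _))
  rw [Module.length_eq_one_iff.mpr this]
  rfl

end Mult

end Groth.Agent.Lib.Helper79.Zeta
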