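import Mathlib
import Groth.Prelude.Def_WeilCoh
import Groth.Agent.Lib.Helper79.ZetaFix
import Groth.Agent.Lib.Helper79.ZetaMult

/-!
# The graph of a power of Frobenius meets the diagonal transversally (helper79)
-/

namespace Groth.Agent.Lib.Helper79.Weil

open AlgebraicGeometry CategoryTheory WeilCoh Groth.Agent.Lib.Helper79.Zeta

universe u v w

/-- iterates of an endomorphism of a scheme -/
noncomputable def Fiter {X : Scheme.{u}} (FX : X ⟶ X) : ℕ → (X ⟶ X)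
  | 0 => 𝟙 X
  | m + 1 => FX ≫ Fiter FX m

theorem apply_eq_of_base {X : Scheme.{u}} (FX : X ⟶ X) (hFb : FX.base = 𝟙 _) (x : X) : FX x = x := by
  show FX.base x = x
  rw [hFb]; rfl

theorem Fiter_apply {X : Scheme.{u}} (FX : X ⟶ X) (hFb : FX.base = 𝟙 _) (m : ℕ) (x : X) :
    Fiter FX m x = x := by
  induction m with
  | zero => rfl
  | succ m ih =>
    show (FX ≫ Fiter FX m) x = x
    rw [Scheme.Hom.comp_apply, apply_eq_of_base FX hFb, ih]

theorem pg_comp_Fiter {Y X : Scheme.{u}} (FX : X ⟶ X) (hFb : FX.base = 𝟙 _) (q : ℕ)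
    (hle : ∀ U : X.Opens, U ≤ FX ⁻¹ᵁ U)
    (hFapp : ∀ (U : X.Opens) (s : Γ(X, U)), (FX.appLE U U (hle U)).hom s = s ^ q) (m : ℕ)
    (g : Y ⟶ X) (y : Y) (W : X.Opens) (h : (g ≫ Fiter FX m) y ∈ W) (h' : g y ∈ W) (a : Γ(X, W)) :
    pg (g ≫ Fiter FX m) y W h a = pg g y W h' a ^ (q ^ m) := by
  induction m generalizing g with
  | zero =>
    rw [pow_zero, pow_one]
    exact pg_congr' (Category.comp_id g) y W h h' a
  | succ m ih =>
    have h1 : (g ≫ FX) y ∈ W := by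
      rw [Scheme.Hom.comp_apply, apply_eq_of_base FX hFb]; exact h'
    have h2 : ((g ≫ FX) ≫ Fiter FX m) y ∈ W := by
      rw [Scheme.Hom.comp_apply, Fiter_apply FX hFb]; exact h1
    have e : g ≫ Fiter FX (m + 1) = (g ≫ FX) ≫ Fiter FX m := (Category.assoc _ _ _).symm
    rw [pg_congr' e y W h h2 a, ih (g ≫ FX) h2 h1, pg_comp_frob FX q hle hFapp g y W h1 h' a,
      ← pow_mul, ← pow_succ']

variable {k : Type u} [Field k]

theorem sm_Fpow_comp {X : Scheme.{u}} (FX : X ⟶ X) {Xb : Var k} (π : Xb.obj.left ⟶ X)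
    (F : Xb ⟶ Xb) (hF : sm F ≫ π = π ≫ FX) (m : ℕ) :
    sm (Fpow F m) ≫ π = π ≫ Fiter FX m := by
  induction m with
  | zero =>
    show sm (𝟙 Xb) ≫ π = π ≫ 𝟙 X
    rw [Category.comp_id]
    exact Category.id_comp π
  | succ m ih =>
    show (sm F ≫ sm (Fpow F m)) ≫ π = π ≫ FX ≫ Fiter FX m
    rw [Category.assoc, ih, ← Category.assoc, hF, Category.assoc]

theorem exists_char_pow (k₀ : Type u) [Field k₀] [Finite k₀] :
    ∃ p r : ℕ, p.Prime ∧ CharP k₀ p ∧ 0 < r ∧ Nat.card k₀ = p ^ r := by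
  obtain ⟨p, hp⟩ := CharP.exists k₀
  have := Fintype.ofFinite k₀
  obtain ⟨n, hpr, hn⟩ := FiniteField.card k₀ p
  exact ⟨p, n, hpr, hp, n.pos, by rw [Nat.card_eq_fintype_card, hn]⟩

variable [IsAlgClosed k]

/-- Multiplicity one of the intersection of the graph of `Frob^m` with the diagonal. -/
theorem preimMult_frob (k₀ : Type u) [Field k₀] [Finite k₀] [Algebra k₀ k]
    {X : Scheme.{u}} (f : X ⟶ Spec (CommRingCat.of k₀))
    (FX : X ⟶ X) (hFb : FX.base = 𝟙 _) (hle : ∀ U : X.Opens, U ≤ FX ⁻¹ᵁ U)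
    (hFapp : ∀ (U : X.Opens) (s : Γ(X, U)), (FX.appLE U U (hle U)).hom s = s ^ Nat.card k₀)
    (Xb : Var k) (π : Xb.obj.left ⟶ X)
    (hπ : IsPullback π Xb.obj.hom f (Spec.map (CommRingCat.ofHom (algebraMap k₀ k))))
    (F : Xb ⟶ Xb) (hF : sm F ≫ π = π ≫ FX)
    {Pb : Var k} (p q : Pb ⟶ Xb) (m : ℕ) (hm : 1 ≤ m) (j d : Xb ⟶ Pb)
    (hjp : j ≫ p = 𝟙 Xb) (hjq : j ≫ q = Fpow F m) (hdp : d ≫ p = 𝟙 Xb) (hdq : d ≫ q = 𝟙 Xb)
    (w : Xb.obj.left) (hw : IsClosed ({w} : Set Xb.obj.left))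
    (h : sm j w ∈ closure ({sm d (genericPoint ↥Xb.obj.left)} : Set Pb.obj.left)) :
    preimMult (sm j) (sm d (genericPoint ↥Xb.obj.left)) w h = 1 := by
  obtain ⟨p₀, r, hp₀, hchar, hr, hcard⟩ := exists_char_pow k₀
  have : Fact p₀.Prime := ⟨hp₀⟩
  have : CharP k p₀ := charP_of_injective_algebraMap (algebraMap k₀ k).injective p₀
  obtain ⟨s, hs, rfl⟩ : ∃ s : Spec (CommRingCat.of k) ⟶ Xb.obj.left,
      s ≫ Xb.obj.hom = 𝟙 _ ∧ s (cp k) = w :=
    ⟨pointOfClosedPoint _ w hw, pointOfClosedPoint_comp _ _ _, pointOfClosedPoint_apply _ _ _ _⟩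
  unfold preimMult
  apply preimMult_eq_one_of_ideal_eq
  have hjq' : sm j ≫ sm q ≫ π = π ≫ Fiter FX m := by
    rw [← Category.assoc, ← sm_comp, hjq, sm_Fpow_comp FX π F hF m]
  refine ideal_eq_maximal Xb.obj.hom π f _ hπ (sm p) (sm q) (sm j) (sm d) (sm_section j p hjp)
    (sm_section d p hdp) (sm_section d q hdq) (Fiter FX m) hjq' (Fiter_apply FX hFb m) p₀ (r * m)
    (Nat.mul_pos hr hm) ?_ s hs _ (genericPoint_specializes _) _
  intro y W h1 h2 a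
  rw [pg_comp_Fiter FX hFb (Nat.card k₀) hle hFapp m π y W h1 h2 a, hcard, ← pow_mul]

end Groth.Agent.Lib.Helper79.Weil
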