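import Mathlib
import Groth.Agent.Lib.Helper70.GeomPts
import Groth.Agent.Lib.Helper79.ZetaGerm

/-!
# Geometric points fixed by a Frobenius (helper79)
-/

namespace Groth.Agent.Lib.Helper79.Zeta

open AlgebraicGeometry CategoryTheory

universe u

section F1

variable {X : Scheme.{u}} (Φ : X ⟶ X) (hΦpt : ∀ x : X, Φ x = x) (N : ℕ)
  (hΦ : ∀ (x : X) (W : X.Opens) (h : (𝟙 X ≫ Φ) x ∈ W) (h' : (𝟙 X : X ⟶ X) x ∈ W) (a : Γ(X, W)),
      pg (𝟙 X ≫ Φ) x W h a = pg (𝟙 X) x W h' a ^ N)

theorem pg_id (x : X) (W : X.Opens) (h : (𝟙 X : X ⟶ X) x ∈ W) (a : Γ(X, W)) :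
    pg (𝟙 X) x W h a = X.presheaf.germ W x h a := by
  unfold pg
  rw [Scheme.Hom.stalkMap_id]
  rfl

include hΦ in
/-- The residue field map of a Frobenius is the `N`-th power map. -/
theorem residueFieldMap_frob (x : X) (z' : X.residueField (Φ x)) :
    (Φ.residueFieldMap x).hom z' = ((X.residueFieldCongr (hΦpt x)).hom.hom z') ^ N := by
  obtain ⟨t, rfl⟩ := X.residue_surjective (Φ x) z'
  obtain ⟨W, hW, a, rfl⟩ := X.presheaf.exists_germ_eq t
  have hW' : x ∈ W := by rw [← hΦpt x]; exact hW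
  have h1 : (Φ.residueFieldMap x).hom ((X.residue (Φ x)).hom (X.presheaf.germ W (Φ x) hW a)) =
      (X.residue x).hom (pg Φ x W hW a) :=
    congrArg (fun φ => φ.hom (X.presheaf.germ W (Φ x) hW a)) (Scheme.residue_residueFieldMap Φ x)
  have h2 : pg Φ x W hW a = X.presheaf.germ W x hW' a ^ N := by
    rw [pg_congr' (Category.id_comp Φ).symm x W hW hW a, hΦ x W hW hW' a]
    exact congrArg (· ^ N) (pg_id x W hW' a)
  have h3 : (X.residueFieldCongr (hΦpt x)).hom.hom
      ((X.residue (Φ x)).hom (X.presheaf.germ W (Φ x) hW a)) =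
      (X.residue x).hom (X.presheaf.germ W x hW' a) := by
    have := congrArg (fun φ => φ.hom (X.presheaf.germ W (Φ x) hW a))
      (Scheme.residue_residueFieldCongr X (hΦpt x))
    refine this.trans ?_
    show (X.residue x).hom ((X.presheaf.stalkCongr _).hom.hom (X.presheaf.germ W (Φ x) hW a)) = _
    congr 1
    rw [TopCat.Presheaf.stalkCongr_hom]
    exact TopCat.Presheaf.germ_stalkSpecializes_apply _ _ _ _
  rw [h1, h2, h3, map_pow]

include hΦ hΦpt in
/-- A geometric point is fixed by the Frobenius iff its residue field is fixed by `z ↦ z^N`. -/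
theorem comp_frob_eq_iff {k : Type u} [Field k] (y : Spec (CommRingCat.of k) ⟶ X) :
    y ≫ Φ = y ↔ ∀ z : X.residueField (Scheme.SpecToEquivOfField k X y).1, z ^ N = z := by
  rw [← (Scheme.SpecToEquivOfField k X).apply_eq_iff_eq,
    Groth.Agent.Lib.Helper70.GeomPts.specToEquivOfField_comp, Scheme.SpecToEquivOfField_eq_iff]
  constructor
  · rintro ⟨e, h⟩ z
    have h' := congrArg (fun φ => φ.hom ((X.residueFieldCongr e).inv.hom z)) h
    have h1 : (X.residueFieldCongr e).hom.hom ((X.residueFieldCongr e).inv.hom z) = z :=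
      congrArg (fun φ => φ.hom z) (X.residueFieldCongr e).inv_hom_id
    simp only [CommRingCat.hom_comp, RingHom.comp_apply] at h'
    rw [residueFieldMap_frob Φ hΦpt N hΦ, h1] at h'
    exact (Scheme.SpecToEquivOfField k X y).2.hom.injective h'
  · intro hz
    refine ⟨hΦpt _, ?_⟩
    ext z'
    simp only [CommRingCat.hom_comp, RingHom.comp_apply]
    rw [residueFieldMap_frob Φ hΦpt N hΦ, hz]

end F1

end Groth.Agent.Lib.Helper79.Zeta
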