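import Mathlib
import Groth.Prelude.Def_ResDeg
import Groth.Agent.Lib.Helper70.GeomPts

/-!
# Residue fields of a scheme of finite type over a finite field (helper79)
-/

namespace Groth.Agent.Lib.Helper79.Zeta

open AlgebraicGeometry CategoryTheory

universe u

section R0

variable (k₀ : Type u) [Field k₀]

/-- the canonical map `k₀ → κ(y₀)` for a point of `Spec k₀` -/
noncomputable def theta (y₀ : ↥(Spec (CommRingCat.of k₀))) :
    k₀ →+* (Spec (CommRingCat.of k₀)).residueField y₀ :=
  ((Scheme.ΓSpecIso (CommRingCat.of k₀)).inv ≫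
    (Spec (CommRingCat.of k₀)).presheaf.germ ⊤ y₀ trivial ≫
      (Spec (CommRingCat.of k₀)).residue y₀).hom

theorem theta_bijective (y₀ : ↥(Spec (CommRingCat.of k₀))) : Function.Bijective (theta k₀ y₀) := by
  refine ⟨(theta k₀ y₀).injective, ?_⟩
  have hprime : y₀.asIdeal.IsPrime := PrimeSpectrum.isPrime y₀
  have hmax : y₀.asIdeal.IsMaximal := by
    rw [Ideal.eq_bot_of_prime y₀.asIdeal]; exact Ideal.bot_isMaximal
  have h1 := Scheme.Spec.algebraMap_residueFieldIso_inv (CommRingCat.of k₀) y₀
  have h2 : Function.Surjective (algebraMap k₀ y₀.asIdeal.ResidueField) :=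
    Ideal.algebraMap_residueField_surjective y₀.asIdeal
  have h3 : Function.Bijective (Scheme.Spec.residueFieldIso (CommRingCat.of k₀) y₀).inv.hom :=
    (ConcreteCategory.isIso_iff_bijective _).mp inferInstance
  intro z
  obtain ⟨c, hc⟩ := h3.2 z
  obtain ⟨b, hb⟩ := h2 c
  refine ⟨b, ?_⟩
  have := congrArg (fun φ => φ.hom b) h1
  simp only [CommRingCat.hom_comp, RingHom.comp_apply, CommRingCat.hom_ofHom] at this
  rw [hb, hc] at this
  exact this.symm

theorem finite_residueField_base [Finite k₀] (y₀ : ↥(Spec (CommRingCat.of k₀))) :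
    Finite ((Spec (CommRingCat.of k₀)).residueField y₀) :=
  Finite.of_equiv _ (Equiv.ofBijective _ (theta_bijective k₀ y₀))

theorem card_residueField_base (y₀ : ↥(Spec (CommRingCat.of k₀))) :
    Nat.card ((Spec (CommRingCat.of k₀)).residueField y₀) = Nat.card k₀ :=
  (Nat.card_congr (Equiv.ofBijective _ (theta_bijective k₀ y₀))).symm

end R0

section R1

variable (K : Type*) [Field K] [Finite K] (L : Type*) [Field L] [Algebra K L]

theorem finite_of_forall_pow_eq (m : ℕ) (hm : 1 ≤ m) (h : ∀ z : L, z ^ (Nat.card K ^ m) = z) :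
    Finite L := by
  have hq : 1 < Nat.card K := Finite.one_lt_card
  have hne := FiniteField.X_pow_card_pow_sub_X_ne_zero L (n := m) (by omega) hq
  have hfin := Polynomial.rootSet_finite (Polynomial.X ^ Nat.card K ^ m - Polynomial.X : Polynomial L) L
  have : (Set.univ : Set L) ⊆
      (Polynomial.X ^ Nat.card K ^ m - Polynomial.X : Polynomial L).rootSet L := by
    intro z _
    rw [Polynomial.mem_rootSet]
    refine ⟨hne, ?_⟩
    simp [h z]
  exact Set.finite_univ_iff.mp (hfin.subset this)

theorem forall_pow_eq_iff [Finite L] (m : ℕ) :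
    (∀ z : L, z ^ (Nat.card K ^ m) = z) ↔ Module.finrank K L ∣ m := by
  have := Fintype.ofFinite K
  rw [← FiniteField.orderOf_frobeniusAlgHom K L, orderOf_dvd_iff_pow_eq_one, DFunLike.ext_iff]
  simp_rw [AlgHom.coe_pow, FiniteField.coe_frobeniusAlgHom, pow_iterate, AlgHom.one_apply,
    Nat.card_eq_fintype_card]

end R1

section R2

variable {k₀ : Type u} [Field k₀]

theorem isClosed_singleton_base (y : Spec (CommRingCat.of k₀)) :
    IsClosed ({y} : Set (Spec (CommRingCat.of k₀))) := isClosed_discrete _

theorem isClosed_of_residueFieldMap_finite {X : Scheme.{u}}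
    (f : X ⟶ Spec (CommRingCat.of k₀)) [LocallyOfFiniteType f] (x : X)
    (h : (f.residueFieldMap x).hom.Finite) : IsClosed ({x} : Set X) := by
  have : JacobsonSpace ↥X := LocallyOfFiniteType.jacobsonSpace f
  rw [isClosed_singleton_iff_locallyOfFiniteType]
  have h2 := Scheme.Hom.SpecMap_residueFieldMap_fromSpecResidueField f x
  have h3 : LocallyOfFiniteType (Spec.map (f.residueFieldMap x)) :=
    (HasRingHomProperty.Spec_iff (P := @LocallyOfFiniteType)).mpr h.finiteType
  have h4 : IsClosedImmersion ((Spec (CommRingCat.of k₀)).fromSpecResidueField (f x)) :=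
    isClosed_singleton_iff_isClosedImmersion.mp (isClosed_singleton_base (f x))
  have h5 : LocallyOfFiniteType (X.fromSpecResidueField x ≫ f) := by
    rw [← h2]; infer_instance
  exact locallyOfFiniteType_of_comp (X.fromSpecResidueField x) f

end R2

section R3

variable {k₀ : Type u} [Field k₀] [Finite k₀] (k : Type u) [Field k] [IsAlgClosed k]

/-- The number of embeddings of a finite residue field into `k` over the base is the residue
degree. -/
theorem card_embeddings {X : Scheme.{u}} (f : X ⟶ Spec (CommRingCat.of k₀)) (x : X)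
    [Finite (X.residueField x)]
    (J : (Spec (CommRingCat.of k₀)).residueField (f x) ⟶ CommRingCat.of k) :
    Nat.card {σ : X.residueField x ⟶ CommRingCat.of k // f.residueFieldMap x ≫ σ = J} =
      EGA4loc.residueDegree f x := by
  rw [Nat.card_congr (Groth.Agent.Lib.Helper70.GeomPts.homSubtypeEquiv k (f.residueFieldMap x) J)]
  letI := (f.residueFieldMap x).hom.toAlgebra
  have hfin : Finite ((Spec (CommRingCat.of k₀)).residueField (f x)) :=
    finite_residueField_base k₀ (f x)
  have hmf : Module.Finite ((Spec (CommRingCat.of k₀)).residueField (f x)) (X.residueField x) :=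
    Module.Finite.of_finite
  have halg : Algebra.IsAlgebraic ((Spec (CommRingCat.of k₀)).residueField (f x))
      (X.residueField x) := Algebra.IsAlgebraic.of_finite _ _
  rw [Groth.Agent.Lib.Helper70.GeomPts.card_ringHom_eq_finSepDegree k (f.residueFieldMap x).hom J.hom
    halg]
  have : Algebra.IsSeparable ((Spec (CommRingCat.of k₀)).residueField (f x)) (X.residueField x) :=
    Algebra.IsAlgebraic.isSeparable_of_perfectField
  exact Field.finSepDegree_eq_finrank_of_isSeparable _ _

theorem nonempty_embeddings {X : Scheme.{u}} (f : X ⟶ Spec (CommRingCat.of k₀)) (x : X)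
    [Finite (X.residueField x)]
    (J : (Spec (CommRingCat.of k₀)).residueField (f x) ⟶ CommRingCat.of k) :
    Nonempty {σ : X.residueField x ⟶ CommRingCat.of k // f.residueFieldMap x ≫ σ = J} := by
  letI := (f.residueFieldMap x).hom.toAlgebra
  have halg : Algebra.IsAlgebraic ((Spec (CommRingCat.of k₀)).residueField (f x))
      (X.residueField x) := Algebra.IsAlgebraic.of_finite _ _
  obtain ⟨σ⟩ := Groth.Agent.Lib.Helper70.GeomPts.nonempty_ringHom k (f.residueFieldMap x).hom J.hom halg
  exact ⟨(Groth.Agent.Lib.Helper70.GeomPts.homSubtypeEquiv k (f.residueFieldMap x) J).symm σ⟩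

theorem finite_embeddings {X : Scheme.{u}} (f : X ⟶ Spec (CommRingCat.of k₀)) (x : X)
    [Finite (X.residueField x)]
    (J : (Spec (CommRingCat.of k₀)).residueField (f x) ⟶ CommRingCat.of k) :
    Finite {σ : X.residueField x ⟶ CommRingCat.of k // f.residueFieldMap x ≫ σ = J} := by
  letI := (f.residueFieldMap x).hom.toAlgebra
  have hmf : Module.Finite ((Spec (CommRingCat.of k₀)).residueField (f x)) (X.residueField x) :=
    Module.Finite.of_finite
  have := Groth.Agent.Lib.Helper70.GeomPts.finite_ringHom k (f.residueFieldMap x).hom J.hom hmf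
  exact Finite.of_equiv _ (Groth.Agent.Lib.Helper70.GeomPts.homSubtypeEquiv k (f.residueFieldMap x) J).symm

end R3

end Groth.Agent.Lib.Helper79.Zeta
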