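import Mathlib

/-!
# Finiteness of the set of points with Frobenius-fixed residue field (helper79)
-/

namespace Groth.Agent.Lib.Helper79.Zeta

open AlgebraicGeometry CategoryTheory

universe u

variable {k₀ : Type u} [Field k₀] [Finite k₀]

theorem mem_primeIdealOf_iff {X : Scheme.{u}} {U : X.Opens} (hU : IsAffineOpen U) (x : X)
    (hx : x ∈ U) (a : Γ(X, U)) :
    a ∈ (hU.primeIdealOf ⟨x, hx⟩).asIdeal ↔
      (X.residue x).hom (X.presheaf.germ U x hx a) = 0 := by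
  rw [hU.primeIdealOf_eq_map_closedPoint ⟨x, hx⟩]
  show (X.presheaf.germ U x hx).hom a ∈ IsLocalRing.maximalIdeal _ ↔ _
  rw [← IsLocalRing.residue_eq_zero_iff]
  rfl

theorem finite_frob_fixed_affine {X : Scheme.{u}} (f : X ⟶ Spec (CommRingCat.of k₀))
    [LocallyOfFiniteType f] (U : X.Opens) (hU : IsAffineOpen U) (N : ℕ) (hN : 2 ≤ N) :
    {x : X | x ∈ U ∧ ∀ z : X.residueField x, z ^ N = z}.Finite := by
  have e : U ≤ f ⁻¹ᵁ ⊤ := fun x _ => trivial
  have hft : (f.appLE ⊤ U e).hom.FiniteType :=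
    (HasRingHomProperty.iff_appLE (P := @LocallyOfFiniteType)).mp inferInstance
      ⟨⊤, isAffineOpen_top _⟩ ⟨U, hU⟩ e
  letI := (f.appLE ⊤ U e).hom.toAlgebra
  have hft' : Algebra.FiniteType Γ(Spec (CommRingCat.of k₀), ⊤) Γ(X, U) := hft
  have hfinR : Finite Γ(Spec (CommRingCat.of k₀), ⊤) :=
    Finite.of_equiv k₀
      (Scheme.ΓSpecIso (CommRingCat.of k₀)).commRingCatIsoToRingEquiv.symm.toEquiv
  let I : Ideal Γ(X, U) := Ideal.span (Set.range fun a : Γ(X, U) => a ^ N - a)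
  have hint : Algebra.IsIntegral Γ(Spec (CommRingCat.of k₀), ⊤) (Γ(X, U) ⧸ I) := by
    constructor
    intro b
    obtain ⟨a, rfl⟩ := Ideal.Quotient.mk_surjective b
    have : Nontrivial Γ(Spec (CommRingCat.of k₀), ⊤) :=
      (Scheme.ΓSpecIso (CommRingCat.of k₀)).commRingCatIsoToRingEquiv.symm.injective.nontrivial
    refine ⟨Polynomial.X ^ N - Polynomial.X, Polynomial.monic_X_pow_sub ?_, ?_⟩
    · rw [Polynomial.degree_X]; exact_mod_cast hN
    · rw [Polynomial.eval₂_sub, Polynomial.eval₂_pow, Polynomial.eval₂_X, ← map_pow, ← map_sub,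
        Ideal.Quotient.eq_zero_iff_mem]
      exact Ideal.subset_span ⟨a, rfl⟩
  have hft'' : Algebra.FiniteType Γ(Spec (CommRingCat.of k₀), ⊤) (Γ(X, U) ⧸ I) :=
    Algebra.FiniteType.of_surjective (Ideal.Quotient.mkₐ _ I) Ideal.Quotient.mk_surjective
  have hmf : Module.Finite Γ(Spec (CommRingCat.of k₀), ⊤) (Γ(X, U) ⧸ I) := Algebra.IsIntegral.finite
  have hfinQ : Finite (Γ(X, U) ⧸ I) := Module.finite_of_finite Γ(Spec (CommRingCat.of k₀), ⊤)
  have hfinI : Finite (Ideal (Γ(X, U) ⧸ I)) :=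
    Finite.of_injective (fun J : Ideal (Γ(X, U) ⧸ I) => (J : Set (Γ(X, U) ⧸ I)))
      SetLike.coe_injective
  rw [← Set.finite_coe_iff]
  let g : {x : X | x ∈ U ∧ ∀ z : X.residueField x, z ^ N = z} → Ideal (Γ(X, U) ⧸ I) :=
    fun x => Ideal.map (Ideal.Quotient.mk I) (hU.primeIdealOf ⟨x.1, x.2.1⟩).asIdeal
  refine Finite.of_injective g ?_
  have hI : ∀ x : {x : X | x ∈ U ∧ ∀ z : X.residueField x, z ^ N = z},
      I ≤ (hU.primeIdealOf ⟨x.1, x.2.1⟩).asIdeal := by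
    intro x
    rw [Ideal.span_le]
    rintro _ ⟨a, rfl⟩
    show a ^ N - a ∈ (hU.primeIdealOf ⟨x.1, x.2.1⟩).asIdeal
    rw [mem_primeIdealOf_iff, map_sub, map_pow, map_sub, map_pow, x.2.2, sub_self]
  have hcomap : ∀ x : {x : X | x ∈ U ∧ ∀ z : X.residueField x, z ^ N = z},
      Ideal.comap (Ideal.Quotient.mk I) (g x) = (hU.primeIdealOf ⟨x.1, x.2.1⟩).asIdeal := by
    intro x
    rw [Ideal.comap_map_of_surjective _ Ideal.Quotient.mk_surjective, ← RingHom.ker_eq_comap_bot,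
      Ideal.mk_ker, sup_eq_left]
    exact hI x
  intro x x' hxx'
  have h1 : (hU.primeIdealOf ⟨x.1, x.2.1⟩).asIdeal = (hU.primeIdealOf ⟨x'.1, x'.2.1⟩).asIdeal := by
    rw [← hcomap x, ← hcomap x', hxx']
  have h2 : hU.primeIdealOf ⟨x.1, x.2.1⟩ = hU.primeIdealOf ⟨x'.1, x'.2.1⟩ := PrimeSpectrum.ext h1
  have h3 := hU.fromSpec_primeIdealOf ⟨x.1, x.2.1⟩
  have h4 := hU.fromSpec_primeIdealOf ⟨x'.1, x'.2.1⟩
  rw [h2] at h3
  exact Subtype.ext (h3.symm.trans h4)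

theorem finite_frob_fixed {X : Scheme.{u}} (f : X ⟶ Spec (CommRingCat.of k₀))
    [LocallyOfFiniteType f] [QuasiCompact f] (N : ℕ) (hN : 2 ≤ N) :
    {x : X | ∀ z : X.residueField x, z ^ N = z}.Finite := by
  have : CompactSpace X := QuasiCompact.compactSpace_of_compactSpace f
  have hex : ∀ x : X, ∃ U : X.Opens, IsAffineOpen U ∧ x ∈ U := by
    intro x
    obtain ⟨_, ⟨U, hU, rfl⟩, hxU, -⟩ :=
      X.isBasis_affineOpens.exists_subset_of_mem_open (Set.mem_univ x) isOpen_univ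
    exact ⟨U, hU, hxU⟩
  choose U hU hxU using hex
  obtain ⟨t, -, ht⟩ := isCompact_univ.elim_nhds_subcover (fun x => ((U x : X.Opens) : Set X))
    (fun x _ => (U x).2.mem_nhds (hxU x))
  have : {x : X | ∀ z : X.residueField x, z ^ N = z} ⊆
      ⋃ y ∈ t, {x : X | x ∈ U y ∧ ∀ z : X.residueField x, z ^ N = z} := by
    intro x hx
    have := ht (Set.mem_univ x)
    simp only [Set.mem_iUnion] at this ⊢
    obtain ⟨y, hy, hxy⟩ := this
    exact ⟨y, hy, hxy, hx⟩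
  refine Set.Finite.subset ?_ this
  exact t.finite_toSet.biUnion (fun y _ => finite_frob_fixed_affine f (U y) (hU y) N hN)

end Groth.Agent.Lib.Helper79.Zeta
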