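import Mathlib
import Groth.Prelude.Def_ResDeg
import Groth.Prelude.Def_W4c1zetahwZeta
import Groth.Agent.Lib.Helper70.GeomPts
import Groth.Agent.Lib.Helper79.ZetaPts1
import Groth.Agent.Lib.Helper79.ZetaPts2
import Groth.Agent.Lib.Helper79.ZetaPts3

/-!
# Counting the geometric points fixed by a power of Frobenius (helper79)
-/

namespace Groth.Agent.Lib.Helper79.Zeta

open AlgebraicGeometry CategoryTheory IsLocalRing Groth.Agent.Lib.Helper70.GeomPts

universe u

variable {k₀ : Type u} [Field k₀] [Finite k₀]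

/-- Residue field fixed by `z ↦ z^(q^m)` iff closed point of degree dividing `m`. -/
theorem frobFixed_iff {X : Scheme.{u}} (f : X ⟶ Spec (CommRingCat.of k₀)) [LocallyOfFiniteType f]
    (x : X) (m : ℕ) (hm : 1 ≤ m) :
    (∀ z : X.residueField x, z ^ (Nat.card k₀ ^ m) = z) ↔
      (IsClosed ({x} : Set X) ∧ EGA4loc.residueDegree f x ∈ m.divisors) := by
  letI := (f.residueFieldMap x).hom.toAlgebra
  have hfinK : Finite ((Spec (CommRingCat.of k₀)).residueField (f x)) :=
    finite_residueField_base k₀ (f x)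
  have hcard := card_residueField_base k₀ (f x)
  constructor
  · intro h
    have hfinL : Finite (X.residueField x) :=
      finite_of_forall_pow_eq ((Spec (CommRingCat.of k₀)).residueField (f x)) _ m hm
        (by rw [hcard]; exact h)
    have hmf : Module.Finite ((Spec (CommRingCat.of k₀)).residueField (f x)) (X.residueField x) :=
      Module.Finite.of_finite
    refine ⟨isClosed_of_residueFieldMap_finite f x hmf, ?_⟩
    rw [Nat.mem_divisors]
    refine ⟨?_, by omega⟩
    have := (forall_pow_eq_iff ((Spec (CommRingCat.of k₀)).residueField (f x))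
      (X.residueField x) m).mp (by rw [hcard]; exact h)
    exact this
  · rintro ⟨-, hdiv⟩
    rw [Nat.mem_divisors] at hdiv
    have hne : EGA4loc.residueDegree f x ≠ 0 := by
      intro h0; rw [h0, zero_dvd_iff] at hdiv; exact hdiv.2 hdiv.1
    have hmf : Module.Finite ((Spec (CommRingCat.of k₀)).residueField (f x)) (X.residueField x) :=
      Module.finite_of_finrank_pos (Nat.pos_of_ne_zero hne)
    have hfinL : Finite (X.residueField x) :=
      Module.finite_of_finite ((Spec (CommRingCat.of k₀)).residueField (f x))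
    have := (forall_pow_eq_iff ((Spec (CommRingCat.of k₀)).residueField (f x))
      (X.residueField x) m).mpr hdiv.1
    rw [hcard] at this
    exact this

theorem finite_residueField_of_frobFixed {X : Scheme.{u}} (f : X ⟶ Spec (CommRingCat.of k₀))
    (x : X) (m : ℕ) (hm : 1 ≤ m) (h : ∀ z : X.residueField x, z ^ (Nat.card k₀ ^ m) = z) :
    Finite (X.residueField x) := by
  letI := (f.residueFieldMap x).hom.toAlgebra
  have hfinK : Finite ((Spec (CommRingCat.of k₀)).residueField (f x)) :=
    finite_residueField_base k₀ (f x)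
  have hcard := card_residueField_base k₀ (f x)
  exact finite_of_forall_pow_eq ((Spec (CommRingCat.of k₀)).residueField (f x)) _ m hm
    (by rw [hcard]; exact h)

theorem subsingleton_spec_field (K : Type u) [Field K] : Subsingleton ↥(Spec (CommRingCat.of K)) :=
  inferInstanceAs (Subsingleton (PrimeSpectrum K))

section Count

variable (k : Type u) [Field k] [IsAlgClosed k] [Algebra k₀ k]
variable {X : Scheme.{u}} (f : X ⟶ Spec (CommRingCat.of k₀)) [LocallyOfFiniteType f] [QuasiCompact f]
  (Φ : X ⟶ X) (hΦpt : ∀ x : X, Φ x = x) (m : ℕ) (hm : 1 ≤ m)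
  (hΦ : ∀ (x : X) (W : X.Opens) (h : (𝟙 X ≫ Φ) x ∈ W) (h' : (𝟙 X : X ⟶ X) x ∈ W) (a : Γ(X, W)),
      pg (𝟙 X ≫ Φ) x W h a = pg (𝟙 X) x W h' a ^ (Nat.card k₀ ^ m))

/-- the base geometric point -/
noncomputable abbrev vb (k₀ : Type u) [Field k₀] (k : Type u) [Field k] [Algebra k₀ k] :
    Spec (CommRingCat.of k) ⟶ Spec (CommRingCat.of k₀) :=
  Spec.map (CommRingCat.ofHom (algebraMap k₀ k))

/-- fixed geometric points -/
abbrev FixPts : Type u := {y : Spec (CommRingCat.of k) ⟶ X // y ≫ f = vb k₀ k ∧ y ≫ Φ = y}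

include hΦpt hΦ hm in
theorem card_fixPts : Finite (FixPts k f Φ) ∧ Nat.card (FixPts k f Φ) = Zeta.nPts f m := by
  classical
  let P : X → Prop := fun x => ∀ z : X.residueField x, z ^ (Nat.card k₀ ^ m) = z
  let U' := {u : X // f u = (vb k₀ k) (closedPoint k)}
  let H : U' → Type u := fun u =>
    {σ : X.residueField u.1 ⟶ CommRingCat.of k // f.residueFieldMap u.1 ≫ σ = jAt k f (vb k₀ k) u}
  let E : GPts k f (vb k₀ k) ≃ Σ u : U', H u := gptsEquiv k f (vb k₀ k)
  let e1 : FixPts k f Φ ≃ {t : GPts k f (vb k₀ k) // P (E t).1.1} :=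
    { toFun := fun y => ⟨⟨y.1, y.2.1⟩,
        (comp_frob_eq_iff Φ hΦpt (Nat.card k₀ ^ m) hΦ y.1).mp y.2.2⟩
      invFun := fun t => ⟨t.1.1, t.1.2,
        (comp_frob_eq_iff Φ hΦpt (Nat.card k₀ ^ m) hΦ t.1.1).mpr t.2⟩
      left_inv := fun y => rfl
      right_inv := fun t => rfl }
  let e2 : {t : GPts k f (vb k₀ k) // P (E t).1.1} ≃ {p : Σ u : U', H u // P p.1.1} :=
    E.subtypeEquiv (fun t => Iff.rfl)
  let e3 : {p : Σ u : U', H u // P p.1.1} ≃ Σ u : {u : U' // P u.1}, H u.1 :=
    Equiv.subtypeSigmaEquiv H (fun u => P u.1)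
  have hN : 2 ≤ Nat.card k₀ ^ m := by
    have hq : 1 < Nat.card k₀ := Finite.one_lt_card
    calc 2 ≤ Nat.card k₀ := hq
      _ = Nat.card k₀ ^ 1 := (pow_one _).symm
      _ ≤ Nat.card k₀ ^ m := Nat.pow_le_pow_right (by omega) hm
  have hfinS : Finite {u : U' // P u.1} := by
    have hfin := finite_frob_fixed f (Nat.card k₀ ^ m) hN
    have : Finite {x : X | ∀ z : X.residueField x, z ^ (Nat.card k₀ ^ m) = z} := hfin
    exact Finite.of_injective
      (fun u : {u : U' // P u.1} =>
        (⟨u.1.1, u.2⟩ : {x : X | ∀ z : X.residueField x, z ^ (Nat.card k₀ ^ m) = z}))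
      (fun a b h => Subtype.ext (Subtype.ext (congrArg (fun z => z.1) h)))
  have hfinL : ∀ u : {u : U' // P u.1}, Finite (X.residueField u.1.1) :=
    fun u => finite_residueField_of_frobFixed f u.1.1 m hm u.2
  have hfinH : ∀ u : {u : U' // P u.1}, Finite (H u.1) := fun u =>
    haveI := hfinL u
    finite_embeddings k f u.1.1 _
  have hcardH : ∀ u : {u : U' // P u.1}, Nat.card (H u.1) = EGA4loc.residueDegree f u.1.1 := fun u =>
    haveI := hfinL u
    card_embeddings k f u.1.1 _
  have := Fintype.ofFinite {u : U' // P u.1}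
  have hfinSig : Finite (Σ u : {u : U' // P u.1}, H u.1) := inferInstance
  refine ⟨Finite.of_equiv _ ((e1.trans e2).trans e3).symm, ?_⟩
  rw [Nat.card_congr ((e1.trans e2).trans e3), Nat.card_sigma,
    Finset.sum_congr rfl (fun u _ => hcardH u)]
  have hmaps : ∀ u ∈ (Finset.univ : Finset {u : U' // P u.1}),
      EGA4loc.residueDegree f u.1.1 ∈ m.divisors :=
    fun u _ => ((frobFixed_iff f u.1.1 m hm).mp u.2).2
  rw [← Finset.sum_fiberwise_of_maps_to hmaps]
  unfold Zeta.nPts
  refine Finset.sum_congr rfl fun e he => ?_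
  rw [Finset.sum_congr rfl (fun u hu => (Finset.mem_filter.mp hu).2), Finset.sum_const, smul_eq_mul,
    mul_comm]
  congr 1
  unfold Zeta.degCount
  rw [← Fintype.card_subtype, ← Nat.card_eq_fintype_card]
  refine Nat.card_congr
    { toFun := fun u => ⟨u.1.1.1, ((frobFixed_iff f u.1.1.1 m hm).mp u.1.2).1, u.2⟩
      invFun := fun x => ⟨⟨⟨x.1, (subsingleton_spec_field k₀).elim _ _⟩,
        (frobFixed_iff f x.1 m hm).mpr ⟨x.2.1, by rw [x.2.2]; exact he⟩⟩, x.2.2⟩
      left_inv := fun u => rfl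
      right_inv := fun x => rfl }

end Count

end Groth.Agent.Lib.Helper79.Zeta
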