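import Mathlib
import Groth.Prelude.Def_FinFr
import Groth.Agent.Lib.Helper79.ZetaMult
import Groth.Agent.Lib.Helper79.ZetaGerm
import Groth.Agent.Lib.Helper79.FrobGen
import Groth.Agent.Lib.Helper79.ZetaPts4
import Groth.Agent.Lib.Helper79.ZetaFix
import Groth.Agent.Lib.Helper79.ZetaFrob

/-!
# The fixed point scheme of `Frob × id` on a base change is reduced and finite (helper79)
-/

set_option linter.style.haveILetI false
set_option linter.unusedSectionVars false

namespace Groth.Agent.Lib.Helper79.FixSch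

open AlgebraicGeometry CategoryTheory CategoryTheory.Limits Groth.Agent.Lib.Helper79.Zeta
  Groth.Agent.Lib.Helper79.FrobDeg Groth.Agent.Lib.Helper79.Weil

universe u

/-- an element of a field fixed by the `q`-th power map lies in the image of `𝔽_q` -/
theorem mem_range_of_pow_card_eq {k₀ L : Type*} [Field k₀] [Fintype k₀] [Field L] (j : k₀ →+* L)
    (t : L) (h : t ^ Fintype.card k₀ = t) : t ∈ Set.range j := by
  classical
  have h1 : (Polynomial.X ^ Fintype.card k₀ - Polynomial.X : Polynomial k₀) =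
      (Finset.univ.val.map fun a : k₀ => Polynomial.X - Polynomial.C a).prod := by
    have hr := FiniteField.roots_X_pow_card_sub_X k₀
    have hsplit : (Polynomial.X ^ Fintype.card k₀ - Polynomial.X : Polynomial k₀).Splits := by
      apply Polynomial.splits_iff_card_roots.mpr
      rw [hr, FiniteField.X_pow_card_sub_X_natDegree_eq k₀ Fintype.one_lt_card]
      rfl
    have hmonic : (Polynomial.X ^ Fintype.card k₀ - Polynomial.X : Polynomial k₀).Monic := by
      apply Polynomial.monic_X_pow_sub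
      rw [Polynomial.degree_X]
      exact_mod_cast Fintype.one_lt_card
    have := hsplit.eq_prod_roots_of_monic hmonic
    rw [hr] at this
    exact this
  have h2 := congrArg (fun P => Polynomial.eval₂ j t P) h1
  simp only [Polynomial.eval₂_sub, Polynomial.eval₂_pow, Polynomial.eval₂_X] at h2
  rw [h, sub_self, Polynomial.eval₂_multiset_prod, Multiset.map_map] at h2
  have h3 := Multiset.prod_eq_zero_iff.mp h2.symm
  rw [Multiset.mem_map] at h3
  obtain ⟨a, -, ha⟩ := h3
  simp only [Function.comp_apply, Polynomial.eval₂_sub, Polynomial.eval₂_X,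
    Polynomial.eval₂_C] at ha
  exact ⟨a, (sub_eq_zero.mp ha).symm⟩

section General

variable {K : Type u} [Field K] {Y : Scheme.{u}} (hY : Y ⟶ Spec (CommRingCat.of K)) (F : Y ⟶ Y)
  (hF2 : F ≫ hY = hY)

/-- the inclusion of the fixed point scheme -/
noncomputable def fixι : FinFr.fixScheme hY F hF2 ⟶ Y := pullback.fst _ _

theorem fixι_comp : fixι hY F hF2 ≫ F = fixι hY F hF2 := by
  have h := pullback.condition
    (f := (pullback.lift (𝟙 Y) F (by rw [hF2, Category.id_comp]) : Y ⟶ pullback hY hY))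
    (g := (pullback.lift (𝟙 Y) (𝟙 Y) rfl : Y ⟶ pullback hY hY))
  have h1 := congrArg (fun φ => φ ≫ pullback.fst hY hY) h
  have h2 := congrArg (fun φ => φ ≫ pullback.snd hY hY) h
  simp only [Category.assoc, pullback.lift_fst, pullback.lift_snd, Category.comp_id] at h1 h2
  exact h2.trans h1.symm

instance : IsImmersion (fixι hY F hF2) := by
  have : IsImmersion (pullback.lift (𝟙 Y) (𝟙 Y) rfl : Y ⟶ pullback hY hY) :=
    inferInstanceAs (IsImmersion (pullback.diagonal hY))
  exact (inferInstance : IsImmersion (pullback.fst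
    (pullback.lift (𝟙 Y) F (by rw [hF2, Category.id_comp]) : Y ⟶ pullback hY hY)
    (pullback.lift (𝟙 Y) (𝟙 Y) rfl : Y ⟶ pullback hY hY)))

theorem fixι_apply (z : ↥(FinFr.fixScheme hY F hF2)) :
    F (fixι hY F hF2 z) = fixι hY F hF2 z := by
  rw [← Scheme.Hom.comp_apply, fixι_comp]

end General

section Gen

variable {K : Type u} [Field K] {Y X B₀ : Scheme.{u}} (hY : Y ⟶ Spec (CommRingCat.of K))
  (π : Y ⟶ X) (f : X ⟶ B₀) (ι₀ : Spec (CommRingCat.of K) ⟶ B₀)

/-- Generation of the local ring of a base change at a point with a retraction onto the base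
field. -/
theorem gen' (hπ : IsPullback π hY f ι₀) (y : Y) (e : Y.presheaf.stalk y ⟶ CommRingCat.of K)
    (he : sw hY y ≫ e = 𝟙 _) (J : Ideal (Y.presheaf.stalk y))
    (hJ : ∀ a : X.presheaf.stalk (π y),
      (π.stalkMap y).hom a - (sw hY y).hom (e.hom ((π.stalkMap y).hom a)) ∈ J)
    (r : Y.presheaf.stalk y) : r - (sw hY y).hom (e.hom r) ∈ J := by
  let R : CommRingCat := Y.presheaf.stalk y
  let mk : R ⟶ CommRingCat.of (R ⧸ J) := CommRingCat.ofHom (Ideal.Quotient.mk J)
  let θ : R ⟶ R := e ≫ sw hY y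
  have key : Spec.map mk ≫ Y.fromSpecStalk y = Spec.map (θ ≫ mk) ≫ Y.fromSpecStalk y := by
    apply hπ.hom_ext
    · rw [Category.assoc, Category.assoc, ← Scheme.SpecMap_stalkMap_fromSpecStalk, ← Category.assoc,
        ← Category.assoc, ← Spec.map_comp, ← Spec.map_comp]
      congr 2
      ext a
      show Ideal.Quotient.mk J ((π.stalkMap y).hom a) =
        Ideal.Quotient.mk J ((sw hY y).hom (e.hom ((π.stalkMap y).hom a)))
      rw [Ideal.Quotient.eq]
      exact hJ a
    · rw [Category.assoc, Category.assoc, ← SpecMap_sw, ← Spec.map_comp, ← Spec.map_comp]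
      congr 1
      show sw hY y ≫ mk = sw hY y ≫ (e ≫ sw hY y) ≫ mk
      rw [Category.assoc, ← Category.assoc (sw hY y), he, Category.id_comp]
  have key2 : mk = θ ≫ mk := Spec.map_injective ((cancel_mono _).mp key)
  have := congrArg (fun φ : R ⟶ CommRingCat.of (R ⧸ J) => φ.hom r) key2
  exact Ideal.Quotient.eq.mp this

theorem sw_comp_residue (y : Y) : sw hY y ≫ Y.residue y = sκ hY y := by
  apply Spec.map_injective
  rw [Spec.map_comp, SpecMap_sw, SpecMap_sκ, ← Category.assoc]
  rfl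

theorem sκ_eq_comp (y : Y) :
    sκ hY y = Spec.preimage ((Spec (CommRingCat.of K)).fromSpecResidueField (hY y)) ≫
      hY.residueFieldMap y := by
  apply Spec.map_injective
  rw [Spec.map_comp, Spec.map_preimage, SpecMap_sκ,
    Scheme.Hom.SpecMap_residueFieldMap_fromSpecResidueField]

end Gen

section Main

variable {K : Type u} [Field K] (k₀ : Type u) [Field k₀] [Finite k₀] [Algebra k₀ K]
  {X : Scheme.{u}} (f : X ⟶ Spec (CommRingCat.of k₀))
  (FX : X ⟶ X) (hle : ∀ U : X.Opens, U ≤ FX ⁻¹ᵁ U)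
  (hFapp : ∀ (U : X.Opens) (s : Γ(X, U)), (FX.appLE U U (hle U)).hom s = s ^ Nat.card k₀)
  {Y : Scheme.{u}} (hY : Y ⟶ Spec (CommRingCat.of K)) (π : Y ⟶ X)
  (hπ : IsPullback π hY f (Spec.map (CommRingCat.ofHom (algebraMap k₀ K))))
  (F : Y ⟶ Y) (hF1 : F ≫ π = π ≫ FX) (hF2 : F ≫ hY = hY)

include hF1 hFapp in
theorem sub_pow_mem_ker (z : ↥(FinFr.fixScheme hY F hF2)) (W : X.Opens)
    (hW : π (fixι hY F hF2 z) ∈ W) (a : Γ(X, W)) :
    pg π (fixι hY F hF2 z) W hW a - pg π (fixι hY F hF2 z) W hW a ^ Nat.card k₀ ∈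
      RingHom.ker ((fixι hY F hF2).stalkMap z).hom := by
  have e : (fixι hY F hF2 ≫ π) ≫ FX = fixι hY F hF2 ≫ π := by
    rw [Category.assoc, ← hF1, ← Category.assoc, fixι_comp]
  have hW1 : (fixι hY F hF2 ≫ π) z ∈ W := hW
  have hW2 : ((fixι hY F hF2 ≫ π) ≫ FX) z ∈ W := by rw [e]; exact hW1
  rw [RingHom.mem_ker, map_sub, map_pow, sub_eq_zero, stalkMap_pg' _ _ _ _ hW hW1,
    ← pg_comp_frob FX (Nat.card k₀) hle hFapp (fixι hY F hF2 ≫ π) z W hW2 hW1 a]
  exact pg_congr' e.symm z W hW1 hW2 a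

theorem ker_le (z : ↥(FinFr.fixScheme hY F hF2)) :
    RingHom.ker ((fixι hY F hF2).stalkMap z).hom ≤
      IsLocalRing.maximalIdeal (Y.presheaf.stalk (fixι hY F hF2 z)) :=
  IsLocalRing.le_maximalIdeal (RingHom.ker_ne_top _)

include hπ hF1 hFapp in
/-- The residue field at a point of the fixed point scheme is the base field. -/
theorem surjective_sκ (z : ↥(FinFr.fixScheme hY F hF2)) :
    Function.Surjective (sκ hY (fixι hY F hF2 z)).hom := by
  have := Fintype.ofFinite k₀
  have hcl := closure_range_eq_top hY π f _ hπ (fixι hY F hF2 z)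
  have hsub : Set.range (π.residueFieldMap (fixι hY F hF2 z)).hom ⊆
      Set.range (sκ hY (fixι hY F hF2 z)).hom := by
    rintro _ ⟨e, rfl⟩
    obtain ⟨t, rfl⟩ := X.residue_surjective (π (fixι hY F hF2 z)) e
    obtain ⟨W, hW, a, rfl⟩ := X.presheaf.exists_germ_eq t
    have h1 : (π.residueFieldMap (fixι hY F hF2 z)).hom
        ((X.residue (π (fixι hY F hF2 z))).hom (X.presheaf.germ W (π (fixι hY F hF2 z)) hW a)) =
        (Y.residue (fixι hY F hF2 z)).hom (pg π (fixι hY F hF2 z) W hW a) :=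
      congrArg (fun φ => φ.hom (X.presheaf.germ W (π (fixι hY F hF2 z)) hW a))
        (Scheme.residue_residueFieldMap π (fixι hY F hF2 z))
    rw [h1]
    have hmem := ker_le hY F hF2 z (sub_pow_mem_ker k₀ FX hle hFapp hY π F hF1 hF2 z W hW a)
    have h2 : (Y.residue (fixι hY F hF2 z)).hom (pg π (fixι hY F hF2 z) W hW a) ^
        Fintype.card k₀ = (Y.residue (fixι hY F hF2 z)).hom (pg π (fixι hY F hF2 z) W hW a) := by
      have h3 : (Y.residue (fixι hY F hF2 z)).hom (pg π (fixι hY F hF2 z) W hW a -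
          pg π (fixι hY F hF2 z) W hW a ^ Nat.card k₀) = 0 :=
        (IsLocalRing.residue_eq_zero_iff _).mpr hmem
      rw [map_sub, map_pow, sub_eq_zero, Nat.card_eq_fintype_card] at h3
      exact h3.symm
    obtain ⟨c, hc⟩ := mem_range_of_pow_card_eq
      ((sκ hY (fixι hY F hF2 z)).hom.comp (algebraMap k₀ K)) _ h2
    exact ⟨algebraMap k₀ K c, hc⟩
  have hle' : Subfield.closure (Set.range (π.residueFieldMap (fixι hY F hF2 z)).hom ∪
      Set.range (sκ hY (fixι hY F hF2 z)).hom) ≤ (sκ hY (fixι hY F hF2 z)).hom.fieldRange := by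
    rw [Subfield.closure_le]
    rintro t (ht | ht)
    · exact hsub ht
    · exact ht
  rw [hcl] at hle'
  intro t
  exact hle' (Subfield.mem_top t)

include hπ hF1 hFapp in
theorem isReduced_stalk (z : ↥(FinFr.fixScheme hY F hF2)) :
    _root_.IsReduced ((FinFr.fixScheme hY F hF2).presheaf.stalk z) := by
  obtain ⟨p, r, hp, hchar, hr, hcard⟩ := exists_char_pow k₀
  haveI : Fact p.Prime := ⟨hp⟩
  have hφ : Function.Surjective ((fixι hY F hF2).stalkMap z).hom :=
    (fixι hY F hF2).stalkMap_surjective z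
  have hJle := ker_le hY F hF2 z
  let σ : K ≃+* Y.residueField (fixι hY F hF2 z) :=
    RingEquiv.ofBijective (sκ hY (fixι hY F hF2 z)).hom
      ⟨(sκ hY (fixι hY F hF2 z)).hom.injective,
        surjective_sκ k₀ f FX hle hFapp hY π hπ F hF1 hF2 z⟩
  let e : Y.presheaf.stalk (fixι hY F hF2 z) ⟶ CommRingCat.of K :=
    CommRingCat.ofHom (σ.symm.toRingHom.comp (Y.residue (fixι hY F hF2 z)).hom)
  have he3 : ∀ r', (sκ hY (fixι hY F hF2 z)).hom (e.hom r') =
      (Y.residue (fixι hY F hF2 z)).hom r' := fun r' => σ.apply_symm_apply _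
  have hsw : ∀ c, (Y.residue (fixι hY F hF2 z)).hom ((sw hY (fixι hY F hF2 z)).hom c) =
      (sκ hY (fixι hY F hF2 z)).hom c := fun c =>
    congrArg (fun φ => φ.hom c) (sw_comp_residue hY (fixι hY F hF2 z))
  have he1 : sw hY (fixι hY F hF2 z) ≫ e = 𝟙 _ := by
    ext c
    show σ.symm ((Y.residue (fixι hY F hF2 z)).hom ((sw hY (fixι hY F hF2 z)).hom c)) = c
    rw [hsw]
    exact σ.symm_apply_apply c
  have he2 : ∀ r' ∈ IsLocalRing.maximalIdeal (Y.presheaf.stalk (fixι hY F hF2 z)),
      e.hom r' = 0 := by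
    intro r' hr'
    show σ.symm ((Y.residue (fixι hY F hF2 z)).hom r') = 0
    have : (Y.residue (fixι hY F hF2 z)).hom r' = 0 := (IsLocalRing.residue_eq_zero_iff _).mpr hr'
    rw [this, map_zero]
  haveI : CharP (Y.presheaf.stalk (fixι hY F hF2 z)) p :=
    charP_of_injective_ringHom
      ((sw hY (fixι hY F hF2 z)).hom.comp (algebraMap k₀ K)).injective p
  have hJ : ∀ a : X.presheaf.stalk (π (fixι hY F hF2 z)),
      (π.stalkMap (fixι hY F hF2 z)).hom a - (sw hY (fixι hY F hF2 z)).hom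
        (e.hom ((π.stalkMap (fixι hY F hF2 z)).hom a)) ∈
      RingHom.ker ((fixι hY F hF2).stalkMap z).hom := by
    intro a
    obtain ⟨W, hW, a', rfl⟩ := X.presheaf.exists_germ_eq a
    have hmem := sub_pow_mem_ker k₀ FX hle hFapp hY π F hF1 hF2 z W hW a'
    change pg π (fixι hY F hF2 z) W hW a' - (sw hY (fixι hY F hF2 z)).hom
        (e.hom (pg π (fixι hY F hF2 z) W hW a')) ∈ _
    rw [hcard] at hmem
    apply sub_const_mem p r hr _ _ _ _ _ hmem
    · have h0 := he2 _ (hJle hmem)
      rw [map_sub, map_pow, sub_eq_zero] at h0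
      rw [← map_pow, ← h0]
    · rw [← IsLocalRing.residue_eq_zero_iff]
      show (Y.residue (fixι hY F hF2 z)).hom _ = 0
      rw [map_sub, hsw, he3, sub_self]
  have hall := gen' hY π f _ hπ (fixι hY F hF2 z) e he1 _ hJ
  constructor
  intro x hx
  obtain ⟨r', rfl⟩ := hφ x
  have h1 : ((fixι hY F hF2).stalkMap z).hom r' = ((fixι hY F hF2).stalkMap z).hom
      ((sw hY (fixι hY F hF2 z)).hom (e.hom r')) := by
    have := hall r'
    rw [RingHom.mem_ker, map_sub, sub_eq_zero] at this
    exact this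
  by_cases hc : e.hom r' = 0
  · rw [h1, hc, map_zero, map_zero]
  · exfalso
    have hu : IsUnit (e.hom r') := Ne.isUnit hc
    have hu2 := (hu.map (sw hY (fixι hY F hF2 z)).hom).map ((fixι hY F hF2).stalkMap z).hom
    rw [← h1] at hu2
    obtain ⟨n, hn⟩ := hx
    have := hu2.pow n
    rw [hn] at this
    exact not_isUnit_zero this

include hπ hF1 hFapp in
/-- The fixed point scheme of `Frob × id` is reduced. -/
theorem isReduced_fixScheme : IsReduced (FinFr.fixScheme hY F hF2) := by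
  haveI : ∀ z, _root_.IsReduced ((FinFr.fixScheme hY F hF2).presheaf.stalk z) :=
    isReduced_stalk k₀ f FX hle hFapp hY π hπ F hF1 hF2
  exact isReduced_of_isReduced_stalk _

end Main

section Fin

variable {K : Type u} [Field K] [IsAlgClosed K] (k₀ : Type u) [Field k₀] [Finite k₀] [Algebra k₀ K]
  {X : Scheme.{u}} (f : X ⟶ Spec (CommRingCat.of k₀)) [LocallyOfFiniteType f] [QuasiCompact f]
  (FX : X ⟶ X) (hFb : FX.base = 𝟙 _) (hle : ∀ U : X.Opens, U ≤ FX ⁻¹ᵁ U)
  (hFapp : ∀ (U : X.Opens) (s : Γ(X, U)), (FX.appLE U U (hle U)).hom s = s ^ Nat.card k₀)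
  {Y : Scheme.{u}} (hY : Y ⟶ Spec (CommRingCat.of K)) (π : Y ⟶ X)
  (hπ : IsPullback π hY f (Spec.map (CommRingCat.ofHom (algebraMap k₀ K))))
  (F : Y ⟶ Y) (hF1 : F ≫ π = π ≫ FX) (hF2 : F ≫ hY = hY)

include hπ in
theorem locallyOfFiniteType_hY : LocallyOfFiniteType hY :=
  MorphismProperty.of_isPullback (P := @LocallyOfFiniteType) hπ inferInstance

include hπ hF1 hFapp in
theorem isClosed_fixι (z : ↥(FinFr.fixScheme hY F hF2)) :
    IsClosed ({fixι hY F hF2 z} : Set Y) := by
  haveI := locallyOfFiniteType_hY k₀ f hY π hπ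
  apply isClosed_of_residueFieldMap_finite hY
  apply RingHom.Finite.of_surjective
  have h := surjective_sκ k₀ f FX hle hFapp hY π hπ F hF1 hF2 z
  rw [sκ_eq_comp, CommRingCat.hom_comp, RingHom.coe_comp] at h
  exact Function.Surjective.of_comp h

include hπ hF1 hFapp hFb in
/-- The fixed point scheme of `Frob × id` has finitely many points. -/
theorem finite_fixScheme : Finite ↥(FinFr.fixScheme hY F hF2) := by
  haveI := locallyOfFiniteType_hY k₀ f hY π hπ
  have hfin := (card_fixPts K f FX (apply_eq_of_base FX hFb) 1 le_rfl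
    (fun x W h h' a => by
      rw [pow_one]
      exact pg_comp_frob FX (Nat.card k₀) hle hFapp (𝟙 X) x W h h' a)).1
  let s : ↥(FinFr.fixScheme hY F hF2) → (Spec (CommRingCat.of K) ⟶ Y) := fun z =>
    pointOfClosedPoint hY (fixι hY F hF2 z) (isClosed_fixι k₀ f FX hle hFapp hY π hπ F hF1 hF2 z)
  have hs1 : ∀ z, s z ≫ hY = 𝟙 _ := fun z => pointOfClosedPoint_comp _ _ _
  have hs2 : ∀ z a, s z a = fixι hY F hF2 z := fun z a => pointOfClosedPoint_apply _ _ _ _
  have hsF : ∀ z, s z ≫ F = s z := by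
    intro z
    apply ext_of_apply_eq' hY _ (hs1 z) (Classical.arbitrary _)
    · rw [Scheme.Hom.comp_apply, hs2, fixι_apply]
    · rw [Category.assoc, hF2, hs1]
  let g : ↥(FinFr.fixScheme hY F hF2) → FixPts K f FX := fun z =>
    ⟨s z ≫ π, by rw [Category.assoc, hπ.w, ← Category.assoc, hs1, Category.id_comp],
      by rw [Category.assoc, ← hF1, ← Category.assoc, hsF]⟩
  have hg : Function.Injective g := by
    intro z z' h
    have h1 : s z ≫ π = s z' ≫ π := congrArg Subtype.val h
    have h2 : s z = s z' := by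
      apply hπ.hom_ext h1
      rw [hs1, hs1]
    have h3 : fixι hY F hF2 z = fixι hY F hF2 z' := by
      rw [← hs2 z (Classical.arbitrary _), ← hs2 z' (Classical.arbitrary _), h2]
    exact (fixι hY F hF2).isEmbedding.injective h3
  exact Finite.of_injective g hg

end Fin

end Groth.Agent.Lib.Helper79.FixSch
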