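import Mathlib
import Groth.Agent.Lib.Helper16.FiberUnramified

/-!
# Fibrewise criterion for unramified morphisms, and morphisms with a section and trivial fibres
(helper79)

* `formallyUnramified_of_fiber`: a morphism locally of finite type whose fibres are formally
  unramified is formally unramified.
* `isIso_of_section_of_fibres`: a morphism locally of finite type with a section, all of whose
  fibres are isomorphisms, is an isomorphism.
-/

set_option autoImplicit false
set_option linter.style.haveILetI false
set_option linter.unusedSectionVars false

universe u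

open CategoryTheory Limits AlgebraicGeometry TensorProduct

namespace Groth.Agent.Lib.Helper79.TrivGrpFibre

set_option backward.isDefEq.respectTransparency false in
/-- If `f : X ⟶ Y` is locally of finite type and has formally unramified fibres, then `f` is
formally unramified. -/
theorem formallyUnramified_of_fiber {X Y : Scheme.{u}} (f : X ⟶ Y) [LocallyOfFiniteType f]
    (h : ∀ y, FormallyUnramified (f.fiberToSpecResidueField y)) :
    FormallyUnramified f := by
  wlog h : ∃ R, Y = Spec R
  · rw [IsZariskiLocalAtTarget.iff_of_openCover (P := @FormallyUnramified) Y.affineCover]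
    intro i
    dsimp [Scheme.Cover.pullbackHom]
    refine this _ (fun y ↦ ?_) ⟨_, rfl⟩
    apply MorphismProperty.of_isPullback
    · exact isPullback_fiberToSpecResidueField_of_isPullback (IsPullback.of_hasPullback _ _) _
    · infer_instance
  obtain ⟨R, rfl⟩ := h
  wlog h : ∃ S, X = Spec S generalizing f X
  · rw [IsZariskiLocalAtSource.iff_of_openCover (P := @FormallyUnramified) X.affineCover]
    intro i
    have _ (y) : FormallyUnramified (pullback.snd f ((Spec R).fromSpecResidueField y)) :=
      inferInstanceAs <| FormallyUnramified (f.fiberToSpecResidueField y)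
    refine this _ (fun y ↦ ?_) ⟨_, rfl⟩
    rw [Scheme.Hom.fiberToSpecResidueField, ← pullbackRightPullbackFstIso_inv_snd_snd]
    have h1 : FormallyUnramified (pullback.snd (X.affineCover.f i)
        (pullback.fst f ((Spec R).fromSpecResidueField y))) := by
      have : IsOpenImmersion (pullback.snd (X.affineCover.f i)
        (pullback.fst f ((Spec R).fromSpecResidueField y))) := inferInstance
      infer_instance
    have h0 : FormallyUnramified (pullback.snd f ((Spec R).fromSpecResidueField y)) :=
      inferInstance
    have h2 := MorphismProperty.comp_mem @FormallyUnramified _ _ h1 h0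
    exact (MorphismProperty.cancel_left_of_respectsIso @FormallyUnramified _ _).mpr h2
  obtain ⟨S, rfl⟩ := h
  obtain ⟨φ, rfl⟩ := Spec.map_surjective f
  simp only [HasRingHomProperty.Spec_iff] at *
  algebraize [φ.hom]
  have hunr : Algebra.FormallyUnramified R S := by
    apply Groth.Agent.Lib.Helper16.FiberUnr.formallyUnramified_of_fiber
    intro p hp
    have : Algebra.FormallyUnramified p.ResidueField (p.Fiber S) := by
      rw [← RingHom.formallyUnramified_algebraMap,
        ← CommRingCat.hom_ofHom (algebraMap p.ResidueField (p.Fiber ↑S)),
        ← HasRingHomProperty.Spec_iff (P := @FormallyUnramified),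
        ← MorphismProperty.arrow_mk_iso_iff (P := @FormallyUnramified)
          (Spec.fiberToSpecResidueFieldIso R S ⟨p, hp⟩)]
      exact h ⟨p, hp⟩
    infer_instance
  exact RingHom.formallyUnramified_algebraMap.mpr hunr

set_option backward.isDefEq.respectTransparency.types false in
instance : MorphismProperty.HasOfPostcompProperty
    @IsOpenImmersion (@LocallyOfFiniteType ⊓ @FormallyUnramified) := by
  rw [MorphismProperty.hasOfPostcompProperty_iff_le_diagonal]
  intro X Y f ⟨hft, hfu⟩
  exact inferInstanceAs <| IsOpenImmersion (pullback.diagonal f)

/-- A section of an unramified morphism is an open immersion. -/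
theorem isOpenImmersion_of_section {X Y : Scheme.{u}} (f : X ⟶ Y) [LocallyOfFiniteType f]
    [FormallyUnramified f] (e : Y ⟶ X) (he : e ≫ f = 𝟙 Y) : IsOpenImmersion e := by
  have h1 : IsOpenImmersion (e ≫ f) := by rw [he]; infer_instance
  exact MorphismProperty.of_postcomp (W := @IsOpenImmersion)
    (W' := @LocallyOfFiniteType ⊓ @FormallyUnramified) e f ⟨‹_›, ‹_›⟩ h1

/-- A morphism locally of finite type with a section, all of whose fibres are isomorphisms, is an
isomorphism. -/
theorem isIso_of_section_of_fibres {X Y : Scheme.{u}} (f : X ⟶ Y) [LocallyOfFiniteType f]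
    (e : Y ⟶ X) (he : e ≫ f = 𝟙 Y) (h : ∀ y, IsIso (f.fiberToSpecResidueField y)) :
    IsIso f := by
  have hunr : FormallyUnramified f := formallyUnramified_of_fiber f (fun y => by
    have := h y
    infer_instance)
  have hoi : IsOpenImmersion e := isOpenImmersion_of_section f e he
  -- e is surjective
  have hsurj : Function.Surjective e.base := by
    intro x
    refine ⟨f.base x, ?_⟩
    -- both e (f x) and x lie in the fibre over f x, which is a singleton
    have hiso := h (f.base x)
    have hsub : Subsingleton ↥(f.fiber (f.base x)) := by
      have : Subsingleton ↥(Spec (Y.residueField (f.base x))) := inferInstance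
      exact (asIso (f.fiberToSpecResidueField (f.base x))).hom.homeomorph.injective.subsingleton
    have hx : x ∈ Set.range (f.fiberι (f.base x)).base := by
      rw [Scheme.Hom.range_fiberι]; rfl
    have hex : e.base (f.base x) ∈ Set.range (f.fiberι (f.base x)).base := by
      rw [Scheme.Hom.range_fiberι]
      change f.base (e.base (f.base x)) = f.base x
      have : (e ≫ f).base (f.base x) = f.base x := by rw [he]; rfl
      exact this
    obtain ⟨a, ha⟩ := hx
    obtain ⟨b, hb⟩ := hex
    rw [← hb, ← Subsingleton.elim a b, ha]
  have hiso_e : IsIso e := by
    have : Surjective e := ⟨hsurj⟩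
    exact (isIso_iff_isOpenImmersion_and_epi_base e).mpr ⟨hoi, (TopCat.epi_iff_surjective _).mpr hsurj⟩
  have : f = inv e := by
    rw [← cancel_epi e, he, IsIso.hom_inv_id]
  rw [this]
  infer_instance

end Groth.Agent.Lib.Helper79.TrivGrpFibre
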