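import Mathlib
import Groth.Prelude.Def_W4bk4git07Quot
import Groth.Agent.Lib.Helper79.TrivGrpFibre
import Groth.Agent.Lib.Helper40.ActPts

/-!
# Proper actions with trivial stabilizers are free (helper79)

* `psi_comp`: `lift g x ≫ Ψ = lift (g • x) x`.
* `stabSection`: the unit section of the stabilizer group scheme.
* `mono_psi_of_isIso_stab`: if the stabilizer `Stab ⟶ X` is an isomorphism then `Ψ = (σ, p₂)` is a
  monomorphism.
* `isClosedImmersion_psi`: a proper action all of whose stabilizers are trivial is free.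
-/

set_option autoImplicit false
set_option linter.style.haveILetI false
set_option linter.unusedSectionVars false

universe u

open CategoryTheory Limits AlgebraicGeometry MonoidalCategory CartesianMonoidalCategory MonObj

namespace Groth.Agent.Lib.Helper79.FreeAct

open Groth.Agent.Lib.Helper40.ActPts

variable {S : Scheme.{u}} {G X : Over S} [GrpObj G] (a : AlgGrp.Action G X)

theorem psi_comp {T : Over S} (g : T ⟶ G) (x : T ⟶ X) :
    lift g x ≫ GIT.psi a (𝟙 X) = lift (smul a g x) x := by
  unfold GIT.psi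
  rw [comp_lift, lift_snd, ← Category.assoc, lift_whiskerLeft, Category.comp_id]
  rfl

theorem lift_diag {T : Over S} (x : T ⟶ X) : x ≫ lift (𝟙 X) (𝟙 X) = lift x x := by
  rw [comp_lift, Category.comp_id]

/-- the unit section `x ↦ (e, x)` -/
noncomputable def unitSec : X ⟶ G ⊗ X := lift (1 : X ⟶ G) (𝟙 X)

theorem unitSec_psi : unitSec (G := G) ≫ GIT.psi a (𝟙 X) = lift (𝟙 X) (𝟙 X) := by
  unfold unitSec
  rw [psi_comp, Groth.Agent.Lib.Helper40.ActPts.one_smul]

/-- the unit section of the stabilizer -/
noncomputable def stabSection :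
    X.left ⟶ pullback (GIT.psi a (𝟙 X)).left (lift (𝟙 X) (𝟙 X)).left :=
  pullback.lift (unitSec (G := G) (X := X)).left (𝟙 X.left) (by
    rw [← Over.comp_left, unitSec_psi, Category.id_comp])

theorem stabSection_snd : stabSection a ≫ pullback.snd _ _ = 𝟙 X.left := by
  unfold stabSection
  rw [pullback.lift_snd]

theorem stabSection_fst : stabSection a ≫ pullback.fst _ _ = (unitSec (G := G) (X := X)).left := by
  unfold stabSection
  rw [pullback.lift_fst]

theorem mono_psi_of_isIso_stab
    (hiso : IsIso (pullback.snd (GIT.psi a (𝟙 X)).left (lift (𝟙 X) (𝟙 X)).left)) :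
    Mono (GIT.psi a (𝟙 X)) := by
  constructor
  intro T u v huv
  -- decompose
  obtain ⟨g, x, rfl⟩ : ∃ g x, u = lift g x := ⟨u ≫ fst G X, u ≫ snd G X, by ext <;> simp⟩
  obtain ⟨g', x', rfl⟩ : ∃ g x, v = lift g x := ⟨v ≫ fst G X, v ≫ snd G X, by ext <;> simp⟩
  rw [psi_comp, psi_comp] at huv
  have h1 : x = x' := by
    have := congrArg (fun m => m ≫ snd X X) huv
    simpa using this
  have h2 : smul a g x = smul a g' x' := by
    have := congrArg (fun m => m ≫ fst X X) huv
    simpa using this
  subst h1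
  -- h = g⁻¹ g' stabilizes x
  have h3 : smul a (g⁻¹ * g') x = x := by
    rw [Groth.Agent.Lib.Helper40.ActPts.mul_smul, ← h2, ← Groth.Agent.Lib.Helper40.ActPts.mul_smul, inv_mul_cancel, Groth.Agent.Lib.Helper40.ActPts.one_smul]
  -- the T-point of the stabilizer
  have h4 : (lift (g⁻¹ * g') x).left ≫ (GIT.psi a (𝟙 X)).left
      = x.left ≫ (lift (𝟙 X) (𝟙 X)).left := by
    rw [← Over.comp_left, ← Over.comp_left, psi_comp, h3, lift_diag]
  let t : T.left ⟶ pullback (GIT.psi a (𝟙 X)).left (lift (𝟙 X) (𝟙 X)).left :=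
    pullback.lift _ _ h4
  have hps : pullback.snd (GIT.psi a (𝟙 X)).left (lift (𝟙 X) (𝟙 X)).left ≫ stabSection a = 𝟙 _ := by
    rw [← cancel_mono (pullback.snd (GIT.psi a (𝟙 X)).left (lift (𝟙 X) (𝟙 X)).left),
      Category.assoc, stabSection_snd, Category.comp_id, Category.id_comp]
  have ht : t = x.left ≫ stabSection a := by
    have : t ≫ pullback.snd _ _ = x.left := pullback.lift_snd _ _ _
    rw [← this, Category.assoc, hps, Category.comp_id]
  have h5 : (lift (g⁻¹ * g') x).left = (lift (1 : T ⟶ G) x).left := by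
    have e1 : t ≫ pullback.fst _ _ = (lift (g⁻¹ * g') x).left := pullback.lift_fst _ _ _
    rw [← e1, ht, Category.assoc, stabSection_fst, ← Over.comp_left]
    unfold unitSec
    rw [comp_lift, Category.comp_id, MonObj.comp_one]
  have h6 : lift (g⁻¹ * g') x = lift (1 : T ⟶ G) x := Over.OverMorphism.ext h5
  have h7 : g⁻¹ * g' = 1 := by
    have := congrArg (fun m => m ≫ fst G X) h6
    simpa using this
  have h8 : g' = g := by
    have := inv_mul_eq_one.mp h7
    exact this.symm
  rw [h8]

/-- A proper action all of whose stabilizers are trivial is free. -/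
theorem isClosedImmersion_psi (hp : IsProper (GIT.psi a (𝟙 X)).left)
    (htriv : ∀ x : ↥X.left, IsIso ((pullback.snd (GIT.psi a (𝟙 X)).left
      (lift (𝟙 X) (𝟙 X)).left).fiberToSpecResidueField x)) :
    IsClosedImmersion (GIT.psi a (𝟙 X)).left := by
  have hlft : LocallyOfFiniteType (pullback.snd (GIT.psi a (𝟙 X)).left
      (lift (𝟙 X) (𝟙 X)).left) := inferInstance
  have hiso := Groth.Agent.Lib.Helper79.TrivGrpFibre.isIso_of_section_of_fibres _
    (stabSection a) (stabSection_snd a) htriv
  have hmono : Mono (GIT.psi a (𝟙 X)) := mono_psi_of_isIso_stab a hiso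
  have hmono' : Mono (GIT.psi a (𝟙 X)).left := inferInstance
  exact (IsClosedImmersion.iff_isProper_and_mono _).mpr ⟨hp, hmono'⟩

end Groth.Agent.Lib.Helper79.FreeAct
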