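import Groth.Prelude.Def_SGA1
import Groth.Agent.Lib.Helper79.CHR
import Groth.Agent.Lib.Helper67.QuotAffine
import Groth.Agent.S2910
import Groth.Agent.S13597
import Mathlib

/-!
# Free actions: quotient maps are finite projective and unramified
-/

set_option autoImplicit false
open CategoryTheory CategoryTheory.Limits AlgebraicGeometry
universe u

namespace Groth.Agent.Lib.Helper79.FreeQuot

open Groth.Agent.Lib.Helper67.QuotAffine Groth.Agent.S13082

variable {X Y : Scheme.{u}} {G : Type u} [Group G]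

theorem evaluation_congr {X : Scheme.{u}} (V : X.Opens) {x y : X} (e : x = y) (hx : x ∈ V) :
    X.evaluation V x hx ≫ (X.residueFieldCongr e).hom = X.evaluation V y (e ▸ hx) := by
  subst e
  simp

/-- evaluating a translate of a section at a fixed point. -/
theorem evaluation_sigma (ρ : G →* Aut X) (p : X ⟶ Y) (hinv : ∀ g : G, (ρ g).hom ≫ p = p)
    (W : Y.Opens) (g : G) (x : X) (hx : x ∈ p ⁻¹ᵁ W) (e : (ρ g).hom.base x = x)
    (a : Γ(X, p ⁻¹ᵁ W)) :
    (X.evaluation (p ⁻¹ᵁ W) x hx).hom (sigma ρ p hinv W g a) =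
      (tauOf (ρ g).hom x e).hom ((X.evaluation (p ⁻¹ᵁ W) x hx).hom a) := by
  have hx' : (ρ g).hom.base x ∈ p ⁻¹ᵁ W := e.symm ▸ hx
  have h1 := Scheme.evaluation_naturality_apply (ρ g).hom x hx' a
  have h2 : (X.residueFieldCongr e).inv.hom ((X.evaluation (p ⁻¹ᵁ W) x hx).hom a) =
      (X.evaluation (p ⁻¹ᵁ W) ((ρ g).hom.base x) hx').hom a := by
    have := evaluation_congr (p ⁻¹ᵁ W) e.symm hx
    rw [Scheme.residueFieldCongr_inv]
    exact congrArg (fun k => k.hom a) this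
  show _ = ((X.residueFieldCongr e).inv ≫ (ρ g).hom.residueFieldMap x).hom _
  rw [CommRingCat.hom_comp, RingHom.comp_apply, h2]
  refine Eq.trans ?_ h1.symm
  show (X.evaluation (p ⁻¹ᵁ W) x hx).hom (((ρ g).hom.appLE (p ⁻¹ᵁ W) (p ⁻¹ᵁ W) _).hom a) = _
  rw [Scheme.Hom.appLE]
  simp only [CommRingCat.hom_comp, RingHom.comp_apply]
  unfold Scheme.evaluation
  simp only [CommRingCat.hom_comp, RingHom.comp_apply]
  congr 1
  exact TopCat.Presheaf.germ_res_apply X.presheaf _ x _ _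

/-- a group element all of whose "difference functions" vanish at `x` fixes a geometric point
over `x`. -/
theorem exists_geometric_fixed (ρ : G →* Aut X) (p : X ⟶ Y) (hinv : ∀ g : G, (ρ g).hom ≫ p = p)
    (W : Y.Opens) (hV : IsAffineOpen (p ⁻¹ᵁ W)) (g : G) (x : X) (hx : x ∈ p ⁻¹ᵁ W)
    (hev : ∀ a, (X.evaluation (p ⁻¹ᵁ W) x hx).hom (sigma ρ p hinv W g a) =
      (X.evaluation (p ⁻¹ᵁ W) x hx).hom a) :
    ∃ (K : Type u) (_ : Field K) (_ : IsAlgClosed K) (ξ : Spec (CommRingCat.of K) ⟶ X),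
      ξ ≫ (ρ g).hom = ξ := by
  have hmem : ∀ a, x ∈ X.basicOpen (sigma ρ p hinv W g a) ↔ x ∈ X.basicOpen a := by
    intro a
    rw [← Scheme.evaluation_ne_zero_iff_mem_basicOpen X x hx,
      ← Scheme.evaluation_ne_zero_iff_mem_basicOpen X x hx]
    exact not_congr (by rw [hev])
  have hx' : (ρ g).hom.base x ∈ p ⁻¹ᵁ W := SGA1.preimage_le_of_inv ρ p hinv g W hx
  have hmem' : ∀ a : Γ(X, p ⁻¹ᵁ W), (ρ g).hom.base x ∈ X.basicOpen a ↔ x ∈ X.basicOpen a := by
    intro a
    rw [← hmem a, basicOpen_sigma]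
    exact ⟨fun h => ⟨hx, h⟩, fun h => h.2⟩
  have e : (ρ g).hom.base x = x := by
    apply Inseparable.eq
    rw [inseparable_iff_forall_isOpen]
    intro s hs
    constructor
    · intro h
      obtain ⟨f, hf1, hf2⟩ := hV.exists_basicOpen_le (V := ⟨s, hs⟩) ⟨_, h⟩ hx'
      exact hf1 ((hmem' f).mp hf2)
    · intro h
      obtain ⟨f, hf1, hf2⟩ := hV.exists_basicOpen_le (V := ⟨s, hs⟩) ⟨_, h⟩ hx
      exact hf1 ((hmem' f).mpr hf2)
  have htau : tauOf (ρ g).hom x e = 𝟙 _ := by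
    have h1 : ∀ a, (tauOf (ρ g).hom x e).hom ((X.evaluation (p ⁻¹ᵁ W) x hx).hom a) =
        (X.evaluation (p ⁻¹ᵁ W) x hx).hom a := fun a =>
      (evaluation_sigma ρ p hinv W g x hx e a).symm.trans (hev a)
    have hres : Function.Surjective (X.residue x).hom := Ideal.Quotient.mk_surjective
    letI : Algebra Γ(X, p ⁻¹ᵁ W) (X.presheaf.stalk x) :=
      TopCat.Presheaf.algebra_section_stalk X.presheaf ⟨x, hx⟩
    have hloc : IsLocalization.AtPrime (X.presheaf.stalk x) (hV.primeIdealOf ⟨x, hx⟩).asIdeal :=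
      hV.isLocalization_stalk ⟨x, hx⟩
    have h2 : (tauOf (ρ g).hom x e).hom.comp (X.residue x).hom = (X.residue x).hom := by
      apply IsLocalization.ringHom_ext (hV.primeIdealOf ⟨x, hx⟩).asIdeal.primeCompl
      apply RingHom.ext
      intro a
      exact h1 a
    apply CommRingCat.hom_ext
    apply RingHom.ext
    intro z
    obtain ⟨w, rfl⟩ := hres z
    exact congrArg (fun k => k w) h2
  let K := AlgebraicClosure (X.residueField x)
  refine ⟨K, inferInstance, inferInstance,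
    Spec.map (CommRingCat.ofHom (algebraMap (X.residueField x) K)) ≫ X.fromSpecResidueField x, ?_⟩
  rw [Category.assoc, Groth.Agent.S2910.fromSpecResidueField_comp _ _ e, htau, Spec.map_id,
    Category.id_comp]

theorem span_eq_top_of_free (ρ : G →* Aut X) (p : X ⟶ Y) (hinv : ∀ g : G, (ρ g).hom ≫ p = p)
    (hfree : ∀ (K : Type u) [Field K] [IsAlgClosed K] (ξ : Spec (CommRingCat.of K) ⟶ X) (g : G),
      ξ ≫ (ρ g).hom = ξ → g = 1)
    (W : Y.Opens) (hV : IsAffineOpen (p ⁻¹ᵁ W)) (g : G) (hg : g ≠ 1) :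
    Ideal.span (Set.range fun a => sigma ρ p hinv W g a - a) = ⊤ := by
  rw [← hV.self_le_iSup_basicOpen_iff]
  intro x hx
  by_contra hcon
  have hev : ∀ a, (X.evaluation (p ⁻¹ᵁ W) x hx).hom (sigma ρ p hinv W g a) =
      (X.evaluation (p ⁻¹ᵁ W) x hx).hom a := by
    intro a
    by_contra hne
    apply hcon
    have : x ∈ X.basicOpen (sigma ρ p hinv W g a - a) := by
      rw [← Scheme.evaluation_ne_zero_iff_mem_basicOpen X x hx]
      show (X.evaluation (p ⁻¹ᵁ W) x hx).hom (sigma ρ p hinv W g a - a) ≠ 0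
      rw [map_sub, sub_ne_zero]
      exact hne
    exact TopologicalSpace.Opens.mem_iSup.mpr ⟨⟨_, a, rfl⟩, this⟩
  obtain ⟨K, _, _, ξ, hξ⟩ := exists_geometric_fixed ρ p hinv W hV g x hx hev
  exact hg (hfree K ξ g hξ)

/-- For an affine morphism, a property of morphisms given by a local property of ring maps can be
checked on the sections over affine opens of the target. -/
theorem of_app_of_isAffineHom {P : MorphismProperty Scheme.{u}}
    {Q : ∀ {R S : Type u} [CommRing R] [CommRing S], (R →+* S) → Prop}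
    [HasRingHomProperty P Q] {X Y : Scheme.{u}} (p : X ⟶ Y) [IsAffineHom p]
    (h : ∀ U : Y.Opens, IsAffineOpen U → Q (p.app U).hom) : P p := by
  rw [IsZariskiLocalAtTarget.iff_of_iSup_eq_top (P := P) (fun i : Y.affineOpens => i.1)
    (iSup_affineOpens_eq_top Y)]
  intro U
  have : IsAffine U.1 := U.2
  have : IsAffine (p ⁻¹ᵁ U.1) := (U.2.preimage p)
  rw [HasRingHomProperty.iff_of_isAffine (P := P), morphismRestrict_appTop]
  refine ((HasRingHomProperty.isLocal_ringHomProperty P).respectsIso.cancel_right_isIso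
    (p.app (U.1.ι ''ᵁ ⊤)) (X.presheaf.map (eqToHom _).op)).mpr ?_
  apply h
  rw [Scheme.Opens.ι_image_top]
  exact U.2

theorem flat_and_unramified_app [Finite G] (ρ : G →* Aut X) (p : X ⟶ Y) (hp : SGA1.IsQuot ρ p)
    (hfree : ∀ (K : Type u) [Field K] [IsAlgClosed K] (ξ : Spec (CommRingCat.of K) ⟶ X) (g : G),
      ξ ≫ (ρ g).hom = ξ → g = 1)
    (U : Y.Opens) (hU : IsAffineOpen U) :
    (p.app U).hom.Flat ∧ (p.app U).hom.FormallyUnramified := by
  classical
  cases nonempty_fintype G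
  have := hp.affine
  have hV : IsAffineOpen (p ⁻¹ᵁ U) := hU.preimage p
  letI : Algebra Γ(Y, U) Γ(X, p ⁻¹ᵁ U) := (p.app U).hom.toAlgebra
  have hcomm : ∀ (g : G) (b : Γ(Y, U)),
      sigma ρ p hp.inv U g (algebraMap Γ(Y, U) Γ(X, p ⁻¹ᵁ U) b) =
        algebraMap Γ(Y, U) Γ(X, p ⁻¹ᵁ U) b :=
    fun g b => (mem_range_iff ρ p hp U _).mp ⟨b, rfl⟩ g
  let σ : G → Γ(X, p ⁻¹ᵁ U) →ₐ[Γ(Y, U)] Γ(X, p ⁻¹ᵁ U) := fun g =>
    { sigma ρ p hp.inv U g⁻¹ with commutes' := hcomm g⁻¹ }
  have hσ : ∀ g a, σ g a = sigma ρ p hp.inv U g⁻¹ a := fun g a => rfl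
  have h1 : σ 1 = AlgHom.id _ _ := by
    ext a
    rw [hσ, inv_one, sigma_one]
    rfl
  have hmul : ∀ g h, σ (g * h) = (σ g).comp (σ h) := by
    intro g h
    ext a
    rw [AlgHom.comp_apply, hσ, hσ, hσ, mul_inv_rev, sigma_mul_apply]
  have hinj : Function.Injective (algebraMap Γ(Y, U) Γ(X, p ⁻¹ᵁ U)) := hp.injective U
  have hinv : ∀ a, (∀ g, σ g a = a) → a ∈ Set.range (algebraMap Γ(Y, U) Γ(X, p ⁻¹ᵁ U)) := by
    intro a ha
    refine (mem_range_iff ρ p hp U a).mpr fun g => ?_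
    have := ha g⁻¹
    rw [hσ, inv_inv] at this
    exact this
  have hfr : ∀ g, g ≠ 1 → Ideal.span (Set.range fun a => σ g a - a) = ⊤ := by
    intro g hg
    exact span_eq_top_of_free ρ p hp.inv hfree U hV g⁻¹ (inv_ne_one.mpr hg)
  obtain ⟨hproj, -⟩ := CHR.projective_and_finite σ h1 hmul hinj hinv hfr
  have hunr := CHR.formallyUnramified σ h1 hmul hinj hinv hfr
  exact ⟨(inferInstance : Module.Flat Γ(Y, U) Γ(X, p ⁻¹ᵁ U)), hunr⟩

theorem flat_of_free [Finite G] (ρ : G →* Aut X) (p : X ⟶ Y) (hp : SGA1.IsQuot ρ p)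
    (hfree : ∀ (K : Type u) [Field K] [IsAlgClosed K] (ξ : Spec (CommRingCat.of K) ⟶ X) (g : G),
      ξ ≫ (ρ g).hom = ξ → g = 1) : Flat p := by
  have := hp.affine
  exact of_app_of_isAffineHom (P := @Flat) p fun U hU =>
    (flat_and_unramified_app ρ p hp hfree U hU).1

theorem formallyUnramified_of_free [Finite G] (ρ : G →* Aut X) (p : X ⟶ Y)
    (hp : SGA1.IsQuot ρ p)
    (hfree : ∀ (K : Type u) [Field K] [IsAlgClosed K] (ξ : Spec (CommRingCat.of K) ⟶ X) (g : G),
      ξ ≫ (ρ g).hom = ξ → g = 1) : FormallyUnramified p := by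
  have := hp.affine
  exact of_app_of_isAffineHom (P := @FormallyUnramified) p fun U hU =>
    (flat_and_unramified_app ρ p hp hfree U hU).2

/-- two embeddings of a normal extension which agree on the base field differ by an
automorphism. -/
theorem exists_aut_of_normal {F E K : Type*} [Field F] [Field E] [Field K] [Algebra F E]
    [Normal F E] (φ₁ φ₂ : E →+* K)
    (h : φ₁.comp (algebraMap F E) = φ₂.comp (algebraMap F E)) :
    ∃ α : E ≃ₐ[F] E, ∀ x, φ₁ (α x) = φ₂ x := by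
  letI : Algebra E K := φ₁.toAlgebra
  letI : Algebra F K := (φ₁.comp (algebraMap F E)).toAlgebra
  haveI : IsScalarTower F E K := IsScalarTower.of_algebraMap_eq fun x => rfl
  let σ : E →ₐ[F] K := { φ₂ with commutes' := fun r => (congrArg (fun k => k r) h).symm }
  refine ⟨Normal.algHomEquivAut F K E σ, fun x => ?_⟩
  have := (Normal.algHomEquivAut F K E).left_inv σ
  exact congrArg (fun k => k x) this

/-- conjugacy of `K`-points over the same point of `X` with the same image in `Y`. -/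
theorem exists_conj_of_same_point [Finite G] (ρ : G →* Aut X) (p : X ⟶ Y) (hp : SGA1.IsQuot ρ p)
    (K : Type u) [Field K] (x : X) (φ₁ φ₂ : X.residueField x ⟶ CommRingCat.of K)
    (h : (Spec.map φ₁ ≫ X.fromSpecResidueField x) ≫ p =
      (Spec.map φ₂ ≫ X.fromSpecResidueField x) ≫ p) :
    ∃ g : G, Spec.map φ₂ ≫ X.fromSpecResidueField x =
      (Spec.map φ₁ ≫ X.fromSpecResidueField x) ≫ (ρ g).hom := by
  obtain ⟨hnormal, hstab⟩ := Groth.Agent.S13597.result ρ p hp x
  have h1 : p.residueFieldMap x ≫ φ₁ = p.residueFieldMap x ≫ φ₂ := by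
    apply Spec.map_injective
    rw [Spec.map_comp, Spec.map_comp, ← cancel_mono (Y.fromSpecResidueField (p.base x)),
      Category.assoc, Category.assoc, Scheme.Hom.SpecMap_residueFieldMap_fromSpecResidueField,
      ← Category.assoc, ← Category.assoc]
    exact h
  letI := (p.residueFieldMap x).hom.toAlgebra
  obtain ⟨α, hα⟩ := exists_aut_of_normal (F := Y.residueField (p.base x))
    (E := X.residueField x) φ₁.hom φ₂.hom (by
      have := congrArg CommRingCat.Hom.hom h1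
      rw [CommRingCat.hom_comp, CommRingCat.hom_comp] at this
      exact this)
  let τ : X.residueField x ≅ X.residueField x := α.toRingEquiv.toCommRingCatIso
  have hτ : p.residueFieldMap x ≫ τ.hom = p.residueFieldMap x := by
    apply CommRingCat.hom_ext
    apply RingHom.ext
    intro z
    exact α.commutes z
  obtain ⟨g, e, hg⟩ := hstab τ hτ
  refine ⟨g, ?_⟩
  rw [Category.assoc, Groth.Agent.S2910.fromSpecResidueField_comp _ _ e, ← Category.assoc,
    ← Spec.map_comp]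
  congr 2
  show φ₂ = (X.residueFieldCongr e).inv ≫ (ρ g).hom.residueFieldMap x ≫ φ₁
  rw [← Category.assoc, ← hg]
  apply CommRingCat.hom_ext
  apply RingHom.ext
  intro z
  exact (hα z).symm

theorem exists_conj_aux [Finite G] (ρ : G →* Aut X) (p : X ⟶ Y) (hp : SGA1.IsQuot ρ p)
    (K : Type u) [Field K] (x : X) (φ₂ : X.residueField x ⟶ CommRingCat.of K)
    (ξ₃ : Spec (CommRingCat.of K) ⟶ X) (hx : ξ₃.base (IsLocalRing.closedPoint K) = x)
    (h : ξ₃ ≫ p = (Spec.map φ₂ ≫ X.fromSpecResidueField x) ≫ p) :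
    ∃ g : G, Spec.map φ₂ ≫ X.fromSpecResidueField x = ξ₃ ≫ (ρ g).hom := by
  subst hx
  have d₃ := Scheme.descResidueField_stalkClosedPointTo_fromSpecResidueField K X ξ₃
  generalize Scheme.descResidueField (Scheme.stalkClosedPointTo ξ₃) = φ₃ at d₃
  have h3 : (Spec.map φ₃ ≫ X.fromSpecResidueField _) ≫ p =
      (Spec.map φ₂ ≫ X.fromSpecResidueField _) ≫ p := by
    rw [d₃, h]
  obtain ⟨g', hg'⟩ := exists_conj_of_same_point ρ p hp K _ φ₃ φ₂ h3
  exact ⟨g', by rw [hg', d₃]⟩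

/-- conjugacy of `K`-points with the same image in `Y`. -/
theorem exists_conj_of_geometric [Finite G] (ρ : G →* Aut X) (p : X ⟶ Y) (hp : SGA1.IsQuot ρ p)
    (K : Type u) [Field K] (ξ₁ ξ₂ : Spec (CommRingCat.of K) ⟶ X) (h : ξ₁ ≫ p = ξ₂ ≫ p) :
    ∃ g : G, ξ₂ = ξ₁ ≫ (ρ g).hom := by
  obtain ⟨-, hfib, -⟩ := Groth.Agent.S2908.result ρ p hp
  have d₂ := Scheme.descResidueField_stalkClosedPointTo_fromSpecResidueField K X ξ₂
  have hpx : p.base (ξ₁.base (IsLocalRing.closedPoint K)) =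
      p.base (ξ₂.base (IsLocalRing.closedPoint K)) :=
    congrArg (fun k => k.base (IsLocalRing.closedPoint K)) h
  obtain ⟨g, hg⟩ := (hfib _ _).mp hpx
  obtain ⟨g', hg'⟩ := exists_conj_aux ρ p hp K _
    (Scheme.descResidueField (Scheme.stalkClosedPointTo ξ₂)) (ξ₁ ≫ (ρ g).hom) hg (by
      rw [d₂, Category.assoc, hp.inv, h])
  refine ⟨g' * g, ?_⟩
  rw [Groth.Agent.S2910.hom_mul', ← Category.assoc, ← hg', d₂]

end Groth.Agent.Lib.Helper79.FreeQuot
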