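import Groth.Agent.Lib.Helper79.QuotCoset
import Groth.Agent.Lib.Helper69.QuotGlue
import Groth.Agent.S13606
import Groth.Agent.S13596
import Mathlib

/-!
# Quotients and coset decompositions, general form (helper79)

* `isQuot_of_coset`: if the translates of an open `Y ⊆ X` stable under a subgroup `H` cover `X` and
  `gY` is disjoint from `Y` for `g ∉ H`, then `Y ⟶ X/G` is a quotient of `Y` by `H`.
* `isIso_of_isQuot_of_subsingleton`: a quotient by a trivial group is an isomorphism.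
-/

set_option autoImplicit false

namespace Groth.Agent.Lib.Helper79.QuotCoset

open CategoryTheory CategoryTheory.Limits AlgebraicGeometry

universe u

theorem isQuot_of_coset {G : Type u} [Group G] [Finite G] {X XG : Scheme.{u}}
    (ρ : G →* Aut X) (p : X ⟶ XG)
    (hP : SGA1.IsQuot ρ p) (H : Subgroup G) (Y : X.Opens)
    (hcov : ∀ x : X, ∃ g : G, x ∈ (ρ g).hom.base '' (Y : Set X))
    (hdisj : ∀ g : G, g ∉ H → Disjoint ((ρ g).hom.base '' (Y : Set X)) (Y : Set X))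
    (ρY : H →* Aut (Y : Scheme.{u})) (hρY : ∀ h : H, (ρY h).hom ≫ Y.ι = Y.ι ≫ (ρ (h : G)).hom) :
    SGA1.IsQuot ρY (Y.ι ≫ p) := by
  classical
  -- `Y` is `H`-stable
  have hYstab : ∀ (h : H) (x : X), x ∈ Y → (ρ (h : G)).hom.base x ∈ Y := by
    intro h x hx
    have h1 := congrArg (fun k => k.base ⟨x, hx⟩) (hρY h)
    have h2 : (ρ (h : G)).hom.base x = Y.ι.base ((ρY h).hom.base ⟨x, hx⟩) := h1.symm
    rw [h2]
    exact ((ρY h).hom.base ⟨x, hx⟩).2
  have hinv : ∀ h : H, (ρY h).hom ≫ Y.ι ≫ p = Y.ι ≫ p := by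
    intro h
    rw [← Category.assoc, hρY h, Category.assoc, hP.inv]
  have hpinv : ∀ (g : G) (x : X), p.base ((ρ g).hom.base x) = p.base x := fun g x =>
    congrArg (fun k => k.base x) (hP.inv g)
  -- `Y` is closed
  have hclosed : IsClosed (Y : Set X) := by
    rw [← isOpen_compl_iff]
    have : (Y : Set X)ᶜ = ⋃ g ∈ {g : G | g ∉ H}, (ρ g).hom.base '' (Y : Set X) := by
      ext x
      simp only [Set.mem_compl_iff, Set.mem_iUnion, exists_prop]
      constructor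
      · intro hx
        obtain ⟨g, hg⟩ := hcov x
        refine ⟨g, fun hgH => hx ?_, hg⟩
        obtain ⟨y, hy, rfl⟩ := hg
        exact hYstab ⟨g, hgH⟩ y hy
      · rintro ⟨g, hgH, hg⟩ hx
        exact (Set.disjoint_left.mp (hdisj g hgH)) hg hx
    rw [this]
    refine isOpen_biUnion fun g _ => ?_
    have : IsIso (ρ g).hom := Iso.isIso_hom (ρ g)
    exact (ρ g).hom.isOpenEmbedding.isOpenMap _ Y.isOpen
  have hci : IsClosedImmersion Y.ι :=
    .of_isPreimmersion _ (by rw [Scheme.Opens.range_ι]; exact hclosed)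
  have haff := hP.affine
  refine ⟨inferInstance, hinv, ?_, ?_⟩
  all_goals
    intro U
    have hYW : Y.ι ''ᵁ ((Y.ι ≫ p) ⁻¹ᵁ U) ≤ p ⁻¹ᵁ U := by
      rintro _ ⟨y, hy, rfl⟩
      exact hy
    have hmemY' : ∀ x : X, x ∈ Y.ι ''ᵁ ((Y.ι ≫ p) ⁻¹ᵁ U) ↔ x ∈ Y ∧ p.base x ∈ U := by
      intro x
      constructor
      · rintro ⟨y, hy, rfl⟩
        exact ⟨y.2, hy⟩
      · rintro ⟨hx, hxU⟩
        exact ⟨⟨x, hx⟩, hxU, rfl⟩
    have hW : ∀ g : G, p ⁻¹ᵁ U ≤ (ρ g).hom ⁻¹ᵁ (p ⁻¹ᵁ U) := fun g =>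
      SGA1.preimage_le_of_inv ρ p hP.inv g U
    have hcov' : ∀ x : X, x ∈ p ⁻¹ᵁ U → ∃ g : G, (ρ g).hom.base x ∈ Y.ι ''ᵁ ((Y.ι ≫ p) ⁻¹ᵁ U) := by
      intro x hx
      obtain ⟨g, y, hy, rfl⟩ := hcov x
      refine ⟨g⁻¹, (hmemY' _).mpr ?_⟩
      have h1 : (ρ g⁻¹).hom.base ((ρ g).hom.base y) = y := by
        have h2 : (ρ g).hom ≫ (ρ g⁻¹).hom = 𝟙 X := by
          rw [← Groth.Agent.Lib.Helper79.QuotCoset.hom_mul, inv_mul_cancel, map_one]; rfl
        exact congrArg (fun k => k.base y) h2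
      rw [h1]
      refine ⟨hy, ?_⟩
      have : p.base ((ρ g).hom.base y) ∈ U := hx
      rwa [hpinv] at this
    have hqapp : ∀ a : Γ(XG, U), ((Y.ι ≫ p).app U).hom a =
        (X.presheaf.map (homOfLE hYW).op).hom ((p.app U).hom a) := fun a => rfl
  · intro a b hab
    apply hP.injective U
    refine Groth.Agent.Lib.Helper79.QuotCoset.eq_of_res_eq ρ _ _ hW hYW hcov' _ _
      (fun g => Groth.Agent.Lib.Helper69.QuotGlue.invariant_of_mem_range ρ p hP.inv U _ ⟨a, rfl⟩ g)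
      (fun g => Groth.Agent.Lib.Helper69.QuotGlue.invariant_of_mem_range ρ p hP.inv U _ ⟨b, rfl⟩ g)
      ?_
    rw [← hqapp, ← hqapp]
    exact hab
  · intro s
    constructor
    · intro hs h
      exact Groth.Agent.Lib.Helper69.QuotGlue.invariant_of_mem_range ρY (Y.ι ≫ p) hinv U s hs h
    · intro hs
      have hH : ∀ h : G, h ∈ H → Y.ι ''ᵁ ((Y.ι ≫ p) ⁻¹ᵁ U) ≤
          (ρ h).hom ⁻¹ᵁ (Y.ι ''ᵁ ((Y.ι ≫ p) ⁻¹ᵁ U)) := by
        intro h hh x hx
        rw [hmemY'] at hx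
        show (ρ h).hom.base x ∈ Y.ι ''ᵁ ((Y.ι ≫ p) ⁻¹ᵁ U)
        rw [hmemY', hpinv]
        exact ⟨hYstab ⟨h, hh⟩ x hx.1, hx.2⟩
      have hdisj' : ∀ (g : G) (x : X), x ∈ Y.ι ''ᵁ ((Y.ι ≫ p) ⁻¹ᵁ U) →
          (ρ g).hom.base x ∈ Y.ι ''ᵁ ((Y.ι ≫ p) ⁻¹ᵁ U) → g ∈ H := by
        intro g x hx hgx
        by_contra hgH
        exact (Set.disjoint_left.mp (hdisj g hgH)) ⟨x, ((hmemY' x).mp hx).1, rfl⟩
          ((hmemY' _).mp hgx).1
      have hs' : ∀ (h : G) (hh : h ∈ H),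
          ((ρ h).hom.appLE (Y.ι ''ᵁ ((Y.ι ≫ p) ⁻¹ᵁ U)) (Y.ι ''ᵁ ((Y.ι ≫ p) ⁻¹ᵁ U))
            (hH h hh)).hom s = s := by
        intro h hh
        have e1 := Groth.Agent.S13606.restrict_appLE (ρY ⟨h, hh⟩).hom (ρ h).hom (hρY ⟨h, hh⟩)
          ((Y.ι ≫ p) ⁻¹ᵁ U) ((Y.ι ≫ p) ⁻¹ᵁ U)
          (SGA1.preimage_le_of_inv ρY (Y.ι ≫ p) hinv ⟨h, hh⟩ U) (hH h hh)
        rw [← e1]
        exact hs ⟨h, hh⟩
      obtain ⟨t, htinv, hts⟩ := Groth.Agent.Lib.Helper79.QuotCoset.exists_invariant_extension ρ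
        (Y.ι ''ᵁ ((Y.ι ≫ p) ⁻¹ᵁ U)) (p ⁻¹ᵁ U) H hW hYW hH hdisj' hcov' s hs'
      obtain ⟨a, ha⟩ := (hP.range_iff U t).mpr htinv
      refine ⟨a, ?_⟩
      rw [hqapp, ha]
      exact hts

/-- an affine morphism which is bijective on sections over every open is an isomorphism -/
theorem isIso_of_affine_of_bijective {X Y : Scheme.{u}} (p : X ⟶ Y) [IsAffineHom p]
    (h : ∀ U : Y.Opens, Function.Bijective (p.app U).hom) : IsIso p := by
  rw [← MorphismProperty.isomorphisms.iff,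
    @HasAffineProperty.eq_targetAffineLocally _ _
      AlgebraicGeometry.instHasAffinePropertyIsomorphismsSchemeAndIsAffineIsIsoCommRingCatAppTop]
  intro U
  refine ⟨?_, ?_⟩
  · exact (U.2.preimage p)
  · rw [morphismRestrict_appTop]
    have h1 : IsIso (p.app (U.1.ι ''ᵁ ⊤)) :=
      (ConcreteCategory.isIso_iff_bijective _).mpr (h _)
    have h2 : IsIso (X.presheaf.map (eqToHom (image_morphismRestrict_preimage p U.1 ⊤)).op) := by
      rw [eqToHom_op, eqToHom_map]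
      infer_instance
    exact @IsIso.comp_isIso _ _ _ _ _ _ _ h1 h2

/-- a quotient by a trivial group is an isomorphism -/
theorem isIso_of_isQuot_of_subsingleton {G : Type u} [Group G] [Subsingleton G]
    {X Y : Scheme.{u}} (ρ : G →* Aut X) (p : X ⟶ Y) (hp : SGA1.IsQuot ρ p) : IsIso p := by
  have := hp.affine
  apply isIso_of_affine_of_bijective
  intro U
  refine ⟨hp.injective U, fun s => ?_⟩
  have : s ∈ Set.range (p.app U).hom := by
    rw [hp.range_iff]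
    intro g
    have hg : g = 1 := Subsingleton.elim _ _
    subst hg
    have h1 : (ρ 1).hom = 𝟙 X := by rw [map_one]; rfl
    have := Groth.Agent.S13596.appLE_of_eq_id (p ⁻¹ᵁ U) (ρ 1).hom h1
      (SGA1.preimage_le_of_inv ρ p hp.inv 1 U)
    rw [this]
    rfl
  exact this

end Groth.Agent.Lib.Helper79.QuotCoset
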