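import Groth.Prelude.Def_SGA1
import Groth.Agent.Lib.Helper79.FreeQuot
import Groth.Agent.Lib.Helper79.QuotCoset2
import Groth.Agent.Lib.Helper79.RestrictAut
import Groth.Agent.S13606
import Mathlib

/-!
# Quotient maps are flat near points where the action is "locally free modulo inertia"
-/

set_option autoImplicit false
open CategoryTheory CategoryTheory.Limits AlgebraicGeometry
universe u

namespace Groth.Agent.Lib.Helper79.FreeQuot2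

open Groth.Agent.Lib.Helper79.RestrictAut

variable {X X' : Scheme.{u}} {G : Type u} [Group G]

/-- pass from an action to the action of its image in the automorphism group. -/
theorem isQuot_range [Finite G] (ρ : G →* Aut X) (p : X ⟶ X') (hp : SGA1.IsQuot ρ p) :
    SGA1.IsQuot (ρ.range.subtype) p := by
  refine ⟨hp.affine, ?_, hp.injective, ?_⟩
  · rintro ⟨_, h, rfl⟩
    exact hp.inv h
  · intro U s
    rw [hp.range_iff U s]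
    constructor
    · rintro hs ⟨_, h, rfl⟩
      exact hs h
    · intro hs h
      exact hs ⟨ρ h, h, rfl⟩

theorem flat_comp_of_local [Finite G] (ρ : G →* Aut X) (p : X ⟶ X') (hp : SGA1.IsQuot ρ p)
    (W : X.Opens) (H : Subgroup G)
    (hstab : ∀ h ∈ H, ∀ x ∈ W, (ρ h).hom.base x ∈ W)
    (hdisj : ∀ g, g ∉ H → ∀ x ∈ W, (ρ g).hom.base x ∉ W)
    (htriv : ∀ h ∈ H, ∀ (K : Type u) [Field K] [IsAlgClosed K] (ξ : Spec (CommRingCat.of K) ⟶ X),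
      (∀ w, ξ.base w ∈ W) → ξ ≫ (ρ h).hom = ξ → W.ι ≫ (ρ h).hom = W.ι) :
    Flat (W.ι ≫ p) := by
  classical
  obtain ⟨hsurj, hfib, hquot⟩ := Groth.Agent.S2908.result ρ p hp
  have hpinv : ∀ (g : G) (x : X), p.base ((ρ g).hom.base x) = p.base x := fun g x =>
    congrArg (fun k => k.base x) (hp.inv g)
  -- `V = p(W)` is open
  have hVopen : IsOpen (p.base '' (W : Set X)) := by
    rw [← hquot.isOpen_preimage]
    have : p.base ⁻¹' (p.base '' (W : Set X)) = ⋃ g : G, (ρ g).hom.base '' (W : Set X) := by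
      ext x
      constructor
      · rintro ⟨y, hy, hxy⟩
        obtain ⟨g, hg⟩ := (hfib y x).mp hxy
        exact Set.mem_iUnion.mpr ⟨g, y, hy, hg⟩
      · intro hx
        obtain ⟨g, y, hy, rfl⟩ := Set.mem_iUnion.mp hx
        exact ⟨y, hy, (hpinv g y).symm⟩
    rw [this]
    refine isOpen_iUnion fun g => ?_
    have : IsIso (ρ g).hom := Iso.isIso_hom (ρ g)
    exact (ρ g).hom.isOpenEmbedding.isOpenMap _ W.isOpen
  let V : X'.Opens := ⟨p.base '' (W : Set X), hVopen⟩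
  have hX₁ : ∀ (g : G) (x : X), x ∈ p ⁻¹ᵁ V → (ρ g).hom.base x ∈ p ⁻¹ᵁ V := by
    intro g x hx
    show p.base _ ∈ V
    rw [hpinv]
    exact hx
  let ρ₁ := restrictAut ρ (p ⁻¹ᵁ V) hX₁
  have hQ₁ : SGA1.IsQuot ρ₁ (p ∣_ V) :=
    Groth.Agent.S13606.result ρ p hp V ρ₁ (restrictAut_ι ρ (p ⁻¹ᵁ V) hX₁)
  let W₁ : ((p ⁻¹ᵁ V : X.Opens) : Scheme.{u}).Opens := (p ⁻¹ᵁ V).ι ⁻¹ᵁ W
  have hmemW₁ : ∀ x : (p ⁻¹ᵁ V : X.Opens), x ∈ W₁ ↔ (p ⁻¹ᵁ V).ι.base x ∈ W := fun x => Iff.rfl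
  have hρ₁base : ∀ (g : G) (x : (p ⁻¹ᵁ V : X.Opens)),
      (p ⁻¹ᵁ V).ι.base ((ρ₁ g).hom.base x) = (ρ g).hom.base ((p ⁻¹ᵁ V).ι.base x) :=
    fun g x => restrictAut_base ρ (p ⁻¹ᵁ V) hX₁ g x
  have hWV : ∀ x : X, x ∈ W → x ∈ p ⁻¹ᵁ V := fun x hx => ⟨x, hx, rfl⟩
  have hcov : ∀ x : (p ⁻¹ᵁ V : X.Opens), ∃ g : G, x ∈ (ρ₁ g).hom.base '' (W₁ : Set _) := by
    rintro ⟨x0, y, hy, hxy⟩
    obtain ⟨g, hg⟩ := (hfib y x0).mp hxy
    refine ⟨g, ⟨y, hWV y hy⟩, hy, ?_⟩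
    apply Subtype.ext
    exact (hρ₁base g ⟨y, hWV y hy⟩).trans hg
  have hdisj₁ : ∀ g : G, g ∉ H →
      Disjoint ((ρ₁ g).hom.base '' (W₁ : Set _)) (W₁ : Set _) := by
    intro g hg
    rw [Set.disjoint_left]
    rintro _ ⟨y, hy, rfl⟩ h2
    have h3 : (p ⁻¹ᵁ V).ι.base ((ρ₁ g).hom.base y) ∈ W := h2
    exact hdisj g hg _ hy ((congrArg (· ∈ W) (hρ₁base g y)).mp h3)
  let ρH : H →* Aut ((p ⁻¹ᵁ V : X.Opens) : Scheme.{u}) := ρ₁.comp H.subtype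
  have hW₁ : ∀ (h : H) (x : (p ⁻¹ᵁ V : X.Opens)), x ∈ W₁ → (ρH h).hom.base x ∈ W₁ := by
    intro h x hx
    show (p ⁻¹ᵁ V).ι.base ((ρ₁ (h : G)).hom.base x) ∈ W
    rw [hρ₁base]
    exact hstab h h.2 _ hx
  let ρW := restrictAut ρH W₁ hW₁
  have hQW : SGA1.IsQuot ρW (W₁.ι ≫ (p ∣_ V)) :=
    Groth.Agent.Lib.Helper79.QuotCoset.isQuot_of_coset ρ₁ (p ∣_ V) hQ₁ H W₁ hcov hdisj₁ ρW
      (fun h => restrictAut_ι ρH W₁ hW₁ h)
  have hQ' := isQuot_range ρW _ hQW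
  have hfin : Finite ρW.range := Finite.of_surjective ρW.rangeRestrict ρW.rangeRestrict_surjective
  -- the inclusion `W₁ ⟶ X` factors through `W`
  have hrange : Set.range (W₁.ι ≫ (p ⁻¹ᵁ V).ι).base = Set.range W.ι.base := by
    rw [Scheme.Opens.range_ι]
    ext x
    constructor
    · rintro ⟨y, rfl⟩
      exact y.2
    · intro hx
      exact ⟨⟨⟨x, hWV x hx⟩, hx⟩, rfl⟩
  let k := IsOpenImmersion.isoOfRangeEq (W₁.ι ≫ (p ⁻¹ᵁ V).ι) W.ι hrange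
  have hk : k.hom ≫ W.ι = W₁.ι ≫ (p ⁻¹ᵁ V).ι := IsOpenImmersion.isoOfRangeEq_hom_fac _ _ _
  have hfree' : ∀ (K : Type u) [Field K] [IsAlgClosed K]
      (ξ : Spec (CommRingCat.of K) ⟶ (W₁ : Scheme.{u})) (g : ρW.range),
      ξ ≫ (ρW.range.subtype g).hom = ξ → g = 1 := by
    rintro K _ _ ξ ⟨_, h, rfl⟩ hξ
    have hξ' : ξ ≫ (ρW h).hom = ξ := hξ
    have h1 : (ρW h).hom ≫ W₁.ι ≫ (p ⁻¹ᵁ V).ι = W₁.ι ≫ (p ⁻¹ᵁ V).ι ≫ (ρ (h : G)).hom := by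
      rw [← Category.assoc, restrictAut_ι ρH W₁ hW₁ h, Category.assoc]
      congr 1
      exact restrictAut_ι ρ (p ⁻¹ᵁ V) hX₁ (h : G)
    have h2 : (ξ ≫ W₁.ι ≫ (p ⁻¹ᵁ V).ι) ≫ (ρ (h : G)).hom = ξ ≫ W₁.ι ≫ (p ⁻¹ᵁ V).ι := by
      rw [Category.assoc, Category.assoc, ← h1, ← Category.assoc, hξ']
    have h3 : ∀ w, (ξ ≫ W₁.ι ≫ (p ⁻¹ᵁ V).ι).base w ∈ W := fun w => by
      show (p ⁻¹ᵁ V).ι.base (W₁.ι.base (ξ.base w)) ∈ W
      exact (ξ.base w).2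
    have h4 := htriv h h.2 K _ h3 h2
    have h5 : (ρW h).hom = 𝟙 _ := by
      rw [← cancel_mono (W₁.ι ≫ (p ⁻¹ᵁ V).ι), h1, Category.id_comp, ← Category.assoc, ← hk,
        Category.assoc, h4]
    apply Subtype.ext
    apply Iso.ext
    exact h5
  have hflat : Flat (W₁.ι ≫ (p ∣_ V)) :=
    Groth.Agent.Lib.Helper79.FreeQuot.flat_of_free _ _ hQ' hfree'
  have hflat2 : Flat ((W₁.ι ≫ (p ∣_ V)) ≫ V.ι) := inferInstance
  have e1 : (W₁.ι ≫ (p ∣_ V)) ≫ V.ι = k.hom ≫ (W.ι ≫ p) := by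
    rw [Category.assoc, morphismRestrict_ι, ← Category.assoc, ← hk, Category.assoc]
  rw [e1] at hflat2
  have hflat3 : Flat (k.inv ≫ (k.hom ≫ (W.ι ≫ p))) := inferInstance
  rw [k.inv_hom_id_assoc] at hflat3
  exact hflat3

end Groth.Agent.Lib.Helper79.FreeQuot2
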