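import Mathlib

/-!
# Degree of the Frobenius of a field: `[L : L^q]` (helper79)

`rdeg φ` is the degree of a field along a ring homomorphism; `frobDeg L p r = [L : L^(p^r)]`.
-/

set_option linter.style.haveILetI false

namespace Groth.Agent.Lib.Helper79.FrobDeg

open Polynomial

/-- relative degree of a ring hom between fields -/
noncomputable def rdeg {A B : Type*} [Field A] [Field B] (φ : A →+* B) : ℕ :=
  @Module.finrank A B _ _ φ.toAlgebra.toModule

theorem rdeg_comp {A B C : Type*} [Field A] [Field B] [Field C] (φ : A →+* B) (ψ : B →+* C) :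
    rdeg (ψ.comp φ) = rdeg φ * rdeg ψ := by
  letI := φ.toAlgebra
  letI := ψ.toAlgebra
  letI := (ψ.comp φ).toAlgebra
  haveI : IsScalarTower A B C := IsScalarTower.of_algebraMap_eq (fun x => rfl)
  exact (Module.finrank_mul_finrank A B C).symm

theorem rdeg_of_bijective {A B : Type*} [Field A] [Field B] (φ : A →+* B)
    (h : Function.Bijective φ) : rdeg φ = 1 := by
  letI := φ.toAlgebra
  have e : A ≃ₗ[A] B := LinearEquiv.ofBijective (Algebra.linearMap A B) h
  show Module.finrank A B = 1
  rw [← e.finrank_eq]
  exact Module.finrank_self A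

theorem rdeg_algebraMap (A B : Type*) [Field A] [Field B] [inst : Algebra A B] :
    rdeg (algebraMap A B) = Module.finrank A B := by
  have : (algebraMap A B).toAlgebra = inst := Algebra.algebra_ext _ _ (fun r => rfl)
  unfold rdeg
  rw [this]

theorem rdeg_ne_zero_of_finite {A B : Type*} [Field A] [Field B] [Algebra A B] [Module.Finite A B] :
    rdeg (algebraMap A B) ≠ 0 := by
  rw [rdeg_algebraMap]
  exact Module.finrank_pos.ne'

section Frob

variable (p r : ℕ)

/-- `[L : L^(p^r)]` -/
noncomputable def frobDeg (L : Type*) [Field L] [ExpChar L p] : ℕ := rdeg (iterateFrobenius L p r)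

/-- a finite extension does not change the Frobenius degree -/
theorem frobDeg_eq_of_rdeg_ne_zero {E L : Type*} [Field E] [Field L] [ExpChar E p] [ExpChar L p]
    (ι : E →+* L) (h : rdeg ι ≠ 0) : frobDeg p r L = frobDeg p r E := by
  have hc : (iterateFrobenius L p r).comp ι = ι.comp (iterateFrobenius E p r) := by
    ext x
    simp [iterateFrobenius_def]
  have h1 := rdeg_comp ι (iterateFrobenius L p r)
  have h2 := rdeg_comp (iterateFrobenius E p r) ι
  rw [hc, h2] at h1
  unfold frobDeg
  have : rdeg ι * rdeg (iterateFrobenius E p r) = rdeg ι * rdeg (iterateFrobenius L p r) := by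
    rw [← h1, mul_comm]
  exact (Nat.eq_of_mul_eq_mul_left (Nat.pos_of_ne_zero h) this).symm

theorem frobDeg_eq_of_bijective {E L : Type*} [Field E] [Field L] [ExpChar E p] [ExpChar L p]
    (ι : E →+* L) (h : Function.Bijective ι) : frobDeg p r L = frobDeg p r E :=
  frobDeg_eq_of_rdeg_ne_zero p r ι (by rw [rdeg_of_bijective ι h]; exact one_ne_zero)

theorem frobDeg_eq_one_of_perfect (L : Type*) [Field L] [ExpChar L p] [PerfectRing L p] :
    frobDeg p r L = 1 :=
  rdeg_of_bijective _ (bijective_iterateFrobenius L p r)

end Frob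

section RatFuncFrob

open scoped RatFunc

attribute [local instance] Polynomial.algebra

variable (p r : ℕ) (M : Type*) [Field M] [ExpChar M p]

theorem ratFunc_ringHom_ext {L : Type*} [Field L] {j k : RatFunc M →+* L}
    (hC : ∀ a : M, j (algebraMap M[X] (RatFunc M) (C a)) = k (algebraMap M[X] (RatFunc M) (C a)))
    (hX : j (algebraMap M[X] (RatFunc M) X) = k (algebraMap M[X] (RatFunc M) X)) : j = k := by
  apply IsLocalization.ringHom_ext (nonZeroDivisors M[X])
  apply Polynomial.ringHom_ext
  · intro a; exact hC a
  · exact hX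

/-- coefficientwise Frobenius on `M(X)` -/
noncomputable def alpha : RatFunc M →+* RatFunc M :=
  RatFunc.liftRingHom
    ((algebraMap M[X] (RatFunc M)).comp (Polynomial.mapRingHom (iterateFrobenius M p r)))
    (nonZeroDivisors_le_comap_nonZeroDivisors_of_injective _
      ((RatFunc.algebraMap_injective M).comp
        (Polynomial.map_injective _ (iterateFrobenius M p r).injective)))

/-- the substitution `X ↦ X^(p^r)` on `M(X)` -/
noncomputable def beta : RatFunc M →+* RatFunc M :=
  RatFunc.liftRingHom
    ((algebraMap M[X] (RatFunc M)).comp (Polynomial.expand M (p ^ r)).toRingHom)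
    (nonZeroDivisors_le_comap_nonZeroDivisors_of_injective _
      ((RatFunc.algebraMap_injective M).comp
        (Polynomial.expand_injective (pow_pos (expChar_pos M p) r))))

theorem alpha_algebraMap (P : M[X]) :
    alpha p r M (algebraMap M[X] (RatFunc M) P) =
      algebraMap M[X] (RatFunc M) (P.map (iterateFrobenius M p r)) :=
  RatFunc.liftRingHom_algebraMap _ _ P

theorem beta_algebraMap (P : M[X]) :
    beta p r M (algebraMap M[X] (RatFunc M) P) =
      algebraMap M[X] (RatFunc M) (Polynomial.expand M (p ^ r) P) :=
  RatFunc.liftRingHom_algebraMap _ _ P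

theorem frob_eq_beta_comp_alpha :
    iterateFrobenius (RatFunc M) p r = (beta p r M).comp (alpha p r M) := by
  apply ratFunc_ringHom_ext
  · intro a
    rw [RingHom.comp_apply, alpha_algebraMap, Polynomial.map_C, beta_algebraMap, Polynomial.expand_C,
      iterateFrobenius_def, iterateFrobenius_def, ← map_pow, ← map_pow]
  · rw [RingHom.comp_apply, alpha_algebraMap, Polynomial.map_X, beta_algebraMap, Polynomial.expand_X,
      iterateFrobenius_def, map_pow]

theorem rdeg_beta : rdeg (beta p r M) = p ^ r := by
  have hq : 0 < p ^ r := pow_pos (expChar_pos M p) r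
  have htr : Transcendental M ((RatFunc.X : RatFunc M) ^ (p ^ r)) :=
    RatFunc.transcendental_X.pow hq
  let e := RatFunc.algEquivOfTranscendental ((RatFunc.X : RatFunc M) ^ (p ^ r)) htr
  let eR : RatFunc M →+* IntermediateField.adjoin M {(RatFunc.X : RatFunc M) ^ (p ^ r)} :=
    e.toAlgHom.toRingHom
  have heR : ∀ x, eR x = e x := fun x => rfl
  have hfac : beta p r M =
      (algebraMap (IntermediateField.adjoin M {(RatFunc.X : RatFunc M) ^ (p ^ r)}) (RatFunc M)).comp
        eR := by
    apply ratFunc_ringHom_ext
    · intro a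
      rw [beta_algebraMap, Polynomial.expand_C, RingHom.comp_apply]
      have : eR (algebraMap M[X] (RatFunc M) (C a)) =
          algebraMap M _ a := by
        have h1 : algebraMap M[X] (RatFunc M) (C a) = algebraMap M (RatFunc M) a := by
          rw [RatFunc.algebraMap_eq_C]; rfl
        rw [h1, heR]
        exact e.commutes a
      rw [this]
      rw [← IsScalarTower.algebraMap_apply, RatFunc.algebraMap_eq_C]
      rfl
    · rw [beta_algebraMap, Polynomial.expand_X, RingHom.comp_apply, map_pow]
      have h1 : algebraMap M[X] (RatFunc M) X = RatFunc.X := RatFunc.algebraMap_X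
      have : (algebraMap (IntermediateField.adjoin M {(RatFunc.X : RatFunc M) ^ (p ^ r)}) (RatFunc M))
          (eR (algebraMap M[X] (RatFunc M) X)) = RatFunc.X ^ (p ^ r) := by
        rw [h1, heR]
        exact RatFunc.algEquivOfTranscendental_X _ htr
      rw [this, h1]
  rw [hfac, rdeg_comp, rdeg_of_bijective eR e.bijective, one_mul, rdeg_algebraMap,
    RatFunc.finrank_eq_max_natDegree]
  have h2 : (RatFunc.X : RatFunc M) ^ (p ^ r) = algebraMap M[X] (RatFunc M) (X ^ (p ^ r)) := by
    rw [map_pow, RatFunc.algebraMap_X]
  rw [h2, RatFunc.num_algebraMap, RatFunc.denom_algebraMap, Polynomial.natDegree_X_pow,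
    Polynomial.natDegree_one]
  simp

theorem isAlgebraic_fieldRange :
    Algebra.IsAlgebraic (iterateFrobenius M p r).fieldRange M := by
  have hq : 0 < p ^ r := pow_pos (expChar_pos M p) r
  refine ⟨fun x => IsIntegral.isAlgebraic ?_⟩
  refine ⟨X ^ (p ^ r) - C (⟨x ^ (p ^ r), ⟨x, iterateFrobenius_def p r x⟩⟩ :
    (iterateFrobenius M p r).fieldRange), Polynomial.monic_X_pow_sub_C _ hq.ne', ?_⟩
  simp only [Polynomial.eval₂_sub, Polynomial.eval₂_pow, Polynomial.eval₂_X, Polynomial.eval₂_C]
  exact sub_self _

theorem rrf_surjective :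
    Function.Surjective (iterateFrobenius M p r).rangeRestrictField := by
  rintro ⟨y, x, hx⟩
  exact ⟨x, Subtype.ext hx⟩

theorem frobDeg_eq_finrank_fieldRange :
    frobDeg p r M = Module.finrank (iterateFrobenius M p r).fieldRange M := by
  have hfac : iterateFrobenius M p r =
      (algebraMap (iterateFrobenius M p r).fieldRange M).comp
        (iterateFrobenius M p r).rangeRestrictField := by
    ext x; rfl
  unfold frobDeg
  conv_lhs => rw [hfac]
  rw [rdeg_comp, rdeg_algebraMap, rdeg_of_bijective, one_mul]
  exact ⟨(iterateFrobenius M p r).rangeRestrictField.injective, rrf_surjective p r M⟩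

/-- coefficientwise Frobenius as a map onto `M₀(X)`, `M₀ = M^(p^r)` -/
noncomputable def gamma : RatFunc M →+* RatFunc (iterateFrobenius M p r).fieldRange :=
  RatFunc.liftRingHom
    ((algebraMap (Polynomial (iterateFrobenius M p r).fieldRange)
        (RatFunc (iterateFrobenius M p r).fieldRange)).comp
      (Polynomial.mapRingHom (iterateFrobenius M p r).rangeRestrictField))
    (nonZeroDivisors_le_comap_nonZeroDivisors_of_injective _
      ((RatFunc.algebraMap_injective _).comp
        (Polynomial.map_injective _ (iterateFrobenius M p r).rangeRestrictField.injective)))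

theorem gamma_algebraMap (P : M[X]) :
    gamma p r M (algebraMap M[X] (RatFunc M) P) =
      algebraMap _ (RatFunc (iterateFrobenius M p r).fieldRange)
        (P.map (iterateFrobenius M p r).rangeRestrictField) :=
  RatFunc.liftRingHom_algebraMap _ _ P

theorem gamma_bijective : Function.Bijective (gamma p r M) := by
  refine ⟨(gamma p r M).injective, fun z => ?_⟩
  obtain ⟨P, Q, hQ, rfl⟩ := IsFractionRing.div_surjective
    (Polynomial (iterateFrobenius M p r).fieldRange) z
  obtain ⟨P', rfl⟩ := Polynomial.map_surjective _ (rrf_surjective p r M) P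
  obtain ⟨Q', rfl⟩ := Polynomial.map_surjective _ (rrf_surjective p r M) Q
  refine ⟨algebraMap M[X] (RatFunc M) P' / algebraMap M[X] (RatFunc M) Q', ?_⟩
  rw [map_div₀, gamma_algebraMap, gamma_algebraMap]

theorem algebraMap_ratFunc_algebraMap (P₀ : Polynomial (iterateFrobenius M p r).fieldRange) :
    algebraMap (RatFunc (iterateFrobenius M p r).fieldRange) (RatFunc M)
        (algebraMap _ (RatFunc (iterateFrobenius M p r).fieldRange) P₀) =
      algebraMap M[X] (RatFunc M)
        (P₀.map (algebraMap (iterateFrobenius M p r).fieldRange M)) := by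
  rw [← IsScalarTower.algebraMap_apply (Polynomial (iterateFrobenius M p r).fieldRange)
    (RatFunc (iterateFrobenius M p r).fieldRange) (RatFunc M)]
  rw [RatFunc.algebraMap_apply (R := Polynomial (iterateFrobenius M p r).fieldRange), map_one,
    div_one]
  rfl

theorem alpha_eq_comp_gamma :
    alpha p r M =
      (algebraMap (RatFunc (iterateFrobenius M p r).fieldRange) (RatFunc M)).comp (gamma p r M) := by
  apply IsLocalization.ringHom_ext (nonZeroDivisors M[X])
  refine RingHom.ext fun P => ?_
  rw [RingHom.comp_apply, RingHom.comp_apply, RingHom.comp_apply, alpha_algebraMap, gamma_algebraMap,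
    algebraMap_ratFunc_algebraMap, Polynomial.map_map]
  rfl

theorem rdeg_alpha : rdeg (alpha p r M) = frobDeg p r M := by
  have := isAlgebraic_fieldRange p r M
  rw [alpha_eq_comp_gamma, rdeg_comp, rdeg_of_bijective _ (gamma_bijective p r M), one_mul,
    rdeg_algebraMap, RatFunc.finrank_ratFunc_ratFunc, frobDeg_eq_finrank_fieldRange]

/-- `[M(X) : M(X)^q] = q [M : M^q]` -/
theorem frobDeg_ratFunc : frobDeg p r (RatFunc M) = p ^ r * frobDeg p r M := by
  unfold frobDeg
  rw [frob_eq_beta_comp_alpha, rdeg_comp, rdeg_alpha, rdeg_beta, mul_comm]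
  rfl

end RatFuncFrob

end Groth.Agent.Lib.Helper79.FrobDeg
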