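import Mathlib
import Groth.Agent.Lib.Helper79.FrobDeg1

/-!
# `[L : L^q] = q^(trdeg) [k : k^q]` for a finitely generated field extension `L/k` (helper79)
-/

set_option linter.style.haveILetI false

namespace Groth.Agent.Lib.Helper79.FrobDeg

open Polynomial Cardinal

universe u

theorem trdeg_ratFunc (k : Type u) [Field k] : Algebra.trdeg k (RatFunc k) = 1 := by
  have h1 : Algebra.trdeg k k[X] = 1 := Polynomial.trdeg_of_isDomain
  have halg : Algebra.IsAlgebraic k[X] (RatFunc k) :=
    (IsFractionRing.comap_isAlgebraic_iff (A := k[X]) (K := RatFunc k) (C := RatFunc k)).mpr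
      inferInstance
  have h2 : Algebra.trdeg k[X] (RatFunc k) = 0 := trdeg_eq_zero
  have h3 := trdeg_add_eq k k[X] (A := RatFunc k)
  rw [h1, h2, add_zero] at h3
  exact h3.symm

theorem trdeg_adjoin_simple {k L : Type u} [Field k] [Field L] [Algebra k L] (s : L)
    (hs : Transcendental k s) : Algebra.trdeg k (IntermediateField.adjoin k {s}) = 1 := by
  rw [← (RatFunc.algEquivOfTranscendental s hs).trdeg_eq, trdeg_ratFunc]

theorem frobDeg_adjoin_simple (p r : ℕ) {k L : Type u} [Field k] [Field L] [Algebra k L]
    [ExpChar k p] (s : L) [ExpChar (IntermediateField.adjoin k {s}) p]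
    (hs : Transcendental k s) :
    frobDeg p r (IntermediateField.adjoin k {s}) = p ^ r * frobDeg p r k := by
  rw [← frobDeg_ratFunc]
  exact frobDeg_eq_of_bijective p r
    ((RatFunc.algEquivOfTranscendental s hs).toAlgHom.toRingHom)
    (RatFunc.algEquivOfTranscendental s hs).bijective

theorem frobDeg_eq_pow_trdeg (p r : ℕ) (n : ℕ) :
    ∀ (k L : Type u) [Field k] [Field L] [Algebra k L] [ExpChar k p] [ExpChar L p]
      [Algebra.EssFiniteType k L], Algebra.trdeg k L = n →
      frobDeg p r L = (p ^ r) ^ n * frobDeg p r k := by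
  induction n with
  | zero =>
    intro k L _ _ _ _ _ _ h
    have halg : Algebra.IsAlgebraic k L := trdeg_eq_zero_iff.mp (by simpa using h)
    have hfin : Module.Finite k L := Algebra.finite_of_essFiniteType_of_isAlgebraic
    rw [pow_zero, one_mul]
    exact frobDeg_eq_of_rdeg_ne_zero p r (algebraMap k L) rdeg_ne_zero_of_finite
  | succ n ih =>
    intro k L _ _ _ _ _ _ h
    have hne : Algebra.trdeg k L ≠ 0 := by rw [h]; exact_mod_cast Nat.succ_ne_zero n
    have htr : Algebra.Transcendental k L := trdeg_ne_zero_iff.mp hne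
    obtain ⟨s, hs⟩ := htr.transcendental
    haveI : ExpChar (IntermediateField.adjoin k {s}) p :=
      expChar_of_injective_algebraMap (algebraMap k (IntermediateField.adjoin k {s})).injective p
    haveI : Algebra.EssFiniteType (IntermediateField.adjoin k {s}) L :=
      Algebra.EssFiniteType.of_comp k (IntermediateField.adjoin k {s}) L
    have hadd := trdeg_add_eq k (IntermediateField.adjoin k {s}) (A := L)
    rw [trdeg_adjoin_simple s hs, h] at hadd
    have hlt : Algebra.trdeg (IntermediateField.adjoin k {s}) L < ℵ₀ := by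
      refine lt_of_le_of_lt (self_le_add_left _ 1) ?_
      rw [hadd]
      exact Cardinal.natCast_lt_aleph0
    obtain ⟨m, hm⟩ := Cardinal.lt_aleph0.mp hlt
    rw [hm] at hadd
    have hmn : m = n := by
      have : ((1 + m : ℕ) : Cardinal) = ((n + 1 : ℕ) : Cardinal) := by
        rw [Nat.cast_add, Nat.cast_one]; exact hadd
      have := Nat.cast_injective this
      omega
    subst hmn
    rw [ih (IntermediateField.adjoin k {s}) L hm, frobDeg_adjoin_simple p r s hs, pow_succ]
    ring

end Groth.Agent.Lib.Helper79.FrobDeg
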