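import Groth.Agent.S13056
import Groth.Agent.Lib.Helper39.PowerSeriesODE
import Groth.Prelude.Def_W4c1zetahwZeta
import Mathlib.LinearAlgebra.Charpoly.ToMatrix
import Mathlib.LinearAlgebra.Trace
import Mathlib.LinearAlgebra.Matrix.Charpoly.Coeff

/-!
# Zeta function identity from a trace formula (algebraic part), helper79
-/

set_option autoImplicit false
universe u v w

namespace Groth.Agent.Lib.Helper79.ZetaAlg

open PowerSeries Groth.Agent.Lib.Helper39

section LinAlg
variable {K : Type v} [Field K] {V : Type w} [AddCommGroup V] [Module K V] [Module.Finite K V]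

theorem LD_charpoly_reverse (φ : V →ₗ[K] V) :
    LD ((LinearMap.charpoly φ).reverse : PowerSeries K)
      (-(PowerSeries.mk fun m => LinearMap.trace K V (φ ^ (m + 1)))) := by
  classical
  let b := Module.finBasis K V
  set M := LinearMap.toMatrix b b φ with hM
  have h1 : (LinearMap.charpoly φ).reverse = M.charpolyRev := by
    rw [← LinearMap.charpoly_toMatrix φ b, Matrix.reverse_charpoly]
  rw [h1, Groth.Agent.S13056.coe_charpolyRev]
  have h2 := Groth.Agent.S13056.jacobi M
  rw [Groth.Agent.S13056.trace_Nmat_mul] at h2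
  convert h2 using 3
  funext m
  rw [hM, LinearMap.toMatrix_pow, ← LinearMap.trace_eq_matrix_trace K b]

theorem constantCoeff_charpoly_reverse (φ : V →ₗ[K] V) :
    constantCoeff ((LinearMap.charpoly φ).reverse : PowerSeries K) = 1 := by
  rw [← coeff_zero_eq_constantCoeff_apply, Polynomial.coeff_coe, Polynomial.coeff_zero_reverse,
    (LinearMap.charpoly_monic φ).leadingCoeff]

end LinAlg

theorem sum_range_even_odd {M : Type*} [AddCommMonoid M] (g : ℕ → M) (n : ℕ) :
    ∑ i ∈ Finset.range (2 * n + 1), g i =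
      ∑ i ∈ Finset.range (n + 1), g (2 * i) + ∑ i ∈ Finset.range n, g (2 * i + 1) := by
  induction n with
  | zero => simp
  | succ n ih =>
    have : 2 * (n + 1) + 1 = (2 * n + 1) + 1 + 1 := by ring
    rw [this, Finset.sum_range_succ, Finset.sum_range_succ, ih,
      Finset.sum_range_succ (fun i => g (2 * i)) (n + 1),
      Finset.sum_range_succ (fun i => g (2 * i + 1)) n]
    have e1 : 2 * n + 1 + 1 = 2 * (n + 1) := by ring
    rw [e1]
    abel

theorem zeta_identity {k₀ : Type u} [Field k₀] {X : AlgebraicGeometry.Scheme.{u}}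
    (f : X ⟶ AlgebraicGeometry.Spec (CommRingCat.of k₀))
    {K : Type v} [Field K] [CharZero K] (n : ℕ)
    (V : ℕ → Type w) [∀ i, AddCommGroup (V i)] [∀ i, Module K (V i)] [∀ i, Module.Finite K (V i)]
    (φ : ∀ i, V i →ₗ[K] V i)
    (hN : ∀ m : ℕ, 1 ≤ m → (Zeta.nPts f m : K) =
      ∑ i ∈ Finset.range (2 * n + 1), (-1 : K) ^ i * LinearMap.trace K (V i) (φ i ^ m)) :
    PowerSeries.map (algebraMap ℚ K) (Zeta.zetaFun f) *
        (∏ i ∈ Finset.range (n + 1), ((LinearMap.charpoly (φ (2 * i))).reverse : PowerSeries K)) =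
      ∏ i ∈ Finset.range n, ((LinearMap.charpoly (φ (2 * i + 1))).reverse : PowerSeries K) := by
  set L := Zeta.logZeta f with hL
  have hL0 : constantCoeff L = 0 := by
    rw [← coeff_zero_eq_constantCoeff_apply, hL, Zeta.logZeta, coeff_mk]
    simp
  set LK : PowerSeries K := PowerSeries.map (algebraMap ℚ K) L with hLK
  have hLK0 : constantCoeff LK = 0 := by
    rw [hLK, ← coeff_zero_eq_constantCoeff_apply, coeff_map, coeff_zero_eq_constantCoeff_apply, hL0,
      map_zero]
  have hZ : PowerSeries.map (algebraMap ℚ K) (Zeta.zetaFun f) = expSubst LK := by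
    unfold Zeta.zetaFun expSubst
    have h := PowerSeries.map_subst (HasSubst.of_constantCoeff_zero' hL0) (h := algebraMap ℚ K)
      (PowerSeries.exp ℚ)
    rw [PowerSeries.map_exp] at h
    exact h
  let Tr : ℕ → PowerSeries K := fun i => PowerSeries.mk fun m => LinearMap.trace K (V i) (φ i ^ (m + 1))
  have hLD1 : LD (PowerSeries.map (algebraMap ℚ K) (Zeta.zetaFun f) *
        (∏ i ∈ Finset.range (n + 1), ((LinearMap.charpoly (φ (2 * i))).reverse : PowerSeries K)))
      (d⁄dX K LK + ∑ i ∈ Finset.range (n + 1), (-(Tr (2 * i)))) := by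
    rw [hZ]
    exact (expSubst_LD LK hLK0).mul (LD.prod _ _ _ (fun i _ => LD_charpoly_reverse (φ (2 * i))))
  have hLD2 : LD (∏ i ∈ Finset.range n, ((LinearMap.charpoly (φ (2 * i + 1))).reverse : PowerSeries K))
      (∑ i ∈ Finset.range n, (-(Tr (2 * i + 1)))) :=
    LD.prod _ _ _ (fun i _ => LD_charpoly_reverse (φ (2 * i + 1)))
  have hb : d⁄dX K LK + ∑ i ∈ Finset.range (n + 1), (-(Tr (2 * i))) =
      ∑ i ∈ Finset.range n, (-(Tr (2 * i + 1))) := by
    ext m
    rw [map_add, map_sum, map_sum, coeff_derivative]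
    have h1 : coeff (m + 1) LK * ((m : K) + 1) = (Zeta.nPts f (m + 1) : K) := by
      rw [hLK, coeff_map, hL, Zeta.logZeta, coeff_mk]
      have : ((m : K) + 1) ≠ 0 := Nat.cast_add_one_ne_zero m
      rw [map_div₀, map_natCast, map_natCast]
      push_cast
      field_simp
    rw [h1, hN (m + 1) (by omega), sum_range_even_odd]
    have e1 : ∀ i : ℕ, (-1 : K) ^ (2 * i) = 1 := fun i => by rw [pow_mul]; simp
    have e2 : ∀ i : ℕ, (-1 : K) ^ (2 * i + 1) = -1 := fun i => by rw [pow_succ, e1]; simp
    simp only [e1, e2, Tr, map_neg, coeff_mk, one_mul, neg_mul, Finset.sum_neg_distrib]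
    abel
  rw [hb] at hLD1
  apply LD.unique hLD1 hLD2
  rw [map_mul, map_prod, map_prod, hZ, constantCoeff_expSubst LK hLK0, one_mul,
    Finset.prod_congr rfl (fun i _ => constantCoeff_charpoly_reverse (φ (2 * i))),
    Finset.prod_congr rfl (fun i _ => constantCoeff_charpoly_reverse (φ (2 * i + 1)))]
  simp

end Groth.Agent.Lib.Helper79.ZetaAlg
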