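import Mathlib
import Groth.Agent.Lib.Helper79.ZetaAlg

/-!
# The algebra of the functional equation of the zeta function (helper79)
-/

namespace Groth.Agent.Lib.Helper79.FrobFE

open Polynomial Finset Groth.Agent.Lib.Helper79.ZetaAlg

section Alt

variable {L : Type*} [Field L]

/-- alternating product: odd-indexed terms over even-indexed terms -/
noncomputable def alt (n : ℕ) (a : ℕ → L) : L :=
  (∏ i ∈ range n, a (2 * i + 1)) / (∏ i ∈ range (n + 1), a (2 * i))

theorem alt_mul (n : ℕ) (a b : ℕ → L) : alt n (fun j => a j * b j) = alt n a * alt n b := by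
  unfold alt
  rw [prod_mul_distrib, prod_mul_distrib, mul_div_mul_comm]

theorem alt_congr (n : ℕ) {a b : ℕ → L} (h : ∀ j ≤ 2 * n, a j = b j) : alt n a = alt n b := by
  unfold alt
  congr 1
  · exact prod_congr rfl (fun i hi => h _ (by have := mem_range.mp hi; omega))
  · exact prod_congr rfl (fun i hi => h _ (by have := mem_range.mp hi; omega))

theorem alt_reflect (n : ℕ) (a : ℕ → L) : alt n (fun j => a (2 * n - j)) = alt n a := by
  unfold alt
  congr 1
  · rw [← prod_range_reflect (fun i => a (2 * i + 1)) n]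
    apply prod_congr rfl
    intro i hi
    have := mem_range.mp hi
    show a (2 * n - (2 * i + 1)) = a (2 * (n - 1 - i) + 1)
    rw [show 2 * n - (2 * i + 1) = 2 * (n - 1 - i) + 1 by omega]
  · rw [← prod_range_reflect (fun i => a (2 * i)) (n + 1)]
    apply prod_congr rfl
    intro i hi
    have := mem_range.mp hi
    show a (2 * n - 2 * i) = a (2 * (n + 1 - 1 - i))
    rw [show 2 * n - 2 * i = 2 * (n + 1 - 1 - i) by omega]

theorem map_alt {L' : Type*} [Field L'] (φ : L →+* L') (n : ℕ) (a : ℕ → L) :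
    φ (alt n a) = alt n (fun j => φ (a j)) := by
  unfold alt
  rw [map_div₀, map_prod, map_prod]

/-- the alternating sum of a sequence of natural numbers -/
def altSum (n : ℕ) (B : ℕ → ℕ) : ℤ := ∑ i ∈ range (2 * n + 1), (-1 : ℤ) ^ i * (B i : ℤ)

theorem altSum_eq (n : ℕ) (B : ℕ → ℕ) :
    altSum n B = ((∑ i ∈ range (n + 1), B (2 * i) : ℕ) : ℤ) - ((∑ i ∈ range n, B (2 * i + 1) : ℕ) : ℤ) := by
  unfold altSum
  rw [sum_range_even_odd]
  push_cast
  have h1 : ∀ i : ℕ, (-1 : ℤ) ^ (2 * i) * (B (2 * i) : ℤ) = B (2 * i) := by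
    intro i; rw [pow_mul]; simp
  have h2 : ∀ i : ℕ, (-1 : ℤ) ^ (2 * i + 1) * (B (2 * i + 1) : ℤ) = -(B (2 * i + 1) : ℤ) := by
    intro i; rw [pow_succ, pow_mul]; simp
  simp only [h1, h2, sum_neg_distrib]
  ring

theorem alt_pow (n : ℕ) (x : L) (hx : x ≠ 0) (B : ℕ → ℕ) :
    alt n (fun j => x ^ B j) = x ^ (-(altSum n B)) := by
  unfold alt
  rw [prod_pow_eq_pow_sum, prod_pow_eq_pow_sum, altSum_eq, neg_sub, zpow_sub₀ hx, zpow_natCast,
    zpow_natCast]

theorem even_altSum (n : ℕ) (B : ℕ → ℕ) (H3 : ∀ j ≤ 2 * n, B (2 * n - j) = B j)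
    (hB : Even (B n)) : Even (altSum n B) := by
  unfold altSum
  have e : 2 * n + 1 = n + (n + 1) := by ring
  rw [e, sum_range_add, sum_range_succ']
  have h1 : ∑ i ∈ range n, (-1 : ℤ) ^ (n + (i + 1)) * (B (n + (i + 1)) : ℤ) =
      ∑ i ∈ range n, (-1 : ℤ) ^ i * (B i : ℤ) := by
    rw [← sum_range_reflect (fun i => (-1 : ℤ) ^ (n + (i + 1)) * (B (n + (i + 1)) : ℤ)) n]
    apply sum_congr rfl
    intro i hi
    have hi' := mem_range.mp hi
    have e1 : n + (n - 1 - i + 1) = 2 * n - i := by omega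
    rw [e1, H3 i (by omega)]
    congr 1
    have e2 : 2 * n - i = i + 2 * (n - i) := by omega
    rw [e2, pow_add, pow_mul]
    simp
  rw [h1, add_zero]
  have h2 : Even ((-1 : ℤ) ^ n * (B n : ℤ)) := by
    apply Even.mul_left
    exact_mod_cast hB
  obtain ⟨t, ht⟩ := h2
  exact ⟨∑ i ∈ range n, (-1 : ℤ) ^ i * (B i : ℤ) + t, by rw [ht]; ring⟩

end Alt

section FE

variable {K : Type*} [Field K]

theorem cX_ne_zero (c : K) (hc : c ≠ 0) : (RatFunc.C c * RatFunc.X : RatFunc K) ≠ 0 :=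
  mul_ne_zero (by rw [Ne, map_eq_zero]; exact hc) RatFunc.X_ne_zero

/-- evaluating the reverse of a polynomial at `1/(cX)` -/
theorem aeval_reverse (c : K) (hc : c ≠ 0) (χ : K[X]) :
    aeval ((RatFunc.X : RatFunc K)⁻¹ * (RatFunc.C c)⁻¹) χ.reverse *
        (RatFunc.C c * RatFunc.X) ^ χ.natDegree =
      algebraMap K[X] (RatFunc K) (χ.comp (C c * X)) := by
  have hne := cX_ne_zero c hc
  let _ : Invertible (RatFunc.C c * RatFunc.X : RatFunc K) := invertibleOfNonzero hne
  have h := eval₂_reverse_mul_pow (algebraMap K (RatFunc K)) (RatFunc.C c * RatFunc.X) χ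
  rw [invOf_eq_inv, mul_inv_rev, mul_comm (RatFunc.X : RatFunc K)⁻¹] at h
  rw [mul_comm (RatFunc.X : RatFunc K)⁻¹, aeval_def, h,
    ← RatFunc.aeval_X_left_eq_algebraMap, aeval_comp, aeval_def]
  congr 1
  simp

theorem functional_equation (n : ℕ) (q : K) (hq : q ≠ 0)
    (χ : ℕ → K[X]) (B : ℕ → ℕ) (d : ℕ → K)
    (hdeg : ∀ j, (χ j).natDegree = B j)
    (H1 : ∀ j ≤ 2 * n, d j • (χ (2 * n - j)).reverse =
      (-1 : K[X]) ^ B j * (χ j).comp (C (q ^ n) * X))
    (H2 : ∀ j ≤ 2 * n, d (2 * n - j) * d j = q ^ (n * B j))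
    (H3 : ∀ j ≤ 2 * n, B (2 * n - j) = B j)
    (H4 : Even (n * B n)) :
    ∃ ε : K, (ε = 1 ∨ ε = -1) ∧
      aeval ((RatFunc.X : RatFunc K)⁻¹ * RatFunc.C (q ^ n)⁻¹)
          (∏ i ∈ range n, (χ (2 * i + 1)).reverse) /
        aeval ((RatFunc.X : RatFunc K)⁻¹ * RatFunc.C (q ^ n)⁻¹)
          (∏ i ∈ range (n + 1), (χ (2 * i)).reverse) =
      RatFunc.C ε * RatFunc.C q ^ ((n : ℤ) * altSum n B / 2) *
        (RatFunc.X : RatFunc K) ^ (altSum n B) *
        (algebraMap K[X] (RatFunc K) (∏ i ∈ range n, (χ (2 * i + 1)).reverse) /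
          algebraMap K[X] (RatFunc K) (∏ i ∈ range (n + 1), (χ (2 * i)).reverse)) := by
  have hc : q ^ n ≠ 0 := pow_ne_zero _ hq
  have hne := cX_ne_zero (q ^ n) hc
  have hCq : (RatFunc.C q : RatFunc K) ≠ 0 := by rw [Ne, map_eq_zero]; exact hq
  set E := altSum n B with hE
  -- evenness
  have heven : Even ((n : ℤ) * E) := by
    rcases Nat.even_mul.mp H4 with h | h
    · exact Even.mul_right (by exact_mod_cast h) _
    · exact Even.mul_left (even_altSum n B H3 h) _
  have h2h : 2 * ((n : ℤ) * E / 2) = (n : ℤ) * E := Int.two_mul_ediv_two_of_even heven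
  set h' := (n : ℤ) * E / 2 with hh'
  -- the families
  let s : RatFunc K := (RatFunc.X : RatFunc K)⁻¹ * RatFunc.C (q ^ n)⁻¹
  let a : ℕ → RatFunc K := fun j => aeval s (χ j).reverse
  let b : ℕ → RatFunc K := fun j => algebraMap K[X] (RatFunc K) (χ j).reverse
  let u : ℕ → K := fun j => (-1) ^ B j * d j
  have hI : ∀ j ≤ 2 * n, a j * (RatFunc.C (q ^ n) * RatFunc.X) ^ B j =
      RatFunc.C (u j) * b (2 * n - j) := by
    intro j hj
    have h1 := aeval_reverse (q ^ n) hc (χ j)
    rw [hdeg j, ← map_inv₀] at h1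
    have h2 := congrArg (algebraMap K[X] (RatFunc K)) (H1 j hj)
    rw [Polynomial.smul_eq_C_mul, map_mul, RatFunc.algebraMap_C, map_mul, map_pow, map_neg,
      map_one, ← h1] at h2
    have hCu : RatFunc.C ((-1) ^ B j * d j) = (-1 : RatFunc K) ^ B j * RatFunc.C (d j) := by
      rw [map_mul, map_pow, map_neg, map_one]
    have hsign : ((-1 : RatFunc K) ^ B j) * ((-1) ^ B j) = 1 := by
      rw [← pow_add, ← two_mul, pow_mul]; simp
    show aeval s (χ j).reverse * _ = RatFunc.C ((-1) ^ B j * d j) * _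
    rw [hCu, mul_assoc, h2, ← mul_assoc, hsign, one_mul]
  have hLHS : aeval s (∏ i ∈ range n, (χ (2 * i + 1)).reverse) /
      aeval s (∏ i ∈ range (n + 1), (χ (2 * i)).reverse) = alt n a := by
    unfold alt
    rw [map_prod, map_prod]
  have hRHS : algebraMap K[X] (RatFunc K) (∏ i ∈ range n, (χ (2 * i + 1)).reverse) /
      algebraMap K[X] (RatFunc K) (∏ i ∈ range (n + 1), (χ (2 * i)).reverse) = alt n b := by
    unfold alt
    rw [map_prod, map_prod]
  have hmain : alt n a * (RatFunc.C (q ^ n) * RatFunc.X) ^ (-E) =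
      RatFunc.C (alt n u) * alt n b := by
    rw [← alt_pow n _ hne B, ← alt_mul, alt_congr n hI, alt_mul, alt_reflect, map_alt]
  have hmain' : alt n a = RatFunc.C (alt n u) * (RatFunc.C (q ^ n) * RatFunc.X) ^ E * alt n b := by
    have := congrArg (fun z => z * (RatFunc.C (q ^ n) * RatFunc.X) ^ E) hmain
    beta_reduce at this
    rw [mul_assoc, ← zpow_add₀ hne, neg_add_cancel, zpow_zero, mul_one] at this
    rw [this]; ring
  -- the square of `alt u`
  have hsq : alt n u * alt n u = q ^ (-((n : ℤ) * E)) := by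
    have h0 : alt n u * alt n u = alt n (fun j => u (2 * n - j)) * alt n u := by
      rw [alt_reflect]
    rw [h0, ← alt_mul]
    have : ∀ j ≤ 2 * n, u (2 * n - j) * u j = (q ^ n) ^ B j := by
      intro j hj
      show (-1) ^ B (2 * n - j) * d (2 * n - j) * ((-1) ^ B j * d j) = _
      have hsign : ((-1 : K) ^ B j) * ((-1) ^ B j) = 1 := by
        rw [← pow_add, ← two_mul, pow_mul]; simp
      rw [H3 j hj, mul_mul_mul_comm, H2 j hj, hsign, one_mul, pow_mul]
    rw [alt_congr n this, alt_pow n _ hc B, ← hE, ← zpow_natCast q n, ← zpow_mul, mul_neg]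
  refine ⟨alt n u * q ^ h', ?_, ?_⟩
  · apply sq_eq_one_iff.mp
    rw [sq, mul_mul_mul_comm, hsq, ← zpow_add₀ hq, ← two_mul, h2h, ← zpow_add₀ hq,
      neg_add_cancel, zpow_zero]
  · show aeval s _ / aeval s _ = _
    rw [hLHS, hRHS, hmain', mul_zpow, map_mul, map_zpow₀, map_pow, ← zpow_natCast (RatFunc.C q) n,
      ← zpow_mul, ← h2h, two_mul, zpow_add₀ hCq]
    ring

end FE

section Skew

variable {K : Type*} [Field K] [CharZero K] {V : Type*} [AddCommGroup V] [Module K V]
  [FiniteDimensional K V]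

/-- A space with a perfect skew-symmetric pairing has even dimension. -/
theorem even_finrank_of_skew (B : V →ₗ[K] V →ₗ[K] K) [B.IsPerfPair]
    (hskew : ∀ v w, B v w = - B w v) : Even (Module.finrank K V) := by
  classical
  rcases Nat.even_or_odd (Module.finrank K V) with h | h
  · exact h
  exfalso
  let ι := Fin (Module.finrank K V)
  let b : Module.Basis ι K V := Module.finBasis K V
  let M : Matrix ι ι K :=
    LinearMap.toMatrix b b.dualBasis (B.toPerfPair : V →ₗ[K] Module.Dual K V)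
  have hM : ∀ i j, M i j = B (b j) (b i) := by
    intro i j
    simp [M, LinearMap.toMatrix_apply]
  have hu : IsUnit M.det := LinearEquiv.isUnit_det B.toPerfPair b b.dualBasis
  have hT : M.transpose = -M := by
    ext i j
    rw [Matrix.transpose_apply, Matrix.neg_apply, hM, hM, hskew]
  have hdet : M.det = - M.det := by
    conv_lhs => rw [← Matrix.det_transpose, hT, Matrix.det_neg, Fintype.card_fin, h.neg_one_pow,
      neg_one_mul]
  have h2 : M.det + M.det = 0 := by
    nth_rewrite 1 [hdet]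
    exact neg_add_cancel _
  have h3 : (2 : K) * M.det = 0 := by rw [two_mul]; exact h2
  rcases mul_eq_zero.mp h3 with h4 | h4
  · exact two_ne_zero h4
  · exact hu.ne_zero h4

end Skew

end Groth.Agent.Lib.Helper79.FrobFE
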