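import Mathlib

/-!
# Linear algebra of a scaled perfect pairing, universe polymorphic (helper79)

Universe-polymorphic versions of the statements S3252 and S13059 (whose proofs, by other seats, are
repeated here for `V`, `W` in universes different from that of the field), together with the
behaviour of the characteristic polynomial under scaling.
-/

namespace Groth.Agent.Lib.Helper79.FrobLin

open Polynomial Matrix

universe uK uV uW

section matrix
variable {K : Type uK} [Field K] {ι : Type*} [Fintype ι] [DecidableEq ι]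

theorem matrix_identity (F G : Matrix ι ι K) (c : K) (hc : c ≠ 0)
    (h : Fᵀ * G = c • (1 : Matrix ι ι K)) :
    F.det • G.charpoly.reverse =
      ((-1) ^ Fintype.card ι * c ^ Fintype.card ι) • (c⁻¹ • F).charpoly := by
  rw [Matrix.reverse_charpoly, Matrix.charpolyRev, Matrix.charpoly, Matrix.charmatrix]
  set A : Matrix ι ι K[X] := F.map C with hA
  set Gc : Matrix ι ι K[X] := G.map C with hGc
  have h1 : Aᵀ * Gc = (C c) • (1 : Matrix ι ι K[X]) := by
    have := congrArg (fun M : Matrix ι ι K => M.map (C : K → K[X])) h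
    beta_reduce at this
    rw [Matrix.map_mul, Matrix.transpose_map] at this
    rw [hA, hGc, this]
    ext i j
    simp [Matrix.one_apply, Matrix.smul_apply]
    split_ifs <;> simp
  have hL : F.det • (1 - (X : K[X]) • Gc).det =
      (Aᵀ - (C c * X) • (1 : Matrix ι ι K[X])).det := by
    have hdet : (C F.det : K[X]) = Aᵀ.det := by
      rw [Matrix.det_transpose, hA]
      exact (RingHom.map_det C F)
    rw [Polynomial.smul_eq_C_mul, hdet, ← Matrix.det_mul, Matrix.mul_sub, Matrix.mul_one,
      Matrix.mul_smul, h1, smul_smul, mul_comm X (C c)]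
  have hR : ((-1) ^ Fintype.card ι * c ^ Fintype.card ι) •
      (Matrix.scalar ι (X : K[X]) - (C : K →+* K[X]).mapMatrix (c⁻¹ • F)).det
      = (Aᵀ - (C c * X) • (1 : Matrix ι ι K[X])).det := by
    have h2 : (C : K →+* K[X]).mapMatrix (c⁻¹ • F) = C c⁻¹ • A := by
      ext i j
      simp [hA]
    rw [h2, Polynomial.smul_eq_C_mul]
    have h3 : (C ((-1) ^ Fintype.card ι * c ^ Fintype.card ι) : K[X]) =
        (C (-c)) ^ Fintype.card ι := by
      rw [← C_pow, neg_pow (c)]
    rw [h3, ← Matrix.det_smul, ← Matrix.det_transpose]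
    congr 1
    rw [Matrix.transpose_smul, Matrix.transpose_sub, Matrix.transpose_smul, smul_sub, smul_smul]
    have h4 : C (-c) * C c⁻¹ = (-1 : K[X]) := by
      rw [← C_mul, neg_mul, mul_inv_cancel₀ hc]; simp
    rw [h4]
    have h5 : (Matrix.scalar ι (X : K[X]))ᵀ = (X : K[X]) • (1 : Matrix ι ι K[X]) := by
      ext i j
      simp [Matrix.one_apply, Matrix.scalar_apply, Matrix.diagonal_apply, eq_comm]
    rw [h5, smul_smul]
    simp only [C_neg, neg_mul, neg_smul, one_smul, sub_neg_eq_add]
    abel
  rw [hL, ← hR]

/-- scaling the variable of a characteristic polynomial -/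
theorem charpoly_scale (M : Matrix ι ι K) (c : K) (hc : c ≠ 0) :
    C (c ^ Fintype.card ι) * (c⁻¹ • M).charpoly = M.charpoly.comp (C c * X) := by
  have h1 : M.charpoly.comp (C c * X) =
      ((Polynomial.compRingHom (C c * X : K[X])).mapMatrix (charmatrix M)).det := by
    rw [Matrix.charpoly, ← Polynomial.coe_compRingHom_apply, RingHom.map_det]
  have h2 : C (c ^ Fintype.card ι) * (c⁻¹ • M).charpoly =
      ((C c : K[X]) • charmatrix (c⁻¹ • M)).det := by
    rw [Matrix.det_smul, Matrix.charpoly, C_pow]
  rw [h1, h2]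
  congr 1
  ext i j
  by_cases hij : i = j
  · subst hij
    simp only [Matrix.smul_apply, charmatrix_apply_eq, RingHom.mapMatrix_apply, Matrix.map_apply,
      smul_eq_mul, Polynomial.coe_compRingHom_apply, Polynomial.sub_comp, Polynomial.X_comp,
      Polynomial.C_comp]
    rw [mul_sub, ← C_mul, ← mul_assoc, mul_inv_cancel₀ hc, one_mul]
  · simp only [Matrix.smul_apply, charmatrix_apply_ne _ _ _ hij, RingHom.mapMatrix_apply,
      Matrix.map_apply, smul_eq_mul, Polynomial.coe_compRingHom_apply, Polynomial.neg_comp,
      Polynomial.C_comp]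
    rw [mul_neg, ← C_mul, ← mul_assoc, mul_inv_cancel₀ hc, one_mul]

end matrix

section lin

variable (K : Type uK) [Field K] (V : Type uV) (W : Type uW)
    [AddCommGroup V] [Module K V] [FiniteDimensional K V] [AddCommGroup W] [Module K W]
    [FiniteDimensional K W] (B : V →ₗ[K] W →ₗ[K] K) [B.IsPerfPair] (f : V →ₗ[K] V) (g : W →ₗ[K] W)
    (c : K)

theorem det_mul_det_of_pairing (hFG : ∀ (v : V) (w : W), B (f v) (g w) = c * B v w) :
    LinearMap.det f * LinearMap.det g = c ^ Module.finrank K V := by
  set e : V ≃ₗ[K] Module.Dual K W := B.toPerfPair with he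
  have h1 : ((e.symm : Module.Dual K W →ₗ[K] V) ∘ₗ g.dualMap ∘ₗ
      (e : V →ₗ[K] Module.Dual K W)) ∘ₗ f = c • LinearMap.id := by
    apply LinearMap.ext
    intro v
    apply e.injective
    apply LinearMap.ext
    intro w
    simp [he, hFG]
  have h2 := congrArg LinearMap.det h1
  rw [LinearMap.det_comp, LinearMap.det_smul, LinearMap.det_id, mul_one] at h2
  have h3 : LinearMap.det ((e.symm : Module.Dual K W →ₗ[K] V) ∘ₗ g.dualMap ∘ₗ
      (e : V →ₗ[K] Module.Dual K W)) = LinearMap.det g := by
    rw [← LinearMap.det_dualMap g]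
    exact LinearMap.det_conj g.dualMap e.symm
  rw [h3] at h2
  rw [mul_comm, h2]

theorem det_smul_reverse_charpoly (hc : c ≠ 0)
    (hfg : ∀ (v : V) (w : W), B (f v) (g w) = c * B v w) :
    LinearMap.det f • (LinearMap.charpoly g).reverse =
      ((-1) ^ Module.finrank K W * c ^ Module.finrank K W) • (c⁻¹ • f).charpoly := by
  classical
  let ι := Fin (Module.finrank K V)
  let b : Module.Basis ι K V := Module.finBasis K V
  let b' : Module.Basis ι K W := b.dualBasis.map B.flip.toPerfPair.symm
  have hB : ∀ i j, B (b i) (b' j) = if i = j then 1 else 0 := by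
    intro i j
    have : B (b i) (b' j) = b.dualBasis j (b i) := by
      simp only [b', Module.Basis.map_apply]
      exact LinearMap.apply_toPerfPair_flip B (b.dualBasis j) (b i)
    rw [this, Module.Basis.dualBasis_apply_self]
  set F := LinearMap.toMatrix b b f with hF
  set G := LinearMap.toMatrix b' b' g with hG
  have hFG : Fᵀ * G = c • (1 : Matrix ι ι K) := by
    ext j l
    have h1 := hfg (b j) (b' l)
    rw [hB] at h1
    have hfb : f (b j) = ∑ i, F i j • b i := by
      conv_lhs => rw [← b.sum_repr (f (b j))]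
      simp only [hF, LinearMap.toMatrix_apply]
    have hgb : g (b' l) = ∑ m, G m l • b' m := by
      conv_lhs => rw [← b'.sum_repr (g (b' l))]
      simp only [hG, LinearMap.toMatrix_apply]
    rw [hfb, hgb] at h1
    simp only [map_sum, LinearMap.sum_apply, map_smul, LinearMap.smul_apply, hB, smul_eq_mul] at h1
    rw [Matrix.mul_apply]
    simp only [Matrix.transpose_apply, Matrix.smul_apply, Matrix.one_apply, smul_eq_mul]
    rw [← h1]
    apply Finset.sum_congr rfl
    intro x _
    rw [Finset.sum_eq_single x]
    · rw [if_pos rfl, mul_one, mul_comm]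
    · intro y _ hy
      rw [if_neg hy, mul_zero]
    · intro h; exact absurd (Finset.mem_univ x) h
  have hr : Module.finrank K W = Fintype.card ι := by
    rw [Fintype.card_fin, Module.finrank_of_isPerfPair B]
  have hcharg : g.charpoly = G.charpoly := (LinearMap.charpoly_toMatrix g b').symm
  have hdetf : LinearMap.det f = F.det := (LinearMap.det_toMatrix b f).symm
  have hcharf : (c⁻¹ • f).charpoly = (c⁻¹ • F).charpoly := by
    rw [← LinearMap.charpoly_toMatrix (c⁻¹ • f) b, map_smul]
  rw [hcharg, hdetf, hcharf, hr]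
  exact matrix_identity F G c hc hFG

/-- The form used in the functional equation. -/
theorem det_smul_reverse_charpoly_comp (hc : c ≠ 0)
    (hfg : ∀ (v : V) (w : W), B (f v) (g w) = c * B v w) :
    LinearMap.det f • (LinearMap.charpoly g).reverse =
      (-1 : K[X]) ^ Module.finrank K V * (LinearMap.charpoly f).comp (C c * X) := by
  classical
  rw [det_smul_reverse_charpoly K V W B f g c hc hfg]
  have hr : Module.finrank K W = Module.finrank K V := (Module.finrank_of_isPerfPair B).symm
  let b : Module.Basis (Fin (Module.finrank K V)) K V := Module.finBasis K V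
  have h1 : (c⁻¹ • f).charpoly = (c⁻¹ • LinearMap.toMatrix b b f).charpoly := by
    rw [← LinearMap.charpoly_toMatrix (c⁻¹ • f) b, map_smul]
  have h2 : f.charpoly = (LinearMap.toMatrix b b f).charpoly :=
    (LinearMap.charpoly_toMatrix f b).symm
  have h3 := charpoly_scale (LinearMap.toMatrix b b f) c hc
  rw [Fintype.card_fin] at h3
  rw [hr, h2, ← h3, h1, Polynomial.smul_eq_C_mul, C_mul, C_pow, C_pow, C_neg, C_1, mul_assoc]

end lin

end Groth.Agent.Lib.Helper79.FrobLin
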