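import Mathlib
import Groth.Agent.Lib.Helper79.FrobGen
import Groth.Agent.Lib.Helper79.FrobDeg1

/-!
# The residue field map of `Frob × id` has the same range as the Frobenius (helper79)
-/

namespace Groth.Agent.Lib.Helper79.FrobDeg

open AlgebraicGeometry CategoryTheory

universe u

section Range

variable {k : Type u} [Field k] {Y X : Scheme.{u}} {R₀ : CommRingCat.{u}}
  (hY : Y ⟶ Spec (CommRingCat.of k)) (π : Y ⟶ X) (f : X ⟶ Spec R₀)
  (ι : Spec (CommRingCat.of k) ⟶ Spec R₀)
  (F : Y ⟶ Y) (hFY : F ≫ hY = hY) (Φ : X ⟶ X) (hF : F ≫ π = π ≫ Φ) (hΦpt : ∀ x : X, Φ x = x)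
  (p r : ℕ)
  (hΦres : ∀ (x : X) (z' : X.residueField (Φ x)),
    (Φ.residueFieldMap x).hom z' = ((X.residueFieldCongr (hΦpt x)).hom.hom z') ^ (p ^ r))

include hFY in
theorem sκ_comp_residueFieldMap (w : Y) : sκ hY (F w) ≫ F.residueFieldMap w = sκ hY w := by
  apply Spec.map_injective
  rw [Spec.map_comp, SpecMap_sκ, ← Category.assoc,
    Scheme.Hom.SpecMap_residueFieldMap_fromSpecResidueField, Category.assoc, hFY, SpecMap_sκ]

include hF hΦres in
theorem residueFieldMap_comp_frob (w : Y) (h : π (F w) = π w)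
    (z : X.residueField (π (F w))) :
    (F.residueFieldMap w).hom ((π.residueFieldMap (F w)).hom z) =
      ((π.residueFieldMap w).hom ((X.residueFieldCongr h).hom.hom z)) ^ (p ^ r) := by
  have e1 := Scheme.residueFieldMap_comp F π w
  have e2 := Scheme.Hom.residueFieldMap_congr hF w
  have e3 := Scheme.residueFieldMap_comp π Φ w
  have a1 : ((F ≫ π).residueFieldMap w).hom z =
      (F.residueFieldMap w).hom ((π.residueFieldMap (F w)).hom z) :=
    congrArg (fun φ => φ.hom z) e1
  have a2 := congrArg (fun φ => φ.hom z) e2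
  have a3 : ∀ z' : X.residueField (Φ (π w)), ((π ≫ Φ).residueFieldMap w).hom z' =
      (π.residueFieldMap w).hom ((Φ.residueFieldMap (π w)).hom z') :=
    fun z' => congrArg (fun φ => φ.hom z') e3
  refine a1.symm.trans (a2.trans ?_)
  simp only [CommRingCat.hom_comp]
  refine (a3 _).trans ?_
  refine (congrArg (π.residueFieldMap w).hom (hΦres (π w) _)).trans ?_
  refine (map_pow _ _ _).trans ?_
  congr 2
  exact congrArg (fun φ => φ.hom z) (X.residueFieldCongr_trans_hom _ (hΦpt (π w)))

variable [ExpChar k p] [PerfectRing k p]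

include hFY hF hΦres in
/-- The image of the residue field map of `F` at `w` is `κ(w)^(p^r)`. -/
theorem map_residueFieldMap_top (hπ : IsPullback π hY f ι) (w : Y)
    [ExpChar (Y.residueField w) p] :
    Subfield.map (F.residueFieldMap w).hom ⊤ =
      Subfield.map (iterateFrobenius (Y.residueField w) p r) ⊤ := by
  have hpt : π (F w) = π w := by
    rw [← Scheme.Hom.comp_apply, hF, Scheme.Hom.comp_apply, hΦpt]
  conv_lhs => rw [← closure_range_eq_top hY π f ι hπ (F w)]
  conv_rhs => rw [← closure_range_eq_top hY π f ι hπ w]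
  rw [RingHom.map_field_closure, RingHom.map_field_closure, Set.image_union, Set.image_union]
  congr 2
  · ext y
    constructor
    · rintro ⟨_, ⟨z, rfl⟩, rfl⟩
      refine ⟨_, ⟨(X.residueFieldCongr hpt).hom.hom z, rfl⟩, ?_⟩
      rw [iterateFrobenius_def]
      exact (residueFieldMap_comp_frob π F Φ hF hΦpt p r hΦres w hpt z).symm
    · rintro ⟨_, ⟨z, rfl⟩, rfl⟩
      refine ⟨_, ⟨(X.residueFieldCongr hpt).inv.hom z, rfl⟩, ?_⟩
      rw [iterateFrobenius_def, residueFieldMap_comp_frob π F Φ hF hΦpt p r hΦres w hpt]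
      congr 2
      exact congrArg (fun φ => φ.hom z) (X.residueFieldCongr hpt).inv_hom_id
  · have hs := sκ_comp_residueFieldMap hY F hFY w
    ext y
    constructor
    · rintro ⟨_, ⟨c, rfl⟩, rfl⟩
      obtain ⟨c', rfl⟩ := (bijective_iterateFrobenius k p r).2 c
      refine ⟨_, ⟨c', rfl⟩, ?_⟩
      rw [iterateFrobenius_def, iterateFrobenius_def, ← map_pow]
      exact congrArg (fun φ => φ.hom (c' ^ p ^ r)) hs.symm
    · rintro ⟨_, ⟨c, rfl⟩, rfl⟩
      refine ⟨_, ⟨c ^ p ^ r, rfl⟩, ?_⟩
      rw [iterateFrobenius_def, ← map_pow]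
      exact congrArg (fun φ => φ.hom (c ^ p ^ r)) hs

theorem rdeg_eq_finrank_map_top {A B : Type*} [Field A] [Field B] (φ : A →+* B) :
    rdeg φ = Module.finrank (Subfield.map φ (⊤ : Subfield A)) B := by
  have hfac : φ = (algebraMap φ.fieldRange B).comp φ.rangeRestrictField := by ext x; rfl
  have hbij : Function.Bijective φ.rangeRestrictField :=
    ⟨φ.rangeRestrictField.injective, fun ⟨y, x, hx⟩ => ⟨x, Subtype.ext hx⟩⟩
  conv_lhs => rw [hfac]
  rw [rdeg_comp, rdeg_of_bijective _ hbij, one_mul, rdeg_algebraMap]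
  exact congrArg (fun S : Subfield B => Module.finrank S B) (RingHom.fieldRange_eq_map φ)

include hFY hF hΦres in
/-- The degree of the residue field extension of `F` at `w` is the Frobenius degree. -/
theorem rdeg_residueFieldMap (hπ : IsPullback π hY f ι) (w : Y)
    [ExpChar (Y.residueField w) p] :
    rdeg (F.residueFieldMap w).hom = frobDeg p r (Y.residueField w) := by
  unfold frobDeg
  rw [rdeg_eq_finrank_map_top, rdeg_eq_finrank_map_top]
  exact congrArg (fun S : Subfield (Y.residueField w) => Module.finrank S (Y.residueField w))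
    (map_residueFieldMap_top hY π f ι F hFY Φ hF hΦpt p r hΦres hπ w)

end Range

end Groth.Agent.Lib.Helper79.FrobDeg
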