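import Mathlib
import Groth.Prelude.Def_WeilCoh
import Groth.Agent.Lib.Helper73.SchemeDim2
import Groth.Agent.Lib.Helper79.WeilGeom

/-!
# Finite dimensionality of schemes of finite type over a field; `pdim ≤ dim` on `Var k`
-/

namespace Groth.Agent.Lib.Helper79.Weil

open AlgebraicGeometry CategoryTheory WeilCoh

universe u v w

theorem ringKrullDim_lt_top_of_finiteType (R A : Type u) [CommRing R] [IsNoetherianRing R]
    (hR : ringKrullDim R < ⊤) [CommRing A] [Algebra R A] [Algebra.FiniteType R A] :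
    ringKrullDim A < ⊤ := by
  obtain ⟨n, f, hf⟩ := Algebra.FiniteType.iff_quotient_mvPolynomial''.mp
    (inferInstance : Algebra.FiniteType R A)
  have h1 := ringKrullDim_le_of_surjective f.toRingHom hf
  have h2 : ringKrullDim (MvPolynomial (Fin n) R) = ringKrullDim R + Nat.card (Fin n) :=
    MvPolynomial.ringKrullDim_of_isNoetherianRing
  rw [h2] at h1
  refine lt_of_le_of_lt h1 ?_
  rcases hd : ringKrullDim R with _ | d
  · rw [WithBot.none_eq_bot, WithBot.bot_add]; exact bot_lt_top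
  · rw [hd] at hR
    have hd' : d ≠ ⊤ := by rintro rfl; exact lt_irrefl _ hR
    lift d to ℕ using hd'
    have : ((d + Nat.card (Fin n) : ℕ) : WithBot ℕ∞) < ⊤ := compareOfLessAndEq_eq_lt.mp rfl
    exact_mod_cast this

variable {k : Type u} [Field k]

theorem finDim_of_locallyOfFiniteType {X : Scheme.{u}} (f : X ⟶ Spec (CommRingCat.of k))
    [LocallyOfFiniteType f] [CompactSpace X] : topologicalKrullDim X < ⊤ := by
  classical
  have hex : ∀ x : X, ∃ U : X.Opens, IsAffineOpen U ∧ x ∈ U := by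
    intro x
    obtain ⟨_, ⟨U, hU : IsAffineOpen U, rfl⟩, hxU, -⟩ :=
      (X.isBasis_affineOpens).exists_subset_of_mem_open (Set.mem_univ x) isOpen_univ
    exact ⟨U, hU, hxU⟩
  choose U hU hxU using hex
  obtain ⟨t, ht⟩ := CompactSpace.elim_nhds_subcover (fun x => (U x : Set X))
    (fun x => (U x).isOpen.mem_nhds (hxU x))
  let e0 : Γ(Spec (CommRingCat.of k), ⊤) ≃+* k :=
    (Scheme.ΓSpecIso (CommRingCat.of k)).commRingCatIsoToRingEquiv
  have hN : IsNoetherianRing Γ(Spec (CommRingCat.of k), ⊤) :=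
    isNoetherianRing_of_ringEquiv k e0.symm
  have h0 : ringKrullDim Γ(Spec (CommRingCat.of k), ⊤) < ⊤ := by
    rw [ringKrullDim_eq_of_ringEquiv e0, ringKrullDim_eq_zero_of_field]
    exact compareOfLessAndEq_eq_lt.mp rfl
  have hdim : ∀ x : X, ringKrullDim Γ(X, U x) < ⊤ := by
    intro x
    have e : U x ≤ f ⁻¹ᵁ ⊤ := le_top
    let _ : Algebra Γ(Spec (CommRingCat.of k), ⊤) Γ(X, U x) := (f.appLE ⊤ (U x) e).hom.toAlgebra
    have : Algebra.FiniteType Γ(Spec (CommRingCat.of k), ⊤) Γ(X, U x) :=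
      f.finiteType_appLE (isAffineOpen_top _) (hU x) e
    exact ringKrullDim_lt_top_of_finiteType Γ(Spec (CommRingCat.of k), ⊤) _ h0
  have hD : t.sup (fun x => ringKrullDim Γ(X, U x)) < ⊤ :=
    (Finset.sup_lt_iff bot_lt_top).mpr fun x _ => hdim x
  refine lt_of_le_of_lt
    (Groth.Agent.Lib.Helper73.SchemeDim.topologicalKrullDim_le_of_forall_stalk _ ?_) hD
  intro y
  have hy : y ∈ ⋃ x ∈ t, (U x : Set X) := by rw [ht]; trivial
  simp only [Set.mem_iUnion] at hy
  obtain ⟨x, hxt, hyx⟩ := hy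
  have := (hU x).isLocalization_stalk ⟨y, hyx⟩
  let _ := TopCat.Presheaf.algebra_section_stalk X.presheaf (⟨y, hyx⟩ : ↥(U x))
  show ringKrullDim (X.presheaf.stalk ((⟨y, hyx⟩ : ↥(U x)) : X)) ≤ _
  rw [IsLocalization.AtPrime.ringKrullDim_eq_height ((hU x).primeIdealOf ⟨y, hyx⟩).asIdeal
    (X.presheaf.stalk ((⟨y, hyx⟩ : ↥(U x)) : X))]
  exact (Ideal.height_le_ringKrullDim_of_ne_top (Ideal.IsPrime.ne_top inferInstance)).trans
    (Finset.le_sup (f := fun x => ringKrullDim Γ(X, U x)) hxt)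

theorem finDim (X : Var k) : topologicalKrullDim X.obj.left < ⊤ := by
  have : CompactSpace ↥X.obj.left := by
    have : QuasiCompact X.obj.hom := inferInstance
    exact (quasiCompact_iff_compactSpace X.obj.hom).mp this
  exact finDim_of_locallyOfFiniteType X.obj.hom

theorem pdim_le_dim (X : Var k) (x : X.obj.left) : pdim X.obj.left x ≤ dim X.obj.left :=
  BMTop.pd_le_natDim (finDim X) x

end Groth.Agent.Lib.Helper79.Weil
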