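import Mathlib
import Groth.Prelude.Def_WeilCoh
import Groth.Agent.Lib.Helper79.WeilProj
import Groth.Agent.Lib.Helper79.WeilFinDim

/-!
# The swap of a self-product; trace of a composite of correspondences through dual families
-/

namespace Groth.Agent.Lib.Helper79.Weil

open AlgebraicGeometry CategoryTheory WeilCoh Groth.Agent.Lib.Helper78

universe u v w

variable {k : Type u} [Field k]

theorem hom_ext_prod {Z X Y P : Var k} (p : P ⟶ X) (q : P ⟶ Y) (hP : IsProd p q)
    (a b : Z ⟶ P) (h1 : a ≫ p = b ≫ p) (h2 : a ≫ q = b ≫ q) : a = b := by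
  apply ObjectProperty.hom_ext
  apply Over.OverMorphism.ext
  apply hP.hom_ext
  · exact congrArg (fun f => f.hom.left) h1
  · exact congrArg (fun f => f.hom.left) h2

theorem swap_swap {X P : Var k} (p q : P ⟶ X) (hP : IsProd p q) (σ : P ⟶ P)
    (hσp : σ ≫ p = q) (hσq : σ ≫ q = p) : σ ≫ σ = 𝟙 P := by
  apply hom_ext_prod p q hP
  · rw [Category.assoc, hσp, hσq, Category.id_comp]
  · rw [Category.assoc, hσq, hσp, Category.id_comp]

variable {K : Type v} [Field K] (T : TheoryOn.{u, v, w} k (IsVar k) K)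

theorem codim_add_pdim (X : Var k) (x : X.obj.left) :
    (codim X.obj.left x : ℤ) + pdim X.obj.left x = dim X.obj.left := by
  unfold codim
  have := pdim_le_dim X x
  omega

/-- The swap pulls the class of a point back to the class of its image. -/
theorem pull_swap_cl {X P : Var k} (p q : P ⟶ X) (hP : IsProd p q) (σ : P ⟶ P)
    (hσp : σ ≫ p = q) (hσq : σ ≫ q = p) (ξ : P.obj.left) :
    T.pull σ (T.cl P ξ) = T.cl P (sm σ ξ) := by
  have hσσ := swap_swap p q hP σ hσp hσq
  have hpd : pdim P.obj.left (sm σ ξ) = pdim P.obj.left ξ := pdim_section σ σ hσσ ξ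
  have hcod : codim P.obj.left (sm σ ξ) = codim P.obj.left ξ := by unfold codim; rw [hpd]
  have h1 := codim_add_pdim P ξ
  refine eq_of_forall_tr_mul_eq T P (2 * (codim P.obj.left ξ : ℤ))
    (2 * (pdim P.obj.left ξ : ℤ)) (by omega) _ _ (T.pull_mem σ _ _ (T.cl_mem P ξ))
    (mem_gr_of_eq T P (by rw [hcod]) (T.cl_mem P (sm σ ξ))) ?_
  intro b hb
  have h2 := T.cl_push σ ξ b hb
  rw [residueDegree_section σ σ hσσ ξ, Nat.cast_one, one_mul] at h2
  rw [← h2, ← tr_pull_swap T p q hP p q hP σ hσp hσq (T.pull σ (T.cl P ξ) * b), map_mul,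
    pull_pull, hσσ, T.pull_id]
  rfl

theorem pull_swap_mem_span {X P : Var k} (p q : P ⟶ X) (hP : IsProd p q) (σ : P ⟶ P)
    (hσp : σ ≫ p = q) (hσq : σ ≫ q = p) (v : T.H P)
    (hv : v ∈ Submodule.span K (Set.range (T.cl P))) :
    T.pull σ v ∈ Submodule.span K (Set.range (T.cl P)) := by
  induction hv using Submodule.span_induction with
  | mem x hx =>
    obtain ⟨ξ, rfl⟩ := hx
    rw [pull_swap_cl T p q hP σ hσp hσq]
    exact Submodule.subset_span ⟨_, rfl⟩
  | zero => rw [map_zero]; exact zero_mem _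
  | add x y _ _ hx hy => rw [map_add]; exact add_mem hx hy
  | smul c x _ hx => rw [map_smul]; exact Submodule.smul_mem _ _ hx

theorem corr_congr {X Y P : Var k} (p : P ⟶ X) (q : P ⟶ Y) (n : ℤ) (φ : ↥(T.gr P n))
    {i i' : ℤ} (h : i = i') (x : ↥(T.gr X i)) (x' : ↥(T.gr X i'))
    (hx : (x : T.H X) = (x' : T.H X)) :
    (corr T p q n φ i x : T.H Y) = (corr T p q n φ i' x' : T.H Y) := by
  subst h
  have : x = x' := Subtype.ext hx
  rw [this]

/-- Trace of the product of a class with the swapped pull-back of another, through bases and dual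
families. -/
theorem tr_mul_pull_swap_eq_sum {X Y P P' : Var k} (p : P ⟶ X) (q : P ⟶ Y) (hP : IsProd p q)
    (p' : P' ⟶ Y) (q' : P' ⟶ X) (hP' : IsProd p' q')
    (σ : P ⟶ P') (hσ₁ : σ ≫ p' = q) (hσ₂ : σ ≫ q' = p) (n n' : ℤ)
    (hn : n + n' = 2 * (dim X.obj.left : ℤ) + 2 * (dim Y.obj.left : ℤ))
    (φ : ↥(T.gr P n)) (ψ : ↥(T.gr P' n'))
    (ι : ℕ → Type) [∀ r, Fintype (ι r)] [∀ r, DecidableEq (ι r)]
    (e : (r : ℕ) → Module.Basis (ι r) K ↥(T.gr X (r : ℤ)))
    (f : (r : ℕ) → ι r → ↥(T.gr X (2 * (dim X.obj.left : ℤ) - r)))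
    (hef : ∀ r, ∀ i l : ι r,
      T.tr X ((f r l : T.H X) * (e r i : T.H X)) = if i = l then 1 else 0) :
    T.tr P ((φ : T.H P) * T.pull σ (ψ : T.H P')) =
      ∑ m ∈ Finset.range (2 * dim X.obj.left + 1), (-1 : K) ^ m * ∑ l : ι m,
        T.tr X ((f m l : T.H X) *
          (corr T p' q' n' ψ _ (corr T p q n φ (m : ℤ) (e m l)) : T.H X)) := by
  have hd := dim_prod T p q hP
  have hd' := dim_prod T p' q' hP'
  have hφ : φ = ⟨dualSum T p q n ι e f (corr T p q n φ), dualSum_mem T p q hP n ι e f _⟩ :=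
    corr_injective T p q hP n _ _ (fun i => (corr_dualSum T p q hP n ι e f hef _ i).symm)
  have hφ' : (φ : T.H P) = dualSum T p q n ι e f (corr T p q n φ) := congrArg Subtype.val hφ
  conv_lhs => rw [hφ']
  unfold dualSum
  rw [Finset.sum_mul, map_sum]
  refine Finset.sum_congr rfl fun m _ => ?_
  rw [Finset.sum_mul, map_sum, Finset.mul_sum]
  refine Finset.sum_congr rfl fun l _ => ?_
  rw [smul_mul_assoc, map_smul, smul_eq_mul]
  congr 1
  exact tr_mul_mul_pull_swap T p q hP p' q' hP' σ hσ₁ hσ₂ n' ψ _ _ _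
    (f m l).2 (corr T p q n φ (m : ℤ) (e m l))
    (by rw [hd, hd']; push_cast; omega)

end Groth.Agent.Lib.Helper79.Weil
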