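import Mathlib
import Groth.Prelude.Def_WeilCoh
import Groth.Agent.Lib.Helper73.FibreClosure
import Groth.Agent.Lib.Helper73.SchemeDim2
import Groth.Agent.Lib.Helper79.WeilSwap

/-!
# `pdim` as a transcendence degree; finite residue extensions preserve `pdim`
-/

namespace Groth.Agent.Lib.Helper79.Weil

open AlgebraicGeometry CategoryTheory WeilCoh

universe u v w

variable {k : Type u} [Field k]

/-- over a field, the dimension of the closure of a point is the transcendence degree of its residue
field. -/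
theorem pdim_eq_of_trdeg {X : Scheme.{u}} (f : X ⟶ Spec (CommRingCat.of k)) [LocallyOfFiniteType f]
    (ξ : X) (n : ℕ)
    (hn : letI := (f.residueFieldMap ξ).hom.toAlgebra
      Algebra.trdeg ((Spec (CommRingCat.of k)).residueField (f.base ξ)) (X.residueField ξ) = n) :
    pdim X ξ = n := by
  have h := Groth.Agent.Lib.Helper73.SchemeDim.topologicalKrullDim_closure_inter_fibre f ξ n hn
  have hset : closure ({ξ} : Set X) ∩ f.base ⁻¹' {f.base ξ} = closure ({ξ} : Set X) := by
    apply Set.inter_eq_left.mpr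
    intro x _
    exact Subsingleton.elim (α := Spec (CommRingCat.of k)) _ _
  rw [hset] at h
  unfold pdim natDim
  rw [h]
  rfl

theorem exists_trdeg {X : Scheme.{u}} (f : X ⟶ Spec (CommRingCat.of k)) [LocallyOfFiniteType f]
    (ξ : X) : ∃ n : ℕ, (letI := (f.residueFieldMap ξ).hom.toAlgebra
      Algebra.trdeg ((Spec (CommRingCat.of k)).residueField (f.base ξ)) (X.residueField ξ)) = n :=
  Groth.Agent.Lib.Helper73.SchemeDim.exists_trdeg_residueField_eq_nat f ξ

/-- A finite residue field extension preserves the dimension of the closure of the point. -/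
theorem pdim_eq_of_residueDegree_ne_zero {X Y : Scheme.{u}} (g : X ⟶ Y)
    (h : Y ⟶ Spec (CommRingCat.of k)) [LocallyOfFiniteType h] [LocallyOfFiniteType (g ≫ h)]
    (ξ : X) (hdeg : g.residueDegree ξ ≠ 0) : pdim Y (g ξ) = pdim X ξ := by
  obtain ⟨n, hn⟩ := exists_trdeg (g ≫ h) ξ
  obtain ⟨m, hm⟩ := exists_trdeg h (g ξ)
  rw [pdim_eq_of_trdeg (g ≫ h) ξ n hn, pdim_eq_of_trdeg h (g ξ) m hm]
  letI a1 : Algebra ((Spec (CommRingCat.of k)).residueField (h (g ξ))) (Y.residueField (g ξ)) :=
    (h.residueFieldMap (g ξ)).hom.toAlgebra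
  letI a2 : Algebra (Y.residueField (g ξ)) (X.residueField ξ) := (g.residueFieldMap ξ).hom.toAlgebra
  letI a3 : Algebra ((Spec (CommRingCat.of k)).residueField (h (g ξ))) (X.residueField ξ) :=
    ((g ≫ h).residueFieldMap ξ).hom.toAlgebra
  haveI : IsScalarTower ((Spec (CommRingCat.of k)).residueField (h (g ξ))) (Y.residueField (g ξ))
      (X.residueField ξ) := IsScalarTower.of_algebraMap_eq (fun x => by
    have := congrArg (fun φ => φ.hom x) (Scheme.residueFieldMap_comp g h ξ)
    exact this)
  have hfin : Module.Finite (Y.residueField (g ξ)) (X.residueField ξ) :=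
    Module.finite_of_finrank_pos (Nat.pos_of_ne_zero hdeg)
  have halg : Algebra.IsAlgebraic (Y.residueField (g ξ)) (X.residueField ξ) :=
    Algebra.IsAlgebraic.of_finite _ _
  have h0 : Algebra.trdeg (Y.residueField (g ξ)) (X.residueField ξ) = 0 := trdeg_eq_zero
  have hadd := trdeg_add_eq ((Spec (CommRingCat.of k)).residueField (h (g ξ)))
    (Y.residueField (g ξ)) (A := X.residueField ξ)
  rw [h0, add_zero] at hadd
  have hn' : Algebra.trdeg ((Spec (CommRingCat.of k)).residueField (h (g ξ)))
      (X.residueField ξ) = n := hn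
  have hm' : Algebra.trdeg ((Spec (CommRingCat.of k)).residueField (h (g ξ)))
      (Y.residueField (g ξ)) = m := hm
  rw [hn', hm'] at hadd
  exact_mod_cast hadd

theorem pdim_sm_eq {X Y : Var k} (f : X ⟶ Y) (ξ : X.obj.left)
    (hdeg : (sm f).residueDegree ξ ≠ 0) : pdim Y.obj.left (sm f ξ) = pdim X.obj.left ξ := by
  have : LocallyOfFiniteType (sm f ≫ Y.obj.hom) := by rw [w_sm]; infer_instance
  exact pdim_eq_of_residueDegree_ne_zero (sm f) Y.obj.hom ξ hdeg

end Groth.Agent.Lib.Helper79.Weil
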