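import Mathlib
import Groth.Prelude.Def_WeilCoh
import Groth.Agent.Lib.Helper79.FrobRange
import Groth.Agent.Lib.Helper79.FrobDeg2
import Groth.Agent.Lib.Helper79.ZetaFrob
import Groth.Agent.Lib.Helper79.ZetaPts1
import Groth.Agent.Lib.Helper79.ZetaPts2
import Groth.Agent.Lib.Helper79.WeilDimTr
import Groth.Agent.Lib.Helper79.WeilPt

/-!
# The Frobenius acts on the top cohomology by `q^n` (helper79)
-/

set_option linter.style.haveILetI false

namespace Groth.Agent.Lib.Helper79.Weil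

open AlgebraicGeometry CategoryTheory WeilCoh Groth.Agent.Lib.Helper79.Zeta
  Groth.Agent.Lib.Helper79.FrobDeg

universe u v w

section Struct

variable {k₀ : Type u} [Field k₀] [Finite k₀]
  {X : Scheme.{u}} (f : X ⟶ Spec (CommRingCat.of k₀))
  (FX : X ⟶ X) (hle : ∀ U : X.Opens, U ≤ FX ⁻¹ᵁ U)
  (hFapp : ∀ (U : X.Opens) (s : Γ(X, U)), (FX.appLE U U (hle U)).hom s = s ^ Nat.card k₀)

include hFapp in
/-- The `q`-Frobenius is a morphism over `Spec k₀`. -/
theorem frob_comp_structure : FX ≫ f = f := by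
  apply ext_of_isAffine
  rw [Scheme.Hom.comp_appTop]
  ext c
  show FX.appTop.hom (f.appTop.hom c) = f.appTop.hom c
  have h1 : FX.appTop = FX.appLE ⊤ ⊤ (hle ⊤) := by
    rw [Scheme.Hom.appTop, Scheme.Hom.app_eq_appLE]
    rfl
  rw [h1, hFapp, ← map_pow]
  congr 1
  have := Fintype.ofFinite k₀
  have h2 : ((Scheme.ΓSpecIso (CommRingCat.of k₀)).hom.hom c) ^ Nat.card k₀ =
      (Scheme.ΓSpecIso (CommRingCat.of k₀)).hom.hom c := by
    rw [Nat.card_eq_fintype_card]
    exact FiniteField.pow_card _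
  rw [← map_pow] at h2
  exact ((ConcreteCategory.isIso_iff_bijective (Scheme.ΓSpecIso (CommRingCat.of k₀)).hom).mp
    inferInstance).1 h2

end Struct

variable {k : Type u} [Field k]

section Generic

variable (k₀ : Type u) [Field k₀] [Finite k₀] [Algebra k₀ k]
  {X : Scheme.{u}} (f : X ⟶ Spec (CommRingCat.of k₀))
  (FX : X ⟶ X) (hFb : FX.base = 𝟙 _) (hle : ∀ U : X.Opens, U ≤ FX ⁻¹ᵁ U)
  (hFapp : ∀ (U : X.Opens) (s : Γ(X, U)), (FX.appLE U U (hle U)).hom s = s ^ Nat.card k₀)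
  (Xb : Var k) (π : Xb.obj.left ⟶ X)
  (hπ : IsPullback π Xb.obj.hom f (Spec.map (CommRingCat.ofHom (algebraMap k₀ k))))
  (F : Xb ⟶ Xb) (hF : sm F ≫ π = π ≫ FX)

include hFapp hπ hF in
theorem isPullback_frob : IsPullback (sm F) π π FX := by
  have hFf := frob_comp_structure f FX hle hFapp
  have hright : IsPullback Xb.obj.hom π (Spec.map (CommRingCat.ofHom (algebraMap k₀ k))) f :=
    hπ.flip
  refine IsPullback.of_right ?_ hF hright
  rw [w_sm, hFf]
  exact hright

include hFb hFapp hπ hF in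
theorem surjective_sm_frob : Surjective (sm F) :=
  MorphismProperty.of_isPullback (P := @Surjective)
    (isPullback_frob k₀ f FX hle hFapp Xb π hπ F hF).flip
    ⟨fun x => ⟨x, apply_eq_of_base FX hFb x⟩⟩

include hFb hFapp hπ hF in
/-- `F = Frob × id` fixes the generic point. -/
theorem sm_frob_genericPoint :
    sm F (genericPoint ↥Xb.obj.left) = genericPoint ↥Xb.obj.left := by
  have hsurj := surjective_sm_frob k₀ f FX hFb hle hFapp Xb π hπ F hF
  obtain ⟨w, hw⟩ := hsurj.surj (genericPoint ↥Xb.obj.left)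
  have h1 : sm F (genericPoint ↥Xb.obj.left) ⤳ sm F w :=
    (genericPoint_specializes w).map (sm F).continuous
  rw [hw] at h1
  exact (h1.antisymm (genericPoint_specializes _)).eq

end Generic

section Degree

variable [IsAlgClosed k] (k₀ : Type u) [Field k₀] [Finite k₀] [Algebra k₀ k]
  {X : Scheme.{u}} (f : X ⟶ Spec (CommRingCat.of k₀))
  (FX : X ⟶ X) (hFb : FX.base = 𝟙 _) (hle : ∀ U : X.Opens, U ≤ FX ⁻¹ᵁ U)
  (hFapp : ∀ (U : X.Opens) (s : Γ(X, U)), (FX.appLE U U (hle U)).hom s = s ^ Nat.card k₀)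
  (Xb : Var k) (π : Xb.obj.left ⟶ X)
  (hπ : IsPullback π Xb.obj.hom f (Spec.map (CommRingCat.ofHom (algebraMap k₀ k))))
  (F : Xb ⟶ Xb) (hF : sm F ≫ π = π ≫ FX)

include hFb hFapp hπ hF in
/-- The degree of `F = Frob × id` at the generic point is `q ^ dim`. -/
theorem residueDegree_frob_genericPoint :
    (sm F).residueDegree (genericPoint ↥Xb.obj.left) = Nat.card k₀ ^ dim Xb.obj.left := by
  obtain ⟨p, r, hp, hchar, hr, hcard⟩ := exists_char_pow k₀
  haveI : Fact p.Prime := ⟨hp⟩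
  haveI : ExpChar k₀ p := ExpChar.prime hp
  haveI : ExpChar k p := expChar_of_injective_ringHom (algebraMap k₀ k).injective p
  haveI : PerfectRing k p := PerfectField.toPerfectRing p
  haveI e1 : ExpChar ((Spec (CommRingCat.of k)).residueField
      (Xb.obj.hom (genericPoint ↥Xb.obj.left))) p :=
    expChar_of_injective_ringHom (theta k (Xb.obj.hom (genericPoint ↥Xb.obj.left))).injective p
  letI alg : Algebra ((Spec (CommRingCat.of k)).residueField
      (Xb.obj.hom (genericPoint ↥Xb.obj.left)))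
      (Xb.obj.left.residueField (genericPoint ↥Xb.obj.left)) :=
    (Xb.obj.hom.residueFieldMap (genericPoint ↥Xb.obj.left)).hom.toAlgebra
  haveI e2 : ExpChar (Xb.obj.left.residueField (genericPoint ↥Xb.obj.left)) p :=
    expChar_of_injective_ringHom (algebraMap ((Spec (CommRingCat.of k)).residueField
      (Xb.obj.hom (genericPoint ↥Xb.obj.left))) _).injective p
  have hΦ : ∀ (x : X) (W : X.Opens) (h : (𝟙 X ≫ FX) x ∈ W) (h' : (𝟙 X : X ⟶ X) x ∈ W)
      (a : Γ(X, W)), pg (𝟙 X ≫ FX) x W h a = pg (𝟙 X) x W h' a ^ (p ^ r) := by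
    intro x W h h' a
    rw [← hcard]
    exact pg_comp_frob FX (Nat.card k₀) hle hFapp (𝟙 X) x W h h' a
  have h1 : (sm F).residueDegree (genericPoint ↥Xb.obj.left) =
      rdeg ((sm F).residueFieldMap (genericPoint ↥Xb.obj.left)).hom := rfl
  have h2 := rdeg_residueFieldMap Xb.obj.hom π f _ (sm F) (w_sm F) FX hF
    (apply_eq_of_base FX hFb) p r
    (fun x z' => residueFieldMap_frob FX (apply_eq_of_base FX hFb) (p ^ r) hΦ x z') hπ
    (genericPoint ↥Xb.obj.left)
  haveI : Algebra.EssFiniteType ((Spec (CommRingCat.of k)).residueField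
      (Xb.obj.hom (genericPoint ↥Xb.obj.left)))
      (Xb.obj.left.residueField (genericPoint ↥Xb.obj.left)) :=
    RingHom.EssFiniteType.residueFieldMap
      (LocallyOfFiniteType.stalkMap Xb.obj.hom (genericPoint ↥Xb.obj.left))
  obtain ⟨n, hn⟩ := exists_trdeg Xb.obj.hom (genericPoint ↥Xb.obj.left)
  have hpd : pdim Xb.obj.left (genericPoint ↥Xb.obj.left) = n :=
    pdim_eq_of_trdeg Xb.obj.hom (genericPoint ↥Xb.obj.left) n hn
  have hn' : n = dim Xb.obj.left := by rw [← hpd, pdim_genericPoint]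
  have h3 := frobDeg_eq_pow_trdeg p r n ((Spec (CommRingCat.of k)).residueField
      (Xb.obj.hom (genericPoint ↥Xb.obj.left)))
      (Xb.obj.left.residueField (genericPoint ↥Xb.obj.left)) hn
  have h4 : frobDeg p r ((Spec (CommRingCat.of k)).residueField
      (Xb.obj.hom (genericPoint ↥Xb.obj.left))) = 1 := by
    rw [frobDeg_eq_of_bijective p r (theta k _) (theta_bijective k _)]
    exact frobDeg_eq_one_of_perfect p r k
  rw [h1, h2, h3, h4, mul_one, hcard, hn']

end Degree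

section Trace

variable [IsAlgClosed k] {K : Type v} [Field K] (T : TheoryOn.{u, v, w} k (IsVar k) K)
  (k₀ : Type u) [Field k₀] [Finite k₀] [Algebra k₀ k]
  {X : Scheme.{u}} (f : X ⟶ Spec (CommRingCat.of k₀))
  (FX : X ⟶ X) (hFb : FX.base = 𝟙 _) (hle : ∀ U : X.Opens, U ≤ FX ⁻¹ᵁ U)
  (hFapp : ∀ (U : X.Opens) (s : Γ(X, U)), (FX.appLE U U (hle U)).hom s = s ^ Nat.card k₀)
  (Xb : Var k) (π : Xb.obj.left ⟶ X)
  (hπ : IsPullback π Xb.obj.hom f (Spec.map (CommRingCat.ofHom (algebraMap k₀ k))))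
  (F : Xb ⟶ Xb) (hF : sm F ≫ π = π ≫ FX)

include hFb hFapp hπ hF in
/-- `F^*` multiplies the trace of a top-degree class by `q^n`. -/
theorem tr_pull_frob_top (z : T.H Xb) (hz : z ∈ T.gr Xb (2 * (dim Xb.obj.left : ℤ))) :
    T.tr Xb (T.pull F z) = (Nat.card k₀ : K) ^ dim Xb.obj.left * T.tr Xb z := by
  have h := T.cl_push F (genericPoint ↥Xb.obj.left) z (by rw [pdim_genericPoint]; exact hz)
  rw [sm_frob_genericPoint k₀ f FX hFb hle hFapp Xb π hπ F hF, cl_genericPoint, one_mul, one_mul,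
    residueDegree_frob_genericPoint k₀ f FX hFb hle hFapp Xb π hπ F hF] at h
  rw [h]
  push_cast
  rfl

end Trace

end Groth.Agent.Lib.Helper79.Weil
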