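import Mathlib
import Groth.Prelude.Def_WeilCoh
import Groth.Agent.Lib.Helper79.FrobTop
import Groth.Agent.Lib.Helper79.FrobLin

/-!
# The Poincaré pairing is scaled by `q^n` under Frobenius (helper79)
-/

namespace Groth.Agent.Lib.Helper79.Weil

open AlgebraicGeometry CategoryTheory WeilCoh

universe u v w

variable {k : Type u} [Field k] [IsAlgClosed k] {K : Type v} [Field K]
  (T : TheoryOn.{u, v, w} k (IsVar k) K)
  (k₀ : Type u) [Field k₀] [Finite k₀] [Algebra k₀ k]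
  {X : Scheme.{u}} (f : X ⟶ Spec (CommRingCat.of k₀))
  (FX : X ⟶ X) (hFb : FX.base = 𝟙 _) (hle : ∀ U : X.Opens, U ≤ FX ⁻¹ᵁ U)
  (hFapp : ∀ (U : X.Opens) (s : Γ(X, U)), (FX.appLE U U (hle U)).hom s = s ^ Nat.card k₀)
  (Xb : Var k) (π : Xb.obj.left ⟶ X)
  (hπ : IsPullback π Xb.obj.hom f (Spec.map (CommRingCat.ofHom (algebraMap k₀ k))))
  (F : Xb ⟶ Xb) (hF : sm F ≫ π = π ≫ FX)

include hFb hFapp hπ hF in
theorem pairing_pullDeg (i j : ℤ) (hij : i + j = 2 * (dim Xb.obj.left : ℤ))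
    (a : T.gr Xb i) (b : T.gr Xb j) :
    pairing K (T.gr Xb i) (T.gr Xb j) (T.tr Xb) (T.pullDeg F i a) (T.pullDeg F j b) =
      (Nat.card k₀ : K) ^ dim Xb.obj.left *
        pairing K (T.gr Xb i) (T.gr Xb j) (T.tr Xb) a b := by
  show T.tr Xb (T.pull F a.1 * T.pull F b.1) = _ * T.tr Xb (a.1 * b.1)
  rw [← map_mul]
  have hmem : a.1 * b.1 ∈ T.gr Xb (2 * (dim Xb.obj.left : ℤ)) := by
    rw [← hij]
    exact SetLike.GradedMul.mul_mem a.2 b.2
  exact tr_pull_frob_top T k₀ f FX hFb hle hFapp Xb π hπ F hF _ hmem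

end Groth.Agent.Lib.Helper79.Weil
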