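import Mathlib
import Groth.Prelude.Def_WeilCoh
import Groth.Agent.Lib.Helper79.FrobPair
import Groth.Agent.Lib.Helper79.FrobFE

/-!
# The functional equation of the zeta function from a Weil cohomology (helper79)
-/

namespace Groth.Agent.Lib.Helper79.Weil

open AlgebraicGeometry CategoryTheory WeilCoh Groth.Agent.Lib.Helper79.FrobFE

universe u v w

variable {k : Type u} [Field k] [IsAlgClosed k] {K : Type v} [Field K] [CharZero K]
  (T : TheoryOn.{u, v, w} k (IsVar k) K)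

omit [IsAlgClosed k] in
/-- `n · dim H^n` is even: for odd `n` the Poincaré pairing on the middle cohomology is
skew-symmetric. -/
theorem even_dim_mul_finrank (Xb : Var k) :
    Even (dim Xb.obj.left * Module.finrank K ↥(T.gr Xb ((dim Xb.obj.left : ℕ) : ℤ))) := by
  rcases Nat.even_or_odd (dim Xb.obj.left) with h | h
  · exact Even.mul_right h _
  · apply Even.mul_left
    have hnn : ((dim Xb.obj.left : ℕ) : ℤ) + ((dim Xb.obj.left : ℕ) : ℤ) =
        2 * (dim Xb.obj.left : ℤ) := by ring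
    have := T.duality Xb _ _ hnn
    apply even_finrank_of_skew (pairing K (T.gr Xb ((dim Xb.obj.left : ℕ) : ℤ))
      (T.gr Xb ((dim Xb.obj.left : ℕ) : ℤ)) (T.tr Xb))
    intro a b
    show T.tr Xb (a.1 * b.1) = - T.tr Xb (b.1 * a.1)
    rw [T.gradedComm Xb _ _ a.1 b.1 a.2 b.2, map_smul, Int.natAbs_natCast,
      (h.mul h).neg_one_pow, neg_one_smul]

variable (k₀ : Type u) [Field k₀] [Finite k₀] [Algebra k₀ k]
  {X : Scheme.{u}} (f : X ⟶ Spec (CommRingCat.of k₀))
  (FX : X ⟶ X) (hFb : FX.base = 𝟙 _) (hle : ∀ U : X.Opens, U ≤ FX ⁻¹ᵁ U)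
  (hFapp : ∀ (U : X.Opens) (s : Γ(X, U)), (FX.appLE U U (hle U)).hom s = s ^ Nat.card k₀)
  (Xb : Var k) (π : Xb.obj.left ⟶ X)
  (hπ : IsPullback π Xb.obj.hom f (Spec.map (CommRingCat.ofHom (algebraMap k₀ k))))
  (F : Xb ⟶ Xb) (hF : sm F ≫ π = π ≫ FX)

include hFb hFapp hπ hF in
theorem zeta_functional_equation :
    ∃ ε : K, (ε = 1 ∨ ε = -1) ∧
      Polynomial.aeval ((RatFunc.X : RatFunc K)⁻¹ *
            RatFunc.C ((Nat.card k₀ : K) ^ dim Xb.obj.left)⁻¹)
          (∏ i ∈ Finset.range (dim Xb.obj.left),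
            (LinearMap.charpoly (T.pullDeg F ((2 * i + 1 : ℕ) : ℤ))).reverse) /
        Polynomial.aeval ((RatFunc.X : RatFunc K)⁻¹ *
            RatFunc.C ((Nat.card k₀ : K) ^ dim Xb.obj.left)⁻¹)
          (∏ i ∈ Finset.range (dim Xb.obj.left + 1),
            (LinearMap.charpoly (T.pullDeg F ((2 * i : ℕ) : ℤ))).reverse) =
      RatFunc.C ε * RatFunc.C (Nat.card k₀ : K) ^ ((dim Xb.obj.left : ℤ) *
          (∑ i ∈ Finset.range (2 * dim Xb.obj.left + 1),
            (-1 : ℤ) ^ i * (Module.finrank K ↥(T.gr Xb (i : ℤ)) : ℤ)) / 2) *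
        (RatFunc.X : RatFunc K) ^ (∑ i ∈ Finset.range (2 * dim Xb.obj.left + 1),
            (-1 : ℤ) ^ i * (Module.finrank K ↥(T.gr Xb (i : ℤ)) : ℤ)) *
        (algebraMap (Polynomial K) (RatFunc K)
          (∏ i ∈ Finset.range (dim Xb.obj.left),
            (LinearMap.charpoly (T.pullDeg F ((2 * i + 1 : ℕ) : ℤ))).reverse) /
         algebraMap (Polynomial K) (RatFunc K)
          (∏ i ∈ Finset.range (dim Xb.obj.left + 1),
            (LinearMap.charpoly (T.pullDeg F ((2 * i : ℕ) : ℤ))).reverse)) := by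
  have hq : (Nat.card k₀ : K) ≠ 0 := by
    have : Nat.card k₀ ≠ 0 := Nat.card_pos.ne'
    exact_mod_cast this
  have hcast : ∀ j ≤ 2 * dim Xb.obj.left,
      2 * (dim Xb.obj.left : ℤ) - (j : ℤ) = ((2 * dim Xb.obj.left - j : ℕ) : ℤ) := by
    intro j hj
    rw [Nat.cast_sub hj]
    push_cast
    ring
  refine functional_equation (dim Xb.obj.left) (Nat.card k₀ : K) hq
    (fun j => LinearMap.charpoly (T.pullDeg F (j : ℤ)))
    (fun j => Module.finrank K ↥(T.gr Xb (j : ℤ)))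
    (fun j => LinearMap.det (T.pullDeg F (j : ℤ)))
    (fun j => LinearMap.charpoly_natDegree _) ?_ ?_ ?_ (even_dim_mul_finrank T Xb)
  · intro j hj
    have hij : (j : ℤ) + (2 * (dim Xb.obj.left : ℤ) - j) = 2 * (dim Xb.obj.left : ℤ) := by ring
    have := T.duality Xb _ _ hij
    have h := Groth.Agent.Lib.Helper79.FrobLin.det_smul_reverse_charpoly_comp K _ _
      (pairing K (T.gr Xb (j : ℤ)) (T.gr Xb (2 * (dim Xb.obj.left : ℤ) - j)) (T.tr Xb))
      (T.pullDeg F (j : ℤ)) (T.pullDeg F (2 * (dim Xb.obj.left : ℤ) - j))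
      ((Nat.card k₀ : K) ^ dim Xb.obj.left) (pow_ne_zero _ hq)
      (fun v w => pairing_pullDeg T k₀ f FX hFb hle hFapp Xb π hπ F hF _ _ hij v w)
    rw [hcast j hj] at h
    exact h
  · intro j hj
    have hij : (2 * (dim Xb.obj.left : ℤ) - j) + (j : ℤ) = 2 * (dim Xb.obj.left : ℤ) := by ring
    have := T.duality Xb _ _ hij
    have h := Groth.Agent.Lib.Helper79.FrobLin.det_mul_det_of_pairing K _ _
      (pairing K (T.gr Xb (2 * (dim Xb.obj.left : ℤ) - j)) (T.gr Xb (j : ℤ)) (T.tr Xb))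
      (T.pullDeg F (2 * (dim Xb.obj.left : ℤ) - j)) (T.pullDeg F (j : ℤ))
      ((Nat.card k₀ : K) ^ dim Xb.obj.left)
      (fun v w => pairing_pullDeg T k₀ f FX hFb hle hFapp Xb π hπ F hF _ _ hij v w)
    rw [Module.finrank_of_isPerfPair
      (pairing K (T.gr Xb (2 * (dim Xb.obj.left : ℤ) - j)) (T.gr Xb (j : ℤ)) (T.tr Xb)),
      ← pow_mul, hcast j hj] at h
    exact h
  · intro j hj
    have hij : (2 * (dim Xb.obj.left : ℤ) - j) + (j : ℤ) = 2 * (dim Xb.obj.left : ℤ) := by ring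
    have := T.duality Xb _ _ hij
    have h := Module.finrank_of_isPerfPair
      (pairing K (T.gr Xb (2 * (dim Xb.obj.left : ℤ) - j)) (T.gr Xb (j : ℤ)) (T.tr Xb))
    rw [hcast j hj] at h
    exact h

end Groth.Agent.Lib.Helper79.Weil
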