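import Mathlib
import Groth.Agent.Lib.Helper79.GalAlg2

/-!
# Power bases of Galois algebras via Vandermonde determinants
-/

set_option autoImplicit false
set_option linter.style.haveILetI false
set_option linter.unusedSectionVars false
open TensorProduct
universe u v

namespace Groth.Agent.Lib.Helper79.GalAlg3

open Groth.Agent.Lib.Helper79.GalAlg2

variable {A B : Type u} [CommRing A] [CommRing B] [Algebra A B]
  {G : Type v} [Group G] [Fintype G] [DecidableEq G] (σ : G →* (B →ₐ[A] B))
  {m : ℕ} (enum : Fin m ≃ G) (t : B)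

/-- the Vandermonde matrix of the conjugates of `t`. -/
noncomputable def WW : Matrix (Fin m) (Fin m) B :=
  Matrix.vandermonde (fun i => σ (enum i) t)

theorem WW_apply (i k : Fin m) : WW σ enum t i k = (σ (enum i) t) ^ (k : ℕ) := by
  simp [WW, Matrix.vandermonde_apply]

theorem sigma_WW (h : G) (i k : Fin m) :
    σ h (WW σ enum t i k) = WW σ enum t (enum.symm (h * enum i)) k := by
  rw [WW_apply, WW_apply, map_pow, Equiv.apply_symm_apply, map_mul (f := σ)]
  rfl

variable {σ enum t}

theorem WW_mulVec_injective (hdet : IsUnit (WW σ enum t).det) (y : Fin m → B)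
    (hy : (WW σ enum t).mulVec y = 0) : y = 0 := by
  have h1 := Matrix.nonsing_inv_mul (WW σ enum t) hdet
  have h2 : ((WW σ enum t)⁻¹ * WW σ enum t).mulVec y = 0 := by
    rw [← Matrix.mulVec_mulVec, hy, Matrix.mulVec_zero]
  rwa [h1, Matrix.one_mulVec] at h2

variable [Algebra.Etale A B] [Module.Finite A B] [Module.FaithfullyFlat A B]

/-- `1, t, …, t ^ (m - 1)` generate `B`. -/
theorem exists_coeffs (hG : IsSimplyTransitive σ) (hdet : IsUnit (WW σ enum t).det) (b : B) :
    ∃ a : Fin m → A, b = ∑ k : Fin m, algebraMap A B (a k) * t ^ (k : ℕ) := by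
  let rhs : Fin m → B := fun i => σ (enum i) b
  let x : Fin m → B := (WW σ enum t)⁻¹.mulVec rhs
  have hx : (WW σ enum t).mulVec x = rhs := by
    show (WW σ enum t).mulVec ((WW σ enum t)⁻¹.mulVec rhs) = rhs
    rw [Matrix.mulVec_mulVec, Matrix.mul_nonsing_inv _ hdet, Matrix.one_mulVec]
  have hxi : ∀ i, ∑ k, WW σ enum t i k * x k = σ (enum i) b := fun i => congrFun hx i
  have hinv : ∀ (h : G) (k : Fin m), σ h (x k) = x k := by
    intro h
    have h1 : (WW σ enum t).mulVec (fun k => σ h (x k) - x k) = 0 := by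
      funext i'
      obtain ⟨i, rfl⟩ : ∃ i, enum.symm (h * enum i) = i' :=
        ⟨enum.symm (h⁻¹ * enum i'), by simp⟩
      show ∑ k, WW σ enum t _ k * (σ h (x k) - x k) = 0
      simp_rw [mul_sub]
      rw [Finset.sum_sub_distrib, hxi, Equiv.apply_symm_apply]
      have h2 := congrArg (σ h) (hxi i)
      rw [map_sum] at h2
      simp_rw [map_mul, sigma_WW] at h2
      rw [h2, sub_eq_zero]
      show σ h (σ (enum i) b) = σ (h * enum i) b
      rw [map_mul (f := σ)]
      rfl
    have h2 := WW_mulVec_injective hdet _ h1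
    intro k
    exact sub_eq_zero.1 (congrFun h2 k)
  have hrange : ∀ k, x k ∈ Set.range (algebraMap A B) := fun k =>
    mem_range_of_invariant hG (x k) (fun g => hinv g k)
  choose a ha using hrange
  refine ⟨a, ?_⟩
  have h1 := hxi (enum.symm 1)
  rw [Equiv.apply_symm_apply, map_one σ] at h1
  have h2 : ∀ k, WW σ enum t (enum.symm 1) k = t ^ (k : ℕ) := by
    intro k
    rw [WW_apply, Equiv.apply_symm_apply, map_one σ]
    rfl
  simp_rw [h2] at h1
  have h3 : (1 : B →ₐ[A] B) b = b := rfl
  rw [h3] at h1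
  rw [← h1]
  refine Finset.sum_congr rfl (fun k _ => ?_)
  rw [ha, mul_comm]

/-- `1, t, …, t ^ (m - 1)` are linearly independent. -/
theorem coeffs_eq_zero (hdet : IsUnit (WW σ enum t).det) (a : Fin m → A)
    (h : ∑ k : Fin m, algebraMap A B (a k) * t ^ (k : ℕ) = 0) : a = 0 := by
  have h1 : (WW σ enum t).mulVec (fun k => algebraMap A B (a k)) = 0 := by
    funext i
    show ∑ k, WW σ enum t i k * algebraMap A B (a k) = 0
    have h2 := congrArg (σ (enum i)) h
    rw [map_sum, map_zero] at h2
    rw [← h2]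
    refine Finset.sum_congr rfl (fun k _ => ?_)
    rw [map_mul, AlgHom.commutes, map_pow, WW_apply, mul_comm]
  have h2 := WW_mulVec_injective hdet _ h1
  funext k
  exact FaithfulSMul.algebraMap_injective A B ((congrFun h2 k).trans (map_zero _).symm)

end Groth.Agent.Lib.Helper79.GalAlg3
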