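import Mathlib
import Groth.Prelude.Def_FinFr
import Groth.Agent.Lib.Helper79.FixSch
import Groth.Agent.Lib.Helper79.ZetaPts1

/-!
# Frobenius acts transitively on the geometric points over a closed point (helper79)
-/

set_option linter.style.haveILetI false
set_option linter.unusedSectionVars false

namespace Groth.Agent.Lib.Helper79.GalFrob

open AlgebraicGeometry CategoryTheory Groth.Agent.Lib.Helper79.Weil Groth.Agent.Lib.Helper79.Zeta
  Groth.Agent.Lib.Helper79.FrobDeg

universe u

/-- two embeddings of a finite field into a field agreeing on a subfield `k` differ by a power of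
the `#k`-Frobenius -/
theorem exists_frob_pow {k κ K : Type*} [Field k] [Fintype k] [Field κ] [Finite κ] [Field K]
    (j : k →+* κ) (ι₁ ι₂ : κ →+* K) (h : ι₁.comp j = ι₂.comp j) :
    ∃ n : ℕ, ∀ t : κ, ι₂ t = ι₁ (t ^ (Fintype.card k ^ n)) := by
  classical
  haveI : Fintype κ := Fintype.ofFinite κ
  have hr : ∀ t, ι₂ t ∈ Set.range ι₁ := fun t =>
    Groth.Agent.Lib.Helper79.FixSch.mem_range_of_pow_card_eq ι₁ (ι₂ t)
      (by rw [← map_pow, FiniteField.pow_card])
  choose τf hτf using hr
  letI : Algebra k κ := j.toAlgebra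
  let τa : κ →ₐ[k] κ :=
    { toFun := τf
      map_one' := ι₁.injective (by rw [hτf, map_one, map_one])
      map_mul' := fun a b => ι₁.injective (by rw [hτf, map_mul, map_mul, hτf, hτf])
      map_zero' := ι₁.injective (by rw [hτf, map_zero, map_zero])
      map_add' := fun a b => ι₁.injective (by rw [hτf, map_add, map_add, hτf, hτf])
      commutes' := fun c => ι₁.injective (by
        rw [hτf]
        exact (DFunLike.congr_fun h c).symm) }
  obtain ⟨n, hn⟩ := (FiniteField.bijective_frobeniusAlgHom_pow k κ).2 τa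
  refine ⟨n.1, fun t => ?_⟩
  have h1 : τa t = t ^ (Fintype.card k ^ n.1) := by
    rw [← hn]
    show (FiniteField.frobeniusAlgHom k κ ^ n.1) t = _
    rw [AlgHom.coe_pow, FiniteField.coe_frobeniusAlgHom, pow_iterate]
  rw [← h1]
  exact (hτf t).symm

section Star

variable {X : Scheme.{u}} (Φ : X ⟶ X) (hΦpt : ∀ x : X, Φ x = x) (N : ℕ)
  (hΦ : ∀ (x : X) (W : X.Opens) (h : (𝟙 X ≫ Φ) x ∈ W) (h' : (𝟙 X : X ⟶ X) x ∈ W) (a : Γ(X, W)),
      pg (𝟙 X ≫ Φ) x W h a = pg (𝟙 X) x W h' a ^ N)

/-- the `N`-th power endomorphism of the residue field induced by a Frobenius `Φ` -/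
noncomputable def rho (x : X) : X.residueField x ⟶ X.residueField x :=
  (X.residueFieldCongr (hΦpt x)).inv ≫ Φ.residueFieldMap x

include hΦ in
theorem rho_apply (x : X) (t : X.residueField x) : (rho Φ hΦpt x).hom t = t ^ N := by
  unfold rho
  rw [CommRingCat.hom_comp, RingHom.comp_apply, residueFieldMap_frob Φ hΦpt N hΦ]
  congr 1
  exact congrArg (fun φ => φ.hom t) (X.residueFieldCongr (hΦpt x)).inv_hom_id

theorem SpecMap_rho (x : X) :
    Spec.map (rho Φ hΦpt x) ≫ X.fromSpecResidueField x = X.fromSpecResidueField x ≫ Φ := by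
  unfold rho
  rw [Spec.map_comp, Category.assoc]
  have h1 : Spec.map (X.residueFieldCongr (hΦpt x)).inv ≫ X.fromSpecResidueField x =
      X.fromSpecResidueField (Φ x) := by
    have := Scheme.residueFieldCongr_fromSpecResidueField (X := X) (hΦpt x)
    rw [← this, ← Category.assoc, ← Spec.map_comp, Iso.hom_inv_id, Spec.map_id, Category.id_comp]
  rw [h1, Scheme.Hom.SpecMap_residueFieldMap_fromSpecResidueField]

end Star

section TL

variable {k : Type u} [Field k] [Finite k] {X : Scheme.{u}} (f : X ⟶ Spec (CommRingCat.of k))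
  (FX : X ⟶ X) (hFb : FX.base = 𝟙 _) (hle : ∀ U : X.Opens, U ≤ FX ⁻¹ᵁ U)
  (hFapp : ∀ (U : X.Opens) (s : Γ(X, U)), (FX.appLE U U (hle U)).hom s = s ^ Nat.card k)
  {K : Type u} [Field K]

include hFb hFapp in
/-- two geometric points over the same point with finite residue field differ by a power of
Frobenius -/
theorem exists_comp_Fiter_eq (x : X) [Finite (X.residueField x)]
    (ι₁ ι₂ : X.residueField x ⟶ CommRingCat.of K) (h : sκ f x ≫ ι₁ = sκ f x ≫ ι₂) :
    ∃ n : ℕ, Spec.map ι₂ ≫ X.fromSpecResidueField x =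
      Spec.map ι₁ ≫ X.fromSpecResidueField x ≫ Fiter FX n := by
  haveI : Fintype k := Fintype.ofFinite k
  obtain ⟨n, hn⟩ := exists_frob_pow (sκ f x).hom ι₁.hom ι₂.hom
    (by rw [← CommRingCat.hom_comp, ← CommRingCat.hom_comp, h])
  refine ⟨n, ?_⟩
  have hΦpt : ∀ x : X, Fiter FX n x = x := Fiter_apply FX hFb n
  have hΦ : ∀ (x : X) (W : X.Opens) (h : (𝟙 X ≫ Fiter FX n) x ∈ W) (h' : (𝟙 X : X ⟶ X) x ∈ W)
      (a : Γ(X, W)), pg (𝟙 X ≫ Fiter FX n) x W h a = pg (𝟙 X) x W h' a ^ (Nat.card k ^ n) :=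
    fun x W h h' a => pg_comp_Fiter FX hFb (Nat.card k) hle hFapp n (𝟙 X) x W h h' a
  have h1 : ι₂ = rho (Fiter FX n) hΦpt x ≫ ι₁ := by
    ext t
    rw [CommRingCat.hom_comp, RingHom.comp_apply, rho_apply (Fiter FX n) hΦpt _ hΦ x t, hn t,
      Nat.card_eq_fintype_card]
  rw [h1, Spec.map_comp, Category.assoc, SpecMap_rho]

end TL

section Pts

variable {K : Type u} [Field K] {X : Scheme.{u}}

/-- a geometric point factors through the residue field of its image -/
theorem exists_eq_specMap_comp (y : Spec (CommRingCat.of K) ⟶ X) (x : X)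
    (pt : ↥(Spec (CommRingCat.of K))) (hx : y pt = x) :
    ∃ ι : X.residueField x ⟶ CommRingCat.of K, y = Spec.map ι ≫ X.fromSpecResidueField x := by
  have hpt : pt = IsLocalRing.closedPoint K :=
    @Subsingleton.elim _ (inferInstanceAs (Subsingleton (PrimeSpectrum K))) _ _
  subst hpt
  subst hx
  exact ⟨(Scheme.SpecToEquivOfField K X y).2, ((Scheme.SpecToEquivOfField K X).symm_apply_apply y).symm⟩

/-- finiteness of the residue field at a closed point of a scheme locally of finite type over a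
finite field -/
theorem finite_residueField_of_isClosed {k : Type u} [Field k] [Finite k]
    (f : X ⟶ Spec (CommRingCat.of k)) [LocallyOfFiniteType f] (x : X) (hx : IsClosed ({x} : Set X)) :
    Finite (X.residueField x) := by
  have h1 : IsFinite (X.fromSpecResidueField x ≫ f) := by
    rw [isClosed_singleton_iff_isClosedImmersion] at hx
    rw [isFinite_iff_locallyOfFiniteType_of_jacobsonSpace]
    infer_instance
  rw [← SpecMap_sκ, IsFinite.SpecMap_iff] at h1
  letI := (sκ f x).hom.toAlgebra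
  haveI : Module.Finite k (X.residueField x) := h1
  exact Module.finite_of_finite k

end Pts

section Main

variable {k : Type u} [Field k] [Finite k] {X : Scheme.{u}} (f : X ⟶ Spec (CommRingCat.of k))
  [LocallyOfFiniteType f]
  (FX : X ⟶ X) (hFb : FX.base = 𝟙 _) (hle : ∀ U : X.Opens, U ≤ FX ⁻¹ᵁ U)
  (hFapp : ∀ (U : X.Opens) (s : Γ(X, U)), (FX.appLE U U (hle U)).hom s = s ^ Nat.card k)
  (K : Type u) [Field K] [Algebra k K] [IsAlgClosed K] [Algebra.IsAlgebraic k K]
  (F : FinFr.ext K f ⟶ FinFr.ext K f)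
  (hF1 : F ≫ FinFr.extπ K f = FinFr.extπ K f ≫ FX)
  (hF2 : F ≫ FinFr.extStr K f = FinFr.extStr K f)

include hF1 in
theorem Fiter_comp_π (n : ℕ) :
    Fiter F n ≫ FinFr.extπ K f = FinFr.extπ K f ≫ Fiter FX n := by
  induction n with
  | zero =>
    show 𝟙 _ ≫ FinFr.extπ K f = FinFr.extπ K f ≫ 𝟙 _
    rw [Category.id_comp, Category.comp_id]
  | succ n ih =>
    show (F ≫ Fiter F n) ≫ FinFr.extπ K f = FinFr.extπ K f ≫ FX ≫ Fiter FX n
    rw [Category.assoc, ih, ← Category.assoc, hF1, Category.assoc]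

include hF2 in
theorem Fiter_comp_str (n : ℕ) : Fiter F n ≫ FinFr.extStr K f = FinFr.extStr K f := by
  induction n with
  | zero => exact Category.id_comp _
  | succ n ih =>
    show (F ≫ Fiter F n) ≫ FinFr.extStr K f = FinFr.extStr K f
    rw [Category.assoc, ih, hF2]

theorem Fiter_mem (W : Set ↑(FinFr.ext K f)) (hFW : F.base '' W ⊆ W) (n : ℕ)
    (w : ↑(FinFr.ext K f)) (hw : w ∈ W) : Fiter F n w ∈ W := by
  induction n generalizing w with
  | zero => exact hw
  | succ n ih =>
    show (F ≫ Fiter F n) w ∈ W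
    rw [Scheme.Hom.comp_apply]
    exact ih _ (hFW ⟨w, hw, rfl⟩)

instance : IsIntegralHom (FinFr.specι k K) := by
  unfold FinFr.specι
  rw [IsIntegralHom.SpecMap_iff]
  exact Algebra.IsIntegral.isIntegral (R := k) (A := K)

theorem isClosedMap_extπ : IsClosedMap (FinFr.extπ K f) :=
  (FinFr.extπ K f).isClosedMap

include hFb hFapp hF1 hF2 in
/-- Frobenius acts transitively on the closed points over a given closed point. -/
theorem exists_Fiter_apply_eq (w z : ↑(FinFr.ext K f)) (hw : IsClosed ({w} : Set ↑(FinFr.ext K f)))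
    (hz : IsClosed ({z} : Set ↑(FinFr.ext K f)))
    (h : FinFr.extπ K f w = FinFr.extπ K f z) : ∃ n : ℕ, Fiter F n w = z := by
  set x := FinFr.extπ K f w with hx
  have hxcl : IsClosed ({x} : Set X) := by
    have := isClosedMap_extπ f K _ hw
    rwa [Set.image_singleton] at this
  haveI : Finite (X.residueField x) := finite_residueField_of_isClosed f x hxcl
  let sw := pointOfClosedPoint (FinFr.extStr K f) w hw
  let sz := pointOfClosedPoint (FinFr.extStr K f) z hz
  have hsw : sw ≫ FinFr.extStr K f = 𝟙 _ := pointOfClosedPoint_comp _ _ _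
  have hsz : sz ≫ FinFr.extStr K f = 𝟙 _ := pointOfClosedPoint_comp _ _ _
  let pt : ↥(Spec (CommRingCat.of K)) := (⟨⊥, Ideal.isPrime_bot⟩ : PrimeSpectrum K)
  have hswpt : sw pt = w := pointOfClosedPoint_apply _ _ _ _
  have hszpt : sz pt = z := pointOfClosedPoint_apply _ _ _ _
  obtain ⟨ι₁, h1⟩ := exists_eq_specMap_comp (sw ≫ FinFr.extπ K f) x pt
    ((Scheme.Hom.comp_apply sw (FinFr.extπ K f) pt).trans (congrArg _ hswpt))
  obtain ⟨ι₂, h2⟩ := exists_eq_specMap_comp (sz ≫ FinFr.extπ K f) x pt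
    (((Scheme.Hom.comp_apply sz (FinFr.extπ K f) pt).trans (congrArg _ hszpt)).trans h.symm)
  have hcompat : ∀ (s : Spec (CommRingCat.of K) ⟶ FinFr.ext K f)
      (_ : s ≫ FinFr.extStr K f = 𝟙 _) (ι : X.residueField x ⟶ CommRingCat.of K)
      (_ : s ≫ FinFr.extπ K f = Spec.map ι ≫ X.fromSpecResidueField x),
      sκ f x ≫ ι = CommRingCat.ofHom (algebraMap k K) := by
    intro s hs ι hι
    apply Spec.map_injective
    rw [Spec.map_comp, SpecMap_sκ, ← Category.assoc, ← hι, Category.assoc,
      Limits.pullback.condition, ← Category.assoc, hs, Category.id_comp]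
  have hc : sκ f x ≫ ι₁ = sκ f x ≫ ι₂ :=
    (hcompat sw hsw ι₁ h1).trans (hcompat sz hsz ι₂ h2).symm
  obtain ⟨n, hn⟩ := exists_comp_Fiter_eq f FX hFb hle hFapp x ι₁ ι₂ hc
  refine ⟨n, ?_⟩
  have h3 : sz = sw ≫ Fiter F n := by
    apply Limits.pullback.hom_ext
    · rw [h2, hn, Category.assoc, Fiter_comp_π f FX K F hF1, ← Category.assoc sw, h1,
        Category.assoc]
    · rw [hsz, Category.assoc, Fiter_comp_str f K F hF2, hsw]
  rw [← hszpt, h3]
  exact ((Scheme.Hom.comp_apply sw (Fiter F n) pt).trans (congrArg _ hswpt)).symm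

include hFb hFapp hF1 hF2 in
/-- **S13072**: a closed subset of the base change descends iff it is Frobenius-stable -/
theorem closed_descends_iff (W : Set ↑(FinFr.ext K f)) (hW : IsClosed W) :
    (∃ Y : Set X, IsClosed Y ∧ (FinFr.extπ K f).base ⁻¹' Y = W) ↔ F.base '' W ⊆ W := by
  constructor
  · rintro ⟨Y, -, rfl⟩ _ ⟨w, hw, rfl⟩
    show FinFr.extπ K f (F w) ∈ Y
    have h1 : FinFr.extπ K f (F w) = FX (FinFr.extπ K f w) := by
      rw [← Scheme.Hom.comp_apply, hF1, Scheme.Hom.comp_apply]
    rw [h1, apply_eq_of_base FX hFb]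
    exact hw
  · intro hFW
    refine ⟨(FinFr.extπ K f) '' W, isClosedMap_extπ f K W hW, ?_⟩
    refine Set.Subset.antisymm ?_ (Set.subset_preimage_image _ W)
    haveI : JacobsonSpace ↑(FinFr.ext K f) := LocallyOfFiniteType.jacobsonSpace (FinFr.extStr K f)
    set Z : Set ↑(FinFr.ext K f) := (FinFr.extπ K f).base ⁻¹' ((FinFr.extπ K f) '' W) with hZ
    have hZcl : IsClosed Z := (isClosedMap_extπ f K W hW).preimage (FinFr.extπ K f).continuous
    have h1 : closure (Z ∩ closedPoints ↑(FinFr.ext K f)) = closure Z :=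
      JacobsonSpace.closure_inter_closedPoints_eq_closure hZcl.isLocallyClosed
    rw [hZcl.closure_eq] at h1
    rw [← h1]
    refine closure_minimal ?_ hW
    rintro z ⟨⟨w, hwW, hwz⟩, hzcl⟩
    have hzcl' : IsClosed ({z} : Set ↑(FinFr.ext K f)) := hzcl
    -- `x = π z` is closed
    have hxcl : IsClosed ({FinFr.extπ K f z} : Set X) := by
      have := isClosedMap_extπ f K _ hzcl'
      rwa [Set.image_singleton] at this
    -- find a closed point `w'` in the closure of `w`
    have h2 : closure (closure ({w} : Set ↑(FinFr.ext K f)) ∩ closedPoints ↑(FinFr.ext K f)) =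
        closure (closure {w}) :=
      JacobsonSpace.closure_inter_closedPoints_eq_closure isClosed_closure.isLocallyClosed
    have h3 : (closure ({w} : Set ↑(FinFr.ext K f)) ∩ closedPoints ↑(FinFr.ext K f)).Nonempty := by
      by_contra hne
      rw [Set.not_nonempty_iff_eq_empty] at hne
      rw [hne, closure_empty] at h2
      have : w ∈ closure (closure ({w} : Set ↑(FinFr.ext K f))) :=
        subset_closure (subset_closure rfl)
      rw [← h2] at this
      exact this
    obtain ⟨w', hw'cl, hw'pt⟩ := h3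
    have hw'W : w' ∈ W := (closure_minimal (Set.singleton_subset_iff.mpr hwW) hW) hw'cl
    have hw'x : FinFr.extπ K f w' = FinFr.extπ K f z := by
      have h4 : FinFr.extπ K f w' ∈ closure ({FinFr.extπ K f w} : Set X) := by
        have := image_closure_subset_closure_image (FinFr.extπ K f).continuous
          (s := ({w} : Set ↑(FinFr.ext K f))) ⟨w', hw'cl, rfl⟩
        rwa [Set.image_singleton] at this
      have hwz' : FinFr.extπ K f w = FinFr.extπ K f z := hwz
      rw [hwz', hxcl.closure_eq] at h4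
      exact h4
    obtain ⟨n, hn⟩ := exists_Fiter_apply_eq f FX hFb hle hFapp K F hF1 hF2 w' z hw'pt hzcl' hw'x
    rw [← hn]
    exact Fiter_mem f K F W hFW n w' hw'W

end Main

end Groth.Agent.Lib.Helper79.GalFrob
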