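import Mathlib

/-!
# Near-point descent of finite type along a field extension: the algebra (helper79)

`k ⊆ K` fields, `B` a `k`-algebra, `f ∈ B ⊗[k] K` with `(B ⊗[k] K)[1/f]` of finite type over `K`,
`P` a prime of `B ⊗[k] K` not containing `f`.  Then there is `h ∈ B`, `h ⊗ 1 ∉ P`, with `B[1/h]`
of finite type over `k`.
-/

set_option autoImplicit false
set_option linter.style.haveILetI false
set_option linter.unusedSectionVars false
universe u

namespace Groth.Agent.Lib.Helper79.NearDescAlg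

open TensorProduct PrimeSpectrum

variable {k K : Type u} [Field k] [Field K] [Algebra k K]

section coeff

variable {B₀ B : Type u} [CommRing B₀] [CommRing B] [Algebra k B₀] [Algebra k B]
  (ι : B₀ →ₐ[k] B) {I : Type u} (e : Module.Basis I k K)

/-- the base change of `ι`. -/
noncomputable abbrev bc : B₀ ⊗[k] K →ₐ[k] B ⊗[k] K := Algebra.TensorProduct.map ι (AlgHom.id k K)

theorem repr_bc (c : B₀ ⊗[k] K) (i : I) :
    (Algebra.TensorProduct.basis B e).repr (bc ι c) i =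
      ι ((Algebra.TensorProduct.basis B₀ e).repr c i) := by
  induction c using TensorProduct.induction_on with
  | zero => simp
  | tmul b l =>
    simp only [bc, Algebra.TensorProduct.map_tmul, AlgHom.coe_id, id_eq,
      Algebra.TensorProduct.basis_repr_tmul, Finsupp.smul_apply, Finsupp.mapRange_apply,
      smul_eq_mul, map_mul, AlgHom.commutes]
  | add x y hx hy =>
    simp only [map_add, Finsupp.add_apply, hx, hy]

theorem repr_tmul_one_mul (b : B) (c : B ⊗[k] K) (i : I) :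
    (Algebra.TensorProduct.basis B e).repr ((b ⊗ₜ[k] (1 : K)) * c) i =
      b * (Algebra.TensorProduct.basis B e).repr c i := by
  have h : (b ⊗ₜ[k] (1 : K)) * c = b • c := by
    rw [Algebra.smul_def]; rfl
  rw [h, map_smul, Finsupp.smul_apply, smul_eq_mul]

end coeff

section D1

variable {B₀ B : Type u} [CommRing B₀] [CommRing B] [Algebra k B₀] [Algebra k B]
  (ι : B₀ →ₐ[k] B)

theorem exists_pow_mul_mem (f₀ : B₀ ⊗[k] K)
    (hstar : ∀ b : B, ∃ N : ℕ, ∃ c₀ : B₀ ⊗[k] K,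
      (b ⊗ₜ[k] (1 : K)) * bc ι (f₀ ^ N) = bc ι c₀)
    (q : PrimeSpectrum B₀)
    (hq : q ∈ comap (algebraMap B₀ (B₀ ⊗[k] K)) '' (basicOpen f₀ : Set (PrimeSpectrum (B₀ ⊗[k] K)))) :
    ∃ h₀ : B₀, h₀ ∉ q.asIdeal ∧ ∀ b : B, ∃ n : ℕ, ∃ b₀ : B₀, ι h₀ ^ n * b = ι b₀ := by
  classical
  have hU : IsOpen (comap (algebraMap B₀ (B₀ ⊗[k] K)) ''
      (basicOpen f₀ : Set (PrimeSpectrum (B₀ ⊗[k] K)))) :=
    PrimeSpectrum.isOpenMap_comap_algebraMap_tensorProduct_of_field _ (basicOpen f₀).isOpen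
  obtain ⟨_, ⟨_, ⟨h₀, rfl⟩, rfl⟩, hqh, hsub⟩ :=
    PrimeSpectrum.isBasis_basic_opens.exists_subset_of_mem_open hq hU
  refine ⟨h₀, hqh, fun b => ?_⟩
  let e := Module.Basis.ofVectorSpace k K
  let Ib : Ideal B₀ :=
    { carrier := {s | ∃ b₀ : B₀, ι s * b = ι b₀}
      zero_mem' := ⟨0, by simp⟩
      add_mem' := by
        rintro s t ⟨b₁, h₁⟩ ⟨b₂, h₂⟩
        exact ⟨b₁ + b₂, by rw [map_add, add_mul, h₁, h₂, map_add]⟩
      smul_mem' := by
        rintro t s ⟨b₁, h₁⟩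
        exact ⟨t * b₁, by rw [smul_eq_mul, map_mul, mul_assoc, h₁, map_mul]⟩ }
  have hrad : h₀ ∈ Ib.radical := by
    rw [Ideal.radical_eq_sInf, Ideal.mem_sInf]
    rintro J ⟨hIJ, hJ⟩
    by_contra hh
    have hJU : (⟨J, hJ⟩ : PrimeSpectrum B₀) ∈ comap (algebraMap B₀ (B₀ ⊗[k] K)) ''
        (basicOpen f₀ : Set (PrimeSpectrum (B₀ ⊗[k] K))) := hsub hh
    obtain ⟨Q, hQf, hQJ⟩ := hJU
    have hQJ' : ∀ s : B₀, s ∈ J ↔ algebraMap B₀ (B₀ ⊗[k] K) s ∈ Q.asIdeal := by
      intro s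
      have := congrArg PrimeSpectrum.asIdeal hQJ
      simp only [PrimeSpectrum.comap_asIdeal] at this
      rw [← this]; rfl
    obtain ⟨N, c₀, hN⟩ := hstar b
    have hfN : f₀ ^ N ∉ Q.asIdeal := fun h => hQf (Q.isPrime.mem_of_pow_mem N h)
    have hex : ∃ i, (Algebra.TensorProduct.basis B₀ e).repr (f₀ ^ N) i ∉ J := by
      by_contra hall
      push Not at hall
      apply hfN
      rw [← (Algebra.TensorProduct.basis B₀ e).linearCombination_repr (f₀ ^ N),
        Finsupp.linearCombination_apply]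
      refine Ideal.sum_mem _ fun i _ => ?_
      change _ • _ ∈ _
      rw [Algebra.smul_def]
      exact Ideal.mul_mem_right _ _ ((hQJ' _).1 (hall i))
    obtain ⟨i, hi⟩ := hex
    apply hi
    apply hIJ
    refine ⟨(Algebra.TensorProduct.basis B₀ e).repr c₀ i, ?_⟩
    rw [← repr_bc ι e, ← repr_bc ι e, ← hN, repr_tmul_one_mul, mul_comm]
  obtain ⟨n, hn⟩ := hrad
  obtain ⟨b₀, hb₀⟩ := hn
  exact ⟨n, b₀, by rw [← map_pow, hb₀]⟩

end D1

section D2

variable {B : Type u} [CommRing B] [Algebra k B]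

theorem sum_mem_range (B₀ : Subalgebra k B) (S : Finset (B × K)) (h : ∀ p ∈ S, p.1 ∈ B₀) :
    (S.sum fun p => p.1 ⊗ₜ[k] p.2) ∈ (bc (K := K) B₀.val).range := by
  refine Subalgebra.sum_mem _ fun p hp => ⟨(⟨p.1, h p hp⟩ : B₀) ⊗ₜ p.2, ?_⟩
  simp [bc]


theorem exists_away_finiteType (f : B ⊗[k] K)
    (hf : ((algebraMap (B ⊗[k] K) (Localization.Away f)).comp
            (Algebra.TensorProduct.includeRight : K →ₐ[k] B ⊗[k] K).toRingHom).FiniteType)
    (P : PrimeSpectrum (B ⊗[k] K)) (hfP : f ∉ P.asIdeal) :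
    ∃ h : B, algebraMap B (B ⊗[k] K) h ∉ P.asIdeal ∧
      ((algebraMap B (Localization.Away h)).comp (algebraMap k B)).FiniteType := by
  classical
  let A := Localization.Away f
  let φ : K →+* A := (algebraMap (B ⊗[k] K) A).comp
    (Algebra.TensorProduct.includeRight : K →ₐ[k] B ⊗[k] K).toRingHom
  letI algKA : Algebra K A := φ.toAlgebra
  have hft : Algebra.FiniteType K A := hf
  obtain ⟨s, hs⟩ := hft.out
  choose nn num hnum using fun y : A => IsLocalization.Away.surj f y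
  choose Sf hSf using fun c : B ⊗[k] K => TensorProduct.exists_finset c
  let T : Finset B := (Sf f).image Prod.fst ∪ s.biUnion (fun y => (Sf (num y)).image Prod.fst)
  let B₀ : Subalgebra k B := Algebra.adjoin k (T : Set B)
  have hB₀ : Algebra.FiniteType k B₀ :=
    (Subalgebra.fg_iff_finiteType _).1 (Subalgebra.fg_adjoin_finset T)
  let C₁ : Subalgebra k (B ⊗[k] K) := (bc (K := K) B₀.val).range
  have hfC : f ∈ C₁ := by
    have := sum_mem_range (K := K) B₀ (Sf f) (fun p hp => Algebra.subset_adjoin (by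
      simp only [T, Finset.coe_union, Finset.coe_image, Set.mem_union, Set.mem_image]
      exact Or.inl ⟨p, hp, rfl⟩))
    rwa [← hSf f] at this
  have hnumC : ∀ y ∈ s, num y ∈ C₁ := by
    intro y hy
    have := sum_mem_range (K := K) B₀ (Sf (num y)) (fun p hp => Algebra.subset_adjoin (by
      simp only [T, Finset.coe_union, Finset.coe_image, Set.mem_union, Set.mem_image,
        Finset.coe_biUnion, Set.mem_iUnion]
      exact Or.inr ⟨y, hy, p, hp, rfl⟩))
    rwa [← hSf (num y)] at this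
  have good : ∀ y : A, ∃ n : ℕ, ∃ c₁ ∈ C₁,
      y * algebraMap (B ⊗[k] K) A f ^ n = algebraMap (B ⊗[k] K) A c₁ := by
    intro y
    have hy : y ∈ Algebra.adjoin K (s : Set A) := by rw [hs]; trivial
    induction hy using Algebra.adjoin_induction with
    | mem y hy => exact ⟨nn y, num y, hnumC y hy, hnum y⟩
    | algebraMap l =>
      exact ⟨0, (1 : B) ⊗ₜ[k] l, ⟨(1 : B₀) ⊗ₜ[k] l, by simp [bc]⟩, by rw [pow_zero, mul_one]; rfl⟩
    | add y₁ y₂ _ _ h₁ h₂ =>
      obtain ⟨n₁, c₁, hc₁, e₁⟩ := h₁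
      obtain ⟨n₂, c₂, hc₂, e₂⟩ := h₂
      refine ⟨n₁ + n₂, c₁ * f ^ n₂ + c₂ * f ^ n₁,
        add_mem (mul_mem hc₁ (pow_mem hfC _)) (mul_mem hc₂ (pow_mem hfC _)), ?_⟩
      rw [map_add, map_mul, map_mul, map_pow, map_pow, ← e₁, ← e₂]; ring
    | mul y₁ y₂ _ _ h₁ h₂ =>
      obtain ⟨n₁, c₁, hc₁, e₁⟩ := h₁
      obtain ⟨n₂, c₂, hc₂, e₂⟩ := h₂
      refine ⟨n₁ + n₂, c₁ * c₂, mul_mem hc₁ hc₂, ?_⟩
      rw [map_mul, ← e₁, ← e₂]; ring
  obtain ⟨f₀, hf₀⟩ := hfC
  have hstar : ∀ b : B, ∃ N : ℕ, ∃ c₀ : B₀ ⊗[k] K,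
      (b ⊗ₜ[k] (1 : K)) * bc B₀.val (f₀ ^ N) = bc B₀.val c₀ := by
    intro b
    obtain ⟨n, c₁, hc₁, e₁⟩ := good (algebraMap (B ⊗[k] K) A (b ⊗ₜ[k] (1 : K)))
    rw [← map_pow, ← map_mul] at e₁
    obtain ⟨⟨_, m, rfl⟩, hm⟩ := (IsLocalization.eq_iff_exists (Submonoid.powers f) A).1 e₁
    change f ^ m * _ = f ^ m * _ at hm
    have e₂ : (b ⊗ₜ[k] (1 : K)) * f ^ (m + n) = f ^ m * c₁ := by rw [← hm]; ring
    have hfC' : f ∈ C₁ := ⟨f₀, hf₀⟩
    obtain ⟨c₀, hc₀⟩ := (mul_mem (pow_mem hfC' m) hc₁ : f ^ m * c₁ ∈ C₁)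
    exact ⟨m + n, c₀, by rw [map_pow]; erw [hf₀, e₂, hc₀]⟩
  let Q : PrimeSpectrum (B₀ ⊗[k] K) := comap (bc (K := K) B₀.val).toRingHom P
  have hQ : Q ∈ (basicOpen f₀ : Set (PrimeSpectrum (B₀ ⊗[k] K))) := by
    change f₀ ∉ Q.asIdeal
    intro hc
    apply hfP
    rw [← hf₀]
    exact hc
  obtain ⟨h₀, hh₀, hpow⟩ := exists_pow_mul_mem B₀.val f₀ hstar
    (comap (algebraMap B₀ (B₀ ⊗[k] K)) Q) ⟨Q, hQ, rfl⟩
  refine ⟨B₀.val h₀, ?_, ?_⟩
  · intro hc
    apply hh₀
    change bc (K := K) B₀.val (algebraMap B₀ (B₀ ⊗[k] K) h₀) ∈ P.asIdeal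
    convert hc using 1
    simp [bc, Algebra.TensorProduct.algebraMap_apply]
  · have inst : IsLocalization.Away (B₀.val.toRingHom h₀) (Localization.Away (B₀.val h₀)) :=
      inferInstanceAs (IsLocalization.Away (B₀.val h₀) (Localization.Away (B₀.val h₀)))
    let ψ : Localization.Away h₀ →+* Localization.Away (B₀.val h₀) :=
      IsLocalization.Away.map _ _ B₀.val.toRingHom h₀
    have hψalg : ∀ b₀ : B₀, ψ (algebraMap _ _ b₀) = algebraMap B _ (B₀.val b₀) := fun b₀ => by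
      simp only [ψ, IsLocalization.Away.map]
      exact IsLocalization.map_eq _ _
    have hψ : Function.Surjective ψ := by
      intro y
      obtain ⟨n, b, hy⟩ := IsLocalization.Away.surj (B₀.val h₀) y
      obtain ⟨m, b₀, hb⟩ := hpow b
      refine ⟨algebraMap _ _ b₀ * IsLocalization.Away.invSelf h₀ ^ (m + n), ?_⟩
      have hu : algebraMap B (Localization.Away (B₀.val h₀)) (B₀.val h₀) *
          ψ (IsLocalization.Away.invSelf h₀) = 1 := by
        rw [← hψalg, ← map_mul, IsLocalization.Away.mul_invSelf, map_one]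
      rw [map_mul, map_pow, hψalg, ← hb, map_mul, map_pow, ← hy]
      calc _ = y * (algebraMap B _ (B₀.val h₀) * ψ (IsLocalization.Away.invSelf h₀)) ^ (m + n) := by
            ring
        _ = y := by rw [hu, one_pow, mul_one]
    have e : (algebraMap B (Localization.Away (B₀.val h₀))).comp (algebraMap k B) =
        ψ.comp ((algebraMap B₀ (Localization.Away h₀)).comp (algebraMap k B₀)) := by
      ext x
      simp only [RingHom.comp_apply]
      rw [hψalg]
      rfl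
    rw [e]
    exact (RingHom.FiniteType.of_surjective ψ hψ).comp
      ((RingHom.finiteType_holdsForLocalizationAway _ h₀).comp
        (RingHom.finiteType_algebraMap.2 hB₀))

end D2

end Groth.Agent.Lib.Helper79.NearDescAlg
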