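import Mathlib
import Groth.Agent.Lib.Helper79.NearDescAlg

/-!
# Near-point descent of `LocallyOfFiniteType` along a field extension (helper79)

`pNear_descend`: for a cartesian square `X' → X`, `Spec K → Spec k` over fields and `z ∈ X'`, if
`X' → Spec K` is locally of finite type near `z` then `X → Spec k` is locally of finite type near
the image of `z`.
-/

set_option autoImplicit false
set_option linter.style.haveILetI false
set_option linter.unusedSectionVars false
universe u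

namespace Groth.Agent.Lib.Helper79.NearDesc

open CategoryTheory CategoryTheory.Limits AlgebraicGeometry TensorProduct

/-- `P` holds for `f` on an open neighbourhood of `x` (same as helper73's `PNear`). -/
def PNear (P : MorphismProperty Scheme.{u}) {X Y : Scheme.{u}} (f : X ⟶ Y) (x : X) : Prop :=
  ∃ W : X.Opens, x ∈ W ∧ P (W.ι ≫ f)

theorem pNear_restrict (P : MorphismProperty Scheme.{u}) [IsZariskiLocalAtSource P]
    {X Y : Scheme.{u}} (f : X ⟶ Y) (U : X.Opens) (x : U) (h : PNear P f (U.ι x)) :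
    PNear P (U.ι ≫ f) x := by
  obtain ⟨W, hxW, hW⟩ := h
  refine ⟨U.ι ⁻¹ᵁ W, hxW, ?_⟩
  have e : (U.ι ⁻¹ᵁ W).ι ≫ U.ι ≫ f = (U.ι ∣_ W) ≫ W.ι ≫ f := by
    rw [← Category.assoc, ← Category.assoc, morphismRestrict_ι]
  rw [e]
  exact IsZariskiLocalAtSource.comp hW _

theorem pNear_of_restrict (P : MorphismProperty Scheme.{u}) [P.RespectsIso]
    {X Y : Scheme.{u}} (f : X ⟶ Y) (U : X.Opens) (x : U) (h : PNear P (U.ι ≫ f) x) :
    PNear P f (U.ι x) := by
  obtain ⟨W, hxW, hW⟩ := h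
  refine ⟨U.ι ''ᵁ W, ⟨x, hxW, rfl⟩, ?_⟩
  have e : (U.ι ''ᵁ W).ι ≫ f = (U.ι.isoImage W).inv ≫ W.ι ≫ U.ι ≫ f := by
    rw [← Scheme.Hom.isoImage_inv_ι, Category.assoc, Category.assoc]
  rw [e]
  exact (P.cancel_left_of_respectsIso _ _).mpr hW

theorem pNear_of_isPullback (P : MorphismProperty Scheme.{u}) [P.IsStableUnderBaseChange]
    {X Y X' Y' : Scheme.{u}} {f : X ⟶ Y} {j : Y' ⟶ Y}
    {f' : X' ⟶ Y'} {j' : X' ⟶ X} (H : IsPullback j' f' f j) (z : X')
    (h : PNear P f (j' z)) : PNear P f' z := by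
  obtain ⟨U, hzU, hU⟩ := h
  refine ⟨j' ⁻¹ᵁ U, hzU, ?_⟩
  have sq := (isPullback_morphismRestrict j' U).paste_vert H
  exact MorphismProperty.of_isPullback sq hU

theorem isPullback_restrict {X Y X' Y' : Scheme.{u}} {f : X ⟶ Y} {j : Y' ⟶ Y}
    {f' : X' ⟶ Y'} {j' : X' ⟶ X} (H : IsPullback j' f' f j) (U : X.Opens) :
    IsPullback (j' ∣_ U) ((j' ⁻¹ᵁ U).ι ≫ f') (U.ι ≫ f) j :=
  (isPullback_morphismRestrict j' U).paste_vert H

theorem pNear_Spec {k K B : Type u} [Field k] [Field K] [Algebra k K] [CommRing B] [Algebra k B]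
    (z : Spec (CommRingCat.of (B ⊗[k] K)))
    (h : PNear @LocallyOfFiniteType (Spec.map (CommRingCat.ofHom
      (Algebra.TensorProduct.includeRight : K →ₐ[k] B ⊗[k] K).toRingHom)) z) :
    PNear @LocallyOfFiniteType (Spec.map (CommRingCat.ofHom (algebraMap k B)))
      (Spec.map (CommRingCat.ofHom (algebraMap B (B ⊗[k] K))) z) := by
  obtain ⟨V, hzV, hV⟩ := h
  obtain ⟨_, ⟨_, ⟨g, rfl⟩, rfl⟩, hzg, hgV⟩ :=
    PrimeSpectrum.isBasis_basic_opens.exists_subset_of_mem_open (a := z) hzV V.isOpen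
  let j := Spec.map (CommRingCat.ofHom (algebraMap (B ⊗[k] K) (Localization.Away g)))
  have hjV : Set.range j ⊆ V := by
    have : Set.range j = (PrimeSpectrum.basicOpen g : Set (PrimeSpectrum (B ⊗[k] K))) :=
      PrimeSpectrum.localization_away_comap_range (Localization.Away g) g
    rw [this]; exact hgV
  have hfac : IsOpenImmersion.lift V.ι j (by simpa using hjV) ≫ V.ι = j :=
    IsOpenImmersion.lift_fac _ _ _
  have h1 : LocallyOfFiniteType (IsOpenImmersion.lift V.ι j (by simpa using hjV)) := by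
    have : LocallyOfFiniteType (IsOpenImmersion.lift V.ι j (by simpa using hjV) ≫ V.ι) := by
      rw [hfac]; infer_instance
    exact locallyOfFiniteType_of_comp _ V.ι
  have h2 : LocallyOfFiniteType (j ≫ Spec.map (CommRingCat.ofHom
      (Algebra.TensorProduct.includeRight : K →ₐ[k] B ⊗[k] K).toRingHom)) := by
    rw [← hfac, Category.assoc]; infer_instance
  rw [← Spec.map_comp, HasRingHomProperty.Spec_iff (P := @LocallyOfFiniteType)] at h2
  obtain ⟨h, hhz, hfin⟩ := NearDescAlg.exists_away_finiteType g h2 z hzg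
  let jh := Spec.map (CommRingCat.ofHom (algebraMap B (Localization.Away h)))
  refine ⟨jh.opensRange, ?_, ?_⟩
  · have : Set.range jh = (PrimeSpectrum.basicOpen h : Set (PrimeSpectrum B)) :=
      PrimeSpectrum.localization_away_comap_range (Localization.Away h) h
    change _ ∈ Set.range jh
    rw [this]
    exact hhz
  · rw [← Scheme.Hom.isoOpensRange_inv_comp, Category.assoc]
    have : LocallyOfFiniteType (jh ≫ Spec.map (CommRingCat.ofHom (algebraMap k B))) := by
      rw [← Spec.map_comp, HasRingHomProperty.Spec_iff (P := @LocallyOfFiniteType)]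
      exact hfin
    infer_instance

/-- affine `X`. -/
theorem pNear_descend_affine {k K : Type u} [Field k] [Field K] {X X' : Scheme.{u}} [IsAffine X]
    {f : X ⟶ Spec (CommRingCat.of k)} {j : Spec (CommRingCat.of K) ⟶ Spec (CommRingCat.of k)}
    {f' : X' ⟶ Spec (CommRingCat.of K)} {j' : X' ⟶ X} (H : IsPullback j' f' f j) (z : X')
    (h : PNear @LocallyOfFiniteType f' z) : PNear @LocallyOfFiniteType f (j' z) := by
  let φ : CommRingCat.of k ⟶ Γ(X, ⊤) := (Scheme.ΓSpecIso (CommRingCat.of k)).inv ≫ f.appTop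
  let ψ : CommRingCat.of k ⟶ CommRingCat.of K := Spec.preimage j
  have hψ : Spec.map ψ = j := Spec.map_preimage j
  have hφ : f = X.isoSpec.hom ≫ Spec.map φ := by
    rw [Spec.map_comp, ← Category.assoc, Scheme.isoSpec_hom_naturality, Category.assoc,
      ← Scheme.isoSpec_Spec_inv, Iso.hom_inv_id, Category.comp_id]
  letI : Algebra k Γ(X, ⊤) := φ.hom.toAlgebra
  letI : Algebra k K := ψ.hom.toAlgebra
  have hstd := isPullback_SpecMap_of_isPushout _ _ _ _
    (CommRingCat.isPushout_tensorProduct k Γ(X, ⊤) K)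
  have hiso : IsPullback X.isoSpec.hom f (Spec.map φ) (𝟙 _) :=
    IsPullback.of_horiz_isIso ⟨by rw [Category.comp_id, hφ]⟩
  have H' : IsPullback (j' ≫ X.isoSpec.hom) f' (Spec.map φ) (Spec.map ψ) := by
    have := H.paste_horiz hiso
    rwa [Category.comp_id, ← hψ] at this
  let θ := H'.isoIsPullback _ _ hstd
  have hθ1 : θ.hom ≫ Spec.map (CommRingCat.ofHom Algebra.TensorProduct.includeLeftRingHom) =
      j' ≫ X.isoSpec.hom := H'.isoIsPullback_hom_fst _ _ hstd
  have hθ2 : θ.hom ≫ Spec.map (CommRingCat.ofHom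
      (Algebra.TensorProduct.includeRight : K →ₐ[k] Γ(X, ⊤) ⊗[k] K).toRingHom) = f' :=
    H'.isoIsPullback_hom_snd _ _ hstd
  have sq1 : IsPullback θ.inv (Spec.map (CommRingCat.ofHom
      (Algebra.TensorProduct.includeRight : K →ₐ[k] Γ(X, ⊤) ⊗[k] K).toRingHom)) f' (𝟙 _) :=
    IsPullback.of_horiz_isIso ⟨by rw [Category.comp_id, ← hθ2, Iso.inv_hom_id_assoc]⟩
  have h1 : PNear @LocallyOfFiniteType (Spec.map (CommRingCat.ofHom
      (Algebra.TensorProduct.includeRight : K →ₐ[k] Γ(X, ⊤) ⊗[k] K).toRingHom)) (θ.hom z) := by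
    apply pNear_of_isPullback _ sq1
    rw [← Scheme.Hom.comp_apply, Iso.hom_inv_id]
    exact h
  have h2 := pNear_Spec (θ.hom z) h1
  apply pNear_of_isPullback _ hiso.flip.flip
  have e : X.isoSpec.hom (j' z) =
      Spec.map (CommRingCat.ofHom (algebraMap Γ(X, ⊤) (Γ(X, ⊤) ⊗[k] K))) (θ.hom z) := by
    rw [← Scheme.Hom.comp_apply, ← Scheme.Hom.comp_apply]
    exact congrArg (fun g => g z) hθ1.symm
  rw [e]
  exact h2

theorem pNear_descend {k K : Type u} [Field k] [Field K] {X X' : Scheme.{u}}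
    {f : X ⟶ Spec (CommRingCat.of k)} {j : Spec (CommRingCat.of K) ⟶ Spec (CommRingCat.of k)}
    {f' : X' ⟶ Spec (CommRingCat.of K)} {j' : X' ⟶ X} (H : IsPullback j' f' f j) (z : X')
    (h : PNear @LocallyOfFiniteType f' z) : PNear @LocallyOfFiniteType f (j' z) := by
  obtain ⟨_, ⟨U₀, hU₀, rfl⟩, hzU, -⟩ :=
    X.isBasis_affineOpens.exists_subset_of_mem_open (Set.mem_univ (j' z)) isOpen_univ
  have : IsAffine ↑U₀ := hU₀
  have : IsZariskiLocalAtSource @LocallyOfFiniteType.{u} :=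
    HasRingHomProperty.instIsZariskiLocalAtSource
  have : MorphismProperty.RespectsIso @LocallyOfFiniteType.{u} :=
    MorphismProperty.IsStableUnderBaseChange.respectsIso
  let z₀ : ↥(j' ⁻¹ᵁ U₀) := ⟨z, hzU⟩
  have h0 : PNear @LocallyOfFiniteType ((j' ⁻¹ᵁ U₀).ι ≫ f') z₀ :=
    pNear_restrict _ f' (j' ⁻¹ᵁ U₀) z₀ h
  have h1 := pNear_descend_affine (isPullback_restrict H U₀) z₀ h0
  have h2 := pNear_of_restrict _ f U₀ _ h1
  have e : (Scheme.Opens.ι U₀) ((j' ∣_ U₀) z₀) = j' z := by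
    change ((j' ∣_ U₀) ≫ Scheme.Opens.ι U₀) z₀ = j' z
    rw [morphismRestrict_ι]
    rfl
  rwa [e] at h2

end Groth.Agent.Lib.Helper79.NearDesc
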