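import Mathlib
import Groth.Agent.Lib.Helper79.NearDesc

/-!
# A group scheme over a field with a nonempty open part locally of finite type is locally of finite
type (helper79)
-/

set_option autoImplicit false
set_option linter.style.haveILetI false
set_option linter.unusedSectionVars false
universe u

namespace Groth.Agent.Lib.Helper79.GrpLoft

open CategoryTheory CategoryTheory.Limits MonoidalCategory CartesianMonoidalCategory MonObj GrpObj
  AlgebraicGeometry
open Groth.Agent.Lib.Helper79.NearDesc

section shear

variable {S : Scheme.{u}} {T G : Over S} [GrpObj G] (a : T ⟶ G)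

/-- the shear `(t, h) ↦ (t, a(t) h)`. -/
noncomputable def shear : T ⊗ G ≅ T ⊗ G where
  hom := lift (fst T G) ((fst T G ≫ a) * snd T G)
  inv := lift (fst T G) ((fst T G ≫ a)⁻¹ * snd T G)
  hom_inv_id := by
    ext
    · simp
    · rw [Category.assoc, lift_snd, MonObj.comp_mul, GrpObj.comp_inv, ← Category.assoc, lift_fst,
        lift_snd, Category.id_comp, inv_mul_cancel_left]
  inv_hom_id := by
    ext
    · simp
    · rw [Category.assoc, lift_snd, MonObj.comp_mul, ← Category.assoc, lift_fst, lift_snd,
        Category.id_comp, mul_inv_cancel_left]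

theorem shear_fst : (shear a).hom ≫ fst T G = fst T G := by simp [shear]

theorem lift_shear (b : T ⟶ G) : lift (𝟙 T) b ≫ (shear a).hom = lift (𝟙 T) (a * b) := by
  ext
  · simp [shear]
  · rw [Category.assoc]
    simp only [shear, lift_snd]
    rw [MonObj.comp_mul, ← Category.assoc, lift_fst, lift_snd, Category.id_comp]

end shear

theorem loft_of_field {k : Type u} [Field k] (G : Over (Spec (CommRingCat.of k))) [GrpObj G]
    (W : G.left.Opens) (w : G.left) (hw : w ∈ W) (hWft : LocallyOfFiniteType (W.ι ≫ G.hom)) :
    LocallyOfFiniteType G.hom := by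
  have hloc : IsZariskiLocalAtSource @LocallyOfFiniteType.{u} :=
    HasRingHomProperty.instIsZariskiLocalAtSource
  suffices h : ∀ x : G.left, PNear @LocallyOfFiniteType G.hom x by
    choose U hxU hU using h
    exact (IsZariskiLocalAtSource.iff_of_iSup_eq_top (P := @LocallyOfFiniteType) U (by
      rw [eq_top_iff]; intro x _; exact TopologicalSpace.Opens.mem_iSup.2 ⟨x, hxU x⟩)).2 hU
  intro x
  have hsub : Subsingleton (Spec (CommRingCat.of k)) :=
    inferInstanceAs (Subsingleton (PrimeSpectrum k))
  have hxw : G.hom x = G.hom w := Subsingleton.elim _ _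
  obtain ⟨p, hp1, hp2⟩ := Scheme.Pullback.exists_preimage_pullback x w hxw
  let Kc : CommRingCat := (pullback G.hom G.hom).residueField p
  let sp : Spec Kc ⟶ pullback G.hom G.hom := (pullback G.hom G.hom).fromSpecResidueField p
  let gK : Spec Kc ⟶ G.left := sp ≫ pullback.fst _ _
  let bK : Spec Kc ⟶ G.left := sp ≫ pullback.snd _ _
  have hgb : bK ≫ G.hom = gK ≫ G.hom := by
    simp only [gK, bK, Category.assoc, pullback.condition]
  let T : Over (Spec (CommRingCat.of k)) := Over.mk (gK ≫ G.hom)
  let g : T ⟶ G := Over.homMk gK rfl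
  let b : T ⟶ G := Over.homMk bK hgb
  let a : T ⟶ G := g * b⁻¹
  let pt : T.left := IsLocalRing.closedPoint Kc
  have hsp : sp pt = p := Scheme.fromSpecResidueField_apply _ _
  have hgx : g.left pt = x := by
    change (sp ≫ pullback.fst _ _) pt = x
    rw [Scheme.Hom.comp_apply, hsp, hp1]
  have hbw : b.left pt = w := by
    change (sp ≫ pullback.snd _ _) pt = w
    rw [Scheme.Hom.comp_apply, hsp, hp2]
  have Hsq : IsPullback (snd T G).left (fst T G).left G.hom T.hom := by
    rw [Over.fst_left, Over.snd_left]
    exact (IsPullback.of_hasPullback _ _).flip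
  let zb : T ⟶ T ⊗ G := lift (𝟙 T) b
  let zg : T ⟶ T ⊗ G := lift (𝟙 T) g
  have hzz : zb ≫ (shear a).hom = zg := by
    rw [lift_shear]
    simp only [a, zg, inv_mul_cancel_right]
  -- near `zb pt`
  have h1 : PNear @LocallyOfFiniteType (fst T G).left (zb.left pt) := by
    refine ⟨(snd T G).left ⁻¹ᵁ W, ?_, ?_⟩
    · change (snd T G).left (zb.left pt) ∈ W
      have : (snd T G).left (zb.left pt) = b.left pt := by
        rw [← Scheme.Hom.comp_apply, ← Over.comp_left, lift_snd]
      rw [this, hbw]; exact hw
    · exact MorphismProperty.of_isPullback (isPullback_restrict Hsq W) hWft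
  have i1 : IsIso (shear a).inv.left :=
    inferInstanceAs (IsIso ((Over.forget _).map (shear a).inv))
  have e2 : (shear a).inv ≫ fst T G = fst T G := by rw [Iso.inv_comp_eq, shear_fst]
  have hsq2 : IsPullback (shear a).inv.left (fst T G).left (fst T G).left (𝟙 _) :=
    IsPullback.of_horiz_isIso ⟨by rw [Category.comp_id, ← Over.comp_left, e2]⟩
  have h2 : PNear @LocallyOfFiniteType (fst T G).left (zg.left pt) := by
    apply pNear_of_isPullback _ hsq2
    have : (shear a).inv.left (zg.left pt) = zb.left pt := by
      rw [← hzz, Over.comp_left, Scheme.Hom.comp_apply, ← Scheme.Hom.comp_apply (shear a).hom.left,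
        ← Over.comp_left, Iso.hom_inv_id]
      rfl
    rw [this]; exact h1
  have h3 := pNear_descend (k := k) (K := Kc) Hsq (zg.left pt) h2
  have : (snd T G).left (zg.left pt) = x := by
    rw [← Scheme.Hom.comp_apply, ← Over.comp_left, lift_snd, hgx]
  rwa [this] at h3

end Groth.Agent.Lib.Helper79.GrpLoft
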