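import Mathlib
import Groth.Agent.Lib.Helper79.GrpLoft
import Groth.Agent.Lib.Helper53.ArtinLft

/-!
# A group scheme over a local artinian ring with a nonempty open part locally of finite type is
locally of finite type (helper79; SGA3 VI_B)
-/

set_option autoImplicit false
set_option linter.style.haveILetI false
set_option linter.unusedSectionVars false
universe u

namespace Groth.Agent.Lib.Helper79.GrpLoftArt

open CategoryTheory CategoryTheory.Limits MonoidalCategory CartesianMonoidalCategory MonObj GrpObj
  AlgebraicGeometry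
open Groth.Agent.Lib.Helper79.NearDesc

theorem loft_of_artinian (A : Type u) [CommRing A] [IsArtinianRing A] [IsLocalRing A]
    (G : Over (Spec (CommRingCat.of A))) [GrpObj G]
    (W : G.left.Opens) (hW : (W : Set G.left).Nonempty)
    (hWft : LocallyOfFiniteType (W.ι ≫ G.hom)) :
    LocallyOfFiniteType G.hom := by
  have hsub : Subsingleton (Spec (CommRingCat.of A)) := by
    refine ⟨fun p q => ?_⟩
    have hp : p.asIdeal = IsLocalRing.maximalIdeal A :=
      haveI := p.isPrime
      IsLocalRing.eq_maximalIdeal (IsArtinianRing.isMaximal_of_isPrime p.asIdeal)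
    have hq : q.asIdeal = IsLocalRing.maximalIdeal A :=
      haveI := q.isPrime
      IsLocalRing.eq_maximalIdeal (IsArtinianRing.isMaximal_of_isPrime q.asIdeal)
    exact PrimeSpectrum.ext (hp.trans hq.symm)
  apply Groth.Agent.Lib.Helper53.ArtinLft.lft_of_artinian_local_cover G.hom
  · intro s
    let e : Γ(Spec (CommRingCat.of A), ⊤) ≃+* A :=
      (Scheme.ΓSpecIso (CommRingCat.of A)).commRingCatIsoToRingEquiv
    exact ⟨⊤, trivial, isAffineOpen_top _, e.symm.isArtinianRing, e.symm.isLocalRing⟩
  · intro κ _ iκ P fst snd hP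
    let G' : Over (Spec (CommRingCat.of κ)) := (Over.pullback iκ).obj G
    letI : GrpObj G' := Functor.grpObjObj
    obtain ⟨w, hw⟩ := hW
    obtain ⟨w', hw'1, -⟩ := Scheme.Pullback.exists_preimage_pullback (f := G.hom) (g := iκ) w
      (IsLocalRing.closedPoint κ) (Subsingleton.elim _ _)
    have Hsq : IsPullback (pullback.fst G.hom iκ) (pullback.snd G.hom iκ) G.hom iκ :=
      IsPullback.of_hasPullback _ _
    have hft' : LocallyOfFiniteType
        (((pullback.fst G.hom iκ) ⁻¹ᵁ W).ι ≫ pullback.snd G.hom iκ) :=
      MorphismProperty.of_isPullback (isPullback_restrict Hsq W) hWft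
    have hG' : LocallyOfFiniteType G'.hom :=
      GrpLoft.loft_of_field G' ((pullback.fst G.hom iκ) ⁻¹ᵁ W) w'
        (by change pullback.fst G.hom iκ w' ∈ W; rw [hw'1]; exact hw) hft'
    have e : snd = hP.isoPullback.hom ≫ pullback.snd G.hom iκ := (hP.isoPullback_hom_snd).symm
    rw [e]
    have : LocallyOfFiniteType (pullback.snd G.hom iκ) := hG'
    infer_instance

end Groth.Agent.Lib.Helper79.GrpLoftArt
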