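import Mathlib
import Groth.Prelude.Def_SGA3x
import Groth.Prelude.Def_Red
import Groth.Prelude.Def_AutSch
import Groth.Agent.Lib.Helper79.NeutralBC
import Groth.Agent.Lib.Helper79.NeutralQC
import Groth.Agent.Lib.Helper62.GrpComp
import Groth.Agent.S1865
import Groth.Agent.S0346

/-!
# A universally open group scheme with connected fibres is separated (helper79)
-/

set_option autoImplicit false
set_option linter.style.haveILetI false
set_option linter.unusedSectionVars false

universe u

open CategoryTheory CategoryTheory.Limits MonoidalCategory CartesianMonoidalCategory MonObj GrpObj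
  AlgebraicGeometry TopologicalSpace

namespace Groth.Agent.Lib.Helper79.GrpSep

open Groth.Agent.Lib.Helper79.NeutralBC Groth.Agent.Lib.Helper79.NeutralQC

variable {S : Scheme.{u}} (G : Over S) [GrpObj G]

/-- pointwise version of `NeutralQC.exists_mul_eq`: `V` only has to contain the unit of the fibre -/
theorem exists_mul_eq' (V : G.left.Opens) (x : G.left) (hV : η[G].left (G.hom x) ∈ V)
    (hx : x ∈ SGA3x.neutralSet G) :
    ∃ z : ↥(G ⊗ G).left, (fst G G).left z ∈ V ∧ (snd G G).left z ∈ V ∧ μ[G].left z = x := by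
  let t : Spec (G.left.residueField x) ⟶ G.left := G.left.fromSpecResidueField x
  have ht : ∀ q, t q = x := by
    intro q
    have : t q ∈ Set.range t := ⟨q, rfl⟩
    rw [Scheme.range_fromSpecResidueField] at this
    exact this
  let φ : Spec (G.left.residueField x) ⟶ S := t ≫ G.hom
  have hφ : ∀ q, φ q = G.hom x := fun q => congrArg (fun y => G.hom y) (ht q)
  let GT : Over (Spec (G.left.residueField x)) := Red.bc φ G
  let pr₁ : GT.left ⟶ G.left := pullback.fst G.hom φ
  let pr₂ : GT.left ⟶ Spec (G.left.residueField x) := pullback.snd G.hom φ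
  let P : Over S := Over.mk (pr₂ ≫ φ)
  let a : P ⟶ G := Over.homMk pr₁ pullback.condition
  let b : P ⟶ G := Over.homMk (pr₂ ≫ t) (by simp [P, φ])
  let β : P ⟶ G := a⁻¹ * b
  let gm : P ⟶ G ⊗ G := lift a β
  have hgmμ : gm ≫ μ[G] = b := by
    have h1 : gm ≫ μ[G] = a * β := rfl
    rw [h1]
    exact mul_inv_cancel_left a b
  have hgm₁ : gm ≫ fst G G = a := lift_fst _ _
  have hgm₂ : gm ≫ snd G G = β := lift_snd _ _
  let pt : Spec (G.left.residueField x) := IsLocalRing.closedPoint (G.left.residueField x)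
  let u : GT.left := η[GT].left pt
  have hu : pr₁ u ∈ V := by
    have h1 : pr₁ u = (η[GT].left ≫ pr₁) pt := rfl
    rw [h1, unit_bc_fst φ G]
    show η[G].left (φ pt) ∈ V
    rw [hφ]
    exact hV
  let tt : Spec (G.left.residueField x) ⟶ GT.left :=
    pullback.lift t (𝟙 _) (by rw [Category.id_comp])
  have htt₁ : tt ≫ pr₁ = t := pullback.lift_fst _ _ _
  have htt₂ : tt ≫ pr₂ = 𝟙 _ := pullback.lift_snd _ _ _
  let v : GT.left := tt pt
  let tt' : Over.mk φ ⟶ P := Over.homMk tt (by
    show tt ≫ pr₂ ≫ φ = φ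
    rw [← Category.assoc, htt₂, Category.id_comp])
  have hab : tt' ≫ a = tt' ≫ b := by
    apply Over.OverMorphism.ext
    show tt ≫ pr₁ = tt ≫ pr₂ ≫ t
    rw [htt₁, ← Category.assoc, htt₂, Category.id_comp]
  have hβ1 : tt' ≫ β = 1 := by
    show tt' ≫ (a⁻¹ * b) = 1
    rw [MonObj.comp_mul, GrpObj.comp_inv, hab, inv_mul_cancel]
  have hv : β.left v ∈ V := by
    have h1 : β.left v = (tt' ≫ β).left pt := rfl
    rw [h1, hβ1, Hom.one_def]
    show η[G].left (φ pt) ∈ V
    rw [hφ]
    exact hV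
  have hcc : SGA3x.neutralSet GT = connectedComponent u :=
    AutSch.neutralSet_eq_connectedComponent (k := G.left.residueField x) GT
  have hvcc : v ∈ connectedComponent u := by
    rw [← hcc, neutralSet_bc φ G]
    show pr₁ v ∈ SGA3x.neutralSet G
    have h1 : pr₁ v = (tt ≫ pr₁) pt := rfl
    rw [h1, htt₁, ht]
    exact hx
  have hirr : IsIrreducible (connectedComponent u) :=
    (Groth.Agent.Lib.Helper62.GrpComp.main (k := G.left.residueField x) GT).1
  obtain ⟨y, -, hyA, hyB⟩ := hirr.2 (pr₁ ⁻¹' (V : Set G.left)) (β.left ⁻¹' (V : Set G.left))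
    (V.isOpen.preimage pr₁.continuous) (V.isOpen.preimage β.left.continuous)
    ⟨u, mem_connectedComponent, hu⟩ ⟨v, hvcc, hv⟩
  refine ⟨gm.left y, ?_, ?_, ?_⟩
  · have h1 : (fst G G).left (gm.left y) = (gm ≫ fst G G).left y := rfl
    rw [h1, hgm₁]
    exact hyA
  · have h1 : (snd G G).left (gm.left y) = (gm ≫ snd G G).left y := rfl
    rw [h1, hgm₂]
    exact hyB
  · have h1 : μ[G].left (gm.left y) = (gm ≫ μ[G]).left y := rfl
    rw [h1, hgmμ]
    exact ht _

/-- the multiplication of a universally open group scheme is an open map -/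
theorem isOpenMap_mul [UniversallyOpen G.hom] : IsOpenMap μ[G].left := by
  have h : μ[G].left = (Groth.Agent.S1865.shear G).hom.left ≫ pullback.snd G.hom G.hom := by
    have := congrArg (fun m => m.left) (Groth.Agent.S1865.shear_hom_snd G)
    exact this.symm
  rw [h]
  haveI : IsIso (Groth.Agent.S1865.shear G).hom.left :=
    inferInstanceAs (IsIso ((Over.forget S).map (Groth.Agent.S1865.shear G).hom))
  exact ((pullback.snd G.hom G.hom).isOpenMap).comp
    ((Groth.Agent.S1865.shear G).hom.left.homeomorph.isOpenMap)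

theorem inv_inv_left : ι[G].left ≫ ι[G].left = 𝟙 G.left := by
  have h : ι[G] ≫ ι[G] = 𝟙 G := by
    have h1 : ι[G] = (𝟙 G)⁻¹ := GrpObj.inv_eq_inv
    calc ι[G] ≫ ι[G] = ι[G] ≫ (𝟙 G)⁻¹ := by rw [← h1]
      _ = (ι[G] ≫ 𝟙 G)⁻¹ := GrpObj.comp_inv _ _
      _ = (ι[G])⁻¹ := by rw [Category.comp_id]
      _ = ((𝟙 G)⁻¹)⁻¹ := by rw [← h1]
      _ = 𝟙 G := inv_inv _
  exact congrArg (fun m => m.left) h

section Graph

variable (W : G.left.Opens) (hsym : ι[G].left ⁻¹ᵁ W = W)

/-- the inverse restricted to a symmetric open -/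
noncomputable def invW : (W : Scheme.{u}) ⟶ W :=
  IsOpenImmersion.lift W.ι (W.ι ≫ ι[G].left) (by
    rw [Scheme.Opens.range_ι]
    rintro _ ⟨y, rfl⟩
    have hy : (W.ι y) ∈ ι[G].left ⁻¹ᵁ W := by rw [hsym]; exact y.2
    exact hy)

theorem invW_ι : invW G W hsym ≫ W.ι = W.ι ≫ ι[G].left := IsOpenImmersion.lift_fac _ _ _

/-- the graph of the inverse on `W` -/
noncomputable def gr : (W : Scheme.{u}) ⟶ pullback (W.ι ≫ G.hom) (W.ι ≫ G.hom) :=
  pullback.lift (𝟙 _) (invW G W hsym) (by
    rw [Category.id_comp, ← Category.assoc, invW_ι, Category.assoc, Over.w ι[G]])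

/-- the inclusion of `W ×_S W` -/
noncomputable def om : pullback (W.ι ≫ G.hom) (W.ι ≫ G.hom) ⟶ pullback G.hom G.hom :=
  pullback.map _ _ _ _ W.ι W.ι (𝟙 S) (by rw [Category.comp_id]) (by rw [Category.comp_id])

theorem range_om : Set.range (om G W) = (pullback.fst G.hom G.hom) ⁻¹' (W : Set G.left) ∩
    (pullback.snd G.hom G.hom) ⁻¹' (W : Set G.left) := by
  unfold om
  rw [Scheme.Pullback.range_map, Scheme.Opens.range_ι]

theorem gr_om_fst : gr G W hsym ≫ om G W ≫ pullback.fst G.hom G.hom = W.ι := by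
  unfold gr om
  rw [pullback.lift_fst, pullback.lift_fst_assoc, Category.id_comp]

theorem gr_om_snd : gr G W hsym ≫ om G W ≫ pullback.snd G.hom G.hom = W.ι ≫ ι[G].left := by
  unfold gr om
  rw [pullback.lift_snd, pullback.lift_snd_assoc, invW_ι]

/-- the graph lies in the preimage of the unit section -/
theorem gr_om_mul : gr G W hsym ≫ om G W ≫ μ[G].left = (W.ι ≫ G.hom) ≫ η[G].left := by
  let W' : Over S := Over.mk (W.ι ≫ G.hom)
  let w : W' ⟶ G := Over.homMk W.ι rfl
  let q : W' ⟶ G ⊗ G := lift w w⁻¹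
  have hq : q.left = gr G W hsym ≫ om G W := by
    apply pullback.hom_ext
    · rw [Category.assoc, gr_om_fst]
      exact congrArg (fun m => m.left) (lift_fst w w⁻¹)
    · rw [Category.assoc, gr_om_snd]
      have h1 := congrArg (fun m => m.left) (lift_snd w w⁻¹)
      have h2 : (w⁻¹ : W' ⟶ G) = w ≫ ι[G] := Hom.inv_def w
      rw [h2] at h1
      exact h1
  have hqμ : q ≫ μ[G] = 1 := by
    have h1 : q ≫ μ[G] = w * w⁻¹ := rfl
    rw [h1, mul_inv_cancel]
  have := congrArg (fun m => m.left) hqμ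
  rw [Hom.one_def] at this
  rw [← Category.assoc, ← hq]
  exact this

theorem isClosedImmersion_gr [IsSeparated (W.ι ≫ G.hom)] : IsClosedImmersion (gr G W hsym) := by
  haveI : IsClosedImmersion (gr G W hsym ≫ pullback.fst (W.ι ≫ G.hom) (W.ι ≫ G.hom)) := by
    have : gr G W hsym ≫ pullback.fst (W.ι ≫ G.hom) (W.ι ≫ G.hom) = 𝟙 _ := pullback.lift_fst _ _ _
    rw [this]
    infer_instance
  exact IsClosedImmersion.of_comp (gr G W hsym) (pullback.fst (W.ι ≫ G.hom) (W.ι ≫ G.hom))

/-- every point of `m⁻¹(e(S))` lying in `W × W` lies on the graph -/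
theorem mem_range_gr (k : ↥(pullback μ[G].left η[G].left))
    (hk₁ : (pullback.fst G.hom G.hom) ((pullback.fst μ[G].left η[G].left) k) ∈ W) :
    (pullback.fst μ[G].left η[G].left) k ∈ Set.range (gr G W hsym ≫ om G W) := by
  let K := pullback μ[G].left η[G].left
  let α : K ⟶ pullback G.hom G.hom := pullback.fst μ[G].left η[G].left
  let t : Spec (K.residueField k) ⟶ K := K.fromSpecResidueField k
  have ht : ∀ q, t q = k := by
    intro q
    have : t q ∈ Set.range t := ⟨q, rfl⟩
    rw [Scheme.range_fromSpecResidueField] at this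
    exact this
  let u : Spec (K.residueField k) ⟶ pullback G.hom G.hom := t ≫ α
  let T' : Over S := Over.mk (u ≫ (G ⊗ G).hom)
  let uu : T' ⟶ G ⊗ G := Over.homMk u rfl
  let g : T' ⟶ G := uu ≫ fst G G
  let h : T' ⟶ G := uu ≫ snd G G
  have hgh : g * h = 1 := by
    have h1 : g * h = lift g h ≫ μ[G] := rfl
    have h2 : lift g h = uu := by
      apply CartesianMonoidalCategory.hom_ext
      · rw [lift_fst]
      · rw [lift_snd]
    rw [h1, h2]
    apply Over.OverMorphism.ext
    rw [Hom.one_def]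
    show u ≫ μ[G].left = (u ≫ (G ⊗ G).hom) ≫ η[G].left
    have hc : α ≫ μ[G].left = pullback.snd μ[G].left η[G].left ≫ η[G].left := pullback.condition
    have hw : μ[G].left ≫ G.hom = (G ⊗ G).hom := Over.w μ[G]
    have he : η[G].left ≫ G.hom = 𝟙 S := unit_hom G
    show (t ≫ α) ≫ μ[G].left = ((t ≫ α) ≫ (G ⊗ G).hom) ≫ η[G].left
    have e1 : (t ≫ α) ≫ μ[G].left =
        (t ≫ pullback.snd μ[G].left η[G].left) ≫ η[G].left := by
      rw [Category.assoc, hc, Category.assoc]
    have e2 : (t ≫ α) ≫ (G ⊗ G).hom = t ≫ pullback.snd μ[G].left η[G].left := by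
      rw [← hw, ← Category.assoc, e1, Category.assoc, he]
      exact Category.comp_id _
    rw [e1, e2]
  have hh : h = g⁻¹ := eq_inv_of_mul_eq_one_right hgh
  -- `g` lands in `W`
  have hgW : Set.range g.left ⊆ Set.range W.ι := by
    rw [Scheme.Opens.range_ι]
    rintro _ ⟨q, rfl⟩
    have h1 : g.left q = (pullback.fst G.hom G.hom) (α (t q)) := rfl
    rw [h1, ht]
    exact hk₁
  let g₀ : Spec (K.residueField k) ⟶ W := IsOpenImmersion.lift W.ι g.left hgW
  have hg₀ : g₀ ≫ W.ι = g.left := IsOpenImmersion.lift_fac _ _ _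
  have hfac : g₀ ≫ gr G W hsym ≫ om G W = u := by
    apply pullback.hom_ext
    · rw [Category.assoc, Category.assoc, gr_om_fst, hg₀]
      rfl
    · rw [Category.assoc, Category.assoc, gr_om_snd, ← Category.assoc, hg₀]
      have h1 : g.left ≫ ι[G].left = (g⁻¹ : T' ⟶ G).left := by
        rw [Hom.inv_def]; rfl
      rw [h1, ← hh]
      rfl
  let pt : Spec (K.residueField k) := IsLocalRing.closedPoint (K.residueField k)
  refine ⟨g₀ pt, ?_⟩
  have h1 : (gr G W hsym ≫ om G W) (g₀ pt) = (g₀ ≫ gr G W hsym ≫ om G W) pt := rfl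
  rw [h1, hfac]
  show α (t pt) = α k
  rw [ht]

end Graph

theorem isSeparated_of_le_affine {X Y : Scheme.{u}} (U : X.Opens) (hU : IsAffineOpen U)
    (V : X.Opens) (h : V ≤ U) (f : X ⟶ Y) : IsSeparated (V.ι ≫ f) := by
  haveI : IsAffine (U : Scheme.{u}) := hU
  haveI : (V : Scheme.{u}).IsSeparated := ⟨by
    rw [← terminal.comp_from (X.homOfLE h)]
    infer_instance⟩
  infer_instance

/-- the unit section of a universally open group scheme with connected fibres is closed -/
theorem isClosed_range_unit [UniversallyOpen G.hom]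
    (hconn : ∀ s : S, _root_.IsConnected (G.hom.base ⁻¹' {s})) :
    IsClosed (Set.range η[G].left) := by
  rw [← closure_subset_iff_isClosed]
  intro x hx
  obtain ⟨W₀, hW₀, heW₀, -⟩ := exists_isAffineOpen_mem_and_subset (U := ⊤)
    (x := η[G].left (G.hom x)) trivial
  let W : G.left.Opens := W₀ ⊓ ι[G].left ⁻¹ᵁ W₀
  have hsym : ι[G].left ⁻¹ᵁ W = W := by
    ext y
    have h2 : ι[G].left (ι[G].left y) = y :=
      congrArg (fun m : G.left ⟶ G.left => m y) (inv_inv_left G)
    constructor
    · rintro ⟨h1, h3⟩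
      refine ⟨?_, h1⟩
      have : ι[G].left (ι[G].left y) ∈ W₀ := h3
      rwa [h2] at this
    · rintro ⟨h1, h3⟩
      refine ⟨h3, ?_⟩
      show ι[G].left (ι[G].left y) ∈ W₀
      rw [h2]
      exact h1
  have heW : η[G].left (G.hom x) ∈ W := by
    refine ⟨heW₀, ?_⟩
    show ι[G].left (η[G].left (G.hom x)) ∈ W₀
    have h1 : ι[G].left (η[G].left (G.hom x)) = (η[G] ≫ ι[G]).left (G.hom x) := rfl
    rw [h1, GrpObj.one_inv]
    exact heW₀
  haveI : IsSeparated (W.ι ≫ G.hom) := isSeparated_of_le_affine W₀ hW₀ W inf_le_left G.hom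
  have hx_ns : x ∈ SGA3x.neutralSet G := by
    rw [neutralSet_eq_univ G hconn]; trivial
  obtain ⟨z, hz1, hz2, hz3⟩ := exists_mul_eq' G W x heW hx_ns
  -- `z` lies in the closure of `A = m⁻¹(e(S))`
  let A : Set ↥(pullback G.hom G.hom) := μ[G].left ⁻¹' (Set.range η[G].left)
  have hzA : z ∈ closure A := by
    have h1 := (isOpenMap_mul G).preimage_closure_eq_closure_preimage μ[G].left.continuous
      (Set.range η[G].left)
    rw [← h1]
    show μ[G].left z ∈ closure (Set.range η[G].left)
    rw [hz3]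
    exact hx
  have hΩ : Set.range (om G W) = (pullback.fst G.hom G.hom) ⁻¹' (W : Set G.left) ∩
      (pullback.snd G.hom G.hom) ⁻¹' (W : Set G.left) := range_om G W
  have hzΩ : z ∈ Set.range (om G W) := by
    rw [hΩ]; exact ⟨hz1, hz2⟩
  have hΩo : IsOpen (Set.range (om G W)) := by
    rw [hΩ]
    exact (W.isOpen.preimage (pullback.fst G.hom G.hom).continuous).inter
      (W.isOpen.preimage (pullback.snd G.hom G.hom).continuous)
  have hzcl : z ∈ closure (Set.range (om G W) ∩ A) := hΩo.inter_closure ⟨hzΩ, hzA⟩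
  -- the graph
  have hAR : Set.range (om G W) ∩ A ⊆ Set.range (gr G W hsym ≫ om G W) := by
    rintro w ⟨hwΩ, hwA⟩
    have h1 : w ∈ Set.range (pullback.fst μ[G].left η[G].left) := by
      rw [Scheme.Pullback.range_fst]; exact hwA
    obtain ⟨k, rfl⟩ := h1
    rw [hΩ] at hwΩ
    exact mem_range_gr G W hsym k hwΩ.1
  have hRA : Set.range (gr G W hsym ≫ om G W) ⊆ A := by
    rintro _ ⟨y, rfl⟩
    show μ[G].left ((gr G W hsym ≫ om G W) y) ∈ Set.range η[G].left
    have h1 : μ[G].left ((gr G W hsym ≫ om G W) y) =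
        ((gr G W hsym ≫ om G W) ≫ μ[G].left) y := rfl
    rw [h1, Category.assoc, gr_om_mul]
    exact ⟨_, rfl⟩
  haveI := isClosedImmersion_gr G W hsym
  have hgrc : IsClosed (Set.range (gr G W hsym)) := (gr G W hsym).isClosedEmbedding.isClosed_range
  haveI : IsOpenImmersion (om G W) := by unfold om; infer_instance
  obtain ⟨K', hK'c, hK'⟩ := (om G W).isOpenEmbedding.isInducing.isClosed_iff.mp hgrc
  have hR : Set.range (gr G W hsym ≫ om G W) = K' ∩ Set.range (om G W) := by
    rw [Scheme.Hom.comp_base, TopCat.coe_comp, Set.range_comp, ← hK',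
      Set.image_preimage_eq_inter_range]
  have hzK : z ∈ K' := by
    have h1 : closure (Set.range (om G W) ∩ A) ⊆ K' := by
      apply hK'c.closure_subset_iff.mpr
      intro w hw
      have := hAR hw
      rw [hR] at this
      exact this.1
    exact h1 hzcl
  have hzR : z ∈ Set.range (gr G W hsym ≫ om G W) := by
    rw [hR]; exact ⟨hzK, hzΩ⟩
  have hzA' : μ[G].left z ∈ Set.range η[G].left := hRA hzR
  rw [hz3] at hzA'
  exact hzA'

/-- a universally open group scheme with connected fibres is separated and quasi-compact -/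
theorem isSeparated_and_quasiCompact [UniversallyOpen G.hom]
    (hconn : ∀ s : S, _root_.IsConnected (G.hom.base ⁻¹' {s})) :
    IsSeparated G.hom ∧ QuasiCompact G.hom := by
  refine ⟨?_, quasiCompact_of_connected G hconn⟩
  rw [(Groth.Agent.S0346.result S G).1]
  haveI : IsImmersion (η[G].left ≫ G.hom) := by
    have h : η[G].left ≫ G.hom = 𝟙 S := unit_hom G
    have h2 : IsImmersion (𝟙 S) := inferInstance
    exact h ▸ h2
  haveI : IsImmersion η[G].left := IsImmersion.of_comp η[G].left G.hom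
  exact IsClosedImmersion.of_isPreimmersion _ (isClosed_range_unit G hconn)

end Groth.Agent.Lib.Helper79.GrpSep
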