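import Mathlib
import Groth.Prelude.Def_W4c2invhilbsl2HJ

/-!
Hirzebruch–Jung continued fractions: numerators/denominators `hjP`, `hjQ` and the value `hjVal`.
-/

namespace Groth.Agent.Lib.Helper79.HJ

open W4c2invhilbsl2

theorem hjP_succ_succ (c : List ℤ) (i : ℕ) :
    hjP c (i + 2) = c.getD i 0 * hjP c (i + 1) - hjP c i := rfl

theorem hjQ_succ_succ (c : List ℤ) (i : ℕ) :
    hjQ c (i + 2) = c.getD i 0 * hjQ c (i + 1) - hjQ c i := rfl

@[simp] theorem hjP_zero (c : List ℤ) : hjP c 0 = 0 := rfl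
@[simp] theorem hjP_one (c : List ℤ) : hjP c 1 = 1 := rfl
@[simp] theorem hjQ_zero (c : List ℤ) : hjQ c 0 = -1 := rfl
@[simp] theorem hjQ_one (c : List ℤ) : hjQ c 1 = 0 := rfl

/-- shifting the list by one digit -/
theorem hjPQ_cons (b : ℤ) (l : List ℤ) : ∀ i : ℕ,
    hjP (b :: l) (i + 1) = b * hjP l i - hjQ l i ∧ hjQ (b :: l) (i + 1) = hjP l i := by
  intro i
  induction i using Nat.twoStepInduction with
  | zero => simp
  | one =>
    constructor
    · rw [hjP_succ_succ]; simp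
    · rw [hjQ_succ_succ]; simp
  | more i ih1 ih2 =>
    constructor
    · rw [hjP_succ_succ (b :: l) (i + 1), List.getD_cons_succ, ih2.1, ih1.1, hjP_succ_succ l i,
        hjQ_succ_succ l i]
      ring
    · rw [hjQ_succ_succ (b :: l) (i + 1), List.getD_cons_succ, ih2.2, ih1.2, hjP_succ_succ l i]

/-- determinant identity -/
theorem hj_det (c : List ℤ) : ∀ i : ℕ, hjP c i * hjQ c (i + 1) - hjP c (i + 1) * hjQ c i = 1 := by
  intro i
  induction i with
  | zero => simp
  | succ i ih =>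
    rw [hjP_succ_succ, hjQ_succ_succ]
    linear_combination ih

/-- value of the continued fraction -/
theorem hjVal_eq (l : List ℤ) (h : ∀ x ∈ l, (2 : ℤ) ≤ x) :
    0 ≤ hjQ l (l.length + 1) ∧ hjQ l (l.length + 1) < hjP l (l.length + 1) ∧
      HJFrac.hjVal l = (hjP l (l.length + 1) : ℚ) / (hjQ l (l.length + 1) : ℚ) := by
  induction l with
  | nil => simp [HJFrac.hjVal]
  | cons b l ih =>
    have hb : (2 : ℤ) ≤ b := h b (by simp)
    obtain ⟨h1, h2, h3⟩ := ih (fun x hx ↦ h x (by simp [hx]))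
    have hs := hjPQ_cons b l (l.length + 1)
    have hlen : (b :: l).length + 1 = (l.length + 1) + 1 := by simp
    rw [hlen, hs.1, hs.2]
    have hPpos : 0 < hjP l (l.length + 1) := lt_of_le_of_lt h1 h2
    refine ⟨hPpos.le, by nlinarith, ?_⟩
    rw [HJFrac.hjVal, h3, inv_div]
    have hP0 : (hjP l (l.length + 1) : ℚ) ≠ 0 := by exact_mod_cast hPpos.ne'
    push_cast
    field_simp

end Groth.Agent.Lib.Helper79.HJ
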