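import Groth.Agent.Lib.Helper79.HJ

/-!
Arithmetic of `g, b, t` and identification of the last convergent.
-/

namespace Groth.Agent.Lib.Helper79.HJ

open W4c2invhilbsl2

theorem gbt_facts (p q m : ℕ) (hp : 0 < p) (hpq : p < q) (hcop : Nat.Coprime p q)
    (hnt : ¬ (q - p ∣ m)) :
    0 < gcdK p q m ∧ q - p = gcdK p q m * bB p q m ∧
      (q - p) - m * p % (q - p) = gcdK p q m * tT p q m ∧
      0 < tT p q m ∧ tT p q m < bB p q m ∧ Nat.Coprime (tT p q m) (bB p q m) := by
  set N := q - p with hNdef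
  have hN : 0 < N := by omega
  have hcopN : Nat.Coprime p N := (Nat.coprime_sub_self_right hpq.le).mpr hcop
  set g := Nat.gcd m N with hg
  have hgN : g ∣ N := Nat.gcd_dvd_right m N
  have hgm : g ∣ m := Nat.gcd_dvd_left m N
  have hgpos : 0 < g := Nat.gcd_pos_of_pos_right m hN
  set β := m * p % N with hβ
  have hβlt : β < N := Nat.mod_lt _ hN
  have hgβ : g ∣ β := (Nat.dvd_mod_iff hgN).mpr (Dvd.dvd.mul_right hgm p)
  have hgNβ : g ∣ N - β := Nat.dvd_sub hgN hgβ
  have hβ0 : β ≠ 0 := by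
    intro h0
    have h1 : N ∣ m * p := Nat.dvd_of_mod_eq_zero h0
    exact hnt (hcopN.symm.dvd_of_dvd_mul_right h1)
  have hb : N = g * bB p q m := by
    unfold bB gcdK
    exact (Nat.mul_div_cancel' hgN).symm
  have ht : N - β = g * tT p q m := by
    unfold tT gcdK
    exact (Nat.mul_div_cancel' hgNβ).symm
  have htpos : 0 < tT p q m := by
    by_contra hcon
    have : tT p q m = 0 := by omega
    rw [this, mul_zero] at ht
    omega
  have htb : tT p q m < bB p q m := by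
    have : g * tT p q m < g * bB p q m := by rw [← ht, ← hb]; omega
    exact lt_of_mul_lt_mul_left this (Nat.zero_le g)
  have hgcd : Nat.gcd (N - β) N = g := by
    rw [Nat.gcd_self_sub_left hβlt.le, hβ, ← Nat.gcd_rec N (m * p), Nat.gcd_comm,
      Nat.Coprime.gcd_mul_right_cancel m hcopN]
  have hcoptb : Nat.Coprime (tT p q m) (bB p q m) := by
    have h1 : Nat.gcd (g * tT p q m) (g * bB p q m) = g := by rw [← ht, ← hb]; exact hgcd
    rw [Nat.gcd_mul_left] at h1
    have : g * Nat.gcd (tT p q m) (bB p q m) = g * 1 := by rw [h1, mul_one]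
    exact Nat.eq_of_mul_eq_mul_left hgpos this
  exact ⟨hgpos, hb, ht, htpos, htb, hcoptb⟩

/-- the last convergent is `b / t` -/
theorem hjPQ_last (c : List ℤ) (hc2 : ∀ x ∈ c, (2 : ℤ) ≤ x) (b t : ℕ) (hb : 0 < b) (ht : 0 < t)
    (hcop : Nat.Coprime t b) (hval : HJFrac.hjVal c = (b : ℚ) / (t : ℚ)) :
    hjP c (c.length + 1) = b ∧ hjQ c (c.length + 1) = t := by
  obtain ⟨h1, h2, h3⟩ := hjVal_eq c hc2
  set P := hjP c (c.length + 1) with hP
  set Q := hjQ c (c.length + 1) with hQ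
  have hPpos : 0 < P := lt_of_le_of_lt h1 h2
  have hbq : (0 : ℚ) < (b : ℚ) / (t : ℚ) := by positivity
  have hQne : Q ≠ 0 := by
    intro h0
    rw [hval, h0] at h3
    simp at h3
    rcases h3 with h | h
    · exact hb.ne' h
    · exact ht.ne' h
  have hQpos : 0 < Q := lt_of_le_of_ne h1 (Ne.symm hQne)
  have hcross : (b : ℤ) * Q = P * t := by
    have h4 : (b : ℚ) / t = P / Q := hval.symm.trans h3
    have ht0 : (t : ℚ) ≠ 0 := by exact_mod_cast ht.ne'
    have hQ0 : (Q : ℚ) ≠ 0 := by exact_mod_cast hQne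
    rw [div_eq_div_iff ht0 hQ0] at h4
    exact_mod_cast h4
  have hcopPQ : IsCoprime P Q := by
    have := hj_det c c.length
    refine ⟨-hjQ c c.length, hjP c c.length, ?_⟩
    rw [← this]; ring
  have hcopbt : IsCoprime (b : ℤ) (t : ℤ) := (Nat.isCoprime_iff_coprime.mpr hcop).symm
  have hPb : P ∣ (b : ℤ) := by
    have : P ∣ (b : ℤ) * Q := ⟨t, hcross⟩
    exact hcopPQ.dvd_of_dvd_mul_right this
  have hbP : (b : ℤ) ∣ P := by
    have : (b : ℤ) ∣ P * t := ⟨Q, hcross.symm⟩
    exact hcopbt.dvd_of_dvd_mul_right this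
  have hPeq : P = b := Int.dvd_antisymm hPpos.le (by positivity) hPb hbP
  refine ⟨hPeq, ?_⟩
  rw [hPeq] at hcross
  have hb0 : (b : ℤ) ≠ 0 := by exact_mod_cast hb.ne'
  exact mul_left_cancel₀ hb0 hcross

end Groth.Agent.Lib.Helper79.HJ
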