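import Groth.Agent.Lib.Helper79.HJ2

/-!
The sequence `s_i = t P_i - b Q_i` of a Hirzebruch–Jung expansion of `b / t` and the best
approximation property.
-/

namespace Groth.Agent.Lib.Helper79.HJ

open W4c2invhilbsl2

/-- hypotheses on a Hirzebruch–Jung expansion of `b/t` -/
structure Ctx (c : List ℤ) (b t : ℕ) : Prop where
  hc2 : ∀ x ∈ c, (2 : ℤ) ≤ x
  hb : 0 < b
  ht : 0 < t
  htb : t < b
  hcop : Nat.Coprime t b
  hval : HJFrac.hjVal c = (b : ℚ) / (t : ℚ)

/-- `s_i = t P_i - b Q_i` -/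
def sS (c : List ℤ) (b t : ℕ) (i : ℕ) : ℤ := (t : ℤ) * hjP c i - (b : ℤ) * hjQ c i

theorem sS_rec (c : List ℤ) (b t : ℕ) (i : ℕ) :
    sS c b t (i + 2) = c.getD i 0 * sS c b t (i + 1) - sS c b t i := by
  unfold sS
  rw [hjP_succ_succ, hjQ_succ_succ]; ring

@[simp] theorem sS_zero (c : List ℤ) (b t : ℕ) : sS c b t 0 = b := by simp [sS]
@[simp] theorem sS_one (c : List ℤ) (b t : ℕ) : sS c b t 1 = t := by simp [sS]

variable {c : List ℤ} {b t : ℕ}

theorem Ctx.digit (h : Ctx c b t) {j : ℕ} (hj : j < c.length) : (2 : ℤ) ≤ c.getD j 0 := by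
  rw [List.getD_eq_getElem c 0 hj]
  exact h.hc2 _ (List.getElem_mem hj)

theorem Ctx.last (h : Ctx c b t) : hjP c (c.length + 1) = b ∧ hjQ c (c.length + 1) = t :=
  hjPQ_last c h.hc2 b t h.hb h.ht h.hcop h.hval

theorem Ctx.sS_last (h : Ctx c b t) : sS c b t (c.length + 1) = 0 := by
  unfold sS; rw [h.last.1, h.last.2]; ring

theorem Ctx.sS_length (h : Ctx c b t) : sS c b t c.length = 1 := by
  have hd := hj_det c c.length
  rw [h.last.1, h.last.2] at hd
  unfold sS
  linear_combination hd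

theorem Ctx.sS_step (h : Ctx c b t) : ∀ j, j ≤ c.length →
    0 ≤ sS c b t (j + 1) ∧ 1 ≤ sS c b t j - sS c b t (j + 1) := by
  intro j hj
  induction hj using Nat.decreasingInduction with
  | self => rw [h.sS_last, h.sS_length]; simp
  | of_succ k hk ih =>
    obtain ⟨h1, h2⟩ := ih
    have hd := h.digit hk
    have hrec := sS_rec c b t k
    constructor
    · linarith
    · have h3 : 0 ≤ sS c b t (k + 1) := by linarith
      nlinarith

theorem Ctx.sS_nonneg (h : Ctx c b t) {i : ℕ} (hi : i ≤ c.length + 1) : 0 ≤ sS c b t i := by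
  rcases Nat.eq_zero_or_pos i with rfl | hpos
  · simp
  · obtain ⟨j, rfl⟩ : ∃ j, i = j + 1 := ⟨i - 1, by omega⟩
    exact (h.sS_step j (by omega)).1

theorem Ctx.sS_lt_succ (h : Ctx c b t) {j : ℕ} (hj : j ≤ c.length) :
    sS c b t (j + 1) < sS c b t j := by
  have := (h.sS_step j hj).2
  linarith

theorem Ctx.sS_anti (h : Ctx c b t) {i j : ℕ} (hij : i < j) (hj : j ≤ c.length + 1) :
    sS c b t j < sS c b t i := by
  induction j, hij using Nat.le_induction with
  | base => exact h.sS_lt_succ (by omega)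
  | succ k hk ih => exact lt_trans (h.sS_lt_succ (by omega)) (ih (by omega))

theorem Ctx.P_step (h : Ctx c b t) : ∀ j, j ≤ c.length → 0 ≤ hjP c j ∧ hjP c j < hjP c (j + 1) := by
  intro j
  induction j with
  | zero => intro _; simp
  | succ k ih =>
    intro hk
    obtain ⟨h1, h2⟩ := ih (by omega)
    have hd := h.digit (j := k) (by omega)
    have hrec := hjP_succ_succ c k
    constructor
    · linarith
    · nlinarith

theorem Ctx.P_nonneg (h : Ctx c b t) {i : ℕ} (hi : i ≤ c.length + 1) : 0 ≤ hjP c i := by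
  rcases Nat.lt_or_ge i (c.length + 1) with h1 | h1
  · exact (h.P_step i (by omega)).1
  · have : i = c.length + 1 := by omega
    rw [this, h.last.1]; positivity

/-- best approximation property -/
theorem Ctx.best_approx (h : Ctx c b t) {i : ℕ} (hi1 : 1 ≤ i) (hi : i ≤ c.length + 1)
    (x y : ℤ) (hx : 0 < x) (h0 : 0 ≤ (t : ℤ) * x - b * y)
    (h1 : (t : ℤ) * x - b * y < sS c b t (i - 1)) : hjP c i ≤ x := by
  obtain ⟨k, rfl⟩ : ∃ k, i = k + 1 := ⟨i - 1, by omega⟩
  simp only [Nat.add_sub_cancel] at h1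
  by_contra hcon
  push Not at hcon
  have hk : k ≤ c.length := by omega
  have hdet := hj_det c k
  obtain ⟨hP0, hPlt⟩ := h.P_step k hk
  have hs0 : 0 ≤ sS c b t (k + 1) := h.sS_nonneg hi
  have hslt : sS c b t (k + 1) < sS c b t k := h.sS_lt_succ hk
  set u := x * hjQ c (k + 1) - y * hjP c (k + 1) with hu
  set v := -x * hjQ c k + y * hjP c k with hv
  have hxuv : x = u * hjP c k + v * hjP c (k + 1) := by
    rw [hu, hv]; linear_combination (-x) * hdet
  have hluv : (t : ℤ) * x - b * y = u * sS c b t k + v * sS c b t (k + 1) := by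
    rw [hu, hv]; unfold sS; linear_combination (-(t : ℤ) * x + b * y) * hdet
  rcases le_or_gt u 0 with hu0 | hu0
  · -- u ≤ 0
    have hv1 : 1 ≤ v := by
      by_contra hv'
      push Not at hv'
      have hv0 : v ≤ 0 := by omega
      have : u * hjP c k + v * hjP c (k + 1) ≤ 0 := by
        have a1 : u * hjP c k ≤ 0 := mul_nonpos_of_nonpos_of_nonneg hu0 hP0
        have a2 : v * hjP c (k + 1) ≤ 0 := mul_nonpos_of_nonpos_of_nonneg hv0 (by linarith)
        linarith
      linarith
    rcases eq_or_lt_of_le hu0 with hu00 | hu00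
    · rw [hu00, zero_mul, zero_add] at hxuv
      nlinarith
    · -- u ≤ -1
      have hvu : -u + 1 ≤ v := by
        by_contra hv'
        push Not at hv'
        have hv2 : v ≤ -u := by omega
        -- λ = u s_k + v s_{k+1} ≤ u s_k + (-u) s_{k+1} = u (s_k - s_{k+1}) < 0
        have a1 : v * sS c b t (k + 1) ≤ (-u) * sS c b t (k + 1) :=
          mul_le_mul_of_nonneg_right hv2 hs0
        have a2 : u * (sS c b t k - sS c b t (k + 1)) < 0 :=
          mul_neg_of_neg_of_pos hu00 (by linarith)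
        nlinarith
      have a3 : (-u + 1) * hjP c (k + 1) ≤ v * hjP c (k + 1) :=
        mul_le_mul_of_nonneg_right hvu (by linarith)
      have a4 : 0 ≤ (-u) * (hjP c (k + 1) - hjP c k) :=
        mul_nonneg (by linarith) (by linarith)
      nlinarith
  · -- u ≥ 1
    have hv0 : v ≤ -1 := by
      by_contra hv'
      push Not at hv'
      have hv2 : 0 ≤ v := by omega
      have a1 : 0 ≤ v * sS c b t (k + 1) := mul_nonneg hv2 hs0
      have a2 : sS c b t k ≤ u * sS c b t k := by
        have : 1 * sS c b t k ≤ u * sS c b t k :=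
          mul_le_mul_of_nonneg_right (by omega) (by linarith)
        linarith
      linarith
    have huv : u ≤ -v := by
      by_contra hv'
      push Not at hv'
      have hv2 : -v + 1 ≤ u := by omega
      have a1 : (-v + 1) * sS c b t k ≤ u * sS c b t k :=
        mul_le_mul_of_nonneg_right hv2 (by linarith)
      have a2 : (-v) * sS c b t (k + 1) ≤ (-v) * sS c b t k :=
        mul_le_mul_of_nonneg_left hslt.le (by linarith)
      nlinarith
    have a3 : u * hjP c k ≤ (-v) * hjP c k := mul_le_mul_of_nonneg_right huv hP0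
    have a4 : 0 < (-v) * (hjP c (k + 1) - hjP c k) := mul_pos (by linarith) (by linarith)
    nlinarith

end Groth.Agent.Lib.Helper79.HJ

namespace Groth.Agent.Lib.Helper79.HJ

open W4c2invhilbsl2

/-- the context attached to the data `(p, q, m, c)` -/
theorem ctx_of (p q m : ℕ) (hp : 0 < p) (hpq : p < q) (hcop : Nat.Coprime p q)
    (hnt : ¬ (q - p ∣ m)) (c : List ℤ) (hc : IsHJDigits p q m c) :
    Ctx c (bB p q m) (tT p q m) := by
  obtain ⟨_, _, _, h4, h5, h6⟩ := gbt_facts p q m hp hpq hcop hnt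
  exact ⟨hc.1, lt_trans h4 h5, h4, h5, h6, hc.2⟩

/-- `n_i = g (t P_i - b Q_i)` -/
theorem nN_eq (p q m : ℕ) (hp : 0 < p) (hpq : p < q) (hcop : Nat.Coprime p q)
    (hnt : ¬ (q - p ∣ m)) (c : List ℤ) (i : ℕ) :
    nN p q m c i = (gcdK p q m : ℤ) * sS c (bB p q m) (tT p q m) i := by
  obtain ⟨_, h2, h3, _, _, _⟩ := gbt_facts p q m hp hpq hcop hnt
  have hN : ((q - p : ℕ) : ℤ) = (q : ℤ) - p := by
    rw [Nat.cast_sub hpq.le]
  have hdm : (q - p) * (m * p / (q - p)) + m * p % (q - p) = m * p := Nat.div_add_mod _ _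
  have hβle : m * p % (q - p) ≤ q - p := (Nat.mod_lt _ (by omega)).le
  have h2' : (q : ℤ) - p = (gcdK p q m : ℤ) * (bB p q m : ℤ) := by
    rw [← hN, h2]; push_cast; ring
  have h3' : ((q : ℤ) - p) - ((m * p % (q - p) : ℕ) : ℤ) = (gcdK p q m : ℤ) * (tT p q m : ℤ) := by
    rw [← hN, ← Nat.cast_sub hβle, h3]; push_cast; ring
  have hdm' : ((q : ℤ) - p) * ((m * p / (q - p) : ℕ) : ℤ) + ((m * p % (q - p) : ℕ) : ℤ) =
      (m : ℤ) * p := by
    rw [← hN]; exact_mod_cast hdm
  unfold nN eE lL sS alpha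
  generalize m * p / (q - p) = a at *
  generalize m * p % (q - p) = β at *
  push_cast
  linear_combination (hjP c i) * h3' - (hjQ c i) * h2' + (hjP c i) * hdm'

end Groth.Agent.Lib.Helper79.HJ
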