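import Groth.Agent.Lib.Helper79.HJ3

/-!
Remainders of `t x` modulo `b` for `0 < x < P_i`.
-/

namespace Groth.Agent.Lib.Helper79.HJ

open W4c2invhilbsl2

variable {c : List ℤ} {b t : ℕ}

theorem Ctx.tP_eq (c : List ℤ) (b t : ℕ) (i : ℕ) :
    (t : ℤ) * hjP c i = sS c b t i + (b : ℤ) * hjQ c i := by
  unfold sS; ring

theorem Ctx.sS_lt_b (h : Ctx c b t) {i : ℕ} (hi1 : 1 ≤ i) (hi : i ≤ c.length + 1) :
    sS c b t i < b := by
  have := h.sS_anti (i := 0) (j := i) (by omega) hi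
  simpa using this

/-- `t P_i mod b = s_i` for `1 ≤ i ≤ r + 1`. -/
theorem Ctx.tP_emod (h : Ctx c b t) {i : ℕ} (hi1 : 1 ≤ i) (hi : i ≤ c.length + 1) :
    ((t : ℤ) * hjP c i) % (b : ℤ) = sS c b t i := by
  rw [Ctx.tP_eq c b t i, Int.add_mul_emod_self_left]
  exact Int.emod_eq_of_lt (h.sS_nonneg hi) (h.sS_lt_b hi1 hi)

/-- lower bound: for `0 < x < P_i`, `s_{i-1} ≤ t x mod b`. -/
theorem Ctx.lower (h : Ctx c b t) {i : ℕ} (hi1 : 1 ≤ i) (hi : i ≤ c.length + 1)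
    (x : ℤ) (hx0 : 0 < x) (hx : x < hjP c i) :
    sS c b t (i - 1) ≤ ((t : ℤ) * x) % (b : ℤ) := by
  by_contra hcon
  push Not at hcon
  have hb : (0 : ℤ) < (b : ℤ) := by exact_mod_cast h.hb
  have hdm := Int.emod_add_mul_ediv ((t : ℤ) * x) (b : ℤ)
  have h0 : 0 ≤ ((t : ℤ) * x) % (b : ℤ) := Int.emod_nonneg _ hb.ne'
  have := h.best_approx hi1 hi x (((t : ℤ) * x) / (b : ℤ)) hx0 (by linarith) (by linarith)
  linarith

/-- upper bound: for `0 < x < P_i`, `t x mod b ≤ b + s_i - s_{i-1}`. -/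
theorem Ctx.upper (h : Ctx c b t) {i : ℕ} (hi1 : 1 ≤ i) (hi : i ≤ c.length + 1)
    (x : ℤ) (hx0 : 0 < x) (hx : x < hjP c i) :
    ((t : ℤ) * x) % (b : ℤ) ≤ b + sS c b t i - sS c b t (i - 1) := by
  have hb : (0 : ℤ) < (b : ℤ) := by exact_mod_cast h.hb
  have l1 := h.lower hi1 hi x hx0 hx
  have l2 := h.lower hi1 hi (hjP c i - x) (by linarith) (by linarith)
  have hs : sS c b t i < sS c b t (i - 1) := h.sS_anti (by omega) hi
  have hs0 := h.sS_nonneg hi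
  have hsb := h.sS_lt_b hi1 hi
  have e1 := Int.emod_add_mul_ediv ((t : ℤ) * x) (b : ℤ)
  have e2 := Int.emod_add_mul_ediv ((t : ℤ) * (hjP c i - x)) (b : ℤ)
  have u1 : ((t : ℤ) * x) % (b : ℤ) < b := Int.emod_lt_of_pos _ hb
  have u2 : ((t : ℤ) * (hjP c i - x)) % (b : ℤ) < b := Int.emod_lt_of_pos _ hb
  set ρ := ((t : ℤ) * x) % (b : ℤ)
  set ρ' := ((t : ℤ) * (hjP c i - x)) % (b : ℤ)
  set y := ((t : ℤ) * x) / (b : ℤ)
  set y' := ((t : ℤ) * (hjP c i - x)) / (b : ℤ)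
  have hP := Ctx.tP_eq c b t i
  -- ρ + ρ' = s_i + b * k where k = Q_i - y - y'
  have key : ρ + ρ' = sS c b t i + (b : ℤ) * (hjQ c i - y - y') := by
    linear_combination e1 + e2 + hP
  set k := hjQ c i - y - y'
  -- k ≥ 1
  have hk1 : 1 ≤ k := by
    by_contra hk
    push Not at hk
    have : (b : ℤ) * k ≤ 0 := mul_nonpos_of_nonneg_of_nonpos hb.le (by omega)
    linarith
  have hk2 : k ≤ 1 := by
    by_contra hk
    push Not at hk
    have : (b : ℤ) * 2 ≤ (b : ℤ) * k := mul_le_mul_of_nonneg_left (by omega) hb.le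
    linarith
  have hk : k = 1 := le_antisymm hk2 hk1
  rw [hk, mul_one] at key
  linarith

end Groth.Agent.Lib.Helper79.HJ
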