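import Groth.Agent.Lib.Helper79.HJ4

/-!
Remainders of `p m x + n_i` modulo `q - p`.
-/

namespace Groth.Agent.Lib.Helper79.HJ

open W4c2invhilbsl2

/-- integer identities: `q - p = g b` and `p m = (a + 1) (q - p) - g t` for some integer `a`. -/
theorem int_facts (p q m : ℕ) (hp : 0 < p) (hpq : p < q) (hcop : Nat.Coprime p q)
    (hnt : ¬ (q - p ∣ m)) :
    (q : ℤ) - p = (gcdK p q m : ℤ) * (bB p q m : ℤ) ∧
    ∃ a : ℤ, (p : ℤ) * m = (a + 1) * ((q : ℤ) - p) - (gcdK p q m : ℤ) * (tT p q m : ℤ) := by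
  obtain ⟨_, h2, h3, _, _, _⟩ := gbt_facts p q m hp hpq hcop hnt
  have hN : ((q - p : ℕ) : ℤ) = (q : ℤ) - p := by
    rw [Nat.cast_sub hpq.le]
  have hdm : (q - p) * (m * p / (q - p)) + m * p % (q - p) = m * p := Nat.div_add_mod _ _
  have hβle : m * p % (q - p) ≤ q - p := (Nat.mod_lt _ (by omega)).le
  have h2' : (q : ℤ) - p = (gcdK p q m : ℤ) * (bB p q m : ℤ) := by
    rw [← hN, h2]; push_cast; ring
  have h3' : ((q : ℤ) - p) - ((m * p % (q - p) : ℕ) : ℤ) = (gcdK p q m : ℤ) * (tT p q m : ℤ) := by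
    rw [← hN, ← Nat.cast_sub hβle, h3]; push_cast; ring
  have hdm' : ((q : ℤ) - p) * ((m * p / (q - p) : ℕ) : ℤ) + ((m * p % (q - p) : ℕ) : ℤ) =
      (m : ℤ) * p := by
    rw [← hN]; exact_mod_cast hdm
  refine ⟨h2', ((m * p / (q - p) : ℕ) : ℤ), ?_⟩
  linear_combination (-1 : ℤ) * hdm' - h3'

/-- abstract version: if `N = g b`, `M = (a+1) N - g t`, `t x = b y + ρ` with `s' ≤ ρ < b`,
`0 ≤ s < s'`, then `(M x + g s) % N = g s + (M x) % N`. -/
theorem emod_add_aux (g b t a N M x s s' : ℤ) (hg : 0 < g) (hN : N = g * b)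
    (hM : M = (a + 1) * N - g * t)
    (hρ1 : s' ≤ (t * x) % b) (hρ2 : (t * x) % b < b) (hs0 : 0 ≤ s) (hss : s < s') :
    (M * x + g * s) % N = g * s + (M * x) % N := by
  have e1 := Int.emod_add_mul_ediv (t * x) b
  set ρ := (t * x) % b
  set y := (t * x) / b
  have hb : 0 < b := by linarith
  have hNpos : 0 < N := by rw [hN]; exact mul_pos hg hb
  have hgρ1 : g * s' ≤ g * ρ := mul_le_mul_of_nonneg_left hρ1 hg.le
  have hgρ2 : g * ρ < g * b := mul_lt_mul_of_pos_left hρ2 hg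
  have hgs : g * s < g * s' := mul_lt_mul_of_pos_left hss hg
  have hgs0 : 0 ≤ g * s := mul_nonneg hg.le hs0
  -- M x = N ((a+1) x - y - 1) + (N - g ρ)
  have hMx : M * x = (N - g * ρ) + N * ((a + 1) * x - y - 1) := by
    rw [hM]
    have : g * (t * x) = g * (ρ + b * y) := by rw [e1]
    have hNb : g * b = N := hN.symm
    linear_combination (-1 : ℤ) * this - y * hNb
  have r1 : (M * x) % N = N - g * ρ := by
    rw [hMx, Int.add_mul_emod_self_left]
    exact Int.emod_eq_of_lt (by rw [hN]; linarith) (by linarith)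
  have r2 : (M * x + g * s) % N = N - g * ρ + g * s := by
    have : M * x + g * s = (N - g * ρ + g * s) + N * ((a + 1) * x - y - 1) := by
      rw [hMx]; ring
    rw [this, Int.add_mul_emod_self_left]
    exact Int.emod_eq_of_lt (by rw [hN]; linarith) (by linarith)
  rw [r1, r2]; ring

end Groth.Agent.Lib.Helper79.HJ
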