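import Groth.Agent.Lib.Helper79.HJ5

/-!
The core divisibility lemma for monomials of weight `(n_i, 0)`.
-/

namespace Groth.Agent.Lib.Helper79.HJ

open W4c2invhilbsl2

variable {c : List ℤ} {b t : ℕ}

/-- `Q_i ≤ P_i` -/
theorem Ctx.Q_le_P (h : Ctx c b t) {i : ℕ} (hi : i ≤ c.length + 1) : hjQ c i ≤ hjP c i := by
  have hs := h.sS_nonneg hi
  have hP := h.P_nonneg hi
  unfold sS at hs
  have hb : (0 : ℤ) < b := by exact_mod_cast h.hb
  have htb : (t : ℤ) ≤ b := by exact_mod_cast h.htb.le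
  have h1 : (t : ℤ) * hjP c i ≤ b * hjP c i := mul_le_mul_of_nonneg_right htb hP
  have h2 : (b : ℤ) * hjQ c i ≤ b * hjP c i := by linarith
  exact le_of_mul_le_mul_left h2 hb

/-- core lemma (abstract form) -/
theorem Ctx.core (h : Ctx c b t) (g N M A : ℤ) (hg : 0 < g) (hN : N = g * b)
    (hM : M = (A + 1) * N - g * t) (hA : 0 ≤ A) {i : ℕ} (hi1 : 1 ≤ i) (hi : i ≤ c.length + 1)
    (u y : ℤ) (hu : 0 < u) (h0 : 0 < N * y - M * u) (h1 : N * y - M * u < g * sS c b t (i - 1)) :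
    hjP c i ≤ u ∧ (A + 1) * hjP c i - hjQ c i ≤ y := by
  have hb : (0 : ℤ) < b := by exact_mod_cast h.hb
  have htb : (t : ℤ) ≤ b := by exact_mod_cast h.htb.le
  have ht0 : (0 : ℤ) ≤ t := by positivity
  set y' := (A + 1) * u - y with hy'
  have e1 : N * y - M * u = g * ((t : ℤ) * u - b * y') := by
    rw [hM, hN, hy']; ring
  rw [e1] at h0 h1
  have h0' : 0 < (t : ℤ) * u - b * y' := by
    by_contra hcon
    push Not at hcon
    have := mul_nonpos_of_nonneg_of_nonpos hg.le hcon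
    linarith
  have h1' : (t : ℤ) * u - b * y' < sS c b t (i - 1) := lt_of_mul_lt_mul_left h1 hg.le
  have hPu := h.best_approx hi1 hi u y' hu h0'.le h1'
  refine ⟨hPu, ?_⟩
  set x' := u - hjP c i with hx'
  have hx'0 : 0 ≤ x' := by rw [hx']; linarith
  set y'' := y' - hjQ c i with hy''
  have hsi : sS c b t i < b := h.sS_lt_b hi1 hi
  have e2 : (t : ℤ) * u - b * y' = sS c b t i + ((t : ℤ) * x' - b * y'') := by
    rw [hx', hy'']; unfold sS; ring
  have h3 : (b : ℤ) * y'' < b * (x' + 1) := by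
    have : (t : ℤ) * x' ≤ b * x' := mul_le_mul_of_nonneg_right htb hx'0
    rw [e2] at h0'
    linarith
  have h4 : y'' < x' + 1 := lt_of_mul_lt_mul_left h3 hb.le
  have h5 : x' ≤ (A + 1) * x' := by nlinarith
  have e3 : y = ((A + 1) * hjP c i - hjQ c i) + ((A + 1) * x' - y'') := by
    rw [hx', hy'', hy']; ring
  rw [e3]
  linarith

/-- explicit integer identities with `α` -/
theorem int_facts' (p q m : ℕ) (hp : 0 < p) (hpq : p < q) (hcop : Nat.Coprime p q)
    (hnt : ¬ (q - p ∣ m)) :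
    (q : ℤ) - p = (gcdK p q m : ℤ) * (bB p q m : ℤ) ∧
    (p : ℤ) * m = ((alpha p q m : ℤ) + 1) * ((q : ℤ) - p) - (gcdK p q m : ℤ) * (tT p q m : ℤ) := by
  obtain ⟨_, h2, h3, _, _, _⟩ := gbt_facts p q m hp hpq hcop hnt
  have hN : ((q - p : ℕ) : ℤ) = (q : ℤ) - p := by
    rw [Nat.cast_sub hpq.le]
  have hdm : (q - p) * (m * p / (q - p)) + m * p % (q - p) = m * p := Nat.div_add_mod _ _
  have hβle : m * p % (q - p) ≤ q - p := (Nat.mod_lt _ (by omega)).le
  have h2' : (q : ℤ) - p = (gcdK p q m : ℤ) * (bB p q m : ℤ) := by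
    rw [← hN, h2]; push_cast; ring
  have h3' : ((q : ℤ) - p) - ((m * p % (q - p) : ℕ) : ℤ) = (gcdK p q m : ℤ) * (tT p q m : ℤ) := by
    rw [← hN, ← Nat.cast_sub hβle, h3]; push_cast; ring
  have hdm' : ((q : ℤ) - p) * ((m * p / (q - p) : ℕ) : ℤ) + ((m * p % (q - p) : ℕ) : ℤ) =
      (m : ℤ) * p := by
    rw [← hN]; exact_mod_cast hdm
  refine ⟨h2', ?_⟩
  unfold alpha
  linear_combination (-1 : ℤ) * hdm' - h3'

theorem eE_sub_lL (p q m : ℕ) (c : List ℤ) (i : ℕ) :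
    eE p q m c i = lL p q m c i + (m : ℤ) * hjP c i := by
  unfold eE lL; push_cast; ring

theorem lL_nonneg (p q m : ℕ) (hp : 0 < p) (hpq : p < q) (hcop : Nat.Coprime p q)
    (hnt : ¬ (q - p ∣ m)) (c : List ℤ) (hc : IsHJDigits p q m c) {i : ℕ} (hi : i ≤ c.length + 1) :
    0 ≤ lL p q m c i := by
  have hctx := ctx_of p q m hp hpq hcop hnt c hc
  have h1 := hctx.Q_le_P hi
  have h2 := hctx.P_nonneg hi
  unfold lL
  have : (0 : ℤ) ≤ (alpha p q m : ℤ) * hjP c i := mul_nonneg (by positivity) h2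
  push_cast
  linarith

theorem eE_nonneg (p q m : ℕ) (hp : 0 < p) (hpq : p < q) (hcop : Nat.Coprime p q)
    (hnt : ¬ (q - p ∣ m)) (c : List ℤ) (hc : IsHJDigits p q m c) {i : ℕ} (hi : i ≤ c.length + 1) :
    0 ≤ eE p q m c i := by
  have hctx := ctx_of p q m hp hpq hcop hnt c hc
  rw [eE_sub_lL]
  have h1 := lL_nonneg p q m hp hpq hcop hnt c hc hi
  have h2 : (0 : ℤ) ≤ (m : ℤ) * hjP c i := mul_nonneg (by positivity) (hctx.P_nonneg hi)
  linarith

theorem nN_nonneg (p q m : ℕ) (hp : 0 < p) (hpq : p < q) (hcop : Nat.Coprime p q)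
    (hnt : ¬ (q - p ∣ m)) (c : List ℤ) (hc : IsHJDigits p q m c) {i : ℕ} (hi : i ≤ c.length + 1) :
    0 ≤ nN p q m c i := by
  have hctx := ctx_of p q m hp hpq hcop hnt c hc
  rw [nN_eq p q m hp hpq hcop hnt c i]
  exact mul_nonneg (by positivity) (hctx.sS_nonneg hi)

/-- the core lemma for the data `(p, q, m, c)`: if `0 < u` and `0 < (q-p) y - p m u < n_{i-1}`
then `P_i ≤ u` and `l_i ≤ y`. -/
theorem core_pqm (p q m : ℕ) (hp : 0 < p) (hpq : p < q) (hcop : Nat.Coprime p q)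
    (hnt : ¬ (q - p ∣ m)) (c : List ℤ) (hc : IsHJDigits p q m c) {i : ℕ} (hi1 : 1 ≤ i)
    (hi : i ≤ c.length + 1) (u y : ℤ) (hu : 0 < u)
    (h0 : 0 < ((q : ℤ) - p) * y - (p : ℤ) * m * u)
    (h1 : ((q : ℤ) - p) * y - (p : ℤ) * m * u < nN p q m c (i - 1)) :
    hjP c i ≤ u ∧ lL p q m c i ≤ y ∧ eE p q m c i ≤ y + m * u := by
  have hctx := ctx_of p q m hp hpq hcop hnt c hc
  obtain ⟨hg, -, -, -, -, -⟩ := gbt_facts p q m hp hpq hcop hnt
  have hgz : (0 : ℤ) < (gcdK p q m : ℤ) := by exact_mod_cast hg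
  obtain ⟨hN, hM⟩ := int_facts' p q m hp hpq hcop hnt
  rw [nN_eq p q m hp hpq hcop hnt c (i - 1)] at h1
  obtain ⟨h2, h3⟩ := hctx.core _ _ _ (alpha p q m : ℤ) hgz hN hM (by positivity) hi1 hi u y hu h0 h1
  have h3' : lL p q m c i ≤ y := by
    unfold lL; push_cast; exact h3
  refine ⟨h2, h3', ?_⟩
  rw [eE_sub_lL]
  have : (m : ℤ) * hjP c i ≤ m * u := mul_le_mul_of_nonneg_left h2 (by positivity)
  linarith

/-- number-theoretic form: a monomial of weight `(n_i, 0)` is divisible by `X₀^{n_i}` or by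
`X₁^{e_i} X₂^{l_i}`. -/
theorem nt_pqm (p q m : ℕ) (hp : 0 < p) (hpq : p < q) (hcop : Nat.Coprime p q) (hm : 0 < m)
    (hnt : ¬ (q - p ∣ m)) (c : List ℤ) (hc : IsHJDigits p q m c) {i : ℕ} (hi1 : 1 ≤ i)
    (hi : i ≤ c.length) (d0 D1 D2 : ℕ)
    (h1 : (d0 : ℤ) - p * D1 + q * D2 = nN p q m c i) (h2 : (m : ℤ) ∣ (D1 : ℤ) - D2) :
    nN p q m c i ≤ d0 ∨ (eE p q m c i ≤ D1 ∧ lL p q m c i ≤ D2) := by
  have hctx := ctx_of p q m hp hpq hcop hnt c hc
  obtain ⟨hg, -, -, -, -, -⟩ := gbt_facts p q m hp hpq hcop hnt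
  have hgz : (0 : ℤ) < (gcdK p q m : ℤ) := by exact_mod_cast hg
  by_cases hd0 : nN p q m c i ≤ d0
  · exact Or.inl hd0
  · right
    push Not at hd0
    obtain ⟨u, hu⟩ := h2
    have hp' : (0 : ℤ) < p := by exact_mod_cast hp
    have hpq' : (p : ℤ) < q := by exact_mod_cast hpq
    have hm' : (0 : ℤ) < m := by exact_mod_cast hm
    -- N D2 - p m u = n_i - d0
    have e1 : ((q : ℤ) - p) * D2 - (p : ℤ) * m * u = nN p q m c i - d0 := by
      have : (D1 : ℤ) = D2 + m * u := by linarith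
      rw [← h1, this]; ring
    have hlt : nN p q m c i < nN p q m c (i - 1) := by
      rw [nN_eq p q m hp hpq hcop hnt c i, nN_eq p q m hp hpq hcop hnt c (i - 1)]
      exact mul_lt_mul_of_pos_left (hctx.sS_anti (by omega) (by omega)) hgz
    have hupos : 0 < u := by
      by_contra hcon
      push Not at hcon
      -- n_i < N
      have hnN : nN p q m c i < (q : ℤ) - p := by
        have h0 : nN p q m c 0 = (q : ℤ) - p := by
          rw [nN_eq p q m hp hpq hcop hnt c 0, sS_zero]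
          exact (int_facts' p q m hp hpq hcop hnt).1.symm
        rw [← h0, nN_eq p q m hp hpq hcop hnt c i, nN_eq p q m hp hpq hcop hnt c 0]
        exact mul_lt_mul_of_pos_left (hctx.sS_anti (by omega) (by omega)) hgz
      have hD2 : (D2 : ℤ) = 0 := by
        by_contra hne
        have : (1 : ℤ) ≤ D2 := by
          have : (0 : ℤ) ≤ D2 := by positivity
          omega
        have h3 : ((q : ℤ) - p) * 1 ≤ ((q : ℤ) - p) * D2 :=
          mul_le_mul_of_nonneg_left this (by linarith)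
        have h4 : (0 : ℤ) ≤ (p : ℤ) * m * (-u) := mul_nonneg (by positivity) (by linarith)
        have hd00 : (0 : ℤ) ≤ d0 := by positivity
        nlinarith
      have hD1 : (0 : ℤ) ≤ D1 := by positivity
      have hu0 : u = 0 := by
        have : (0 : ℤ) ≤ m * u := by rw [hD2] at hu; linarith
        have : 0 ≤ u := by
          by_contra hneg
          push Not at hneg
          have := mul_neg_of_pos_of_neg hm' hneg
          linarith
        linarith
      rw [hD2, hu0] at e1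
      simp at e1
      linarith
    have hd00 : (0 : ℤ) ≤ d0 := by positivity
    have k0 : 0 < ((q : ℤ) - p) * D2 - (p : ℤ) * m * u := by rw [e1]; linarith
    have k1 : ((q : ℤ) - p) * D2 - (p : ℤ) * m * u < nN p q m c (i - 1) := by rw [e1]; linarith
    obtain ⟨-, h5, h6⟩ := core_pqm p q m hp hpq hcop hnt c hc hi1 (by omega) u D2 hupos k0 k1
    refine ⟨?_, h5⟩
    have : (D1 : ℤ) = D2 + m * u := by linarith
    rw [this]; exact h6

end Groth.Agent.Lib.Helper79.HJ
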