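import Mathlib
import Groth.Prelude.Def_SGA3x
import Groth.Prelude.Def_Red
import Groth.Agent.Lib.Helper79.NeutralBC
import Groth.Agent.Lib.Helper62.GrpComp
import Groth.Agent.Lib.Helper43.SubGrp
import Groth.Agent.Lib.Helper40.BlanchardLemma

/-!
# The identity component of a group scheme over a field as a flat closed subgroup scheme (helper79)
-/

set_option autoImplicit false
set_option linter.style.haveILetI false
set_option linter.unusedSectionVars false

universe u

open CategoryTheory CategoryTheory.Limits MonoidalCategory CartesianMonoidalCategory MonObj GrpObj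
  AlgebraicGeometry TopologicalSpace

namespace Groth.Agent.Lib.Helper79.IdComp

open Groth.Agent.Lib.Helper62.GrpComp

/-- general field: points off the unit component are separated from it by clopen sets
(adapted from the proof of `Helper62.GrpComp.main`) -/
theorem exists_isClopen_of_notMem {k : Type u} [Field k] (G : Over (Spec (CommRingCat.of k)))
    [GrpObj G] {x : G.left}
    (hx : x ∉ connectedComponent (η[G].left (IsLocalRing.closedPoint k))) :
    ∃ V : Set G.left, IsClopen V ∧
      connectedComponent (η[G].left (IsLocalRing.closedPoint k)) ⊆ V ∧ x ∉ V := by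
  let K := AlgebraicClosure k
  let g : Spec (CommRingCat.of K) ⟶ Spec (CommRingCat.of k) :=
    Spec.map (CommRingCat.ofHom (algebraMap k K))
  let i1 : GrpObj (Over.mk G.hom) := ‹GrpObj G›
  let i2 : GrpObj (Over.mk (pullback.snd G.hom g)) := Over.grpObjMkPullbackSnd
  let H : Over (Spec (CommRingCat.of K)) := Over.mk (pullback.snd G.hom g)
  let π : H.left ⟶ G.left := pullback.fst G.hom g
  -- properties of π
  have hgint : IsIntegralHom g :=
    IsIntegralHom.SpecMap_iff.mpr (algebraMap_isIntegral_iff.mpr inferInstance)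
  have hgsurj : Surjective g := ⟨fun x => ⟨IsLocalRing.closedPoint K, Subsingleton.elim _ _⟩⟩
  have hπo : IsOpenMap π := (pullback.fst G.hom g).isOpenMap
  have hπc : IsClosedMap π := (pullback.fst G.hom g).isClosedMap
  have hπs : Function.Surjective π := (pullback.fst G.hom g).surjective
  -- unit maps to unit
  have hunit : (η[H]).left ≫ π = g ≫ η[G].left := by
    show (η[Over.mk (pullback.snd G.hom g)]).left ≫ pullback.fst G.hom g = g ≫ η[G].left
    simp only [Over.grpObjMkPullbackSnd_one]
    simp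
    rw [pullback.lift_fst]
    have hc := pullback.condition (f := 𝟙 (Spec (CommRingCat.of k))) (g := g)
    rw [Category.comp_id] at hc
    rw [hc, Category.assoc]
  set e' := η[H].left (IsLocalRing.closedPoint K) with he'
  set e₀ := η[G].left (IsLocalRing.closedPoint k) with he₀
  have hπe : π e' = e₀ := by
    have h1 : π e' = (η[H].left ≫ π) (IsLocalRing.closedPoint K) := rfl
    rw [h1, hunit]
    show η[G].left (g (IsLocalRing.closedPoint K)) = e₀
    rw [he₀]
    congr 1
    exact @Subsingleton.elim (PrimeSpectrum k) inferInstance _ _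
  obtain ⟨h1, h2, h3⟩ := main_algClosed H
  rw [← he'] at h1 h2 h3
  have hZ'irr : IsIrreducible (irreducibleComponent e') := isIrreducible_irreducibleComponent
  -- the claim
  have hcc : connectedComponent e₀ = π '' irreducibleComponent e' := by
    apply Set.Subset.antisymm
    · intro x hx
      by_contra hxn
      -- the fibre over x is compact and misses Z'
      have hF : IsCompact (π ⁻¹' {x}) := by
        have hr := Scheme.Pullback.range_snd (G.left.fromSpecResidueField x) π
        rw [Scheme.range_fromSpecResidueField] at hr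
        rw [← hr]
        exact isCompact_range (Scheme.Hom.continuous _)
      have hex : ∀ x' ∈ π ⁻¹' {x}, ∃ V : Set H.left, IsClopen V ∧
          irreducibleComponent e' ⊆ V ∧ x' ∉ V := fun x' hx' =>
        h3 x' (fun h => hxn ⟨x', h, hx'⟩)
      choose V hVc hVZ hVx using hex
      obtain ⟨t, ht⟩ := hF.elim_nhds_subcover' (fun x' hx' => (V x' hx')ᶜ)
        (fun x' hx' => (hVc x' hx').compl.isOpen.mem_nhds (hVx x' hx'))
      let V' : Set H.left := ⋂ x' ∈ t, V x'.1 x'.2
      have hV'c : IsClopen V' := isClopen_biInter_finset fun x' _ => hVc x'.1 x'.2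
      have hV'Z : irreducibleComponent e' ⊆ V' := fun z hz =>
        Set.mem_iInter₂.mpr fun x' _ => hVZ x'.1 x'.2 hz
      have hV'F : ∀ v ∈ V', π v ≠ x := by
        intro v hv hvx
        obtain ⟨x', hx't, hvx'⟩ := Set.mem_iUnion₂.mp (ht (show v ∈ π ⁻¹' {x} from hvx))
        exact hvx' (Set.mem_iInter₂.mp hv x' hx't)
      have hVclopen : IsClopen (π '' V') := ⟨hπc _ hV'c.1, hπo _ hV'c.2⟩
      have heV : e₀ ∈ π '' V' := ⟨e', hV'Z mem_irreducibleComponent, hπe⟩
      obtain ⟨v, hv, hvx⟩ := hVclopen.connectedComponent_subset heV hx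
      exact hV'F v hv hvx
    · exact IsPreconnected.subset_connectedComponent
        ((hZ'irr.isPreirreducible.isPreconnected).image _ (Scheme.Hom.continuous π).continuousOn)
        ⟨e', mem_irreducibleComponent, hπe⟩
  rw [hcc]
  rw [hcc] at hx
  -- the fibre over x is compact and misses Z'
  have hF : IsCompact (π ⁻¹' {x}) := by
    have hr := Scheme.Pullback.range_snd (G.left.fromSpecResidueField x) π
    rw [Scheme.range_fromSpecResidueField] at hr
    rw [← hr]
    exact isCompact_range (Scheme.Hom.continuous _)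
  have hex : ∀ x' ∈ π ⁻¹' {x}, ∃ V : Set H.left, IsClopen V ∧
      irreducibleComponent e' ⊆ V ∧ x' ∉ V := fun x' hx' =>
    h3 x' (fun h => hx ⟨x', h, hx'⟩)
  choose V hVc hVZ hVx using hex
  obtain ⟨t, ht⟩ := hF.elim_nhds_subcover' (fun x' hx' => (V x' hx')ᶜ)
    (fun x' hx' => (hVc x' hx').compl.isOpen.mem_nhds (hVx x' hx'))
  let V' : Set H.left := ⋂ x' ∈ t, V x'.1 x'.2
  have hV'c : IsClopen V' := isClopen_biInter_finset fun x' _ => hVc x'.1 x'.2
  have hV'Z : irreducibleComponent e' ⊆ V' := fun z hz =>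
    Set.mem_iInter₂.mpr fun x' _ => hVZ x'.1 x'.2 hz
  have hV'F : ∀ v ∈ V', π v ≠ x := by
    intro v hv hvx
    obtain ⟨x', hx't, hvx'⟩ := Set.mem_iUnion₂.mp (ht (show v ∈ π ⁻¹' {x} from hvx))
    exact hvx' (Set.mem_iInter₂.mp hv x' hx't)
  have hVclopen : IsClopen (π '' V') := ⟨hπc _ hV'c.1, hπo _ hV'c.2⟩
  refine ⟨π '' V', hVclopen, Set.image_mono hV'Z, ?_⟩
  rintro ⟨v, hv, hvx⟩
  exact hV'F v hv hvx

section Sub

variable {k : Type u} [Field k] (G : Over (Spec (CommRingCat.of k))) [GrpObj G]

/-- the unit point -/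
noncomputable abbrev e0 : G.left := η[G].left (IsLocalRing.closedPoint k)

/-- clopen neighbourhoods of the unit component -/
def Nb : Type u :=
  {N : G.left.Opens // IsClosed (N : Set G.left) ∧ connectedComponent (e0 G) ⊆ N}

instance : Nonempty (Nb G) := ⟨⟨⊤, isClosed_univ, Set.subset_univ _⟩⟩

/-- the ideal sheaf of the unit component -/
noncomputable def idl : G.left.IdealSheafData := ⨆ N : Nb G, N.1.ι.ker

/-- the unit component as a scheme -/
noncomputable abbrev G0s : Scheme.{u} := (idl G).subscheme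

/-- the inclusion of the unit component -/
noncomputable abbrev i0 : G0s G ⟶ G.left := (idl G).subschemeι


lemma quasiCompact_ι (N : Nb G) : QuasiCompact N.1.ι := by
  rw [quasiCompact_iff_forall_isAffineOpen]
  intro U hU
  have hce : Topology.IsClosedEmbedding N.1.ι :=
    ⟨N.1.ι.isOpenEmbedding.isEmbedding, by rw [Scheme.Opens.range_ι]; exact N.2.1⟩
  exact hce.isCompact_preimage hU.isCompact

theorem range_i0 : Set.range (i0 G) = connectedComponent (e0 G) := by
  rw [Scheme.IdealSheafData.range_subschemeι]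
  unfold idl
  rw [Scheme.IdealSheafData.support_iSup, TopologicalSpace.Closeds.coe_iInf]
  have h : ∀ N : Nb G, ((N.1.ι.ker).support : Set G.left) = N.1 := by
    intro N
    haveI := quasiCompact_ι G N
    rw [Scheme.Hom.support_ker, Scheme.Opens.range_ι, N.2.1.closure_eq]
  simp_rw [h]
  apply Set.Subset.antisymm
  · intro x hx
    by_contra hxC
    obtain ⟨V, hV, hCV, hxV⟩ := exists_isClopen_of_notMem G hxC
    exact hxV (Set.mem_iInter.mp hx ⟨⟨V, hV.2⟩, hV.1, hCV⟩)
  · exact Set.subset_iInter fun N => N.2.2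

theorem exists_lift {T : Scheme.{u}} (g : T ⟶ G.left)
    (hg : Set.range g ⊆ connectedComponent (e0 G)) :
    ∃ g' : T ⟶ G0s G, g' ≫ i0 G = g := by
  have hker : (i0 G).ker ≤ g.ker := by
    rw [Scheme.IdealSheafData.ker_subschemeι]
    unfold idl
    apply iSup_le
    intro N
    have hN : Set.range g ⊆ Set.range N.1.ι := by
      rw [Scheme.Opens.range_ι]; exact hg.trans N.2.2
    have h2 := Scheme.Hom.le_ker_comp (IsOpenImmersion.lift N.1.ι g hN) N.1.ι
    rwa [IsOpenImmersion.lift_fac] at h2
  exact ⟨IsClosedImmersion.lift (i0 G) g hker, IsClosedImmersion.lift_fac _ _ _⟩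

lemma directed_ker (D : G.left.affineOpens) :
    Directed (· ≤ ·) (fun N : Nb G => (N.1.ι.ker).ideal D) := by
  intro N₁ N₂
  refine ⟨⟨N₁.1 ⊓ N₂.1, N₁.2.1.inter N₂.2.1, Set.subset_inter N₁.2.2 N₂.2.2⟩, ?_, ?_⟩
  · have h := Scheme.Hom.le_ker_comp (G.left.homOfLE (inf_le_left : N₁.1 ⊓ N₂.1 ≤ N₁.1)) N₁.1.ι
    rw [Scheme.homOfLE_ι] at h
    exact h D
  · have h := Scheme.Hom.le_ker_comp (G.left.homOfLE (inf_le_right : N₁.1 ⊓ N₂.1 ≤ N₂.1)) N₂.1.ι
    rw [Scheme.homOfLE_ι] at h
    exact h D

/-- a section in the ideal vanishes on a clopen neighbourhood of the unit component -/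
lemma exists_res_eq_zero (D : G.left.affineOpens) (a : Γ(G.left, D.1)) (ha : a ∈ (idl G).ideal D) :
    ∃ N : Nb G, ∃ (V : G.left.Opens) (hVD : V ≤ D.1), (∀ x ∈ D.1, x ∈ N.1 → x ∈ V) ∧
      G.left.presheaf.map (homOfLE hVD).op a = 0 := by
  unfold idl at ha
  rw [Scheme.IdealSheafData.ideal_iSup, iSup_apply] at ha
  obtain ⟨N, hN⟩ := (Submodule.mem_iSup_of_directed _ (directed_ker G D)).mp ha
  have h1 := Scheme.Hom.ideal_ker_le N.1.ι D hN
  rw [RingHom.mem_ker, Scheme.Opens.ι_app] at h1
  refine ⟨N, N.1.ι ''ᵁ N.1.ι ⁻¹ᵁ D.1, Set.image_preimage_subset _ _, ?_, h1⟩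
  intro x hxD hxN
  exact ⟨⟨x, hxN⟩, hxD, rfl⟩

theorem flat_i0 : Flat (i0 G) := by
  apply Flat.of_stalkMap
  intro x'
  apply RingHom.Flat.of_bijective
  refine ⟨?_, (i0 G).stalkMap_surjective x'⟩
  rw [injective_iff_map_eq_zero]
  intro s hs
  have hxC : (i0 G) x' ∈ connectedComponent (e0 G) := by
    rw [← range_i0]; exact ⟨x', rfl⟩
  -- represent `s` as a germ over an affine open
  obtain ⟨U₀, hxU₀, a₀, ha₀⟩ := G.left.presheaf.exists_germ_eq (x := (i0 G) x') s
  obtain ⟨W, hW, hxW, hWU₀⟩ := exists_isAffineOpen_mem_and_subset (x := (i0 G) x') (U := U₀) hxU₀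
  let a : Γ(G.left, W) := G.left.presheaf.map (homOfLE hWU₀).op a₀
  have ha : G.left.presheaf.germ W ((i0 G) x') hxW a = s := by
    rw [← ha₀]
    exact TopCat.Presheaf.germ_res_apply G.left.presheaf (homOfLE hWU₀) _ hxW a₀
  rw [← ha, Scheme.Hom.germ_stalkMap_apply] at hs
  -- the image vanishes on a neighbourhood of `x'`
  have hs0 : (G0s G).presheaf.germ ((i0 G) ⁻¹ᵁ W) x' hxW ((i0 G).app W a) =
      (G0s G).presheaf.germ ((i0 G) ⁻¹ᵁ W) x' hxW 0 := by rw [hs, map_zero]
  obtain ⟨W', hxW', iU, iV, hres⟩ := TopCat.Presheaf.germ_eq _ x' hxW hxW _ _ hs0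
  rw [map_zero] at hres
  -- `W'` is the preimage of an open of `G`
  obtain ⟨W'', hW''o, hW''⟩ := (i0 G).isEmbedding.isInducing.isOpen_iff.mp W'.isOpen
  have hxW'' : (i0 G) x' ∈ W'' := by
    have : x' ∈ (i0 G) ⁻¹' W'' := by rw [hW'']; exact hxW'
    exact this
  obtain ⟨f, hfV, hxf⟩ := hW.exists_basicOpen_le (V := W ⊓ ⟨W'', hW''o⟩)
    ⟨(i0 G) x', ⟨hxW, hxW''⟩⟩ hxW
  let D : G.left.affineOpens := ⟨G.left.basicOpen f, hW.basicOpen f⟩
  have hDW : D.1 ≤ W := G.left.basicOpen_le f
  have hDpre : (i0 G) ⁻¹ᵁ D.1 ≤ W' := by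
    intro y hy
    have h1 : (i0 G) y ∈ W'' := (hfV hy).2
    have : y ∈ (i0 G) ⁻¹' W'' := h1
    rw [hW''] at this
    exact this
  let aD : Γ(G.left, D.1) := G.left.presheaf.map (homOfLE hDW).op a
  have haD : (i0 G).app D.1 aD = 0 := by
    have hn := congrArg (fun φ => φ.hom a) ((i0 G).naturality (homOfLE hDW).op)
    simp only [CommRingCat.hom_comp, RingHom.comp_apply] at hn
    show (i0 G).app D.1 (G.left.presheaf.map (homOfLE hDW).op a) = 0
    rw [hn]
    have h2 : ((TopologicalSpace.Opens.map (i0 G).base).map (homOfLE hDW).op.unop).op =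
        iU.op ≫ (homOfLE hDpre).op := rfl
    rw [h2, Functor.map_comp, CommRingCat.comp_apply, hres, map_zero]
  have hmem : aD ∈ (idl G).ideal D := by
    rw [← Scheme.IdealSheafData.ker_subschemeι_app]
    exact haD
  obtain ⟨N, V, hVD, hV, hzero⟩ := exists_res_eq_zero G D aD hmem
  have hxV : (i0 G) x' ∈ V := hV _ hxf (N.2.2 hxC)
  have e1 : G.left.presheaf.germ W ((i0 G) x') hxW a =
      G.left.presheaf.germ D.1 ((i0 G) x') hxf aD :=
    (TopCat.Presheaf.germ_res_apply G.left.presheaf (homOfLE hDW) _ hxf a).symm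
  have e2 : G.left.presheaf.germ D.1 ((i0 G) x') hxf aD =
      G.left.presheaf.germ V ((i0 G) x') hxV (G.left.presheaf.map (homOfLE hVD).op aD) :=
    (TopCat.Presheaf.germ_res_apply G.left.presheaf (homOfLE hVD) _ hxV aD).symm
  rw [← ha, e1, e2, hzero, map_zero]

/-- the unit component as a scheme over `k` -/
noncomputable abbrev G0 : Over (Spec (CommRingCat.of k)) := Over.mk (i0 G ≫ G.hom)

/-- the inclusion as a morphism over `k` -/
noncomputable abbrev iG : G0 G ⟶ G := Over.homMk (i0 G) rfl

instance : Mono (iG G) := by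
  haveI : Mono ((Over.forget _).map (iG G)) := by
    show Mono (i0 G)
    infer_instance
  exact (Over.forget _).mono_of_mono_map inferInstance

instance connectedSpace_G0 : ConnectedSpace ↥(G0 G).left := by
  have hemb := (i0 G).isEmbedding
  have hC : _root_.IsConnected (connectedComponent (e0 G)) := isConnected_connectedComponent
  have h1 : _root_.IsPreconnected ((i0 G) '' Set.univ) := by
    rw [Set.image_univ, range_i0]
    exact hC.isPreconnected
  have h2 := (hemb.isInducing.isPreconnected_image).mp h1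
  haveI : PreconnectedSpace ↥(G0s G) := ⟨h2⟩
  haveI : Nonempty ↥(G0s G) := by
    obtain ⟨c, hc⟩ := hC.nonempty
    rw [← range_i0] at hc
    obtain ⟨z, -⟩ := hc
    exact ⟨z⟩
  exact @ConnectedSpace.mk _ _ ‹PreconnectedSpace ↥(G0s G)› ‹Nonempty ↥(G0s G)›

theorem compactSpace_G0 : CompactSpace ↥(G0 G).left := by
  have hC : IsCompact (connectedComponent (e0 G)) := (main G).2
  rw [← range_i0, ← Set.image_univ] at hC
  exact ⟨((i0 G).isEmbedding.isInducing.isCompact_iff).mpr hC⟩

theorem exists_over_lift {T : Over (Spec (CommRingCat.of k))} (g : T ⟶ G)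
    (hg : Set.range g.left ⊆ connectedComponent (e0 G)) :
    ∃ g' : T ⟶ G0 G, g' ≫ iG G = g := by
  obtain ⟨g', hg'⟩ := exists_lift G g.left hg
  refine ⟨Over.homMk g' ?_, ?_⟩
  · show g' ≫ (i0 G ≫ G.hom) = T.hom
    rw [← Category.assoc, hg', Over.w]
  · apply Over.OverMorphism.ext
    exact hg'

lemma pt_eq (p : ↥(𝟙_ (Over (Spec (CommRingCat.of k)))).left) : p = IsLocalRing.closedPoint k :=
  @Subsingleton.elim (PrimeSpectrum k) inferInstance _ _

/-- a morphism from a connected scheme sending some point to the unit lands in the unit component -/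
lemma range_subset_of_connected {T : Over (Spec (CommRingCat.of k))} [ConnectedSpace ↥T.left]
    (g : T ⟶ G) (q : 𝟙_ (Over (Spec (CommRingCat.of k))) ⟶ T) (hq : q ≫ g = 1) :
    Set.range g.left ⊆ connectedComponent (e0 G) := by
  apply (isPreconnected_range g.left.continuous).subset_connectedComponent
  refine ⟨q.left (IsLocalRing.closedPoint k), ?_⟩
  have h1 : g.left (q.left (IsLocalRing.closedPoint k)) =
      (q ≫ g).left (IsLocalRing.closedPoint k) := rfl
  rw [h1, hq, Hom.one_def]
  show η[G].left ((toUnit (𝟙_ (Over (Spec (CommRingCat.of k))))).left (IsLocalRing.closedPoint k)) = _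
  congr 1

theorem exists_unit : ∃ e : 𝟙_ (Over (Spec (CommRingCat.of k))) ⟶ G0 G, e ≫ iG G = η[G] := by
  apply exists_over_lift
  rintro _ ⟨p, rfl⟩
  rw [pt_eq p]
  exact mem_connectedComponent

theorem exists_mul : ∃ m : G0 G ⊗ G0 G ⟶ G0 G,
    m ≫ iG G = (fst (G0 G) (G0 G) ≫ iG G) * (snd (G0 G) (G0 G) ≫ iG G) := by
  obtain ⟨e, he⟩ := exists_unit G
  haveI : ConnectedSpace ↥(G0 G ⊗ G0 G).left :=
    Groth.Agent.S5342.result k (G0 G).left (G0 G).left (G0 G).hom (G0 G).hom e.left (Over.w e)
  apply exists_over_lift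
  apply range_subset_of_connected G _ (lift e e)
  rw [MonObj.comp_mul, lift_fst_assoc, lift_snd_assoc, he, one_eq_one, _root_.mul_one]

theorem exists_inv : ∃ j : G0 G ⟶ G0 G, j ≫ iG G = (iG G)⁻¹ := by
  obtain ⟨e, he⟩ := exists_unit G
  apply exists_over_lift
  apply range_subset_of_connected G _ e
  rw [GrpObj.comp_inv, he, one_eq_one, inv_one]

/-- the group structure on the unit component -/
@[instance_reducible]
noncomputable def grpObjG0 : GrpObj (G0 G) :=
  Groth.Agent.Lib.Helper43.SubGrp.grpOfMono (iG G)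
    (exists_unit G).choose (exists_unit G).choose_spec
    (exists_mul G).choose (exists_mul G).choose_spec
    (exists_inv G).choose (exists_inv G).choose_spec

theorem isMonHom_iG : @IsMonHom _ _ _ (G0 G) G (grpObjG0 G).toMonObj _ (iG G) :=
  Groth.Agent.Lib.Helper43.SubGrp.isMonHom_grpOfMono (iG G)
    (exists_unit G).choose (exists_unit G).choose_spec
    (exists_mul G).choose (exists_mul G).choose_spec
    (exists_inv G).choose (exists_inv G).choose_spec

theorem geometricallyIrreducible_G0 : GeometricallyIrreducible (G0 G).hom := by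
  letI := grpObjG0 G
  rw [geometricallyIrreducible_iff, geometrically_iff_of_isClosedUnderIsomorphisms]
  intro K _ y
  exact Groth.Agent.Lib.Helper40.BlanchardLemma.irreducibleSpace_pullback (G := G0 G) K y

theorem isClosedImmersion_iG : IsClosedImmersion (iG G).left := by
  show IsClosedImmersion (i0 G)
  infer_instance

theorem flat_iG : Flat (iG G).left := flat_i0 G

theorem range_iG : Set.range (iG G).left = connectedComponent (e0 G) := range_i0 G

/-- the identity component as a flat closed subgroup scheme (form of S3023) -/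
theorem exists_idComp :
    ∃ (G0 : Over (Spec (CommRingCat.of k))) (_ : GrpObj G0) (i : G0 ⟶ G), IsMonHom i ∧
      IsClosedImmersion i.left ∧ Flat i.left ∧
      (∀ pt : ↥(𝟙_ (Over (Spec (CommRingCat.of k)))).left,
        Set.range i.left.base = connectedComponent (η[G].left.base pt)) := by
  refine ⟨G0 G, grpObjG0 G, iG G, isMonHom_iG G, isClosedImmersion_iG G, flat_iG G, fun pt => ?_⟩
  rw [pt_eq pt]
  exact range_iG G

/-- the identity component as a flat closed subgroup scheme (form of S7520) -/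
theorem exists_idComp' :
    ∃ (G₀ : Over (Spec (CommRingCat.of k))) (_ : GrpObj G₀) (incl : G₀ ⟶ G) (_ : IsMonHom incl),
      IsClosedImmersion incl.left ∧ Flat incl.left ∧
      Set.range ⇑incl.left = connectedComponent (η[G].left (IsLocalRing.closedPoint k)) ∧
      GeometricallyIrreducible G₀.hom ∧ CompactSpace ↥G₀.left :=
  ⟨G0 G, grpObjG0 G, iG G, isMonHom_iG G, isClosedImmersion_iG G, flat_iG G, range_iG G,
    geometricallyIrreducible_G0 G, compactSpace_G0 G⟩

end Sub

end Groth.Agent.Lib.Helper79.IdComp
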