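import Groth.Prelude.Def_SGA1
import Groth.Agent.Lib.Helper79.FreeQuot2
import Mathlib

/-!
# Inertia strata for a finite group acting on an unramified separated scheme

If `f : X ⟶ Y` is unramified (locally of finite type) and separated and a finite group `G` acts on
`X` over `Y`, the locus where `ρ g` is the identity is open and closed, the inertia groups are
locally constant, and the quotient map `X ⟶ X/G` is flat.
-/

set_option autoImplicit false
open CategoryTheory CategoryTheory.Limits AlgebraicGeometry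
universe u

namespace Groth.Agent.Lib.Helper79.Inertia

section eqLocus

variable {X X' Y : Scheme.{u}} (a b : X ⟶ X') (q : X' ⟶ Y)
  [FormallyUnramified q] [LocallyOfFiniteType q] [IsSeparated q] (hab : a ≫ q = b ≫ q)

/-- the open and closed locus where two morphisms into an unramified separated scheme agree. -/
noncomputable def eqLocus : X.Opens :=
  (pullback.fst (pullback.lift a b hab) (pullback.diagonal q)).opensRange

theorem isClosed_eqLocus : IsClosed (eqLocus a b q hab : Set X) :=
  (pullback.fst (pullback.lift a b hab) (pullback.diagonal q)).isClosedEmbedding.isClosed_range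

theorem eqLocus_ι : (eqLocus a b q hab).ι ≫ a = (eqLocus a b q hab).ι ≫ b := by
  let ab : X ⟶ pullback q q := pullback.lift a b hab
  let e : pullback ab (pullback.diagonal q) ⟶ X := pullback.fst ab (pullback.diagonal q)
  have h1 : e ≫ a = e ≫ b := by
    have ha : e ≫ a = pullback.snd ab (pullback.diagonal q) := by
      have : e ≫ ab ≫ pullback.fst q q = e ≫ a := by rw [pullback.lift_fst]
      rw [← this, ← Category.assoc, pullback.condition, Category.assoc, pullback.diagonal_fst,
        Category.comp_id]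
    have hb : e ≫ b = pullback.snd ab (pullback.diagonal q) := by
      have : e ≫ ab ≫ pullback.snd q q = e ≫ b := by rw [pullback.lift_snd]
      rw [← this, ← Category.assoc, pullback.condition, Category.assoc, pullback.diagonal_snd,
        Category.comp_id]
    rw [ha, hb]
  have hr : Set.range (eqLocus a b q hab).ι.base ⊆ Set.range e.base := by
    rw [Scheme.Opens.range_ι]
    exact fun x hx => hx
  have h2 : IsOpenImmersion.lift e (eqLocus a b q hab).ι hr ≫ e = (eqLocus a b q hab).ι :=
    IsOpenImmersion.lift_fac _ _ _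
  rw [← h2, Category.assoc, Category.assoc, h1]

theorem range_subset_eqLocus {T : Scheme.{u}} (ξ : T ⟶ X) (hξ : ξ ≫ a = ξ ≫ b) :
    Set.range ξ.base ⊆ (eqLocus a b q hab : Set X) := by
  let ab : X ⟶ pullback q q := pullback.lift a b hab
  let e : pullback ab (pullback.diagonal q) ⟶ X := pullback.fst ab (pullback.diagonal q)
  have hfac : ξ ≫ ab = (ξ ≫ a) ≫ pullback.diagonal q := by
    apply pullback.hom_ext
    · rw [Category.assoc, Category.assoc, pullback.lift_fst, pullback.diagonal_fst,
        Category.comp_id]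
    · rw [Category.assoc, Category.assoc, pullback.lift_snd, pullback.diagonal_snd,
        Category.comp_id, hξ]
  let ζ : T ⟶ pullback ab (pullback.diagonal q) := pullback.lift ξ (ξ ≫ a) hfac
  have hζ : ζ ≫ e = ξ := pullback.lift_fst _ _ _
  rintro _ ⟨t, rfl⟩
  refine ⟨ζ.base t, ?_⟩
  exact congrArg (fun k => k.base t) hζ

theorem comp_eq_of_range_subset {T : Scheme.{u}} (ξ : T ⟶ X)
    (h : Set.range ξ.base ⊆ (eqLocus a b q hab : Set X)) : ξ ≫ a = ξ ≫ b := by
  have hr : Set.range ξ.base ⊆ Set.range (eqLocus a b q hab).ι.base := by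
    rw [Scheme.Opens.range_ι]
    exact h
  have h2 : IsOpenImmersion.lift (eqLocus a b q hab).ι ξ hr ≫ (eqLocus a b q hab).ι = ξ :=
    IsOpenImmersion.lift_fac _ _ _
  rw [← h2, Category.assoc, Category.assoc, eqLocus_ι]

end eqLocus

section strata

open Groth.Agent.Lib.Helper79.RestrictAut

variable {X X' Y : Scheme.{u}} {G : Type u} [Group G]

theorem flat_quotient_of_unramified [Finite G] (ρ : G →* Aut X) (p : X ⟶ X')
    (hp : SGA1.IsQuot ρ p) (f : X ⟶ Y) [FormallyUnramified f] [LocallyOfFiniteType f]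
    [IsSeparated f] (hρ : ∀ g : G, (ρ g).hom ≫ f = f) : Flat p := by
  classical
  have hab : ∀ g : G, (ρ g).hom ≫ f = 𝟙 X ≫ f := fun g => by rw [hρ g, Category.id_comp]
  -- the fixed loci
  let E : G → X.Opens := fun g => eqLocus (ρ g).hom (𝟙 X) f (hab g)
  have hEclosed : ∀ g, IsClosed (E g : Set X) := fun g => isClosed_eqLocus _ _ _ _
  have hEι : ∀ g, (E g).ι ≫ (ρ g).hom = (E g).ι := fun g =>
    (eqLocus_ι (ρ g).hom (𝟙 X) f (hab g)).trans (Category.comp_id _)
  have hEmem : ∀ (g : G) {T : Scheme.{u}} (ξ : T ⟶ X), ξ ≫ (ρ g).hom = ξ →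
      Set.range ξ.base ⊆ (E g : Set X) := fun g T ξ hξ =>
    range_subset_eqLocus (ρ g).hom (𝟙 X) f (hab g) ξ (hξ.trans (Category.comp_id _).symm)
  have hEfix : ∀ (g : G) {T : Scheme.{u}} (ξ : T ⟶ X), Set.range ξ.base ⊆ (E g : Set X) →
      ξ ≫ (ρ g).hom = ξ := fun g T ξ h =>
    (comp_eq_of_range_subset (ρ g).hom (𝟙 X) f (hab g) ξ h).trans (Category.comp_id _)
  -- conjugation
  have hconj : ∀ (g a : G) (y : X), y ∈ E a → (ρ g).hom.base y ∈ E (g * a * g⁻¹) := by
    intro g a y hy
    have h1 : Set.range (X.fromSpecResidueField y).base ⊆ (E a : Set X) := by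
      rintro _ ⟨t, rfl⟩
      rw [Scheme.fromSpecResidueField_apply]
      exact hy
    have h2 := hEfix a _ h1
    have h3 : (X.fromSpecResidueField y ≫ (ρ g).hom) ≫ (ρ (g * a * g⁻¹)).hom =
        X.fromSpecResidueField y ≫ (ρ g).hom := by
      rw [Category.assoc, ← hom_mul, inv_mul_cancel_right, hom_mul, ← Category.assoc, h2]
    have h4 := hEmem _ _ h3
    apply h4
    obtain ⟨t⟩ : Nonempty (Spec (X.residueField y)) := inferInstance
    refine ⟨t, ?_⟩
    show (ρ g).hom.base ((X.fromSpecResidueField y).base t) = _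
    rw [Scheme.fromSpecResidueField_apply]
  have hconj' : ∀ (g a : G) (y : X), y ∈ E a ↔ (ρ g).hom.base y ∈ E (g * a * g⁻¹) := by
    intro g a y
    refine ⟨hconj g a y, fun h => ?_⟩
    have := hconj g⁻¹ _ _ h
    have e1 : g⁻¹ * (g * a * g⁻¹) * g⁻¹⁻¹ = a := by group
    have e2 : (ρ g⁻¹).hom.base ((ρ g).hom.base y) = y := by
      have : (ρ g).hom ≫ (ρ g⁻¹).hom = 𝟙 X := by rw [← hom_mul, inv_mul_cancel, hom_one]
      exact congrArg (fun k => k.base y) this
    rw [e1, e2] at this
    exact this
  have hloc := HasRingHomProperty.instIsZariskiLocalAtSource (P := @Flat.{u})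
  rw [IsZariskiLocalAtSource.iff_of_iSup_eq_top (P := @Flat)
    (fun x : X => (⟨{y | ∀ g, y ∈ E g ↔ x ∈ E g}, by
      have : {y | ∀ g, y ∈ E g ↔ x ∈ E g} =
          ⋂ g : G, (if x ∈ E g then (E g : Set X) else (E g : Set X)ᶜ) := by
        ext y
        simp only [Set.mem_setOf_eq, Set.mem_iInter]
        refine forall_congr' fun g => ?_
        by_cases hx : x ∈ E g
        · rw [if_pos hx]; exact ⟨fun h => h.mpr hx, fun h => ⟨fun _ => hx, fun _ => h⟩⟩
        · rw [if_neg hx]
          exact ⟨fun h hy => hx (h.mp hy), fun h => ⟨fun hy => absurd hy h, fun h' => absurd h' hx⟩⟩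
      rw [this]
      refine isOpen_iInter_of_finite fun g => ?_
      split_ifs
      · exact (E g).isOpen
      · exact (hEclosed g).isOpen_compl⟩ : X.Opens))
    (by
      rw [eq_top_iff]
      intro x _
      exact TopologicalSpace.Opens.mem_iSup.mpr ⟨x, fun g => Iff.rfl⟩)]
  intro x
  set W : X.Opens := ⟨{y | ∀ g, y ∈ E g ↔ x ∈ E g}, _⟩ with hW
  have hmemW : ∀ y, y ∈ W ↔ ∀ g, y ∈ E g ↔ x ∈ E g := fun y => Iff.rfl
  let H : Subgroup G :=
    { carrier := {g | ∀ y, y ∈ W ↔ (ρ g).hom.base y ∈ W}
      one_mem' := by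
        intro y
        have : (ρ 1).hom.base y = y := congrArg (fun k => k.base y) (hom_one ρ)
        show y ∈ W ↔ (ρ 1).hom.base y ∈ W
        rw [this]
      mul_mem' := by
        intro a b ha hb y
        have : (ρ (a * b)).hom.base y = (ρ a).hom.base ((ρ b).hom.base y) :=
          congrArg (fun k => k.base y) (hom_mul ρ b a)
        show y ∈ W ↔ (ρ (a * b)).hom.base y ∈ W
        rw [this, ← ha, ← hb]
      inv_mem' := by
        intro a ha y
        have : (ρ a).hom.base ((ρ a⁻¹).hom.base y) = y := by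
          have : (ρ a⁻¹).hom ≫ (ρ a).hom = 𝟙 X := by rw [← hom_mul, mul_inv_cancel, hom_one]
          exact congrArg (fun k => k.base y) this
        show y ∈ W ↔ (ρ a⁻¹).hom.base y ∈ W
        rw [ha ((ρ a⁻¹).hom.base y), this] }
  have hHmem : ∀ g, g ∈ H ↔ ∀ y, y ∈ W ↔ (ρ g).hom.base y ∈ W := fun g => Iff.rfl
  apply Groth.Agent.Lib.Helper79.FreeQuot2.flat_comp_of_local ρ p hp W H
  · intro h hh y hy
    exact ((hHmem h).mp hh y).mp hy
  · intro g hg y hy hgy
    apply hg
    rw [hHmem]
    -- `(*)`: conjugation by `g` preserves the inertia group of `x`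
    have hstar : ∀ a, x ∈ E (g⁻¹ * a * g) ↔ x ∈ E a := by
      intro a
      rw [← (hmemW y).mp hy, ← (hmemW _).mp hgy a, hconj' g (g⁻¹ * a * g) y]
      have : g * (g⁻¹ * a * g) * g⁻¹ = a := by group
      rw [this]
    intro y'
    rw [hmemW, hmemW]
    constructor
    · intro h a
      rw [← hstar a, ← h (g⁻¹ * a * g), hconj' g (g⁻¹ * a * g) y']
      have : g * (g⁻¹ * a * g) * g⁻¹ = a := by group
      rw [this]
    · intro h a
      have h1 := h (g * a * g⁻¹)
      rw [← hconj' g a y'] at h1
      rw [h1, ← hstar (g * a * g⁻¹)]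
      have : g⁻¹ * (g * a * g⁻¹) * g = a := by group
      rw [this]
  · intro h hh K _ _ ξ hξW hξ
    have h1 := hEmem h ξ hξ
    have hx' : ξ.base (IsLocalRing.closedPoint K) ∈ E h := h1 ⟨_, rfl⟩
    have hxE : x ∈ E h := ((hmemW _).mp (hξW _) h).mp hx'
    apply hEfix h W.ι
    rw [Scheme.Opens.range_ι]
    intro y hy
    exact ((hmemW y).mp hy h).mpr hxE

end strata

end Groth.Agent.Lib.Helper79.Inertia
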