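import Mathlib

/-!
# Roots of unity in a local ring in which `n` is invertible
-/

set_option autoImplicit false
set_option linter.style.haveILetI false
set_option linter.unusedSectionVars false
open IsLocalRing
universe u

namespace Groth.Agent.Lib.Helper79.KumLocal

variable {A : Type u} [CommRing A] [IsLocalRing A] {n : ℕ}

/-- there is no `n`-torsion in `1 + 𝔪` when `n` is invertible. -/
theorem eq_one_of_sub_one_mem (hn : IsUnit ((n : ℕ) : A)) (u : A) (hu : u ^ n = 1)
    (hm : u - 1 ∈ maximalIdeal A) : u = 1 := by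
  have h1 : (∑ i ∈ Finset.range n, u ^ i) * (u - 1) = 0 := by
    rw [geom_sum_mul, hu, sub_self]
  have hres : residue A u = 1 := by
    have := (residue_eq_zero_iff (u - 1)).2 hm
    rw [map_sub, map_one, sub_eq_zero] at this
    exact this
  have h2 : residue A (∑ i ∈ Finset.range n, u ^ i) = residue A ((n : ℕ) : A) := by
    rw [map_sum]
    simp [hres]
  have h3 : IsUnit (∑ i ∈ Finset.range n, u ^ i) := by
    rw [← notMem_maximalIdeal, ← residue_eq_zero_iff, h2]
    exact (hn.map (residue A)).ne_zero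
  have h4 := (h3.mul_right_eq_zero).1 h1
  exact sub_eq_zero.1 h4

/-- distinct roots of unity differ by a unit. -/
theorem isUnit_sub (hn : IsUnit ((n : ℕ) : A)) (ζ ζ' : rootsOfUnity n A) (h : ζ ≠ ζ') :
    IsUnit (((ζ : Aˣ) : A) - ((ζ' : Aˣ) : A)) := by
  by_contra hnu
  have hm : ((ζ : Aˣ) : A) - ((ζ' : Aˣ) : A) ∈ maximalIdeal A := (mem_maximalIdeal _).2 hnu
  apply h
  have h1 : (((ζ * ζ'⁻¹ : rootsOfUnity n A) : Aˣ) : A) = 1 := by
    apply eq_one_of_sub_one_mem hn
    · have := (mem_rootsOfUnity n ((ζ * ζ'⁻¹ : rootsOfUnity n A) : Aˣ)).1 (ζ * ζ'⁻¹).2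
      have h2 := congrArg Units.val this
      simpa using h2
    · have h2 : (((ζ * ζ'⁻¹ : rootsOfUnity n A) : Aˣ) : A) - 1 =
          (((ζ'⁻¹ : rootsOfUnity n A) : Aˣ) : A) * (((ζ : Aˣ) : A) - ((ζ' : Aˣ) : A)) := by
        push_cast
        rw [mul_sub, mul_comm]
        congr 1
        simp
      rw [h2]
      exact Ideal.mul_mem_left _ _ hm
  have h3 : ζ * ζ'⁻¹ = 1 := by
    apply Subtype.ext
    apply Units.ext
    exact h1
  exact mul_inv_eq_one.1 h3

theorem finite_rootsOfUnity (hn : IsUnit ((n : ℕ) : A)) (hn1 : 1 ≤ n) :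
    Finite (rootsOfUnity n A) ∧ Nat.card (rootsOfUnity n A) ≤ n := by
  haveI : NeZero n := ⟨by omega⟩
  let r := restrictRootsOfUnity (residue A) n
  have hinj : Function.Injective r := by
    intro ζ ζ' h
    by_contra hne
    have h1 := isUnit_sub hn ζ ζ' hne
    have h2 : residue A (((ζ : Aˣ) : A) - ((ζ' : Aˣ) : A)) = 0 := by
      rw [map_sub, sub_eq_zero]
      have := congrArg (fun x : rootsOfUnity n (ResidueField A) => ((x : (ResidueField A)ˣ) :
        ResidueField A)) h
      exact this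
    exact (h1.map (residue A)).ne_zero h2
  haveI : Finite (rootsOfUnity n (ResidueField A)) := inferInstance
  refine ⟨Finite.of_injective r hinj, ?_⟩
  exact (Nat.card_le_card_of_injective r hinj).trans (card_rootsOfUnity (ResidueField A) n)

theorem card_rootsOfUnity_eq (hn : IsUnit ((n : ℕ) : A)) (hn1 : 1 ≤ n) (ζ₀ : A)
    (hζ₀ : IsPrimitiveRoot ζ₀ n) : Nat.card (rootsOfUnity n A) = n := by
  haveI : NeZero n := ⟨by omega⟩
  obtain ⟨hfin, hle⟩ := finite_rootsOfUnity hn hn1
  refine le_antisymm hle ?_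
  let f : Fin n → rootsOfUnity n A := fun i =>
    rootsOfUnity.mkOfPowEq (ζ₀ ^ (i : ℕ)) (by rw [← pow_mul, mul_comm, pow_mul, hζ₀.pow_eq_one,
      one_pow])
  have hf : Function.Injective f := by
    intro i j h
    have h1 := congrArg (fun x : rootsOfUnity n A => ((x : Aˣ) : A)) h
    simp only [f, rootsOfUnity.val_mkOfPowEq_coe] at h1
    exact Fin.ext (hζ₀.pow_inj i.2 j.2 h1)
  have := Nat.card_le_card_of_injective f hf
  simpa using this

end Groth.Agent.Lib.Helper79.KumLocal
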