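import Mathlib
import Groth.Prelude.Def_SGA1t
import Groth.Agent.Lib.Helper79.GalAlg3
import Groth.Agent.Lib.Helper79.KumLocal

/-!
# A `μ_n`-Galois algebra over a local ring is a Kummer algebra
-/

set_option autoImplicit false
set_option linter.style.haveILetI false
set_option linter.unusedSectionVars false
open TensorProduct IsLocalRing
universe u

namespace Groth.Agent.Lib.Helper79.KumCover

open Groth.Agent.Lib.Helper79.GalAlg2 Groth.Agent.Lib.Helper79.GalAlg3
  Groth.Agent.Lib.Helper79.KumLocal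

variable {A B : Type u} [CommRing A] [CommRing B] [Algebra A B] {n : ℕ}
  [Fintype (rootsOfUnity n A)] [DecidableEq (rootsOfUnity n A)]
  (σ : rootsOfUnity n A →* (B →ₐ[A] B))

/-- a root of unity as an element of `A`. -/
abbrev cA (ζ : rootsOfUnity n A) : A := ((ζ : Aˣ) : A)

/-- a root of unity as an element of `B`. -/
noncomputable abbrev cz (ζ : rootsOfUnity n A) : B := algebraMap A B (cA ζ)

theorem cA_mul (ζ ξ : rootsOfUnity n A) : cA (ζ * ξ) = cA ζ * cA ξ := by
  simp [cA]

theorem cA_inv_mul (ζ : rootsOfUnity n A) : cA ζ⁻¹ * cA ζ = 1 := by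
  rw [← cA_mul, inv_mul_cancel]
  simp [cA]

theorem cA_pow (ζ : rootsOfUnity n A) : cA ζ ^ n = 1 := by
  have := (mem_rootsOfUnity n (ζ : Aˣ)).1 ζ.2
  have h2 := congrArg Units.val this
  simpa using h2

/-- the projector onto the eigenspace of the tautological character (up to the scalar `ν`). -/
noncomputable def EE (ν : A) : B →ₗ[A] B :=
  ∑ ζ : rootsOfUnity n A, (ν * cA ζ⁻¹) • (σ ζ).toLinearMap

theorem EE_apply (ν : A) (b : B) :
    EE σ ν b = ∑ ζ : rootsOfUnity n A, (ν * cA ζ⁻¹) • σ ζ b := by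
  simp [EE]

theorem sigma_EE (ν : A) (ξ : rootsOfUnity n A) (b : B) :
    σ ξ (EE σ ν b) = cz ξ * EE σ ν b := by
  rw [EE_apply, map_sum, Finset.mul_sum]
  have h1 : ∀ ζ : rootsOfUnity n A, σ ξ ((ν * cA ζ⁻¹) • σ ζ b) =
      cz (B := B) ξ * ((ν * cA (ξ * ζ)⁻¹) • σ (ξ * ζ) b) := by
    intro ζ
    have key : ν * cA ζ⁻¹ = cA ξ * (ν * cA (ξ * ζ)⁻¹) := by
      rw [mul_inv_rev, cA_mul]
      have := cA_inv_mul ξ
      calc ν * cA ζ⁻¹ = ν * cA ζ⁻¹ * (cA ξ⁻¹ * cA ξ) := by rw [this, mul_one]
        _ = cA ξ * (ν * (cA ζ⁻¹ * cA ξ⁻¹)) := by ring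
    have h2 : σ ξ (σ ζ b) = σ (ξ * ζ) b := by
      rw [map_mul (f := σ)]
      rfl
    rw [map_smul, h2, Algebra.smul_def, Algebra.smul_def, key, map_mul, mul_assoc]
  simp_rw [h1]
  exact Fintype.sum_bijective (fun ζ => ξ * ζ) (Group.mulLeft_bijective ξ) _ _ (fun _ => rfl)

variable [Algebra.Etale A B] [Module.Finite A B] [Module.FaithfullyFlat A B]
variable {σ}

/-- the eigenspace generates the unit ideal. -/
theorem exists_sum_eq_one (hG : IsSimplyTransitive σ) (ν : A)
    (hν : ν * ((Fintype.card (rootsOfUnity n A) : ℕ) : A) = 1) :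
    ∃ S : Finset (B × B), ∑ i ∈ S, i.1 * EE σ ν i.2 = 1 := by
  obtain ⟨w₀, hw₀⟩ := (Phi_bijective hG).2 (fun g => cz g)
  let Θ : B ⊗[A] B →ₗ[A] B := (LinearMap.mul' A B) ∘ₗ (TensorProduct.map LinearMap.id (EE σ ν))
  have hΘ : ∀ x y : B, Θ (x ⊗ₜ[A] y) = x * EE σ ν y := fun x y => by
    simp [Θ]
  have claim1 : ∀ w : B ⊗[A] B, Θ w =
      ∑ ζ : rootsOfUnity n A, (ν * cA ζ⁻¹) • Phi σ w ζ := by
    intro w
    induction w using TensorProduct.induction_on with
    | zero => simp
    | add x y hx hy =>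
      rw [map_add, hx, hy, map_add, ← Finset.sum_add_distrib]
      refine Finset.sum_congr rfl (fun g _ => ?_)
      rw [Pi.add_apply, smul_add]
    | tmul x y =>
      rw [hΘ, EE_apply, Finset.mul_sum]
      refine Finset.sum_congr rfl (fun g _ => ?_)
      rw [Phi_tmul, mul_smul_comm]
  obtain ⟨S, hS⟩ := TensorProduct.exists_finset w₀
  refine ⟨S, ?_⟩
  have h1 : Θ w₀ = ∑ i ∈ S, i.1 * EE σ ν i.2 := by
    rw [hS, map_sum]
    exact Finset.sum_congr rfl (fun i _ => hΘ i.1 i.2)
  rw [← h1, claim1, hw₀]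
  have h2 : ∀ ζ : rootsOfUnity n A, (ν * cA ζ⁻¹) • cz (B := B) ζ = algebraMap A B ν := by
    intro ζ
    rw [Algebra.smul_def, ← map_mul, mul_assoc, cA_inv_mul, mul_one]
  simp_rw [h2]
  rw [Finset.sum_const, Finset.card_univ, nsmul_eq_mul, ← map_natCast (algebraMap A B), ← map_mul,
    mul_comm, hν, map_one]

section Local

variable [IsLocalRing A]

theorem includeRight_eq_zero (t : B) (a : A) (ha : a ∈ maximalIdeal A)
    (hta : algebraMap A B a = t ^ n) :
    (Algebra.TensorProduct.includeRight : B →ₐ[A] ResidueField A ⊗[A] B) t = 0 := by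
  haveI : IsReduced (ResidueField A ⊗[A] B) :=
    Algebra.FormallyUnramified.isReduced_of_field (ResidueField A) (ResidueField A ⊗[A] B)
  apply IsNilpotent.eq_zero
  refine ⟨n, ?_⟩
  rw [← map_pow, ← hta, AlgHom.commutes, Algebra.TensorProduct.algebraMap_apply]
  have : algebraMap A (ResidueField A) a = 0 := (residue_eq_zero_iff a).2 ha
  rw [this, TensorProduct.zero_tmul]

/-- an eigenvector of the tautological character which is a unit. -/
theorem exists_eigen_unit (hG : IsSimplyTransitive σ) (hn : IsUnit ((n : ℕ) : A)) (hn1 : 1 ≤ n)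
    (hcard : Fintype.card (rootsOfUnity n A) = n) :
    ∃ (t : B) (a : Aˣ), (∀ ξ : rootsOfUnity n A, σ ξ t = cz ξ * t) ∧
      algebraMap A B (a : A) = t ^ n := by
  obtain ⟨ν, hν⟩ := hn.exists_left_inv
  obtain ⟨S, hS⟩ := exists_sum_eq_one hG ν (by rw [hcard]; exact hν)
  have heig : ∀ b : B, ∀ ξ : rootsOfUnity n A, σ ξ (EE σ ν b) = cz ξ * EE σ ν b :=
    fun b ξ => sigma_EE σ ν ξ b
  have hpow : ∀ b : B, ∃ a : A, algebraMap A B a = (EE σ ν b) ^ n := by
    intro b
    obtain ⟨a, ha⟩ := mem_range_of_invariant hG ((EE σ ν b) ^ n) (fun ξ => by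
      rw [map_pow, heig, mul_pow, ← map_pow, cA_pow, map_one, one_mul])
    exact ⟨a, ha⟩
  choose a ha using hpow
  by_cases hex : ∃ i ∈ S, IsUnit (a i.2)
  · obtain ⟨i, -, hi⟩ := hex
    exact ⟨EE σ ν i.2, hi.unit, heig i.2, ha i.2⟩
  · exfalso
    push Not at hex
    have hm : ∀ i ∈ S, a i.2 ∈ maximalIdeal A := fun i hi => (mem_maximalIdeal _).2 (hex i hi)
    have h0 : ∀ i ∈ S, (Algebra.TensorProduct.includeRight : B →ₐ[A] ResidueField A ⊗[A] B)
        (EE σ ν i.2) = 0 := fun i hi => includeRight_eq_zero _ _ (hm i hi) (ha i.2)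
    have h1 := congrArg (Algebra.TensorProduct.includeRight : B →ₐ[A] ResidueField A ⊗[A] B) hS
    rw [map_sum, map_one] at h1
    have h2 : ∑ i ∈ S, (Algebra.TensorProduct.includeRight : B →ₐ[A] ResidueField A ⊗[A] B)
        (i.1 * EE σ ν i.2) = 0 := by
      apply Finset.sum_eq_zero
      intro i hi
      rw [map_mul, h0 i hi, mul_zero]
    rw [h2] at h1
    haveI : Nontrivial (ResidueField A ⊗[A] B) := inferInstance
    exact zero_ne_one h1

end Local

section Main

open Polynomial in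
/-- the Kummer polynomial. -/
noncomputable abbrev gg (A : Type u) [CommRing A] (n : ℕ) (a : A) : Polynomial A :=
  (Polynomial.X : Polynomial A) ^ n - Polynomial.C a

theorem gg_monic [Nontrivial A] (a : A) (hn1 : 1 ≤ n) : (gg A n a).Monic :=
  Polynomial.monic_X_pow_sub_C a (by omega)

theorem gg_natDegree [Nontrivial A] (a : A) (hn1 : 1 ≤ n) : (gg A n a).natDegree = n :=
  Polynomial.natDegree_X_pow_sub_C

/-- the comparison homomorphism. -/
noncomputable def psiK (t : B) (a : A) (hta : algebraMap A B a = t ^ n) :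
    SGA1t.kummer A (fun _ : Unit => a) (fun _ => n) →ₐ[A] B :=
  Ideal.Quotient.liftₐ _ (MvPolynomial.aeval (fun _ : Unit => t)) (by
    intro q hq
    have hle : Ideal.span (Set.range fun i : Unit =>
        (MvPolynomial.X i : MvPolynomial Unit A) ^ n - MvPolynomial.C a) ≤
        RingHom.ker (MvPolynomial.aeval (R := A) (fun _ : Unit => t)).toRingHom := by
      rw [Ideal.span_le]
      rintro _ ⟨i, rfl⟩
      simp [hta]
    exact hle hq)

theorem psiK_mk {t : B} {a : A} (hta : algebraMap A B a = t ^ n) (q : MvPolynomial Unit A) :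
    psiK t a hta (Ideal.Quotient.mk _ q) = MvPolynomial.aeval (fun _ : Unit => t) q := rfl

variable {t : B} {a : A}
variable (ht : ∀ ξ : rootsOfUnity n A, σ ξ t = cz ξ * t)

include ht in
theorem psiK_twist (hta : algebraMap A B a = t ^ n) (ζ : rootsOfUnity n A)
    (y : SGA1t.kummer A (fun _ : Unit => a) (fun _ => n)) :
    psiK t a hta (SGA1t.kummerTwist A (fun _ : Unit => a) (fun _ => n) (fun _ => ζ) y) =
      σ ζ (psiK t a hta y) := by
  obtain ⟨q, rfl⟩ := Ideal.Quotient.mk_surjective y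
  have h1 : SGA1t.kummerTwist A (fun _ : Unit => a) (fun _ => n) (fun _ => ζ)
      (Ideal.Quotient.mk _ q) = Ideal.Quotient.mk _
        (MvPolynomial.aeval (R := A)
          (fun i : Unit => MvPolynomial.C (cA ζ) * MvPolynomial.X i) q) := rfl
  rw [h1, psiK_mk, psiK_mk]
  have h2 : MvPolynomial.aeval (fun _ : Unit => t) (MvPolynomial.aeval (R := A)
      (fun i : Unit => MvPolynomial.C (cA ζ) * MvPolynomial.X i) q) =
      ((MvPolynomial.aeval (R := A) (fun _ : Unit => t)).comp (MvPolynomial.aeval (R := A)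
      (fun i : Unit => MvPolynomial.C (cA ζ) * MvPolynomial.X i))) q := rfl
  have h3 : σ ζ (MvPolynomial.aeval (fun _ : Unit => t) q) =
      ((σ ζ).comp (MvPolynomial.aeval (R := A) (fun _ : Unit => t))) q := rfl
  rw [h2, h3, MvPolynomial.comp_aeval, MvPolynomial.comp_aeval]
  congr 2
  funext i
  simp [ht]

variable [IsLocalRing A]

include ht in
theorem isUnit_det_WW (hn : IsUnit ((n : ℕ) : A)) (hn1 : 1 ≤ n)
    (enum : Fin n ≃ rootsOfUnity n A) (htu : IsUnit t) : IsUnit (WW σ enum t).det := by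
  unfold WW
  rw [Matrix.det_vandermonde]
  apply Finset.prod_induction _ IsUnit (fun _ _ => IsUnit.mul) isUnit_one
  intro i _
  apply Finset.prod_induction _ IsUnit (fun _ _ => IsUnit.mul) isUnit_one
  intro j hj
  have hij : i ≠ j := (Finset.mem_Ioi.1 hj).ne
  rw [ht, ht, ← sub_mul, ← map_sub]
  refine IsUnit.mul (IsUnit.map _ ?_) htu
  exact isUnit_sub hn _ _ (fun h => hij (enum.injective h).symm)

include ht in
theorem psiK_bijective (hG : IsSimplyTransitive σ) (hn : IsUnit ((n : ℕ) : A)) (hn1 : 1 ≤ n)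
    (enum : Fin n ≃ rootsOfUnity n A) (hau : IsUnit a) (hta : algebraMap A B a = t ^ n) :
    Function.Bijective (psiK t a hta) := by
  have htu : IsUnit t := by
    have h1 : IsUnit (t ^ n) := by
      rw [← hta]
      exact hau.map _
    exact (isUnit_pow_iff (by omega)).1 h1
  have hdet := isUnit_det_WW ht hn hn1 enum htu
  constructor
  · rw [injective_iff_map_eq_zero]
    intro y hy
    obtain ⟨q, rfl⟩ := Ideal.Quotient.mk_surjective y
    rw [psiK_mk] at hy
    let e := MvPolynomial.uniqueAlgEquiv A Unit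
    have hq' : Polynomial.aeval t (e q) = 0 := by
      rw [← hy]
      exact MvPolynomial.eval₂_const_uniqueAlgEquiv (R := A) (σ := Unit) (f := q)
        (φ := algebraMap A B) (a := t)
    have hmod := Polynomial.modByMonic_add_div (e q) (gg A n a)
    set r := (e q) %ₘ gg A n a with hr
    have hdeg : r.natDegree < n := by
      have := Polynomial.natDegree_modByMonic_lt (e q) (gg_monic (n := n) a hn1) (by
        intro h
        have h2 := gg_natDegree (n := n) a hn1
        rw [h, Polynomial.natDegree_one] at h2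
        omega)
      rwa [gg_natDegree a hn1] at this
    have hqr : Polynomial.aeval t (e q) = Polynomial.aeval t r := by
      rw [← hmod, map_add, map_mul]
      have : Polynomial.aeval t (gg A n a) = 0 := by
        simp only [gg, map_sub, map_pow, Polynomial.aeval_X, Polynomial.aeval_C]
        rw [hta, sub_self]
      rw [this, zero_mul, add_zero]
    rw [hqr, Polynomial.aeval_eq_sum_range' hdeg, Finset.sum_range] at hq'
    have h1 := coeffs_eq_zero hdet (fun k : Fin n => r.coeff k) (by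
      rw [← hq']
      refine Finset.sum_congr rfl (fun k _ => ?_)
      rw [Algebra.smul_def])
    have hr0 : r = 0 := by
      ext k
      rw [Polynomial.coeff_zero]
      by_cases hk : k < n
      · exact congrFun h1 ⟨k, hk⟩
      · exact Polynomial.coeff_eq_zero_of_natDegree_lt (lt_of_lt_of_le hdeg (not_lt.1 hk))
    rw [hr0, zero_add] at hmod
    rw [Ideal.Quotient.eq_zero_iff_mem]
    have h2 : q = e.symm (gg A n a) * e.symm ((e q) /ₘ gg A n a) := by
      rw [← map_mul, hmod, AlgEquiv.symm_apply_apply]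
    have h3 : e.symm (gg A n a) =
        (MvPolynomial.X () : MvPolynomial Unit A) ^ n - MvPolynomial.C a := by
      simp [e, gg, MvPolynomial.uniqueAlgEquiv_symm_apply]
    rw [h2, h3]
    exact Ideal.mul_mem_right _ _ (Ideal.subset_span ⟨(), rfl⟩)
  · intro b
    obtain ⟨c, hc⟩ := exists_coeffs hG hdet b
    refine ⟨Ideal.Quotient.mk _ (∑ k : Fin n, MvPolynomial.C (c k) * MvPolynomial.X () ^ (k : ℕ)), ?_⟩
    rw [psiK_mk, map_sum, hc]
    refine Finset.sum_congr rfl (fun k _ => ?_)
    rw [map_mul, MvPolynomial.aeval_C, map_pow, MvPolynomial.aeval_X]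

end Main

/-- the main algebraic theorem. -/
theorem exists_kummer [IsLocalRing A] (hG : IsSimplyTransitive σ) (hn : IsUnit ((n : ℕ) : A))
    (hn1 : 1 ≤ n) (hcard : Fintype.card (rootsOfUnity n A) = n) :
    ∃ (a : Aˣ) (ψ : SGA1t.kummer A (fun _ : Unit => (a : A)) (fun _ => n) →ₐ[A] B),
      Function.Bijective ψ ∧
      ∀ (ζ : rootsOfUnity n A) (y : SGA1t.kummer A (fun _ : Unit => (a : A)) (fun _ => n)),
        ψ (SGA1t.kummerTwist A (fun _ : Unit => (a : A)) (fun _ => n) (fun _ => ζ) y) =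
          σ ζ (ψ y) := by
  obtain ⟨t, a, ht, hta⟩ := exists_eigen_unit hG hn hn1 hcard
  let enum : Fin n ≃ rootsOfUnity n A := (Fintype.equivFinOfCardEq hcard).symm
  exact ⟨a, psiK t (a : A) hta, psiK_bijective ht hG hn hn1 enum a.isUnit hta, psiK_twist ht hta⟩

end Groth.Agent.Lib.Helper79.KumCover
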