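import Mathlib
import Groth.Prelude.Def_SGA1t
import Groth.Agent.Lib.Helper79.GalSch
import Groth.Agent.Lib.Helper79.KumCover

/-!
# Principal `μ_n`-covers of the spectrum of a local ring are Kummer covers
-/

set_option autoImplicit false
set_option linter.style.haveILetI false
set_option linter.unusedSectionVars false
open CategoryTheory CategoryTheory.Limits AlgebraicGeometry
universe u

namespace Groth.Agent.Lib.Helper79.KumCoverSch

open Groth.Agent.Lib.Helper79.GalAlg2 Groth.Agent.Lib.Helper79.GalSch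
  Groth.Agent.Lib.Helper79.KumCover Groth.Agent.Lib.Helper79.KumLocal

theorem principal_is_kummer (A : Type u) [CommRing A] [IsLocalRing A] (n : ℕ) (hn1 : 1 ≤ n)
    (hn : IsUnit ((n : ℕ) : A)) (ζ₀ : A) (hζ₀ : IsPrimitiveRoot ζ₀ n)
    (P : FEt.Cat (Spec (CommRingCat.of A))) (ρ : ↥(rootsOfUnity n A) →* Aut P)
    (hP : SGA1t.IsPrincipal ↥(rootsOfUnity n A) P ρ) :
    ∃ (a : Aˣ) (e : P.left ≅ Spec (CommRingCat.of
        (SGA1t.kummer A (fun _ : Unit => (a : A)) (fun _ => n)))),
      e.hom ≫ Spec.map (CommRingCat.ofHom (algebraMap A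
        (SGA1t.kummer A (fun _ : Unit => (a : A)) (fun _ => n)))) = P.hom ∧
      ∀ ζ : ↥(rootsOfUnity n A), (ρ ζ).hom.left ≫ e.hom =
        e.hom ≫ Spec.map (CommRingCat.ofHom
          (SGA1t.kummerTwist A (fun _ : Unit => (a : A)) (fun _ => n) (fun _ => ζ))) := by
  classical
  haveI : Finite (rootsOfUnity n A) := (finite_rootsOfUnity hn hn1).1
  letI : Fintype (rootsOfUnity n A) := Fintype.ofFinite _
  have hcard : Fintype.card (rootsOfUnity n A) = n := by
    rw [← Nat.card_eq_fintype_card]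
    exact card_rootsOfUnity_eq hn hn1 ζ₀ hζ₀
  letI := algebraΓ P
  haveI := algebra_etale P
  haveI := module_finite P
  haveI := faithfullyFlat P hP.1
  obtain ⟨a, ψ, hψ, htwist⟩ := exists_kummer (isSimplyTransitive ρ hP) hn hn1 hcard
  let ψe : SGA1t.kummer A (fun _ : Unit => (a : A)) (fun _ => n) ≃+* Γ(P.left, ⊤) :=
    RingEquiv.ofBijective ψ hψ
  let e : P.left ≅ Spec (CommRingCat.of (SGA1t.kummer A (fun _ : Unit => (a : A)) (fun _ => n))) :=
    P.left.isoSpec ≪≫ Scheme.Spec.mapIso (ψe.toCommRingCatIso).op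
  have he : e.hom = P.left.isoSpec.hom ≫ Spec.map (CommRingCat.ofHom (ψ : _ →+* _)) := rfl
  refine ⟨a, e, ?_, ?_⟩
  · show _ = hom' P
    rw [he, Category.assoc, ← Spec.map_comp, hom_eq]
    congr 2
    apply CommRingCat.hom_ext
    apply RingHom.ext
    intro x
    exact ψ.commutes x
  · intro ζ
    show tau ρ ζ ≫ e.hom = _
    rw [he, ← Scheme.isoSpec_hom_naturality_assoc, Category.assoc, ← Spec.map_comp,
      ← Spec.map_comp]
    congr 2
    apply CommRingCat.hom_ext
    apply RingHom.ext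
    intro y
    exact (htwist ζ y).symm

end Groth.Agent.Lib.Helper79.KumCoverSch
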