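import Mathlib

/-!
Number-theoretic Lemma B: two monomials of the same weight with small `X₀`-exponent differ by a
power of `X₁^(aq) X₃^(ap)`.
-/

namespace Groth.Agent.Lib.Helper79.Mono

theorem lemmaB (p q m : ℕ) (hp : 0 < p) (hpq : p < q) (hcop : Nat.Coprime p q) (hm : 0 < m)
    (d0 e0 : ℕ) (hd0 : d0 < Nat.gcd m (q - p)) (he0 : e0 < Nat.gcd m (q - p)) (δ1 δ3 : ℤ)
    (h : (d0 : ℤ) - e0 = p * δ1 - q * δ3) (hdvd : (m : ℤ) ∣ δ3 - δ1) :
    d0 = e0 ∧ ∃ u : ℤ, δ1 = u * ((m / Nat.gcd m (q - p) : ℕ) * q) ∧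
      δ3 = u * ((m / Nat.gcd m (q - p) : ℕ) * p) := by
  set g := Nat.gcd m (q - p) with hg
  have hgpos : 0 < g := Nat.gcd_pos_of_pos_left _ hm
  have hgm : g ∣ m := Nat.gcd_dvd_left m (q - p)
  have hgN : g ∣ q - p := Nat.gcd_dvd_right m (q - p)
  set a := m / g with ha
  set b := (q - p) / g with hb
  have hma : m = g * a := (Nat.mul_div_cancel' hgm).symm
  have hNb : q - p = g * b := (Nat.mul_div_cancel' hgN).symm
  have hab : Nat.Coprime a b := Nat.coprime_div_gcd_div_gcd hgpos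
  have hbq : Nat.Coprime b q := by
    have h1 : Nat.Coprime (q - p) q := (Nat.coprime_self_sub_left hpq.le).mpr hcop
    exact Nat.Coprime.coprime_dvd_left (Dvd.intro_left g hNb.symm) h1
  have hgz : (0 : ℤ) < g := by exact_mod_cast hgpos
  have hmaZ : (m : ℤ) = g * a := by exact_mod_cast hma
  have hNbZ : (q : ℤ) - p = g * b := by
    have : ((q - p : ℕ) : ℤ) = (g : ℤ) * b := by exact_mod_cast hNb
    rw [Nat.cast_sub hpq.le] at this
    exact this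
  obtain ⟨u, hu⟩ := hdvd
  have hδ3 : δ3 = δ1 + m * u := by linarith
  -- g ∣ d0 - e0
  have hdiff : (d0 : ℤ) - e0 = (g : ℤ) * (-(b : ℤ) * δ1 - q * a * u) := by
    rw [h, hδ3, hmaZ]
    have : (p : ℤ) = q - g * b := by linarith
    rw [this]; ring
  have hd0e0 : (d0 : ℤ) - e0 = 0 := by
    apply Int.eq_zero_of_abs_lt_dvd (m := (g : ℤ)) ⟨_, hdiff⟩
    rw [abs_lt]
    have h1 : (d0 : ℤ) < g := by exact_mod_cast hd0
    have h2 : (e0 : ℤ) < g := by exact_mod_cast he0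
    have h3 : (0 : ℤ) ≤ d0 := by positivity
    have h4 : (0 : ℤ) ≤ e0 := by positivity
    constructor <;> linarith
  have hde : d0 = e0 := by
    have : (d0 : ℤ) = e0 := by linarith
    exact_mod_cast this
  refine ⟨hde, ?_⟩
  -- b δ1 = - q a u
  have hbδ : (b : ℤ) * δ1 = -(q * a * u) := by
    rw [hd0e0] at hdiff
    have := (mul_eq_zero.mp hdiff.symm).resolve_left hgz.ne'
    linarith
  have hcopZ : IsCoprime (b : ℤ) ((q : ℤ) * a) := by
    apply IsCoprime.mul_right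
    · exact Nat.isCoprime_iff_coprime.mpr hbq
    · exact Nat.isCoprime_iff_coprime.mpr hab.symm
  have hbu : (b : ℤ) ∣ u := by
    have h1 : (b : ℤ) ∣ (q * a) * u := ⟨-δ1, by linarith⟩
    exact hcopZ.dvd_of_dvd_mul_left h1
  obtain ⟨u', rfl⟩ := hbu
  have hbpos : 0 < b := by
    rcases Nat.eq_zero_or_pos b with h0 | h0
    · rw [h0, mul_zero] at hNb; omega
    · exact h0
  have hbz : (0 : ℤ) < b := by exact_mod_cast hbpos
  have hδ1 : δ1 = -(q * a * u') := by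
    have : (b : ℤ) * δ1 = b * (-(q * a * u')) := by rw [hbδ]; ring
    exact mul_left_cancel₀ hbz.ne' this
  refine ⟨-u', ?_, ?_⟩
  · rw [hδ1]; ring
  · rw [hδ3, hδ1, hmaZ]
    have : (p : ℤ) = q - g * b := by linarith
    rw [this]; ring

section algebra

variable {k : Type*} [Field k] {R : Type*} [CommRing R] [Algebra k R]

theorem lemmaJ_aux (x y z : R) (A B : ℕ) (s : k) (hs : y ^ A * z ^ B = algebraMap k R s)
    (d0 d1 d3 e1 e3 : ℕ) (t : ℕ) (h1 : d1 = e1 + t * A) (h3 : d3 = e3 + t * B) :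
    x ^ d0 * y ^ d1 * z ^ d3 = s ^ t • (x ^ d0 * y ^ e1 * z ^ e3) := by
  rw [h1, h3, Algebra.smul_def, map_pow, ← hs, pow_add, pow_add, mul_comm t A, mul_comm t B,
    pow_mul, pow_mul, mul_pow]
  ring

/-- Lemma J: proportionality of monomials of the same weight when `x^g = 0` and
`y^(aq) z^(ap) = s`. -/
theorem lemmaJ (x y z : R) (p q m : ℕ) (hp : 0 < p) (hpq : p < q) (hcop : Nat.Coprime p q)
    (hm : 0 < m) (s : k) (hx : x ^ Nat.gcd m (q - p) = 0)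
    (hs : y ^ (m / Nat.gcd m (q - p) * q) * z ^ (m / Nat.gcd m (q - p) * p) = algebraMap k R s)
    (d0 d1 d3 e0 e1 e3 : ℕ)
    (hn : (e0 : ℤ) - (p : ℤ) * e1 + (q : ℤ) * e3 = (d0 : ℤ) - (p : ℤ) * d1 + (q : ℤ) * d3)
    (hc : (m : ℤ) ∣ ((e3 : ℤ) - e1) - ((d3 : ℤ) - d1)) :
    ∃ c : k, x ^ d0 * y ^ d1 * z ^ d3 = c • (x ^ e0 * y ^ e1 * z ^ e3) ∨
      x ^ e0 * y ^ e1 * z ^ e3 = c • (x ^ d0 * y ^ d1 * z ^ d3) := by
  by_cases hd0 : Nat.gcd m (q - p) ≤ d0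
  · refine ⟨0, Or.inl ?_⟩
    obtain ⟨j, rfl⟩ := Nat.exists_eq_add_of_le hd0
    rw [pow_add, hx, zero_smul]; ring
  by_cases he0 : Nat.gcd m (q - p) ≤ e0
  · refine ⟨0, Or.inr ?_⟩
    obtain ⟨j, rfl⟩ := Nat.exists_eq_add_of_le he0
    rw [pow_add, hx, zero_smul]; ring
  push Not at hd0 he0
  obtain ⟨hde, u, hu1, hu3⟩ := lemmaB p q m hp hpq hcop hm d0 e0 hd0 he0 ((d1 : ℤ) - e1)
    ((d3 : ℤ) - e3) (by linarith) (by
      have : ((d3 : ℤ) - e3) - ((d1 : ℤ) - e1) = -(((e3 : ℤ) - e1) - ((d3 : ℤ) - d1)) := by ring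
      rw [this]; exact (dvd_neg.mpr hc))
  subst hde
  generalize m / Nat.gcd m (q - p) = a at *
  rcases le_total 0 u with h0 | h0
  · obtain ⟨t, rfl⟩ := Int.eq_ofNat_of_zero_le h0
    refine ⟨s ^ t, Or.inl ?_⟩
    apply lemmaJ_aux x y z _ _ s hs
    · have : (d1 : ℤ) = ((e1 + t * (a * q) : ℕ) : ℤ) := by
        push_cast; linarith
      exact_mod_cast this
    · have : (d3 : ℤ) = ((e3 + t * (a * p) : ℕ) : ℤ) := by
        push_cast; linarith
      exact_mod_cast this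
  · obtain ⟨t, ht⟩ := Int.eq_ofNat_of_zero_le (neg_nonneg.mpr h0)
    refine ⟨s ^ t, Or.inr ?_⟩
    apply lemmaJ_aux x y z _ _ s hs
    · have : (e1 : ℤ) = ((d1 + t * (a * q) : ℕ) : ℤ) := by
        push_cast; rw [← ht]; linarith
      exact_mod_cast this
    · have : (e3 : ℤ) = ((d3 + t * (a * p) : ℕ) : ℤ) := by
        push_cast; rw [← ht]; linarith
      exact_mod_cast this

end algebra

end Groth.Agent.Lib.Helper79.Mono
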