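import Groth.Agent.Lib.Helper79.HJ6

/-!
Lemma L: proportionality of monomials of the same weight modulo the ideals `L^{(i)}_s`.
-/

namespace Groth.Agent.Lib.Helper79.HJ

open W4c2invhilbsl2

section

variable {k : Type*} [Field k] {R : Type*} [CommRing R] [Algebra k R]

/-- hypotheses on the images `x, y, z` of the variables in the quotient by `L^{(i)}_s` -/
structure LHyp (p q m : ℕ) (c : List ℤ) (i : ℕ) (s : k) (x y z : R) : Prop where
  h1 : x ^ (nN p q m c (i - 1)).toNat = 0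
  h2 : y ^ (eE p q m c i).toNat * z ^ (lL p q m c i).toNat = s • x ^ (nN p q m c i).toNat
  h3 : ∀ a0 a1 a2 : ℕ, ¬ (a0 = 0 ∧ a1 = 0 ∧ a2 = 0) → (a0 : ℤ) - p * a1 + q * a2 = 0 →
    (m : ℤ) ∣ (a1 : ℤ) - a2 → x ^ a0 * y ^ a1 * z ^ a2 = 0

variable {p q m : ℕ} {c : List ℤ} {i : ℕ} {s : k} {x y z : R}

theorem lemmaL_nat (hp : 0 < p) (hpq : p < q) (hcop : Nat.Coprime p q) (hm : 0 < m)
    (hnt : ¬ (q - p ∣ m)) (hc : IsHJDigits p q m c) (hi1 : 1 ≤ i) (hi : i ≤ c.length)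
    (H : LHyp p q m c i s x y z) :
    ∀ u : ℕ, ∀ d0 d1 d2 e0 e1 e2 : ℕ,
      (e0 : ℤ) - (p : ℤ) * e1 + (q : ℤ) * e2 = (d0 : ℤ) - (p : ℤ) * d1 + (q : ℤ) * d2 →
      ((d1 : ℤ) - d2) - ((e1 : ℤ) - e2) = (m : ℤ) * u →
      ∃ a : k, x ^ d0 * y ^ d1 * z ^ d2 = a • (x ^ e0 * y ^ e1 * z ^ e2) ∨
        x ^ e0 * y ^ e1 * z ^ e2 = a • (x ^ d0 * y ^ d1 * z ^ d2) := by
  have hctx := ctx_of p q m hp hpq hcop hnt c hc
  obtain ⟨hg, -, -, -, -, -⟩ := gbt_facts p q m hp hpq hcop hnt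
  have hgz : (0 : ℤ) < (gcdK p q m : ℤ) := by exact_mod_cast hg
  have hp' : (0 : ℤ) < p := by exact_mod_cast hp
  have hpq' : (p : ℤ) < q := by exact_mod_cast hpq
  have hm' : (0 : ℤ) < m := by exact_mod_cast hm
  have hn0 := nN_nonneg p q m hp hpq hcop hnt c hc (i := i) (by omega)
  have hn0' := nN_nonneg p q m hp hpq hcop hnt c hc (i := i - 1) (by omega)
  have he0 := eE_nonneg p q m hp hpq hcop hnt c hc (i := i) (by omega)
  have hl0 := lL_nonneg p q m hp hpq hcop hnt c hc (i := i) (by omega)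
  have hel := eE_sub_lL p q m c i
  have hndef : nN p q m c i = -(p : ℤ) * eE p q m c i + (q : ℤ) * lL p q m c i := rfl
  -- n_{i-1} ≤ N
  have hnN : nN p q m c (i - 1) ≤ (q : ℤ) - p := by
    have h0 : nN p q m c 0 = (q : ℤ) - p := by
      rw [nN_eq p q m hp hpq hcop hnt c 0, sS_zero]
      exact (int_facts' p q m hp hpq hcop hnt).1.symm
    rcases Nat.eq_zero_or_pos (i - 1) with h | h
    · rw [h, h0]
    · rw [← h0, nN_eq p q m hp hpq hcop hnt c (i - 1), nN_eq p q m hp hpq hcop hnt c 0]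
      exact (mul_lt_mul_of_pos_left (hctx.sS_anti h (by omega)) hgz).le
  -- P_i ≥ 1
  have hPi : 1 ≤ hjP c i := by
    obtain ⟨j, rfl⟩ : ∃ j, i = j + 1 := ⟨i - 1, by omega⟩
    have := hctx.P_step j (by omega)
    omega
  obtain ⟨n', hn'⟩ : ∃ n : ℕ, (n : ℤ) = nN p q m c (i - 1) := ⟨_, Int.toNat_of_nonneg hn0'⟩
  obtain ⟨n, hn⟩ : ∃ n : ℕ, (n : ℤ) = nN p q m c i := ⟨_, Int.toNat_of_nonneg hn0⟩
  obtain ⟨E, hE⟩ : ∃ n : ℕ, (n : ℤ) = eE p q m c i := ⟨_, Int.toNat_of_nonneg he0⟩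
  obtain ⟨L, hL⟩ : ∃ n : ℕ, (n : ℤ) = lL p q m c i := ⟨_, Int.toNat_of_nonneg hl0⟩
  have hn'' : (nN p q m c (i - 1)).toNat = n' := by rw [← hn']; simp
  have hnn : (nN p q m c i).toNat = n := by rw [← hn]; simp
  have hEE : (eE p q m c i).toNat = E := by rw [← hE]; simp
  have hLL : (lL p q m c i).toNat = L := by rw [← hL]; simp
  obtain ⟨H1, H2, H3⟩ := H
  rw [hn''] at H1
  rw [hnn, hEE, hLL] at H2
  -- x^a = 0 for a ≥ n'
  have hx0 : ∀ a : ℕ, (n' : ℤ) ≤ a → x ^ a = 0 := by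
    intro a ha
    have : n' ≤ a := by exact_mod_cast ha
    obtain ⟨j, rfl⟩ := Nat.exists_eq_add_of_le this
    rw [pow_add, H1, zero_mul]
  intro u
  induction u using Nat.strong_induction_on with
  | _ u ih =>
  intro d0 d1 d2 e0 e1 e2 hw hu
  have hd0' : (0 : ℤ) ≤ d0 := by positivity
  have hd1' : (0 : ℤ) ≤ d1 := by positivity
  have hd2' : (0 : ℤ) ≤ d2 := by positivity
  have he0' : (0 : ℤ) ≤ e0 := by positivity
  have he1' : (0 : ℤ) ≤ e1 := by positivity
  have he2' : (0 : ℤ) ≤ e2 := by positivity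
  -- y_ = d2 - e2
  set Y : ℤ := (d2 : ℤ) - e2 with hY
  have hδ1 : (d1 : ℤ) - e1 = Y + m * u := by rw [hY]; linarith
  have hδ0 : (d0 : ℤ) - e0 = (p : ℤ) * m * u - ((q : ℤ) - p) * Y := by
    have : (d0 : ℤ) - e0 = p * ((d1 : ℤ) - e1) - q * ((d2 : ℤ) - e2) := by linarith
    rw [this, hδ1, ← hY]; ring
  have hNpos : (0 : ℤ) < (q : ℤ) - p := by linarith
  rcases Nat.eq_zero_or_pos u with hu0 | hupos
  · -- u = 0
    subst hu0
    simp only [Nat.cast_zero, mul_zero, add_zero, zero_sub] at hδ1 hδ0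
    rcases lt_trichotomy Y 0 with hY0 | hY0 | hY0
    · -- d0 ≥ N
      refine ⟨0, Or.inl ?_⟩
      have h1 : ((q : ℤ) - p) * 1 ≤ ((q : ℤ) - p) * (-Y) :=
        mul_le_mul_of_nonneg_left (by linarith) hNpos.le
      rw [hx0 d0 (by rw [hn']; linarith), zero_smul]; ring
    · -- equal
      refine ⟨1, Or.inl ?_⟩
      have a0 : d0 = e0 := by
        have : (d0 : ℤ) = e0 := by rw [hY0] at hδ0; linarith
        exact_mod_cast this
      have a1 : d1 = e1 := by
        have : (d1 : ℤ) = e1 := by rw [hY0] at hδ1; linarith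
        exact_mod_cast this
      have a2 : d2 = e2 := by
        have : (d2 : ℤ) = e2 := by rw [hY] at hY0; linarith
        exact_mod_cast this
      rw [a0, a1, a2, one_smul]
    · refine ⟨0, Or.inr ?_⟩
      have h1 : ((q : ℤ) - p) * 1 ≤ ((q : ℤ) - p) * Y :=
        mul_le_mul_of_nonneg_left (by linarith) hNpos.le
      rw [hx0 e0 (by rw [hn']; linarith), zero_smul]; ring
  · -- u ≥ 1
    have hupos' : (0 : ℤ) < (u : ℤ) := by exact_mod_cast hupos
    have hpmu : (0 : ℤ) < (p : ℤ) * m * u := by positivity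
    rcases lt_or_ge Y 0 with hY0 | hY0
    · -- (a)
      refine ⟨0, Or.inl ?_⟩
      have h1 : ((q : ℤ) - p) * 1 ≤ ((q : ℤ) - p) * (-Y) :=
        mul_le_mul_of_nonneg_left (by linarith) hNpos.le
      rw [hx0 d0 (by rw [hn']; linarith), zero_smul]; ring
    · rcases le_or_gt 0 ((d0 : ℤ) - e0) with hδ0s | hδ0s
      · -- (b)
        refine ⟨0, Or.inl ?_⟩
        obtain ⟨a0, ha0⟩ := Int.eq_ofNat_of_zero_le hδ0s
        obtain ⟨a2, ha2⟩ := Int.eq_ofNat_of_zero_le hY0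
        have hδ1s : 0 ≤ (d1 : ℤ) - e1 := by rw [hδ1]; positivity
        obtain ⟨a1, ha1⟩ := Int.eq_ofNat_of_zero_le hδ1s
        have b0 : d0 = e0 + a0 := by
          have : (d0 : ℤ) = ((e0 + a0 : ℕ) : ℤ) := by push_cast; linarith
          exact_mod_cast this
        have b1 : d1 = e1 + a1 := by
          have : (d1 : ℤ) = ((e1 + a1 : ℕ) : ℤ) := by push_cast; linarith
          exact_mod_cast this
        have b2 : d2 = e2 + a2 := by
          have : (d2 : ℤ) = ((e2 + a2 : ℕ) : ℤ) := by push_cast; linarith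
          exact_mod_cast this
        have hz : x ^ a0 * y ^ a1 * z ^ a2 = 0 := by
          apply H3
          · rintro ⟨-, h, -⟩
            rw [h] at ha1
            have : (0 : ℤ) < Y + m * u := by positivity
            rw [← hδ1, ha1] at this
            simp at this
          · rw [← ha0, ← ha1, ← ha2, hδ1, hδ0]; ring
          · rw [← ha1, ← ha2, hδ1]
            exact ⟨u, by ring⟩
        rw [zero_smul, b0, b1, b2, pow_add, pow_add, pow_add]
        calc x ^ e0 * x ^ a0 * (y ^ e1 * y ^ a1) * (z ^ e2 * z ^ a2)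
            = (x ^ e0 * y ^ e1 * z ^ e2) * (x ^ a0 * y ^ a1 * z ^ a2) := by ring
          _ = 0 := by rw [hz, mul_zero]
      · -- (c)
        by_cases hbig : nN p q m c (i - 1) ≤ ((q : ℤ) - p) * Y - (p : ℤ) * m * u
        · refine ⟨0, Or.inr ?_⟩
          rw [hx0 e0 (by rw [hn']; linarith), zero_smul]; ring
        · push Not at hbig
          obtain ⟨hPu, hlY, heY⟩ := core_pqm p q m hp hpq hcop hnt c hc hi1 (by omega) u Y hupos'
            (by linarith) hbig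
          -- E ≤ d1, L ≤ d2
          obtain ⟨f1, rfl⟩ : ∃ f1, d1 = f1 + E := by
            have : (E : ℤ) ≤ d1 := by rw [hE]; linarith
            have : E ≤ d1 := by exact_mod_cast this
            exact ⟨d1 - E, by omega⟩
          obtain ⟨f2, rfl⟩ : ∃ f2, d2 = f2 + L := by
            have : (L : ℤ) ≤ d2 := by rw [hL]; linarith
            have : L ≤ d2 := by exact_mod_cast this
            exact ⟨d2 - L, by omega⟩
          have hxd : x ^ d0 * y ^ (f1 + E) * z ^ (f2 + L) = s • (x ^ (d0 + n) * y ^ f1 * z ^ f2) := by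
            rw [pow_add, pow_add, pow_add]
            calc x ^ d0 * (y ^ f1 * y ^ E) * (z ^ f2 * z ^ L)
                = (x ^ d0 * y ^ f1 * z ^ f2) * (y ^ E * z ^ L) := by ring
              _ = (x ^ d0 * y ^ f1 * z ^ f2) * (s • x ^ n) := by rw [H2]
              _ = s • (x ^ d0 * x ^ n * y ^ f1 * z ^ f2) := by
                rw [mul_smul_comm]; congr 1; ring
          -- the new pair
          obtain ⟨u', hu'⟩ := Int.eq_ofNat_of_zero_le (sub_nonneg.mpr hPu)
          have hu'lt : u' < u := by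
            have : (u' : ℤ) < u := by rw [← hu']; linarith
            exact_mod_cast this
          have hEL : (E : ℤ) = L + m * hjP c i := by rw [hE, hL, hel]
          have hnEL : (n : ℤ) = -(p : ℤ) * E + q * L := by rw [hn, hE, hL, hndef]
          obtain ⟨a, ha⟩ := ih u' hu'lt (d0 + n) f1 f2 e0 e1 e2
            (by push_cast at hw ⊢; rw [hw, hnEL]; ring)
            (by push_cast at hu ⊢; rw [← hu']; linarith)
          rw [hxd]
          rcases ha with ha | ha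
          · exact ⟨s * a, Or.inl (by rw [ha, smul_smul])⟩
          · by_cases hs0 : s = 0
            · exact ⟨0, Or.inl (by rw [hs0, zero_smul, zero_smul])⟩
            · refine ⟨a * s⁻¹, Or.inr ?_⟩
              have hsa : a * s⁻¹ * s = a := by field_simp
              rw [smul_smul, hsa]
              exact ha

/-- Lemma L in integer form. -/
theorem lemmaL (hp : 0 < p) (hpq : p < q) (hcop : Nat.Coprime p q) (hm : 0 < m)
    (hnt : ¬ (q - p ∣ m)) (hc : IsHJDigits p q m c) (hi1 : 1 ≤ i) (hi : i ≤ c.length)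
    (H : LHyp p q m c i s x y z) (d0 d1 d2 e0 e1 e2 : ℕ)
    (hw : (e0 : ℤ) - (p : ℤ) * e1 + (q : ℤ) * e2 = (d0 : ℤ) - (p : ℤ) * d1 + (q : ℤ) * d2)
    (hdvd : (m : ℤ) ∣ ((d1 : ℤ) - d2) - ((e1 : ℤ) - e2)) :
    ∃ a : k, x ^ d0 * y ^ d1 * z ^ d2 = a • (x ^ e0 * y ^ e1 * z ^ e2) ∨
      x ^ e0 * y ^ e1 * z ^ e2 = a • (x ^ d0 * y ^ d1 * z ^ d2) := by
  obtain ⟨v, hv⟩ := hdvd
  rcases le_total 0 v with h0 | h0
  · obtain ⟨u, rfl⟩ := Int.eq_ofNat_of_zero_le h0
    exact lemmaL_nat hp hpq hcop hm hnt hc hi1 hi H u d0 d1 d2 e0 e1 e2 hw hv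
  · obtain ⟨u, hu⟩ := Int.eq_ofNat_of_zero_le (neg_nonneg.mpr h0)
    obtain ⟨a, ha⟩ := lemmaL_nat hp hpq hcop hm hnt hc hi1 hi H u e0 e1 e2 d0 d1 d2 hw.symm
      (by rw [← hu]; linarith)
    exact ⟨a, ha.symm⟩

end

end Groth.Agent.Lib.Helper79.HJ
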