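import Mathlib
import Groth.Prelude.Def_W4c2invhilbsl2

/-!
Generic tools for the monomial analysis of weight pieces of polynomial rings.
-/

namespace Groth.Agent.Lib.Helper79.Wt

open MvPolynomial W4c2invhilbsl2

universe u

section generic

variable {σ : Type*} {R : Type*} [CommRing R] {M : Type*} [AddCommMonoid M]

/-- A submodule containing all the monomials of weight `ν` contains the weight `ν` piece. -/
theorem le_of_monomials (w : σ → M) (ν : M) (S : Submodule R (MvPolynomial σ R))
    (h : ∀ d : σ →₀ ℕ, Finsupp.weight w d = ν → monomial d (1 : R) ∈ S) :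
    weightedHomogeneousSubmodule R w ν ≤ S := by
  intro f hf
  rw [mem_weightedHomogeneousSubmodule] at hf
  induction hf using IsWeightedHomogeneous.induction_on with
  | zero => exact S.zero_mem
  | add p q hp hq ihp ihq => exact S.add_mem ihp ihq
  | monomial d r hr =>
    have : monomial d r = r • monomial d (1 : R) := by
      rw [smul_monomial, smul_eq_mul, mul_one]
    rw [this]
    exact S.smul_mem r (h d hr)

end generic

section rank

variable {k : Type*} [Field k] {V : Type*} [AddCommGroup V] [Module k V]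

/-- A submodule spanned by pairwise proportional vectors has rank at most one. -/
theorem rank_le_one_of_pairwise (S : Submodule k V) (T : Set V) (hST : S ≤ Submodule.span k T)
    (h : ∀ x ∈ T, ∀ y ∈ T, ∃ c : k, x = c • y ∨ y = c • x) : Module.rank k S ≤ 1 := by
  by_cases h0 : ∀ x ∈ T, x = 0
  · have : S = ⊥ := by
      rw [eq_bot_iff]
      refine hST.trans ?_
      rw [Submodule.span_le]
      intro x hx
      simp [h0 x hx]
    rw [this]
    simp
  · push Not at h0
    obtain ⟨v, hvT, hv0⟩ := h0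
    have hle : S ≤ Submodule.span k {v} := by
      refine hST.trans ?_
      rw [Submodule.span_le]
      intro x hx
      rw [SetLike.mem_coe, Submodule.mem_span_singleton]
      obtain ⟨c, hc | hc⟩ := h x hx v hvT
      · exact ⟨c, hc.symm⟩
      · have hc0 : c ≠ 0 := by
          rintro rfl
          rw [zero_smul] at hc
          exact hv0 hc
        refine ⟨c⁻¹, ?_⟩
        rw [hc, smul_smul, inv_mul_cancel₀ hc0, one_smul]
    calc Module.rank k S ≤ Module.rank k (Submodule.span k {v}) := Submodule.rank_mono hle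
      _ ≤ 1 := by
        have := rank_span_le (R := k) ({v} : Set V)
        simpa using this

variable {σ : Type*} {M : Type*} [AddCommMonoid M]

/-- criterion for `piece` to have rank at most one -/
theorem rank_piece_le_one (w : σ → M) (I : Ideal (MvPolynomial σ k)) (ν : M)
    (h : ∀ d d' : σ →₀ ℕ, Finsupp.weight w d = ν → Finsupp.weight w d' = ν →
      ∃ c : k, Ideal.Quotient.mk I (monomial d 1) = c • Ideal.Quotient.mk I (monomial d' 1) ∨
        Ideal.Quotient.mk I (monomial d' 1) = c • Ideal.Quotient.mk I (monomial d 1)) :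
    Module.rank k (piece k w I ν) ≤ 1 := by
  refine rank_le_one_of_pairwise _
    {x | ∃ d : σ →₀ ℕ, Finsupp.weight w d = ν ∧ x = Ideal.Quotient.mk I (monomial d 1)} ?_ ?_
  · unfold piece
    rw [Submodule.map_le_iff_le_comap]
    apply le_of_monomials
    intro d hd
    rw [Submodule.mem_comap]
    apply Submodule.subset_span
    exact ⟨d, hd, rfl⟩
  · rintro x ⟨d, hd, rfl⟩ y ⟨d', hd', rfl⟩
    exact h d d' hd hd'

end rank

section weights

variable (k : Type*) [Field k] (p q m : ℕ)

theorem weight3 (d : Fin 3 →₀ ℕ) :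
    Finsupp.weight (wt3 p q m) d =
      ((d 0 : ℤ) - p * d 1 + q * d 2, (d 2 : ZMod m) - d 1) := by
  rw [Finsupp.weight_apply, Finsupp.sum_fintype _ _ (by simp)]
  simp [Fin.sum_univ_three, wt3, Prod.ext_iff]
  constructor <;> ring

theorem weight5 (d : Fin 5 →₀ ℕ) :
    Finsupp.weight (wt5 p q m) d =
      ((d 0 : ℤ) - p * (d 1 + d 2) + q * (d 3 + d 4), ((d 3 : ZMod m) + d 4) - (d 1 + d 2)) := by
  rw [Finsupp.weight_apply, Finsupp.sum_fintype _ _ (by simp)]
  simp [Fin.sum_univ_five, wt5, Prod.ext_iff]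
  constructor <;> ring

theorem monomial3 (d : Fin 3 →₀ ℕ) :
    (monomial d (1 : k)) = X 0 ^ d 0 * X 1 ^ d 1 * X 2 ^ d 2 := by
  rw [monomial_eq, Finsupp.prod_fintype _ _ (by simp)]
  simp [Fin.prod_univ_three]

theorem monomial5 (d : Fin 5 →₀ ℕ) :
    (monomial d (1 : k)) = X 0 ^ d 0 * X 1 ^ d 1 * X 2 ^ d 2 * X 3 ^ d 3 * X 4 ^ d 4 := by
  rw [monomial_eq, Finsupp.prod_fintype _ _ (by simp)]
  simp [Fin.prod_univ_five]

noncomputable def vec3 (a b c : ℕ) : Fin 3 →₀ ℕ := Finsupp.equivFunOnFinite.symm ![a, b, c]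
@[simp] theorem vec3_0 (a b c : ℕ) : vec3 a b c 0 = a := rfl
@[simp] theorem vec3_1 (a b c : ℕ) : vec3 a b c 1 = b := rfl
@[simp] theorem vec3_2 (a b c : ℕ) : vec3 a b c 2 = c := rfl

noncomputable def vec5 (a b c d e : ℕ) : Fin 5 →₀ ℕ := Finsupp.equivFunOnFinite.symm ![a, b, c, d, e]
@[simp] theorem vec5_0 (a b c d e : ℕ) : vec5 a b c d e 0 = a := rfl
@[simp] theorem vec5_1 (a b c d e : ℕ) : vec5 a b c d e 1 = b := rfl
@[simp] theorem vec5_2 (a b c d e : ℕ) : vec5 a b c d e 2 = c := rfl
@[simp] theorem vec5_3 (a b c d e : ℕ) : vec5 a b c d e 3 = d := rfl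
@[simp] theorem vec5_4 (a b c d e : ℕ) : vec5 a b c d e 4 = e := rfl

theorem mono3_mem (a b c : ℕ) (ν : ℤ × ZMod m)
    (h1 : (a : ℤ) - p * b + q * c = ν.1) (h2 : (c : ZMod m) - b = ν.2) :
    (X 0 ^ a * X 1 ^ b * X 2 ^ c : MvPolynomial (Fin 3) k) ∈
      weightedHomogeneousSubmodule k (wt3 p q m) ν := by
  have := monomial3 k (vec3 a b c)
  simp only [vec3_0, vec3_1, vec3_2] at this
  rw [← this, mem_weightedHomogeneousSubmodule]
  apply isWeightedHomogeneous_monomial
  rw [weight3]
  simp only [vec3_0, vec3_1, vec3_2]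
  exact Prod.ext h1 h2

theorem mono5_mem (a b c d e : ℕ) (ν : ℤ × ZMod m)
    (h1 : (a : ℤ) - p * (b + c) + q * (d + e) = ν.1) (h2 : ((d : ZMod m) + e) - (b + c) = ν.2) :
    (X 0 ^ a * X 1 ^ b * X 2 ^ c * X 3 ^ d * X 4 ^ e : MvPolynomial (Fin 5) k) ∈
      weightedHomogeneousSubmodule k (wt5 p q m) ν := by
  have := monomial5 k (vec5 a b c d e)
  simp only [vec5_0, vec5_1, vec5_2, vec5_3, vec5_4] at this
  rw [← this, mem_weightedHomogeneousSubmodule]
  apply isWeightedHomogeneous_monomial
  rw [weight5]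
  simp only [vec5_0, vec5_1, vec5_2, vec5_3, vec5_4]
  exact Prod.ext h1 h2

end weights

end Groth.Agent.Lib.Helper79.Wt
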