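import Groth.Agent.Lib.Helper79.LemmaL
import Groth.Agent.Lib.Helper79.Wt

/-!
The rank bound for the weight pieces of `k[X₀,X₁,X₂] / L^{(i)}_s`.
-/

namespace Groth.Agent.Lib.Helper79.HJ

open W4c2invhilbsl2 MvPolynomial

theorem lhyp_quot (k : Type*) [Field k] (p q m : ℕ) (c : List ℤ) (i : ℕ) (s : k) :
    LHyp p q m c i s
      (Ideal.Quotient.mk (idealL k p q m c i s) (X 0))
      (Ideal.Quotient.mk (idealL k p q m c i s) (X 1))
      (Ideal.Quotient.mk (idealL k p q m c i s) (X 2)) := by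
  set I := idealL k p q m c i s with hI
  refine ⟨?_, ?_, ?_⟩
  · rw [← map_pow]
    apply Ideal.Quotient.eq_zero_iff_mem.mpr
    exact Ideal.mem_sup_left (Ideal.subset_span (by simp))
  · have : ∀ r : MvPolynomial (Fin 3) k ⧸ I, s • r = Ideal.Quotient.mk I (C s) * r := by
      intro r
      exact (Algebra.smul_def s r).trans rfl
    rw [this, ← map_pow, ← map_pow, ← map_pow, ← map_mul, ← map_mul, eq_comm, ← sub_eq_zero,
      ← map_sub]
    apply Ideal.Quotient.eq_zero_iff_mem.mpr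
    exact Ideal.mem_sup_left (Ideal.subset_span (by simp))
  · intro a0 a1 a2 hne hw hdvd
    rw [← map_pow, ← map_pow, ← map_pow, ← map_mul, ← map_mul]
    apply Ideal.Quotient.eq_zero_iff_mem.mpr
    apply Ideal.mem_sup_right
    apply Ideal.subset_span
    refine ⟨Wt.vec3 a0 a1 a2, ?_, ?_, ?_⟩
    · intro h0
      apply hne
      have e0 : Wt.vec3 a0 a1 a2 0 = 0 := by rw [h0]; rfl
      have e1 : Wt.vec3 a0 a1 a2 1 = 0 := by rw [h0]; rfl
      have e2 : Wt.vec3 a0 a1 a2 2 = 0 := by rw [h0]; rfl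
      simp only [Wt.vec3_0, Wt.vec3_1, Wt.vec3_2] at e0 e1 e2
      exact ⟨e0, e1, e2⟩
    · rw [Wt.weight3]
      simp only [Wt.vec3_0, Wt.vec3_1, Wt.vec3_2]
      refine Prod.ext hw ?_
      have := (ZMod.intCast_zmod_eq_zero_iff_dvd ((a1 : ℤ) - a2) m).mpr hdvd
      push_cast at this
      show (a2 : ZMod m) - a1 = 0
      linear_combination -this
    · have := Wt.monomial3 k (Wt.vec3 a0 a1 a2)
      simp only [Wt.vec3_0, Wt.vec3_1, Wt.vec3_2] at this
      exact this.symm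

theorem rank_piece_idealL_le_one (k : Type*) [Field k] (p q m : ℕ) (hp : 0 < p) (hpq : p < q)
    (hcop : Nat.Coprime p q) (hm : 0 < m) (hnt : ¬ (q - p ∣ m)) (c : List ℤ)
    (hc : IsHJDigits p q m c) (i : ℕ) (hi : 1 ≤ i) (hir : i ≤ c.length) (s : k) (ν : ℤ × ZMod m) :
    Module.rank k (piece k (wt3 p q m) (idealL k p q m c i s) ν) ≤ 1 := by
  classical
  apply Wt.rank_piece_le_one
  intro d d' hd hd'
  rw [Wt.weight3, Prod.ext_iff] at hd hd'
  obtain ⟨h1, h2⟩ := hd
  obtain ⟨h1', h2'⟩ := hd'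
  simp only at h1 h2 h1' h2'
  rw [Wt.monomial3, Wt.monomial3]
  simp only [map_mul, map_pow]
  apply lemmaL hp hpq hcop hm hnt hc hi hir (lhyp_quot k p q m c i s)
  · rw [h1, h1']
  · rw [← ZMod.intCast_zmod_eq_zero_iff_dvd]
    push_cast
    linear_combination h2' - h2

end Groth.Agent.Lib.Helper79.HJ
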