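import Mathlib.Algebra.Category.ModuleCat.Abelian
import Mathlib.Algebra.Category.ModuleCat.Limits
import Mathlib.CategoryTheory.Limits.Types.Pullbacks
import Mathlib.CategoryTheory.Limits.Shapes.Pullback.IsPullback.Basic
import Mathlib.LinearAlgebra.Quotient.Basic

/-!
# Pullback squares of modules, elementwise
-/

namespace Groth.Agent.Lib.Helper79

open CategoryTheory CategoryTheory.Limits

universe u v

/-- Elementwise criterion for a commutative square in `ModuleCat` to be cartesian. -/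
theorem moduleCat_isPullback_of_forall {R : Type u} [Ring R] {X₁ X₂ X₃ X₄ : ModuleCat.{v} R}
    (t : X₁ ⟶ X₂) (l : X₁ ⟶ X₃) (r : X₂ ⟶ X₄) (b : X₃ ⟶ X₄)
    (w : t ≫ r = l ≫ b)
    (hinj : ∀ x : X₁, t.hom x = 0 → l.hom x = 0 → x = 0)
    (hsurj : ∀ (x₂ : X₂) (x₃ : X₃), r.hom x₂ = b.hom x₃ → ∃ x₁ : X₁, t.hom x₁ = x₂ ∧ l.hom x₁ = x₃) :
    IsPullback t l r b := by
  apply IsPullback.of_map (forget (ModuleCat.{v} R)) w
  rw [Types.isPullback_iff]
  refine ⟨?_, ?_, ?_⟩
  · rw [← Functor.map_comp, ← Functor.map_comp, w]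
  · rintro x₁ y₁ ⟨h₁, h₂⟩
    have h₁' : t.hom x₁ = t.hom y₁ := h₁
    have h₂' : l.hom x₁ = l.hom y₁ := h₂
    have := hinj (x₁ - y₁) (by rw [map_sub, h₁', sub_self]) (by rw [map_sub, h₂', sub_self])
    exact sub_eq_zero.mp this
  · intro x₂ x₃ h
    exact hsurj x₂ x₃ h

/-- The square of quotient maps `M/(P ⊓ Q)`, `M/P`, `M/Q`, `M/(P ⊔ Q)` is cartesian. -/
theorem isPullback_quotient_inf_sup (A : Type u) [Ring A] (M : Type v) [AddCommGroup M] [Module A M]
    (P Q : Submodule A M) :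
    IsPullback (ModuleCat.ofHom (Submodule.factor (inf_le_left : P ⊓ Q ≤ P)))
      (ModuleCat.ofHom (Submodule.factor (inf_le_right : P ⊓ Q ≤ Q)))
      (ModuleCat.ofHom (Submodule.factor (le_sup_left : P ≤ P ⊔ Q)))
      (ModuleCat.ofHom (Submodule.factor (le_sup_right : Q ≤ P ⊔ Q))) := by
  apply moduleCat_isPullback_of_forall
  · ext x
    simp
  · intro x h₁ h₂
    obtain ⟨m, rfl⟩ := Submodule.mkQ_surjective _ x
    simp only [ModuleCat.hom_ofHom, Submodule.mkQ_apply, Submodule.factor, Submodule.mapQ_apply,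
      LinearMap.id_coe, id_eq, Submodule.Quotient.mk_eq_zero] at h₁ h₂ ⊢
    exact ⟨h₁, h₂⟩
  · intro x₂ x₃ h
    obtain ⟨m₂, rfl⟩ := Submodule.mkQ_surjective _ x₂
    obtain ⟨m₃, rfl⟩ := Submodule.mkQ_surjective _ x₃
    simp only [ModuleCat.hom_ofHom, Submodule.mkQ_apply, Submodule.factor, Submodule.mapQ_apply,
      LinearMap.id_coe, id_eq] at h
    rw [Submodule.Quotient.eq, Submodule.mem_sup] at h
    obtain ⟨p, hp, q, hq, hpq⟩ := h
    refine ⟨Submodule.Quotient.mk (m₂ - p), ?_, ?_⟩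
    · simp only [ModuleCat.hom_ofHom, Submodule.mkQ_apply, Submodule.factor, Submodule.mapQ_apply,
        LinearMap.id_coe, id_eq]
      rw [Submodule.Quotient.eq]
      simpa using P.neg_mem hp
    · simp only [ModuleCat.hom_ofHom, Submodule.mkQ_apply, Submodule.factor, Submodule.mapQ_apply,
        LinearMap.id_coe, id_eq]
      rw [Submodule.Quotient.eq]
      have : m₂ - p - m₃ = q := by
        have h' : m₂ - p - m₃ = (m₂ - m₃) - p := by abel
        rw [h', ← hpq]; abel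
      rw [this]; exact hq

end Groth.Agent.Lib.Helper79
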