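import Mathlib

/-!
Monomial identities in a commutative algebra whose generators satisfy binomial relations.
-/

namespace Groth.Agent.Lib.Helper79.Mono

section ring

variable {R : Type*} [CommRing R]

theorem mem_F_step (x y z : R) (N e0 d1 d2 j : ℕ) :
    x ^ (e0 + N * j) * y ^ d1 * z ^ d2 - x ^ e0 * y ^ (d1 + j) * z ^ (d2 + j) ∈
      Ideal.span {x ^ N - y * z} := by
  have h : x ^ (e0 + N * j) * y ^ d1 * z ^ d2 - x ^ e0 * y ^ (d1 + j) * z ^ (d2 + j) =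
      (x ^ e0 * y ^ d1 * z ^ d2) * ((x ^ N) ^ j - (y * z) ^ j) := by
    rw [pow_add, pow_add, pow_add, pow_mul, mul_pow]; ring
  rw [h]
  obtain ⟨w, hw⟩ := sub_dvd_pow_sub_pow (x ^ N) (y * z) j
  rw [hw]
  exact Ideal.mul_mem_left _ _ (Ideal.mul_mem_right _ _ (Ideal.subset_span rfl))

theorem mem_F (x y z : R) (p q : ℕ) (hpq : p < q) (d0 d1 d2 e0 e1 e2 : ℕ)
    (hn : (e0 : ℤ) - (p : ℤ) * e1 + (q : ℤ) * e2 = (d0 : ℤ) - (p : ℤ) * d1 + (q : ℤ) * d2)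
    (hc : (d1 : ℤ) - d2 = (e1 : ℤ) - e2) :
    x ^ d0 * y ^ d1 * z ^ d2 - x ^ e0 * y ^ e1 * z ^ e2 ∈ Ideal.span {x ^ (q - p) - y * z} := by
  have hpq' : p ≤ q := hpq.le
  rcases le_total d2 e2 with h | h
  · obtain ⟨j, rfl⟩ := Nat.exists_eq_add_of_le h
    have he1 : e1 = d1 + j := by push_cast at hc; omega
    subst he1
    have hd0 : d0 = e0 + (q - p) * j := by
      zify [hpq']
      push_cast at hn
      linarith
    subst hd0
    exact mem_F_step x y z (q - p) e0 d1 d2 j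
  · obtain ⟨j, rfl⟩ := Nat.exists_eq_add_of_le h
    have hd1 : d1 = e1 + j := by push_cast at hc; omega
    subst hd1
    have he0 : e0 = d0 + (q - p) * j := by
      zify [hpq']
      push_cast at hn
      linarith
    subst he0
    have := mem_F_step x y z (q - p) d0 e1 e2 j
    have h2 := (Ideal.span {x ^ (q - p) - y * z}).neg_mem this
    convert h2 using 1
    ring

/-- if `x^(q-p) = y z` then monomials with the same `n` and `c` agree -/
theorem eq_of_same (x y z : R) (p q : ℕ) (hpq : p < q) (hxyz : x ^ (q - p) = y * z)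
    (d0 d1 d2 e0 e1 e2 : ℕ)
    (hn : (e0 : ℤ) - (p : ℤ) * e1 + (q : ℤ) * e2 = (d0 : ℤ) - (p : ℤ) * d1 + (q : ℤ) * d2)
    (hc : (d1 : ℤ) - d2 = (e1 : ℤ) - e2) :
    x ^ d0 * y ^ d1 * z ^ d2 = x ^ e0 * y ^ e1 * z ^ e2 := by
  have := mem_F x y z p q hpq d0 d1 d2 e0 e1 e2 hn hc
  rw [hxyz, sub_self] at this
  have h0 : Ideal.span {(0 : R)} = ⊥ := by simp
  rw [h0, Ideal.mem_bot, sub_eq_zero] at this
  exact this

end ring

section algebra

variable {k : Type*} [Field k] {R : Type*} [CommRing R] [Algebra k R]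

/-- Lemma I (one direction): if the `c`-value of `e` exceeds that of `d` by a non-negative multiple
of `m`, then `x^e = s^t • x^d`. -/
theorem lemmaI_aux (x y z : R) (p q m : ℕ) (hpq : p < q) (s : k)
    (hxyz : x ^ (q - p) = y * z) (hs : x ^ (m * p) * y ^ m = algebraMap k R s)
    (d0 d1 d2 e0 e1 e2 : ℕ) (t : ℕ)
    (hn : (e0 : ℤ) - (p : ℤ) * e1 + (q : ℤ) * e2 = (d0 : ℤ) - (p : ℤ) * d1 + (q : ℤ) * d2)
    (hc : (e1 : ℤ) - e2 = (d1 : ℤ) - d2 + (m : ℤ) * t) :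
    x ^ e0 * y ^ e1 * z ^ e2 = s ^ t • (x ^ d0 * y ^ d1 * z ^ d2) := by
  have h1 : x ^ e0 * y ^ e1 * z ^ e2 = x ^ (d0 + m * p * t) * y ^ (d1 + m * t) * z ^ d2 := by
    apply eq_of_same x y z p q hpq hxyz
    · push_cast; linarith
    · push_cast; linarith
  rw [h1, Algebra.smul_def, map_pow, ← hs, pow_add, pow_add, pow_mul, pow_mul y, mul_pow]
  ring

/-- Lemma I: proportionality of monomials of the same weight. -/
theorem lemmaI (x y z : R) (p q m : ℕ) (hpq : p < q) (s : k)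
    (hxyz : x ^ (q - p) = y * z) (hs : x ^ (m * p) * y ^ m = algebraMap k R s)
    (d0 d1 d2 e0 e1 e2 : ℕ)
    (hn : (e0 : ℤ) - (p : ℤ) * e1 + (q : ℤ) * e2 = (d0 : ℤ) - (p : ℤ) * d1 + (q : ℤ) * d2)
    (hc : (m : ℤ) ∣ ((e1 : ℤ) - e2) - ((d1 : ℤ) - d2)) :
    ∃ c : k, x ^ d0 * y ^ d1 * z ^ d2 = c • (x ^ e0 * y ^ e1 * z ^ e2) ∨
      x ^ e0 * y ^ e1 * z ^ e2 = c • (x ^ d0 * y ^ d1 * z ^ d2) := by
  obtain ⟨u, hu⟩ := hc
  rcases le_total 0 u with h0 | h0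
  · obtain ⟨t, rfl⟩ := Int.eq_ofNat_of_zero_le h0
    exact ⟨s ^ t, Or.inr (lemmaI_aux x y z p q m hpq s hxyz hs d0 d1 d2 e0 e1 e2 t hn
      (by linarith))⟩
  · obtain ⟨t, ht⟩ := Int.eq_ofNat_of_zero_le (neg_nonneg.mpr h0)
    exact ⟨s ^ t, Or.inl (lemmaI_aux x y z p q m hpq s hxyz hs e0 e1 e2 d0 d1 d2 t hn.symm
      (by rw [← ht]; linarith))⟩

end algebra

end Groth.Agent.Lib.Helper79.Mono
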