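import Mathlib

/-!
# Invariants of homogeneous localizations under a finite group action
-/

set_option autoImplicit false
open HomogeneousLocalization
universe u

namespace Groth.Agent.Lib.Helper79.ProjQuotAlg

variable {R A : Type u} [CommRing R] [CommRing A] [Algebra R A] (𝒜 : ℕ → Submodule R A)
  [GradedAlgebra 𝒜] {G : Type u} [Group G] [MulSemiringAction G A]
  (hGdeg : ∀ (σ : G) (i : ℕ) (a : A), a ∈ 𝒜 i → σ • a ∈ 𝒜 i)

/-- the graded ring endomorphism of a group element. -/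
def sigmaG (σ : G) : GradedRingHom 𝒜 𝒜 where
  toRingHom := MulSemiringAction.toRingHom G A σ
  map_mem {i x} hx := hGdeg σ i x hx

@[simp]
theorem sigmaG_apply (σ : G) (a : A) : sigmaG 𝒜 hGdeg σ a = σ • a := rfl

theorem powers_le_comap (f : A) (hf : ∀ σ : G, σ • f = f) (σ : G) :
    Submonoid.powers f ≤ (Submonoid.powers f).comap (sigmaG 𝒜 hGdeg σ) := by
  rintro _ ⟨n, rfl⟩
  exact ⟨n, by show f ^ n = σ • (f ^ n); rw [smul_pow', hf]⟩

/-- the action of a group element on the homogeneous localization at an invariant element. -/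
def actHom (f : A) (hf : ∀ σ : G, σ • f = f) (σ : G) : Away 𝒜 f →+* Away 𝒜 f :=
  HomogeneousLocalization.map (sigmaG 𝒜 hGdeg σ) (powers_le_comap 𝒜 hGdeg f hf σ)

theorem val_actHom_mk (f : A) (hf : ∀ σ : G, σ • f = f) (σ : G) {d : ℕ} (hfd : f ∈ 𝒜 d) (n : ℕ)
    (a : A) (ha : a ∈ 𝒜 (n • d)) :
    (actHom 𝒜 hGdeg f hf σ (Away.mk 𝒜 hfd n a ha)).val =
      Localization.mk (σ • a) (⟨f ^ n, ⟨n, rfl⟩⟩ : Submonoid.powers f) := by
  have hmem : σ • (f ^ n) ∈ Submonoid.powers f :=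
    powers_le_comap 𝒜 hGdeg f hf σ (⟨n, rfl⟩ : f ^ n ∈ Submonoid.powers f)
  have h1 : (actHom 𝒜 hGdeg f hf σ (Away.mk 𝒜 hfd n a ha)).val =
      Localization.mk (σ • a) (⟨σ • (f ^ n), hmem⟩ : Submonoid.powers f) := rfl
  rw [h1]
  congr 1
  apply Subtype.ext
  show σ • (f ^ n) = f ^ n
  rw [smul_pow', hf]

theorem actHom_mk (f : A) (hf : ∀ σ : G, σ • f = f) (σ : G) {d : ℕ} (hfd : f ∈ 𝒜 d) (n : ℕ)
    (a : A) (ha : a ∈ 𝒜 (n • d)) :
    actHom 𝒜 hGdeg f hf σ (Away.mk 𝒜 hfd n a ha) =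
      Away.mk 𝒜 hfd n (σ • a) (hGdeg σ _ a ha) := by
  apply val_injective
  rw [val_actHom_mk, Away.val_mk]

theorem val_actHom (f : A) (hf : ∀ σ : G, σ • f = f) (σ : G) (c : NumDenSameDeg 𝒜 (Submonoid.powers f)) :
    (actHom 𝒜 hGdeg f hf σ (HomogeneousLocalization.mk c)).val =
      Localization.mk (σ • (c.num : A)) (⟨σ • (c.den : A),
        powers_le_comap 𝒜 hGdeg f hf σ c.den_mem⟩ : Submonoid.powers f) := rfl

theorem actHom_one (f : A) (hf : ∀ σ : G, σ • f = f) :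
    actHom 𝒜 hGdeg f hf 1 = RingHom.id _ := by
  apply RingHom.ext
  intro x
  obtain ⟨c, rfl⟩ := HomogeneousLocalization.mk_surjective x
  apply val_injective
  rw [val_actHom, RingHom.id_apply, val_mk]
  congr 1
  · exact one_smul G _
  · apply Subtype.ext
    exact one_smul G _

theorem actHom_mul (f : A) (hf : ∀ σ : G, σ • f = f) (σ τ : G) :
    actHom 𝒜 hGdeg f hf (σ * τ) = (actHom 𝒜 hGdeg f hf σ).comp (actHom 𝒜 hGdeg f hf τ) := by
  apply RingHom.ext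
  intro x
  obtain ⟨c, rfl⟩ := HomogeneousLocalization.mk_surjective x
  apply val_injective
  have h2 : actHom 𝒜 hGdeg f hf τ (HomogeneousLocalization.mk c) =
      HomogeneousLocalization.mk ⟨c.deg, ⟨τ • (c.num : A), hGdeg τ _ _ c.num.2⟩,
        ⟨τ • (c.den : A), hGdeg τ _ _ c.den.2⟩,
        (show τ • (c.den : A) ∈ Submonoid.powers f from
          powers_le_comap 𝒜 hGdeg f hf τ c.den_mem)⟩ := rfl
  rw [RingHom.comp_apply, h2, val_actHom, val_actHom]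
  congr 1
  · exact mul_smul σ τ _
  · apply Subtype.ext
    exact mul_smul σ τ _

/-- the action as a monoid hom into the ring endomorphisms. -/
def actMonoidHom (f : A) (hf : ∀ σ : G, σ • f = f) : G →* (Away 𝒜 f →+* Away 𝒜 f) where
  toFun := actHom 𝒜 hGdeg f hf
  map_one' := actHom_one 𝒜 hGdeg f hf
  map_mul' := actHom_mul 𝒜 hGdeg f hf

/-- the induced action on the homogeneous localization at an invariant element. -/
@[reducible]
def awayAction (f : A) (hf : ∀ σ : G, σ • f = f) : MulSemiringAction G (Away 𝒜 f) :=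
  MulSemiringAction.compHom _ (actMonoidHom 𝒜 hGdeg f hf)

theorem awayAction_smul (f : A) (hf : ∀ σ : G, σ • f = f) (σ : G) (x : Away 𝒜 f) :
    letI := awayAction 𝒜 hGdeg f hf
    σ • x = actHom 𝒜 hGdeg f hf σ x := rfl

section invariants

variable {C : Type u} [CommRing C] [Algebra R C] (𝒞 : ℕ → Submodule R C) [GradedAlgebra 𝒞]
  (ι : C →ₐ[R] A)
  (hιdeg : ∀ (i : ℕ) (a : A), a ∈ (𝒞 i).map ι.toLinearMap ↔ (a ∈ 𝒜 i ∧ ∀ σ : G, σ • a = a))

include hιdeg in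
theorem iota_mem {i : ℕ} {c : C} (hc : c ∈ 𝒞 i) : ι c ∈ 𝒜 i :=
  ((hιdeg i (ι c)).mp (Submodule.mem_map_of_mem hc)).1

include hιdeg in
theorem iota_inv {i : ℕ} {c : C} (hc : c ∈ 𝒞 i) (σ : G) : σ • ι c = ι c :=
  ((hιdeg i (ι c)).mp (Submodule.mem_map_of_mem hc)).2 σ

/-- the graded ring hom underlying `ι`. -/
def iotaG : GradedRingHom 𝒞 𝒜 where
  toRingHom := ι.toRingHom
  map_mem {_ _} hx := iota_mem 𝒜 𝒞 ι hιdeg hx

/-- the induced map on homogeneous localizations. -/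
def theta (c : C) : Away 𝒞 c →+* Away 𝒜 (ι c) :=
  Away.map (iotaG 𝒜 𝒞 ι hιdeg) c

theorem theta_mk {n : ℕ} (c : C) (hc : c ∈ 𝒞 n) (k : ℕ) (x : C) (hx : x ∈ 𝒞 (k • n)) :
    theta 𝒜 𝒞 ι hιdeg c (Away.mk 𝒞 hc k x hx) =
      Away.mk 𝒜 (iota_mem 𝒜 𝒞 ι hιdeg hc) k (ι x) (iota_mem 𝒜 𝒞 ι hιdeg hx) :=
  Away.map_mk (iotaG 𝒜 𝒞 ι hιdeg) c hc k x hx

theorem mk_eq_mk_of_pow_mul {S : Type*} [CommRing S] (f : S) (a b : S) (k l m : ℕ)
    (h : f ^ m * (f ^ l * a) = f ^ m * (f ^ k * b)) :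
    Localization.mk a (⟨f ^ k, ⟨k, rfl⟩⟩ : Submonoid.powers f) =
      Localization.mk b (⟨f ^ l, ⟨l, rfl⟩⟩ : Submonoid.powers f) := by
  rw [Localization.mk_eq_mk_iff, Localization.r_iff_exists]
  exact ⟨⟨f ^ m, ⟨m, rfl⟩⟩, h⟩

theorem exists_pow_mul_of_mk_eq_mk {S : Type*} [CommRing S] (f : S) (a b : S) (k l : ℕ)
    (h : Localization.mk a (⟨f ^ k, ⟨k, rfl⟩⟩ : Submonoid.powers f) =
      Localization.mk b (⟨f ^ l, ⟨l, rfl⟩⟩ : Submonoid.powers f)) :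
    ∃ m : ℕ, f ^ m * (f ^ l * a) = f ^ m * (f ^ k * b) := by
  rw [Localization.mk_eq_mk_iff, Localization.r_iff_exists] at h
  obtain ⟨⟨_, m, rfl⟩, hm⟩ := h
  exact ⟨m, hm⟩

include hιdeg in
theorem theta_injective (hι : Function.Injective ι) {n : ℕ} (c : C) (hc : c ∈ 𝒞 n) :
    Function.Injective (theta 𝒜 𝒞 ι hιdeg c) := by
  rw [injective_iff_map_eq_zero]
  intro y hy
  obtain ⟨k, x, hx, rfl⟩ := Away.mk_surjective 𝒞 hc y
  rw [theta_mk] at hy
  have h1 := congrArg HomogeneousLocalization.val hy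
  rw [Away.val_mk, HomogeneousLocalization.val_zero, ← Localization.mk_zero
    (⟨(ι c) ^ 0, ⟨0, rfl⟩⟩ : Submonoid.powers (ι c))] at h1
  obtain ⟨m, hm⟩ := exists_pow_mul_of_mk_eq_mk (ι c) _ _ _ _ h1
  apply val_injective
  rw [Away.val_mk, HomogeneousLocalization.val_zero, ← Localization.mk_zero
    (⟨c ^ 0, ⟨0, rfl⟩⟩ : Submonoid.powers c)]
  refine mk_eq_mk_of_pow_mul c _ _ _ _ m ?_
  apply hι
  simp only [map_mul, map_pow, map_zero]
  simpa using hm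

include hιdeg in
theorem exists_of_invariant [Finite G] {n : ℕ} (c : C) (hc : c ∈ 𝒞 n) (x : Away 𝒜 (ι c))
    (hx : ∀ σ : G, actHom 𝒜 hGdeg (ι c) (iota_inv 𝒜 𝒞 ι hιdeg hc) σ x = x) :
    ∃ y : Away 𝒞 c, theta 𝒜 𝒞 ι hιdeg c y = x := by
  classical
  cases nonempty_fintype G
  have hfd : ι c ∈ 𝒜 n := iota_mem 𝒜 𝒞 ι hιdeg hc
  obtain ⟨k, b, hb, rfl⟩ := Away.mk_surjective 𝒜 hfd x
  -- for each σ, a power of `ι c` kills `σ b - b`
  have h1 : ∀ σ : G, ∃ m : ℕ, (ι c) ^ m * ((ι c) ^ k * (σ • b)) = (ι c) ^ m * ((ι c) ^ k * b) := by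
    intro σ
    have h2 := congrArg HomogeneousLocalization.val (hx σ)
    rw [val_actHom_mk, Away.val_mk] at h2
    exact exists_pow_mul_of_mk_eq_mk (ι c) _ _ _ _ h2
  choose m hm using h1
  let N : ℕ := (Finset.univ.sup m) + k
  have hN : ∀ σ : G, (ι c) ^ N * (σ • b) = (ι c) ^ N * b := by
    intro σ
    have hle : m σ ≤ Finset.univ.sup m := Finset.le_sup (Finset.mem_univ σ)
    obtain ⟨e, he⟩ := Nat.exists_eq_add_of_le hle
    have : (ι c) ^ N = (ι c) ^ e * ((ι c) ^ (m σ) * (ι c) ^ k) := by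
      show (ι c) ^ ((Finset.univ.sup m) + k) = _
      rw [he, ← pow_add, ← pow_add]
      congr 1
      omega
    rw [this, mul_assoc, mul_assoc, mul_assoc, mul_assoc, hm σ]
  -- the invariant numerator
  have hb' : (ι c) ^ N * b ∈ 𝒜 ((N + k) • n) := by
    rw [add_smul]
    exact SetLike.mul_mem_graded (SetLike.pow_mem_graded N hfd) hb
  have hinv : ∀ σ : G, σ • ((ι c) ^ N * b) = (ι c) ^ N * b := by
    intro σ
    rw [smul_mul', smul_pow', iota_inv 𝒜 𝒞 ι hιdeg hc σ, hN σ]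
  obtain ⟨c'', hc'', hc''eq⟩ := (hιdeg ((N + k) • n) _).mpr ⟨hb', hinv⟩
  have hc''eq' : ι c'' = (ι c) ^ N * b := hc''eq
  refine ⟨Away.mk 𝒞 hc (N + k) c'' hc'', ?_⟩
  rw [theta_mk]
  apply val_injective
  rw [Away.val_mk, Away.val_mk]
  refine mk_eq_mk_of_pow_mul (ι c) _ _ _ _ 0 ?_
  rw [hc''eq']
  ring

end invariants

end Groth.Agent.Lib.Helper79.ProjQuotAlg
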