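import Mathlib

/-!
# Homogeneous invariants avoiding a prime (via the characteristic polynomial of the action)
-/

set_option autoImplicit false
open Polynomial
universe u

namespace Groth.Agent.Lib.Helper79.ProjQuotPoly

variable {R A : Type u} [CommRing R] [CommRing A] [Algebra R A] (𝒜 : ℕ → Submodule R A)
  [GradedAlgebra 𝒜]

/-- coefficients of a product of `X - C b` with all `b` homogeneous of degree `d`. -/
theorem coeff_prod_mem {ι : Type*} (s : Finset ι) (b : ι → A) (d : ℕ) (hb : ∀ i ∈ s, b i ∈ 𝒜 d) :
    (∏ i ∈ s, (X - C (b i))).natDegree ≤ s.card ∧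
      ∀ j, j ≤ s.card → (∏ i ∈ s, (X - C (b i))).coeff j ∈ 𝒜 ((s.card - j) • d) := by
  classical
  induction s using Finset.induction_on with
  | empty =>
    refine ⟨by simp, ?_⟩
    intro j hj
    have : j = 0 := by simpa using hj
    subst this
    simp only [Finset.prod_empty, coeff_one_zero, Finset.card_empty, le_refl, tsub_eq_zero_of_le,
      zero_smul]
    exact SetLike.GradedOne.one_mem
  | insert a s ha ih =>
    obtain ⟨ih1, ih2⟩ := ih (fun i hi => hb i (Finset.mem_insert_of_mem hi))
    have hba : b a ∈ 𝒜 d := hb a (Finset.mem_insert_self a s)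
    rw [Finset.prod_insert ha, Finset.card_insert_of_notMem ha]
    constructor
    · refine (natDegree_mul_le).trans ?_
      have : (X - C (b a)).natDegree ≤ 1 := natDegree_X_sub_C_le _
      omega
    · intro j hj
      rw [sub_mul, coeff_sub, coeff_C_mul]
      apply Submodule.sub_mem
      · rcases j with _ | j'
        · rw [coeff_X_mul_zero]
          exact zero_mem _
        · rw [coeff_X_mul]
          have := ih2 j' (by omega)
          have e : s.card + 1 - (j' + 1) = s.card - j' := by omega
          rw [e]
          exact this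
      · by_cases hjs : j ≤ s.card
        · have := SetLike.mul_mem_graded hba (ih2 j hjs)
          have e : (s.card + 1 - j) • d = d + (s.card - j) • d := by
            have : s.card + 1 - j = (s.card - j) + 1 := by omega
            rw [this, add_smul, one_smul, add_comm]
          rw [e]
          exact this
        · have : (∏ i ∈ s, (X - C (b i))).coeff j = 0 :=
            coeff_eq_zero_of_natDegree_lt (by omega)
          rw [this, mul_zero]
          exact zero_mem _

/-- a homogeneous element of positive degree outside a prime has a homogeneous invariant of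
positive degree outside that prime. -/
theorem exists_invariant_notMem {G : Type*} [Group G] [Finite G] [MulSemiringAction G A]
    (hGdeg : ∀ (σ : G) (i : ℕ) (a : A), a ∈ 𝒜 i → σ • a ∈ 𝒜 i)
    (P : Ideal A) [P.IsPrime] {d : ℕ} (hd : 0 < d) (b : A) (hb : b ∈ 𝒜 d) (hbP : b ∉ P) :
    ∃ (e : ℕ) (_ : 0 < e) (a : A), a ∈ 𝒜 e ∧ (∀ σ : G, σ • a = a) ∧ a ∉ P := by
  classical
  cases nonempty_fintype G
  haveI : Nontrivial A := nontrivial_of_ne b 0 (fun h => hbP (h ▸ P.zero_mem))
  by_contra hcon
  push Not at hcon
  have hF := coeff_prod_mem 𝒜 (Finset.univ : Finset G) (fun σ => σ • b) d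
    (fun σ _ => hGdeg σ d b hb)
  have hFe : (∏ σ : G, (X - C (σ • b))) = MulSemiringAction.charpoly G b := rfl
  rw [hFe] at hF
  obtain ⟨hdeg, hcoeff⟩ := hF
  have hmonic := MulSemiringAction.monic_charpoly G b
  have hnat : (MulSemiringAction.charpoly G b).natDegree = Fintype.card G := by
    rw [MulSemiringAction.charpoly_eq, natDegree_prod_of_monic _ _ (fun _ _ => monic_X_sub_C _)]
    simp [natDegree_X_sub_C]
  have hev := MulSemiringAction.eval_charpoly G b
  rw [eval_eq_sum_range, hnat, Finset.sum_range_succ] at hev
  have hlead : (MulSemiringAction.charpoly G b).coeff (Fintype.card G) = 1 := by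
    rw [← hnat]; exact hmonic.coeff_natDegree
  rw [hlead, one_mul] at hev
  have hsum : ∑ j ∈ Finset.range (Fintype.card G),
      (MulSemiringAction.charpoly G b).coeff j * b ^ j ∈ P := by
    refine Ideal.sum_mem _ fun j hj => ?_
    have hj' : j < Fintype.card G := Finset.mem_range.1 hj
    refine Ideal.mul_mem_right _ _ ?_
    refine hcon ((Fintype.card G - j) • d) ?_ _ (by
      have := hcoeff j (by rw [Finset.card_univ]; omega)
      rwa [Finset.card_univ] at this) (fun σ => MulSemiringAction.smul_coeff_charpoly b j σ)
    have : 0 < Fintype.card G - j := by omega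
    exact Nat.mul_pos this hd
  have hpow : b ^ Fintype.card G ∈ P := by
    have : b ^ Fintype.card G = -∑ j ∈ Finset.range (Fintype.card G),
        (MulSemiringAction.charpoly G b).coeff j * b ^ j := by
      rw [eq_neg_iff_add_eq_zero, add_comm]; exact hev
    rw [this]
    exact P.neg_mem hsum
  exact hbP (Ideal.IsPrime.mem_of_pow_mem inferInstance _ hpow)

end Groth.Agent.Lib.Helper79.ProjQuotPoly
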