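import Groth.Prelude.Def_SGA1
import Groth.Agent.Lib.Helper79.ProjQuotAlg
import Groth.Agent.Lib.Helper79.ProjQuotPoly
import Groth.Agent.Lib.Helper79.QuotLocal
import Groth.Agent.Lib.Helper79.QuotTransport
import Groth.Agent.Lib.Helper79.RestrictAut
import Groth.Agent.S12059
import Mathlib

/-!
# `Proj B ⟶ Proj B^G` is a quotient
-/

set_option autoImplicit false
open CategoryTheory CategoryTheory.Limits AlgebraicGeometry HomogeneousLocalization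
universe u

namespace Groth.Agent.Lib.Helper79.ProjQuotGeom

open Groth.Agent.Lib.Helper79.ProjQuotAlg Groth.Agent.Lib.Helper79.ProjQuotPoly
  Groth.Agent.Lib.Helper79.RestrictAut Groth.Agent.Lib.Helper79.QuotTransport

section compat

variable {A B : Type u} [CommRing A] [CommRing B] {σA : Type*} {σB : Type*}
  [SetLike σA A] [AddSubgroupClass σA A] [SetLike σB B] [AddSubgroupClass σB B]
  {𝒜 : ℕ → σA} {ℬ : ℕ → σB} [GradedRing 𝒜] [GradedRing ℬ]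

/-- the map on homogeneous localizations is compatible with the map on localizations. -/
theorem val_map (g : GradedRingHom 𝒜 ℬ) (P : Submonoid A) (Q : Submonoid B)
    (hle : P ≤ Q.comap g) (x : HomogeneousLocalization 𝒜 P) :
    (HomogeneousLocalization.map g hle x).val =
      IsLocalization.map (Localization Q) g.toRingHom hle x.val := by
  obtain ⟨c, rfl⟩ := HomogeneousLocalization.mk_surjective x
  have h1 : (HomogeneousLocalization.map g hle (HomogeneousLocalization.mk c)).val =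
      Localization.mk (g c.num) ⟨g c.den, hle c.den_mem⟩ := rfl
  rw [h1, val_mk, Localization.mk_eq_mk', Localization.mk_eq_mk']
  exact (IsLocalization.map_mk' (S := Localization P) (Q := Localization Q) (g := g.toRingHom)
    (hy := hle) (c.num : A) ⟨c.den, c.den_mem⟩).symm

theorem compat_away (g : GradedRingHom 𝒜 ℬ) (f : A) :
    (algebraMap (Away ℬ (g f)) (Localization.Away (g f))).comp (Away.map g f) =
      (Localization.awayMap g.toRingHom f).comp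
        (algebraMap (Away 𝒜 f) (Localization.Away f)) := by
  apply RingHom.ext
  intro x
  exact val_map g _ _ _ x

end compat

section main

variable {R A : Type u} [CommRing R] [CommRing A] [Algebra R A] (𝒜 : ℕ → Submodule R A)
  [GradedAlgebra 𝒜] {G : Type u} [Group G] [MulSemiringAction G A]
  (hGdeg : ∀ (σ : G) (i : ℕ) (a : A), a ∈ 𝒜 i → σ • a ∈ 𝒜 i)
  {C : Type u} [CommRing C] [Algebra R C] (𝒞 : ℕ → Submodule R C) [GradedAlgebra 𝒞]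
  (ι : C →ₐ[R] A)
  (hιdeg : ∀ (i : ℕ) (a : A), a ∈ (𝒞 i).map ι.toLinearMap ↔ (a ∈ 𝒜 i ∧ ∀ σ : G, σ • a = a))
  (ρ : G →* Aut (Proj 𝒜))
  (hρ : ∀ (σ : G) (n : ℕ) (f : A) (hn : 0 < n) (hf : f ∈ 𝒜 n)
    (θ : CommRingCat.of (HomogeneousLocalization.Away 𝒜 f) ⟶
      CommRingCat.of (HomogeneousLocalization.Away 𝒜 (σ • f))),
    (algebraMap (HomogeneousLocalization.Away 𝒜 (σ • f)) (Localization.Away (σ • f))).comp θ.hom =
      (Localization.awayMap (MulSemiringAction.toRingHom G A σ) f).comp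
        (algebraMap (HomogeneousLocalization.Away 𝒜 f) (Localization.Away f)) →
    Proj.awayι 𝒜 (σ • f) (hGdeg σ n f hf) hn ≫ (ρ σ).inv = Spec.map θ ≫ Proj.awayι 𝒜 f hf hn)
  (π : Proj 𝒜 ⟶ Proj 𝒞)
  (hπ : ∀ (n : ℕ) (c : C) (hn : 0 < n) (hc : c ∈ 𝒞 n)
    (θ : CommRingCat.of (HomogeneousLocalization.Away 𝒞 c) ⟶
      CommRingCat.of (HomogeneousLocalization.Away 𝒜 (ι c))),
    (algebraMap (HomogeneousLocalization.Away 𝒜 (ι c)) (Localization.Away (ι c))).comp θ.hom =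
      (Localization.awayMap ι.toRingHom c).comp
        (algebraMap (HomogeneousLocalization.Away 𝒞 c) (Localization.Away c)) →
    Proj.awayι 𝒜 (ι c) ((hιdeg n (ι c)).mp (Submodule.mem_map_of_mem hc)).1 hn ≫ π =
      Spec.map θ ≫ Proj.awayι 𝒞 c hc hn)

include hπ in
/-- the chart description of `π`. -/
theorem awayι_π {n : ℕ} (c : C) (hn : 0 < n) (hc : c ∈ 𝒞 n) :
    Proj.awayι 𝒜 (ι c) (iota_mem 𝒜 𝒞 ι hιdeg hc) hn ≫ π =
      Spec.map (CommRingCat.ofHom (theta 𝒜 𝒞 ι hιdeg c)) ≫ Proj.awayι 𝒞 c hc hn :=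
  hπ n c hn hc (CommRingCat.ofHom (theta 𝒜 𝒞 ι hιdeg c))
    (compat_away (iotaG 𝒜 𝒞 ι hιdeg) c)

include hρ in
/-- the chart description of `ρ` on the basic open of an invariant element. -/
theorem awayι_ρ_inv {n : ℕ} (f : A) (hf_inv : ∀ σ : G, σ • f = f) (hn : 0 < n) (hf : f ∈ 𝒜 n)
    (σ : G) :
    Proj.awayι 𝒜 f hf hn ≫ (ρ σ).inv =
      Spec.map (CommRingCat.ofHom (actHom 𝒜 hGdeg f hf_inv σ)) ≫ Proj.awayι 𝒜 f hf hn := by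
  have gen : ∀ (f' : A) (e : σ • f = f') (hf' : f' ∈ 𝒜 n)
      (θ : CommRingCat.of (HomogeneousLocalization.Away 𝒜 f) ⟶
        CommRingCat.of (HomogeneousLocalization.Away 𝒜 f'))
      (hle : Submonoid.powers f ≤
        (Submonoid.powers f').comap (MulSemiringAction.toRingHom G A σ)),
      (algebraMap (HomogeneousLocalization.Away 𝒜 f') (Localization.Away f')).comp θ.hom =
        (IsLocalization.map (Localization.Away f') (MulSemiringAction.toRingHom G A σ) hle).comp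
          (algebraMap (HomogeneousLocalization.Away 𝒜 f) (Localization.Away f)) →
      Proj.awayι 𝒜 f' hf' hn ≫ (ρ σ).inv = Spec.map θ ≫ Proj.awayι 𝒜 f hf hn := by
    intro f' e hf' θ hle h
    subst e
    exact hρ σ n f hn hf θ h
  refine gen f (hf_inv σ) hf (CommRingCat.ofHom (actHom 𝒜 hGdeg f hf_inv σ))
    (powers_le_comap 𝒜 hGdeg f hf_inv σ) ?_
  apply RingHom.ext
  intro x
  exact val_map (sigmaG 𝒜 hGdeg σ) _ _ (powers_le_comap 𝒜 hGdeg f hf_inv σ) x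

omit [MulSemiringAction G A] in
theorem range_awayι {m : ℕ} (f : A) (hf : f ∈ 𝒜 m) (hm : 0 < m) :
    Set.range (Proj.awayι 𝒜 f hf hm).base = (Proj.basicOpen 𝒜 f : Set (Proj 𝒜)) :=
  congrArg (fun U : (Proj 𝒜).Opens => (U : Set (Proj 𝒜))) (Proj.opensRange_awayι 𝒜 f hf hm)

include hιdeg hGdeg in
/-- the basic opens of the invariants cover `Proj 𝒜`. -/
theorem exists_invariant_basicOpen [Finite G] (x : Proj 𝒜) :
    ∃ (n : ℕ) (_ : 0 < n) (c : C) (_ : c ∈ 𝒞 n), x ∈ Proj.basicOpen 𝒜 (ι c) := by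
  obtain ⟨s, hx'⟩ : ∃ s : (Σ i : PNat, 𝒜 i), x ∈ Proj.basicOpen 𝒜 (s.2 : A) := by
    refine ⟨(Proj.affineOpenCover 𝒜).idx x, ?_⟩
    have h1 := (Proj.affineOpenCover 𝒜).covers x
    have h2 := range_awayι 𝒜 (((Proj.affineOpenCover 𝒜).idx x).2 : A)
      ((Proj.affineOpenCover 𝒜).idx x).2.2 ((Proj.affineOpenCover 𝒜).idx x).1.2
    have h3 : x ∈ Set.range (Proj.awayι 𝒜 (((Proj.affineOpenCover 𝒜).idx x).2 : A)
      ((Proj.affineOpenCover 𝒜).idx x).2.2 ((Proj.affineOpenCover 𝒜).idx x).1.2).base := h1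
    rw [h2] at h3
    exact h3
  rw [Proj.mem_basicOpen] at hx'
  haveI : (x.asHomogeneousIdeal.toIdeal).IsPrime := x.isPrime
  obtain ⟨e, he, a, hae, hainv, haP⟩ := exists_invariant_notMem 𝒜 hGdeg
    x.asHomogeneousIdeal.toIdeal s.1.2 (s.2 : A) s.2.2 hx'
  obtain ⟨c, hc, hca⟩ := (hιdeg e a).mpr ⟨hae, hainv⟩
  have hca' : ι c = a := hca
  refine ⟨e, he, c, hc, ?_⟩
  rw [Proj.mem_basicOpen, hca']
  exact haP

theorem theta_isLocalizationElem {n n' : ℕ} (c c' : C) (hc : c ∈ 𝒞 n) (hc' : c' ∈ 𝒞 n') :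
    theta 𝒜 𝒞 ι hιdeg c' (Away.isLocalizationElem hc' hc) =
      Away.isLocalizationElem (iota_mem 𝒜 𝒞 ι hιdeg hc') (iota_mem 𝒜 𝒞 ι hιdeg hc) := by
  unfold Away.isLocalizationElem
  rw [theta_mk]
  apply val_injective
  rw [Away.val_mk, Away.val_mk, map_pow]

include hπ hGdeg in
/-- the preimage of a basic open under `π`. -/
theorem π_preimage_basicOpen [Finite G] {n : ℕ} (c : C) (hn : 0 < n) (hc : c ∈ 𝒞 n) :
    π ⁻¹ᵁ Proj.basicOpen 𝒞 c = Proj.basicOpen 𝒜 (ι c) := by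
  ext x
  obtain ⟨n', hn', c', hc', hx⟩ := exists_invariant_basicOpen 𝒜 hGdeg 𝒞 ι hιdeg x
  rw [← Proj.opensRange_awayι 𝒜 (ι c') (iota_mem 𝒜 𝒞 ι hιdeg hc') hn'] at hx
  obtain ⟨x', rfl⟩ := hx
  have h1 : (Proj.awayι 𝒜 (ι c') (iota_mem 𝒜 𝒞 ι hιdeg hc') hn').base x' ∈
      π ⁻¹ᵁ Proj.basicOpen 𝒞 c ↔
      x' ∈ (Proj.awayι 𝒜 (ι c') (iota_mem 𝒜 𝒞 ι hιdeg hc') hn' ≫ π) ⁻¹ᵁ
        Proj.basicOpen 𝒞 c := Iff.rfl
  have h2 : (Proj.awayι 𝒜 (ι c') (iota_mem 𝒜 𝒞 ι hιdeg hc') hn').base x' ∈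
      Proj.basicOpen 𝒜 (ι c) ↔
      x' ∈ (Proj.awayι 𝒜 (ι c') (iota_mem 𝒜 𝒞 ι hιdeg hc') hn') ⁻¹ᵁ
        Proj.basicOpen 𝒜 (ι c) := Iff.rfl
  show _ ∈ π ⁻¹ᵁ Proj.basicOpen 𝒞 c ↔ _ ∈ Proj.basicOpen 𝒜 (ι c)
  rw [h1, h2, awayι_π 𝒜 𝒞 ι hιdeg π hπ c' hn' hc', Scheme.Hom.comp_preimage,
    Proj.awayι_preimage_basicOpen 𝒞 hc' hn' hc hn,
    Proj.awayι_preimage_basicOpen 𝒜 (iota_mem 𝒜 𝒞 ι hιdeg hc') hn'
      (iota_mem 𝒜 𝒞 ι hιdeg hc) hn, SpecMap_preimage_basicOpen,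
    ← theta_isLocalizationElem 𝒜 𝒞 ι hιdeg c c' hc hc']
  rfl

include hιdeg in
theorem actHom_theta {n : ℕ} (c : C) (hc : c ∈ 𝒞 n) (σ : G) (y : Away 𝒞 c) :
    actHom 𝒜 hGdeg (ι c) (iota_inv 𝒜 𝒞 ι hιdeg hc) σ (theta 𝒜 𝒞 ι hιdeg c y) =
      theta 𝒜 𝒞 ι hιdeg c y := by
  obtain ⟨k, x, hx, rfl⟩ := Away.mk_surjective 𝒞 hc y
  rw [theta_mk, actHom_mk]
  congr 1
  exact iota_inv 𝒜 𝒞 ι hιdeg hx σ

include hρ hπ hGdeg in
theorem ρ_inv_π [Finite G] (σ : G) : (ρ σ).inv ≫ π = π := by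
  apply Scheme.hom_ext_of_forall
  intro x
  obtain ⟨n, hn, c, hc, hx⟩ := exists_invariant_basicOpen 𝒜 hGdeg 𝒞 ι hιdeg x
  refine ⟨Proj.basicOpen 𝒜 (ι c), hx, ?_⟩
  have hfd := iota_mem 𝒜 𝒞 ι hιdeg hc
  rw [← cancel_epi (Proj.basicOpenIsoSpec 𝒜 (ι c) hfd hn).inv, ← Category.assoc,
    ← Category.assoc (Proj.basicOpenIsoSpec 𝒜 (ι c) hfd hn).inv, Proj.basicOpenIsoSpec_inv_ι,
    ← Category.assoc, awayι_ρ_inv 𝒜 hGdeg ρ hρ (ι c) (iota_inv 𝒜 𝒞 ι hιdeg hc) hn hfd σ,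
    Category.assoc, awayι_π 𝒜 𝒞 ι hιdeg π hπ c hn hc, ← Category.assoc, ← Spec.map_comp]
  congr 2
  apply CommRingCat.hom_ext
  apply RingHom.ext
  intro y
  exact actHom_theta 𝒜 hGdeg 𝒞 ι hιdeg c hc σ y

include hρ hπ hGdeg in
theorem ρ_hom_π [Finite G] (σ : G) : (ρ σ).hom ≫ π = π := by
  have h := ρ_inv_π 𝒜 hGdeg 𝒞 ι hιdeg ρ hρ π hπ σ⁻¹
  have e : (ρ σ⁻¹).inv = (ρ σ).hom := by
    rw [map_inv]
    rfl
  rwa [e] at h

include hρ hπ hGdeg in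
theorem isQuot_restrict [Finite G] (hι : Function.Injective ι) {n : ℕ} (c : C) (hn : 0 < n)
    (hc : c ∈ 𝒞 n) :
    ∃ ρU : G →* Aut (π ⁻¹ᵁ Proj.basicOpen 𝒞 c).toScheme,
      (∀ g : G, (ρU g).hom ≫ (π ⁻¹ᵁ Proj.basicOpen 𝒞 c).ι =
        (π ⁻¹ᵁ Proj.basicOpen 𝒞 c).ι ≫ (ρ g).hom) ∧
        SGA1.IsQuot ρU (π ∣_ Proj.basicOpen 𝒞 c) := by
  have hinv := ρ_hom_π 𝒜 hGdeg 𝒞 ι hιdeg ρ hρ π hπ
  have hfd := iota_mem 𝒜 𝒞 ι hιdeg hc
  have hfinv := iota_inv 𝒜 𝒞 ι hιdeg hc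
  have hstab : ∀ (g : G) (x : Proj 𝒜), x ∈ π ⁻¹ᵁ Proj.basicOpen 𝒞 c →
      (ρ g).hom.base x ∈ π ⁻¹ᵁ Proj.basicOpen 𝒞 c := by
    intro g x hx
    show π.base ((ρ g).hom.base x) ∈ Proj.basicOpen 𝒞 c
    rw [← Scheme.Hom.comp_apply, hinv g]
    exact hx
  refine ⟨restrictAut ρ _ hstab, restrictAut_ι ρ _ hstab, ?_⟩
  -- the two chart isomorphisms
  obtain ⟨a, ha⟩ : ∃ a : (π ⁻¹ᵁ Proj.basicOpen 𝒞 c).toScheme ≅
      Spec (CommRingCat.of (Away 𝒜 (ι c))),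
      a.hom ≫ Proj.awayι 𝒜 (ι c) hfd hn = (π ⁻¹ᵁ Proj.basicOpen 𝒞 c).ι := by
    refine ⟨(Proj 𝒜).isoOfEq (π_preimage_basicOpen 𝒜 hGdeg 𝒞 ι hιdeg π hπ c hn hc) ≪≫
      Proj.basicOpenIsoSpec 𝒜 (ι c) hfd hn, ?_⟩
    rw [Iso.trans_hom, Category.assoc, ← Proj.basicOpenIsoSpec_inv_ι, Iso.hom_inv_id_assoc,
      Scheme.isoOfEq_hom_ι]
  have ha' : a.inv ≫ (π ⁻¹ᵁ Proj.basicOpen 𝒞 c).ι = Proj.awayι 𝒜 (ι c) hfd hn := by
    rw [← ha, Iso.inv_hom_id_assoc]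
  obtain ⟨b, hb⟩ : ∃ b : Spec (CommRingCat.of (Away 𝒞 c)) ≅ (Proj.basicOpen 𝒞 c).toScheme,
      b.hom ≫ (Proj.basicOpen 𝒞 c).ι = Proj.awayι 𝒞 c hc hn :=
    ⟨(Proj.basicOpenIsoSpec 𝒞 c hc hn).symm, Proj.basicOpenIsoSpec_inv_ι 𝒞 c hc hn⟩
  -- the algebraic data
  letI : Algebra (Away 𝒞 c) (Away 𝒜 (ι c)) := (theta 𝒜 𝒞 ι hιdeg c).toAlgebra
  letI : MulSemiringAction G (Away 𝒜 (ι c)) := awayAction 𝒜 hGdeg (ι c) hfinv
  haveI : SMulCommClass G (Away 𝒞 c) (Away 𝒜 (ι c)) := ⟨fun g y x => by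
    show actHom 𝒜 hGdeg (ι c) hfinv g (theta 𝒜 𝒞 ι hιdeg c y * x) =
      theta 𝒜 𝒞 ι hιdeg c y * actHom 𝒜 hGdeg (ι c) hfinv g x
    rw [map_mul, actHom_theta 𝒜 hGdeg 𝒞 ι hιdeg c hc]⟩
  haveI : Algebra.IsInvariant (Away 𝒞 c) (Away 𝒜 (ι c)) G :=
    ⟨fun x hx => exists_of_invariant 𝒜 hGdeg 𝒞 ι hιdeg c hc x hx⟩
  haveI : FaithfulSMul (Away 𝒞 c) (Away 𝒜 (ι c)) :=
    (faithfulSMul_iff_algebraMap_injective _ _).mpr (theta_injective 𝒜 𝒞 ι hιdeg hι c hc)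
  -- the transported action
  let ρS : G →* Aut (Spec (CommRingCat.of (Away 𝒜 (ι c)))) :=
    (a.conjAut).toMonoidHom.comp (restrictAut ρ _ hstab)
  have hρS : ∀ g : G, (ρS g).hom = a.inv ≫ (restrictAut ρ _ hstab g).hom ≫ a.hom := fun g => rfl
  have hρS' : ∀ g : G, (ρS g).hom =
      Spec.map (CommRingCat.ofHom (actHom 𝒜 hGdeg (ι c) hfinv g⁻¹)) := by
    intro g
    have e : (ρ g⁻¹).inv = (ρ g).hom := by
      rw [map_inv]
      rfl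
    rw [← cancel_mono (Proj.awayι 𝒜 (ι c) hfd hn), hρS, Category.assoc, Category.assoc, ha,
      restrictAut_ι, ← Category.assoc, ha',
      ← awayι_ρ_inv 𝒜 hGdeg ρ hρ (ι c) hfinv hn hfd g⁻¹, e]
  have htoRingHom : ∀ g : G, MulSemiringAction.toRingHom G (Away 𝒜 (ι c)) g =
      actHom 𝒜 hGdeg (ι c) hfinv g := fun g => rfl
  have hrange : Set.range (fun g : G => (ρS g).hom) =
      Set.range (fun g : G => Spec.map (CommRingCat.ofHom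
        (MulSemiringAction.toRingHom G (Away 𝒜 (ι c)) g))) := by
    ext m
    constructor
    · rintro ⟨g, rfl⟩
      exact ⟨g⁻¹, by show Spec.map _ = (ρS g).hom; rw [hρS' g, htoRingHom]⟩
    · rintro ⟨g, rfl⟩
      exact ⟨g⁻¹, by show (ρS g⁻¹).hom = Spec.map _; rw [hρS' g⁻¹, inv_inv, htoRingHom]⟩
  have hQ := Groth.Agent.S12059.result G (Away 𝒜 (ι c)) (Away 𝒞 c) ρS hrange
  have hfac : π ∣_ Proj.basicOpen 𝒞 c =
      a.hom ≫ Spec.map (CommRingCat.ofHom (algebraMap (Away 𝒞 c) (Away 𝒜 (ι c)))) ≫ b.hom := by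
    rw [← cancel_mono (Proj.basicOpen 𝒞 c).ι]
    simp only [Category.assoc]
    rw [morphismRestrict_ι, hb]
    show _ = a.hom ≫ Spec.map (CommRingCat.ofHom (theta 𝒜 𝒞 ι hιdeg c)) ≫ Proj.awayι 𝒞 c hc hn
    rw [← awayι_π 𝒜 𝒞 ι hιdeg π hπ c hn hc, ← Category.assoc, ha]
  rw [hfac]
  refine isQuot_iso_comp ρS _ (isQuot_comp_iso ρS _ hQ b.hom) a.hom _ ?_
  intro g
  rw [hρS, Iso.hom_inv_id_assoc]

include hρ hπ hGdeg in
/-- `Proj 𝒜 ⟶ Proj 𝒞` is a quotient by `G`. -/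
theorem isQuot_proj [Finite G] (hι : Function.Injective ι) : SGA1.IsQuot ρ π := by
  refine Groth.Agent.Lib.Helper79.QuotLocal.isQuot_of_openCover ρ π
    (ρ_hom_π 𝒜 hGdeg 𝒞 ι hιdeg ρ hρ π hπ)
    (fun s : (Σ i : PNat, 𝒞 i) => Proj.basicOpen 𝒞 (s.2 : C)) ?_ ?_
  · rw [eq_top_iff]
    intro x _
    have h1 := (Proj.affineOpenCover 𝒞).covers x
    have h2 := range_awayι 𝒞 (((Proj.affineOpenCover 𝒞).idx x).2 : C)
      ((Proj.affineOpenCover 𝒞).idx x).2.2 ((Proj.affineOpenCover 𝒞).idx x).1.2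
    have h3 : x ∈ Set.range (Proj.awayι 𝒞 (((Proj.affineOpenCover 𝒞).idx x).2 : C)
      ((Proj.affineOpenCover 𝒞).idx x).2.2 ((Proj.affineOpenCover 𝒞).idx x).1.2).base := h1
    rw [h2] at h3
    exact TopologicalSpace.Opens.mem_iSup.2 ⟨(Proj.affineOpenCover 𝒞).idx x, h3⟩
  · intro s
    exact isQuot_restrict 𝒜 hGdeg 𝒞 ι hιdeg ρ hρ π hπ hι (s.2 : C) s.1.2 s.2.2

end main

end Groth.Agent.Lib.Helper79.ProjQuotGeom
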