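import Mathlib
import Groth.Prelude.Def_SgaExt
import Groth.Agent.Lib.Helper79.PtBound1

/-!
# Point-count bound for schemes of finite type over a finite field (helper79)
-/

set_option linter.style.haveILetI false

namespace Groth.Agent.Lib.Helper79.PtBound

open AlgebraicGeometry CategoryTheory

universe u

variable {k : Type u} [Field k]

/-- the set of `k'`-points of a `k`-scheme -/
abbrev Pts {X : Scheme.{u}} (f : X ⟶ Spec (CommRingCat.of k)) (k' : Type u) [Field k']
    [Algebra k k'] : Type u :=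
  { g : Spec (CommRingCat.of k') ⟶ X //
    g ≫ f = Spec.map (CommRingCat.ofHom (algebraMap k k')) }

/-- the affine piece: bound for `Spec R` -/
theorem affine_bound (R : CommRingCat.{u}) (h : Spec R ⟶ Spec (CommRingCat.of k))
    [LocallyOfFiniteType h] (r : ℕ) (hr : ringKrullDim R ≤ r) :
    ∃ c : ℕ, ∀ (k' : Type u) [Field k'] [Algebra k k'] [Finite k'],
      Finite (Pts h k') ∧ Nat.card (Pts h k') ≤ c * Nat.card k' ^ r := by
  letI : Algebra k R := (Spec.preimage h).hom.toAlgebra
  have hft : Algebra.FiniteType k R := by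
    have h1 : LocallyOfFiniteType (Spec.map (Spec.preimage h)) := by
      rw [Spec.map_preimage]; infer_instance
    rw [HasRingHomProperty.Spec_iff (P := @LocallyOfFiniteType)] at h1
    exact h1
  obtain ⟨c, hc⟩ := card_algHom_le (k := k) R r hr
  refine ⟨c, fun k' _ _ _ => ?_⟩
  haveI : Finite (R →ₐ[k] k') := finite_algHom R k'
  let Φ : Pts h k' → (R →ₐ[k] k') := fun g =>
    { toRingHom := (Spec.preimage g.1).hom
      commutes' := fun x => by
        have h1 : Spec.map (Spec.preimage h ≫ Spec.preimage g.1) =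
            Spec.map (CommRingCat.ofHom (algebraMap k k')) := by
          rw [Spec.map_comp, Spec.map_preimage, Spec.map_preimage]
          exact g.2
        have h2 := Spec.map_injective h1
        exact congrArg (fun q => q.hom x) h2 }
  have hΦ : Function.Injective Φ := by
    intro g g' hgg
    apply Subtype.ext
    have h1 : (Spec.preimage g.1).hom = (Spec.preimage g'.1).hom :=
      congrArg (fun q : R →ₐ[k] k' => q.toRingHom) hgg
    have h2 : Spec.preimage g.1 = Spec.preimage g'.1 := CommRingCat.hom_ext h1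
    rw [← Spec.map_preimage g.1, h2, Spec.map_preimage]
  exact ⟨Finite.of_injective Φ hΦ, (Nat.card_le_card_of_injective Φ hΦ).trans (hc k')⟩

/-- the points of `X` are covered by the points of the members of an open cover -/
theorem card_pts_le_sum {X : Scheme.{u}} (f : X ⟶ Spec (CommRingCat.of k)) {ι : Type*} [Fintype ι]
    (Y : ι → Scheme.{u}) (j : ∀ i, Y i ⟶ X) [∀ i, IsOpenImmersion (j i)]
    (hcov : ∀ x : X, ∃ i, x ∈ Set.range (j i))
    (k' : Type u) [Field k'] [Algebra k k'] (hfin : ∀ i, Finite (Pts (j i ≫ f) k')) :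
    Finite (Pts f k') ∧ Nat.card (Pts f k') ≤ ∑ i, Nat.card (Pts (j i ≫ f) k') := by
  let Ψ : (Σ i, Pts (j i ≫ f) k') → Pts f k' := fun p =>
    ⟨p.2.1 ≫ j p.1, by rw [Category.assoc]; exact p.2.2⟩
  have hΨ : Function.Surjective Ψ := by
    intro g
    let pt : Spec (CommRingCat.of k') := ⟨⊥, Ideal.isPrime_bot⟩
    obtain ⟨i, hi⟩ := hcov (g.1 pt)
    have hsub : Set.range g.1 ⊆ Set.range (j i) := by
      rintro _ ⟨y, rfl⟩
      have : y = pt := @Subsingleton.elim _ (inferInstanceAs (Subsingleton (PrimeSpectrum k'))) _ _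
      rw [this]; exact hi
    refine ⟨⟨i, ⟨IsOpenImmersion.lift (j i) g.1 hsub, ?_⟩⟩, ?_⟩
    · rw [← Category.assoc, IsOpenImmersion.lift_fac]; exact g.2
    · apply Subtype.ext
      exact IsOpenImmersion.lift_fac _ _ _
  haveI : Finite (Σ i, Pts (j i ≫ f) k') := inferInstance
  refine ⟨Finite.of_surjective Ψ hΨ, ?_⟩
  refine (Nat.card_le_card_of_surjective Ψ hΨ).trans ?_
  rw [Nat.card_sigma]

theorem exists_pointCount_le [Finite k] {X : Scheme.{u}}
    (f : X ⟶ Spec (CommRingCat.of k)) [LocallyOfFiniteType f] [QuasiCompact f] (r : ℕ)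
    (hr : topologicalKrullDim X ≤ r) :
    ∃ c : ℕ, ∀ (k' : Type u) [Field k'] [Algebra k k'] [Finite k'],
      SgaExt.pointCount f k' ≤ c * Nat.card k ^ (r * Module.finrank k k') := by
  classical
  have : CompactSpace X := QuasiCompact.compactSpace_of_compactSpace f
  have hex : ∀ x : X, ∃ U : X.Opens, IsAffineOpen U ∧ x ∈ U := by
    intro x
    obtain ⟨_, ⟨U, hU, rfl⟩, hxU, -⟩ :=
      X.isBasis_affineOpens.exists_subset_of_mem_open (Set.mem_univ x) isOpen_univ
    exact ⟨U, hU, hxU⟩
  choose U hU hxU using hex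
  obtain ⟨t, -, ht⟩ := isCompact_univ.elim_nhds_subcover (fun x => ((U x : X.Opens) : Set X))
    (fun x _ => (U x).2.mem_nhds (hxU x))
  have hdim : ∀ y : X, ringKrullDim Γ(X, U y) ≤ r := by
    intro y
    rw [← PrimeSpectrum.topologicalKrullDim_eq_ringKrullDim Γ(X, U y)]
    change topologicalKrullDim (Spec Γ(X, U y)) ≤ r
    rw [← IsHomeomorph.topologicalKrullDim_eq _ (hU y).isoSpec.hom.homeomorph.isHomeomorph]
    exact (topologicalKrullDim_subspace_le X (U y)).trans hr
  have hb : ∀ y : X, ∃ c : ℕ, ∀ (k' : Type u) [Field k'] [Algebra k k'] [Finite k'],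
      Finite (Pts ((hU y).fromSpec ≫ f) k') ∧
        Nat.card (Pts ((hU y).fromSpec ≫ f) k') ≤ c * Nat.card k' ^ r :=
    fun y => affine_bound Γ(X, U y) ((hU y).fromSpec ≫ f) r (hdim y)
  choose c hc using hb
  refine ⟨∑ y : t, c y.1, fun k' _ _ _ => ?_⟩
  have hcov : ∀ x : X, ∃ i : t, x ∈ Set.range ((hU i.1).fromSpec) := by
    intro x
    have := ht (Set.mem_univ x)
    simp only [Set.mem_iUnion] at this
    obtain ⟨y, hy, hxy⟩ := this
    refine ⟨⟨y, hy⟩, ?_⟩
    rw [(hU y).range_fromSpec]
    exact hxy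
  have h1 := card_pts_le_sum f (fun i : t => Spec Γ(X, U i.1)) (fun i => (hU i.1).fromSpec) hcov k'
    (fun i => (hc i.1 k').1)
  unfold SgaExt.pointCount
  refine h1.2.trans ?_
  rw [Finset.sum_mul]
  refine Finset.sum_le_sum fun i _ => ?_
  refine ((hc i.1 k').2).trans ?_
  haveI : Module.Finite k k' := Module.Finite.of_finite
  rw [Module.natCard_eq_pow_finrank (K := k) (V := k'), ← pow_mul, mul_comm r]

end Groth.Agent.Lib.Helper79.PtBound
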