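import Mathlib

/-!
# Invariants commute with flat base change (algebra)
-/

set_option autoImplicit false
set_option linter.style.haveILetI false
universe u

open TensorProduct

namespace Groth.Agent.Lib.Helper79.QuotFlatAlg

theorem alg_core {A B A' B' : Type u} [CommRing A] [CommRing B] [CommRing A'] [CommRing B']
    [Algebra A B] [Algebra A A'] [Algebra B B'] [Algebra A' B'] [Algebra A B']
    [IsScalarTower A B B'] [IsScalarTower A A' B']
    [Algebra.IsPushout A A' B B'] [Module.Flat A A']
    {G : Type*} [Finite G] (a : G → (B →+* B)) (a' : G → (B' →+* B'))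
    (ha : ∀ g x, a g (algebraMap A B x) = algebraMap A B x)
    (ha'β : ∀ g b, a' g (algebraMap B B' b) = algebraMap B B' (a g b))
    (ha'φ : ∀ g x, a' g (algebraMap A' B' x) = algebraMap A' B' x)
    (hinj : Function.Injective (algebraMap A B))
    (hrange : ∀ b, (∀ g, a g b = b) → b ∈ Set.range (algebraMap A B)) :
    Function.Injective (algebraMap A' B') ∧
      ∀ b', (∀ g, a' g b' = b') → b' ∈ Set.range (algebraMap A' B') := by
  classical
  cases nonempty_fintype G
  have hbc : IsBaseChange A' (IsScalarTower.toAlgHom A B B').toLinearMap :=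
    Algebra.IsPushout.out
  let e : A' ⊗[A] B ≃ₗ[A'] B' := hbc.equiv
  have he : ∀ (s : A') (b : B), e (s ⊗ₜ b) = s • algebraMap B B' b := fun s b =>
    hbc.equiv_tmul s b
  -- the action as linear maps
  let aL : G → (B →ₗ[A] B) := fun g =>
    { toFun := a g
      map_add' := map_add (a g)
      map_smul' := fun c b => by
        simp only [Algebra.smul_def, map_mul, ha, RingHom.id_apply] }
  let d : B →ₗ[A] (G → B) := LinearMap.pi (fun g => aL g - LinearMap.id)
  let ι : A →ₗ[A] B := Algebra.linearMap A B
  have hex : Function.Exact ι d := by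
    intro b
    constructor
    · intro hb
      obtain ⟨x, hx⟩ := hrange b (fun g => by
        have := congrFun hb g
        simpa [d, aL, sub_eq_zero] using this)
      exact ⟨x, hx⟩
    · rintro ⟨x, rfl⟩
      ext g
      simp [d, aL, ι, ha]
  have hex' := Module.Flat.lTensor_exact A' hex
  have hιinj : Function.Injective (ι.lTensor A') :=
    Module.Flat.lTensor_preserves_injective_linearMap ι hinj
  -- the action on the base change
  have hact : ∀ (g : G) (x : A' ⊗[A] B), e ((aL g).lTensor A' x) = a' g (e x) := by
    intro g x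
    induction x with
    | zero => simp
    | add x y hx hy => simp only [map_add, hx, hy]
    | tmul s b =>
      rw [LinearMap.lTensor_tmul, he, he, Algebra.smul_def, Algebra.smul_def, map_mul, ha'φ, ha'β]
      rfl
  have hcomp : ∀ (g : G) (x : A' ⊗[A] B),
      (TensorProduct.piRightHom A A A' (fun _ : G => B) (d.lTensor A' x)) g =
        (aL g).lTensor A' x - x := by
    intro g x
    induction x with
    | zero => simp
    | add x y hx hy =>
      simp only [map_add, Pi.add_apply, hx, hy]
      abel
    | tmul s b =>
      rw [LinearMap.lTensor_tmul, TensorProduct.piRightHom_tmul, LinearMap.lTensor_tmul]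
      simp only [d, LinearMap.pi_apply, LinearMap.sub_apply, LinearMap.id_apply, tmul_sub]
  have h1 : ∀ s : A', e ((ι.lTensor A') (s ⊗ₜ (1 : A))) = algebraMap A' B' s := by
    intro s
    rw [LinearMap.lTensor_tmul, he]
    simp [ι, Algebra.smul_def]
  constructor
  · intro s t hst
    have h2 : (ι.lTensor A') (s ⊗ₜ (1 : A)) = (ι.lTensor A') (t ⊗ₜ (1 : A)) := by
      apply e.injective
      rw [h1, h1, hst]
    have h3 := hιinj h2
    have h4 := congrArg (TensorProduct.rid A A') h3
    simpa using h4
  · intro b' hb'
    obtain ⟨x, rfl⟩ := e.surjective b'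
    have hx : d.lTensor A' x = 0 := by
      apply (TensorProduct.piRight A A A' (fun _ : G => B)).injective
      rw [map_zero]
      ext g
      rw [TensorProduct.piRight_apply, hcomp, Pi.zero_apply, sub_eq_zero]
      apply e.injective
      rw [hact, hb']
    obtain ⟨y, rfl⟩ := (hex' x).mp hx
    obtain ⟨s, rfl⟩ : ∃ s : A', s ⊗ₜ (1 : A) = y := by
      refine ⟨TensorProduct.rid A A' y, ?_⟩
      rw [← TensorProduct.rid_symm_apply, LinearEquiv.symm_apply_apply]
    exact ⟨s, (h1 s).symm⟩

end Groth.Agent.Lib.Helper79.QuotFlatAlg
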