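import Groth.Prelude.Def_SGA1
import Groth.Agent.Lib.Helper79.QuotFlatAlg
import Groth.Agent.Lib.Helper79.QuotAffineCrit
import Mathlib

/-!
# Quotients by finite groups commute with flat base change
-/

set_option autoImplicit false
set_option linter.style.haveILetI false
open CategoryTheory CategoryTheory.Limits AlgebraicGeometry TopologicalSpace
universe u

namespace Groth.Agent.Lib.Helper79.QuotFlatBC

open Groth.Agent.Lib.Helper79.QuotAffineCrit

theorem core_cat {A B A' B' : CommRingCat.{u}} {φ : A ⟶ B} {α : A ⟶ A'} {β : B ⟶ B'}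
    {φ' : A' ⟶ B'} (h : IsPushout φ α β φ') (hflat : α.hom.Flat) {G : Type*} [Finite G]
    (a : G → (B ⟶ B)) (a' : G → (B' ⟶ B'))
    (ha : ∀ g, φ ≫ a g = φ) (ha'β : ∀ g, β ≫ a' g = a g ≫ β) (ha'φ : ∀ g, φ' ≫ a' g = φ')
    (hinj : Function.Injective φ.hom)
    (hrange : ∀ b, (∀ g, (a g).hom b = b) → b ∈ Set.range φ.hom) :
    Function.Injective φ'.hom ∧
      ∀ b', (∀ g, (a' g).hom b' = b') → b' ∈ Set.range φ'.hom := by
  algebraize [φ.hom, α.hom, β.hom, φ'.hom, β.hom.comp φ.hom]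
  have : IsScalarTower A A' B' := .of_algebraMap_eq' (congr($(h.1.1).hom))
  have : IsScalarTower A B B' := .of_algebraMap_eq' rfl
  have hP : Algebra.IsPushout A B A' B' := CommRingCat.isPushout_iff_isPushout.mp h
  have hP' : Algebra.IsPushout A A' B B' := hP.symm
  have : Module.Flat A A' := hflat
  exact Groth.Agent.Lib.Helper79.QuotFlatAlg.alg_core (fun g => (a g).hom) (fun g => (a' g).hom)
    (fun g x => congrArg (fun k => k.hom x) (ha g))
    (fun g b => congrArg (fun k => k.hom b) (ha'β g))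
    (fun g x => congrArg (fun k => k.hom x) (ha'φ g))
    hinj hrange

theorem isQuot_of_flat_baseChange {X Y X' Y' : Scheme.{u}} {G : Type u} [Group G] [Finite G]
    (ρ : G →* Aut X) (p : X ⟶ Y) (hp : SGA1.IsQuot ρ p) (qY : Y' ⟶ Y) [Flat qY]
    (pX : X' ⟶ X) (p' : X' ⟶ Y') (hX : IsPullback pX p' p qY)
    (ρ' : G →* Aut X') (hρ₁ : ∀ g : G, (ρ' g).hom ≫ pX = pX ≫ (ρ g).hom)
    (hρ₂ : ∀ g : G, (ρ' g).hom ≫ p' = p') :
    SGA1.IsQuot ρ' p' := by
  haveI : IsAffineHom p := hp.affine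
  haveI : IsAffineHom p' := MorphismProperty.of_isPullback hX hp.affine
  refine isQuot_of_affine_cover ρ' p' hρ₂
    (fun k : {W : Y'.Opens × Y.Opens // IsAffineOpen W.1 ∧ IsAffineOpen W.2 ∧
      W.1 ≤ qY ⁻¹ᵁ W.2} => k.1.1) ?_ (fun k => k.2.1) (fun k => k.2.1.preimage p') ?_ ?_
  · rw [eq_top_iff]
    intro y' _
    obtain ⟨U, hU, hyU, -⟩ := Opens.isBasis_iff_nbhd.mp Y.isBasis_affineOpens
      (show qY y' ∈ (⊤ : Y.Opens) from trivial)
    obtain ⟨U', hU', hyU', hle⟩ := Opens.isBasis_iff_nbhd.mp Y'.isBasis_affineOpens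
      (show y' ∈ qY ⁻¹ᵁ U from hyU)
    exact Opens.mem_iSup.2 ⟨⟨(U', U), hU', hU, hle⟩, hyU'⟩
  all_goals
    rintro ⟨⟨U', U⟩, hU', hU, hle⟩
    have hUY : p' ⁻¹ᵁ U' = pX ⁻¹ᵁ (p ⁻¹ᵁ U) ⊓ p' ⁻¹ᵁ U' := by
      refine (inf_eq_right.mpr ?_).symm
      intro x hx
      show p (pX x) ∈ U
      have h1 : p (pX x) = qY (p' x) := by
        rw [← Scheme.Hom.comp_apply, ← Scheme.Hom.comp_apply, hX.w]
      rw [h1]
      exact hle hx
    have hpush := (isIso_pushoutSection_iff hX hle (le_refl (p ⁻¹ᵁ U)) hUY).mp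
      (isIso_pushoutSection_of_isAffineOpen hX hle (le_refl (p ⁻¹ᵁ U)) hUY hU hU'
        (hU.preimage p))
    have hcore := core_cat hpush (qY.flat_appLE hU hU' hle)
      (fun g : G => (ρ g).hom.appLE (p ⁻¹ᵁ U) (p ⁻¹ᵁ U) (SGA1.preimage_le_of_inv ρ p hp.inv g U))
      (fun g : G => (ρ' g).hom.appLE (p' ⁻¹ᵁ U') (p' ⁻¹ᵁ U')
        (SGA1.preimage_le_of_inv ρ' p' hρ₂ g U'))
      (fun g => by
        rw [Scheme.Hom.appLE_comp_appLE]
        exact appLE_congr_hom _ _ (hp.inv g) _ _ _ _)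
      (fun g => by
        rw [Scheme.Hom.appLE_comp_appLE, Scheme.Hom.appLE_comp_appLE]
        exact appLE_congr_hom _ _ (hρ₁ g) _ _ _ _)
      (fun g => by
        rw [Scheme.Hom.appLE_comp_appLE]
        exact appLE_congr_hom _ _ (hρ₂ g) _ _ _ _)
      (by
        rw [Scheme.Hom.appLE_eq_app]
        exact hp.injective U)
      (fun b hb => by
        rw [Scheme.Hom.appLE_eq_app]
        exact (hp.range_iff U b).mpr hb)
    rw [Scheme.Hom.appLE_eq_app] at hcore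
  · exact hcore.1
  · exact hcore.2

end Groth.Agent.Lib.Helper79.QuotFlatBC
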