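import Groth.Prelude.Def_SGA1
import Groth.Agent.Lib.Helper79.FreeQuot
import Groth.Agent.S13597
import Groth.Agent.S2908
import Mathlib

/-!
# Geometric points of quotients by finite groups
-/

set_option autoImplicit false
open CategoryTheory CategoryTheory.Limits AlgebraicGeometry TopologicalSpace
universe u

namespace Groth.Agent.Lib.Helper79.QuotGeom

variable {X Y : Scheme.{u}} {G : Type u} [Group G]

/-- lifting geometric points along a quotient map. -/
theorem exists_lift_of_isAlgClosed [Finite G] (ρ : G →* Aut X) (p : X ⟶ Y) (hp : SGA1.IsQuot ρ p)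
    (K : Type u) [Field K] [IsAlgClosed K] (y : Spec (CommRingCat.of K) ⟶ Y) :
    ∃ x : Spec (CommRingCat.of K) ⟶ X, x ≫ p = y := by
  obtain ⟨hsurj, -, -⟩ := Groth.Agent.S2908.result ρ p hp
  have key : ∀ (y₀ : Y) (ψ : Y.residueField y₀ ⟶ CommRingCat.of K),
      ∃ x : Spec (CommRingCat.of K) ⟶ X, x ≫ p = Spec.map ψ ≫ Y.fromSpecResidueField y₀ := by
    intro y₀ ψ
    obtain ⟨x₀, rfl⟩ := hsurj y₀
    obtain ⟨hnormal, -⟩ := Groth.Agent.S13597.result ρ p hp x₀
    letI := (p.residueFieldMap x₀).hom.toAlgebra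
    letI : Algebra (Y.residueField (p.base x₀)) K := ψ.hom.toAlgebra
    haveI : Algebra.IsAlgebraic (Y.residueField (p.base x₀)) (X.residueField x₀) :=
      hnormal.toIsAlgebraic
    let φ : X.residueField x₀ →ₐ[Y.residueField (p.base x₀)] K := IsAlgClosed.lift
    refine ⟨Spec.map (CommRingCat.ofHom φ.toRingHom) ≫ X.fromSpecResidueField x₀, ?_⟩
    rw [Category.assoc, ← Scheme.Hom.SpecMap_residueFieldMap_fromSpecResidueField,
      ← Category.assoc, ← Spec.map_comp]
    congr 2
    apply CommRingCat.hom_ext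
    apply RingHom.ext
    intro z
    exact φ.commutes z
  obtain ⟨x, hx⟩ := key _ (Scheme.descResidueField (Scheme.stalkClosedPointTo y))
  exact ⟨x, hx.trans (Scheme.descResidueField_stalkClosedPointTo_fromSpecResidueField K Y y)⟩

/-- a morphism which is injective on geometric points is universally injective. -/
theorem universallyInjective_of_geometric (f : X ⟶ Y)
    (h : ∀ (K : Type u) [Field K] [IsAlgClosed K] (a b : Spec (CommRingCat.of K) ⟶ X),
      a ≫ f = b ≫ f → a = b) : UniversallyInjective f := by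
  refine ((tfae_universallyInjective f).out 0 1).2 ?_
  intro K _ a b hab
  have hab' : a ≫ f = b ≫ f := hab
  let π : Spec (CommRingCat.of (AlgebraicClosure K)) ⟶ Spec (CommRingCat.of K) :=
    Spec.map (CommRingCat.ofHom (algebraMap K (AlgebraicClosure K)))
  haveI : Flat π := by
    rw [HasRingHomProperty.Spec_iff (P := @Flat)]
    show (algebraMap K (AlgebraicClosure K)).Flat
    rw [RingHom.flat_algebraMap_iff]
    infer_instance
  haveI : Surjective π := ⟨fun x => ⟨default, Subsingleton.elim _ _⟩⟩
  haveI : Epi π := Flat.epi_of_flat_of_surjective π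
  have h1 := h (AlgebraicClosure K) (π ≫ a) (π ≫ b) (by
    rw [Category.assoc, Category.assoc, hab'])
  exact (cancel_epi π).1 h1

/-- a map out of a quotient is universally injective as soon as geometric points of the source
with the same image are conjugate. -/
theorem universallyInjective_of_conj [Finite G] (ρ : G →* Aut X) (r : X ⟶ Y)
    (hr : SGA1.IsQuot ρ r) {T : Scheme.{u}} (m : Y ⟶ T)
    (hkey : ∀ (K : Type u) [Field K] [IsAlgClosed K] (a b : Spec (CommRingCat.of K) ⟶ X),
      a ≫ r ≫ m = b ≫ r ≫ m → ∃ g : G, b = a ≫ (ρ g).hom) : UniversallyInjective m := by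
  apply universallyInjective_of_geometric
  intro K _ _ y₁ y₂ hy
  obtain ⟨x₁, rfl⟩ := exists_lift_of_isAlgClosed ρ r hr K y₁
  obtain ⟨x₂, rfl⟩ := exists_lift_of_isAlgClosed ρ r hr K y₂
  obtain ⟨g, rfl⟩ := hkey K x₁ x₂ (by simpa only [Category.assoc] using hy)
  rw [Category.assoc, hr.inv]

end Groth.Agent.Lib.Helper79.QuotGeom
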