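import Groth.Prelude.Def_SGA1
import Groth.Agent.Lib.Helper79.QuotGlueF
import Groth.Agent.Lib.Helper79.QuotLocal
import Mathlib

/-!
# Gluing the affine quotients: the quotient of a scheme whose orbits lie in affine opens
-/

set_option autoImplicit false
open CategoryTheory CategoryTheory.Limits AlgebraicGeometry TopologicalSpace
universe u

namespace Groth.Agent.Lib.Helper79.QuotGlueP

open Groth.Agent.Lib.Helper79.RestrictAut Groth.Agent.Lib.Helper79.QuotTransport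
  Groth.Agent.Lib.Helper79.QuotStable Groth.Agent.Lib.Helper79.QuotGlueF

variable {X : Scheme.{u}} {G : Type u} [Group G] [Finite G] (ρ : G →* Aut X)

theorem isOpenCover
    (h : ∀ x : X, ∃ U : X.Opens, IsAffineOpen U ∧ ∀ g : G, (ρ g).hom.base x ∈ U) :
    IsOpenCover (fun V : J ρ => V.1) := by
  apply IsOpenCover.mk
  rw [eq_top_iff]
  intro x _
  obtain ⟨U, hU, hxU⟩ := h x
  obtain ⟨V, hV, hstab, hxV, -⟩ := exists_stable_affine ρ U hU ⊤ x (fun g => ⟨hxU g, trivial⟩)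
  exact Opens.mem_iSup.2 ⟨⟨V, hV, hstab⟩, hxV⟩

/-- the cover of `X` by the stable affine opens. -/
noncomputable def cover
    (h : ∀ x : X, ∃ U : X.Opens, IsAffineOpen U ∧ ∀ g : G, (ρ g).hom.base x ∈ U) :
    X.OpenCover :=
  X.openCoverOfIsOpenCover (fun V : J ρ => V.1) (isOpenCover ρ h)

variable (h : ∀ x : X, ∃ U : X.Opens, IsAffineOpen U ∧ ∀ g : G, (ρ g).hom.base x ∈ U)

instance : Preorder (cover ρ h).I₀ := inferInstanceAs (Preorder (J ρ))

noncomputable instance locallyDirected_cover : Scheme.Cover.LocallyDirected (cover ρ h) where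
  trans {i j} hij := X.homOfLE (show (i : J ρ).1 ≤ (j : J ρ).1 from leOfHom hij)
  trans_id i := X.homOfLE_rfl _
  trans_comp hij hjk := (X.homOfLE_homOfLE _ _).symm
  w hij := X.homOfLE_ι _
  directed {i j} x := by
    let Vi : J ρ := i
    let Vj : J ρ := j
    have hfi : (cover ρ h).f i = Vi.1.ι := rfl
    have hfj : (cover ρ h).f j = Vj.1.ι := rfl
    have hxi : (pullback.fst ((cover ρ h).f i) ((cover ρ h).f j) ≫ (cover ρ h).f i).base x ∈ Vi.1 :=
      ((pullback.fst ((cover ρ h).f i) ((cover ρ h).f j)).base x).2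
    have hxj : (pullback.fst ((cover ρ h).f i) ((cover ρ h).f j) ≫ (cover ρ h).f i).base x ∈ Vj.1 := by
      rw [pullback.condition]
      exact ((pullback.snd ((cover ρ h).f i) ((cover ρ h).f j)).base x).2
    obtain ⟨Vl, hVl, hstab, hxl, hle⟩ := exists_stable_affine ρ Vi.1 Vi.2.1 Vj.1 _
      (fun g => ⟨Vi.2.2 g _ hxi, Vj.2.2 g _ hxj⟩)
    refine ⟨(⟨Vl, hVl, hstab⟩ : J ρ), homOfLE (show (⟨Vl, hVl, hstab⟩ : J ρ) ≤ Vi from
      hle.trans inf_le_left), homOfLE (show (⟨Vl, hVl, hstab⟩ : J ρ) ≤ Vj from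
      hle.trans inf_le_right), (⟨_, hxl⟩ : Vl.toScheme), ?_⟩
    apply (pullback.fst ((cover ρ h).f i) ((cover ρ h).f j) ≫
      (cover ρ h).f i).isOpenEmbedding.injective
    have e1 : ∀ (a : Vl.toScheme ⟶ (cover ρ h).X i) (b : Vl.toScheme ⟶ (cover ρ h).X j)
        (c : a ≫ (cover ρ h).f i = b ≫ (cover ρ h).f j) (ha : a ≫ (cover ρ h).f i = Vl.ι),
        pullback.lift a b c ≫ pullback.fst ((cover ρ h).f i) ((cover ρ h).f j) ≫
          (cover ρ h).f i = Vl.ι := by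
      intro a b c ha
      rw [pullback.lift_fst_assoc, ha]
    exact congrArg (fun k => k.base ⟨_, hxl⟩) (e1 _ _ _ (X.homOfLE_ι (hle.trans inf_le_left)))
  property_trans hij := by
    show IsOpenImmersion (X.homOfLE _)
    infer_instance

/-- the glued quotient. -/
noncomputable def Y : Scheme.{u} := colimit (functorF ρ)

/-- the inclusions of the affine quotients. -/
noncomputable def ιY (V : J ρ) : Q ρ V ⟶ Y ρ := colimit.ι (functorF ρ) V

instance isOpenImmersion_ιY (V : J ρ) : IsOpenImmersion (ιY ρ V) :=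
  inferInstanceAs (IsOpenImmersion (colimit.ι (functorF ρ) V))

@[reassoc]
theorem Fmap_ιY {V' V : J ρ} (hle : V'.1 ≤ V.1) : Fmap ρ hle ≫ ιY ρ V = ιY ρ V' :=
  colimit.w (functorF ρ) (homOfLE hle)

theorem compat' {i j : J ρ} (hle : i.1 ≤ j.1) :
    X.homOfLE hle ≫ q ρ j ≫ ιY ρ j = q ρ i ≫ ιY ρ i := by
  rw [← q_Fmap_assoc, Fmap_ιY]

theorem compat {i j : (cover ρ h).I₀} (hij : i ⟶ j) :
    (cover ρ h).trans hij ≫ q ρ (j : J ρ) ≫ ιY ρ (j : J ρ) =
      q ρ (i : J ρ) ≫ ιY ρ (i : J ρ) :=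
  compat' ρ (i := i) (j := j) (leOfHom hij)

/-- the glued quotient map. -/
noncomputable def p : X ⟶ Y ρ :=
  (cover ρ h).glueMorphismsOfLocallyDirected (fun V => q ρ (V : J ρ) ≫ ιY ρ V)
    (fun hij => compat ρ h hij)

@[reassoc]
theorem ι_p (V : J ρ) : V.1.ι ≫ p ρ h = q ρ V ≫ ιY ρ V :=
  (cover ρ h).map_glueMorphismsOfLocallyDirected _ _ V

theorem p_apply (V : J ρ) (z : (V.1 : Scheme.{u})) :
    (p ρ h).base (V.1.ι.base z) = (ιY ρ V).base ((q ρ V).base z) :=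
  congrArg (fun k => k.base z) (ι_p ρ h V)

theorem p_inv (g : G) : (ρ g).hom ≫ p ρ h = p ρ h := by
  have key : ∀ V : J ρ, V.1.ι ≫ (ρ g).hom ≫ p ρ h = V.1.ι ≫ p ρ h := by
    intro V
    rw [← Category.assoc, ← ρV_ι, Category.assoc, ι_p, ← Category.assoc, (hq ρ V).inv]
  apply (cover ρ h).hom_ext
  intro V
  exact key V

theorem preimage_opensRange (V : J ρ) : (p ρ h) ⁻¹ᵁ (ιY ρ V).opensRange = V.1 := by
  apply le_antisymm
  · rintro x ⟨y, hy⟩
    obtain ⟨V', hxV'⟩ := (isOpenCover ρ h).exists_mem x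
    have h1 : (ιY ρ V).base y = (ιY ρ V').base ((q ρ V').base ⟨x, hxV'⟩) :=
      hy.trans (p_apply ρ h V' ⟨x, hxV'⟩)
    obtain ⟨k, fi, fj, z, hzi, hzj⟩ :=
      (Scheme.IsLocallyDirected.ι_eq_ι_iff (F := functorF ρ)).1 h1
    change (Fmap ρ (leOfHom fj)).base z = _ at hzj
    obtain ⟨w, rfl⟩ := q_surjective ρ k z
    rw [q_Fmap_apply] at hzj
    obtain ⟨g, hg⟩ := (q_eq_iff ρ V' _ _).1 hzj
    have hg' := congrArg V'.1.ι.base hg
    rw [ρV_base, ι_homOfLE_apply] at hg'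
    have hw : k.1.ι.base w ∈ V.1 := leOfHom fi w.2
    have := V.2.2 g _ hw
    rw [hg'] at this
    exact this
  · intro x hx
    exact ⟨(q ρ V).base ⟨x, hx⟩, (p_apply ρ h V ⟨x, hx⟩).symm⟩

theorem iSup_opensRange : ⨆ V : J ρ, (ιY ρ V).opensRange = ⊤ := by
  rw [eq_top_iff]
  intro y _
  obtain ⟨V, z, hz⟩ := Scheme.IsLocallyDirected.ι_jointly_surjective (functorF ρ) y
  exact Opens.mem_iSup.2 ⟨V, z, hz⟩

theorem isQuot_p : SGA1.IsQuot ρ (p ρ h) := by
  refine Groth.Agent.Lib.Helper79.QuotLocal.isQuot_of_openCover ρ (p ρ h) (p_inv ρ h)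
    (fun V : J ρ => (ιY ρ V).opensRange) (iSup_opensRange ρ) ?_
  intro V
  have hstab : ∀ (g : G) (x : X), x ∈ (p ρ h) ⁻¹ᵁ (ιY ρ V).opensRange →
      (ρ g).hom.base x ∈ (p ρ h) ⁻¹ᵁ (ιY ρ V).opensRange := by
    intro g x hx
    show (p ρ h).base ((ρ g).hom.base x) ∈ (ιY ρ V).opensRange
    rw [← Scheme.Hom.comp_apply, p_inv]
    exact hx
  refine ⟨restrictAut ρ _ hstab, restrictAut_ι ρ _ hstab, ?_⟩
  have hfac : (p ρ h) ∣_ (ιY ρ V).opensRange =
      (X.isoOfEq (preimage_opensRange ρ h V)).hom ≫ q ρ V ≫ (ιY ρ V).isoOpensRange.hom := by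
    rw [← cancel_mono (ιY ρ V).opensRange.ι]
    simp only [Category.assoc]
    rw [morphismRestrict_ι, Scheme.Hom.isoOpensRange_hom_ι, ← ι_p, ← Category.assoc,
      X.isoOfEq_hom_ι]
  rw [hfac]
  refine isQuot_iso_comp (ρV ρ V) _
    (isQuot_comp_iso (ρV ρ V) (q ρ V) (hq ρ V) (ιY ρ V).isoOpensRange.hom)
    (X.isoOfEq (preimage_opensRange ρ h V)).hom _ ?_
  intro g
  rw [← cancel_mono V.1.ι, Category.assoc, Category.assoc, X.isoOfEq_hom_ι, restrictAut_ι, ρV_ι,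
    ← Category.assoc, X.isoOfEq_hom_ι]

include h in
theorem exists_quotient :
    ∃ (Y : Scheme.{u}) (p : X ⟶ Y), SGA1.IsQuot ρ p :=
  ⟨Y ρ, p ρ h, isQuot_p ρ h⟩

end Groth.Agent.Lib.Helper79.QuotGlueP
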