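import Groth.Prelude.Def_SGA1
import Groth.Agent.Lib.Helper79.QuotAffineCrit
import Mathlib

/-!
# Quotients in stages, and the action on a fibre product through the second factor
-/

set_option autoImplicit false
set_option linter.style.haveILetI false
open CategoryTheory CategoryTheory.Limits AlgebraicGeometry TopologicalSpace
universe u

namespace Groth.Agent.Lib.Helper79.QuotStage

open Groth.Agent.Lib.Helper79.QuotAffineCrit Groth.Agent.Lib.Helper79.RestrictAut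

/-- sections pulled back along an invariant morphism are invariant. -/
theorem app_comp_appLE {X Y : Scheme.{u}} (a : X ⟶ X) (p : X ⟶ Y) (h : a ≫ p = p) (U : Y.Opens)
    (e : p ⁻¹ᵁ U ≤ a ⁻¹ᵁ (p ⁻¹ᵁ U)) :
    p.app U ≫ a.appLE (p ⁻¹ᵁ U) (p ⁻¹ᵁ U) e = p.app U := by
  rw [Scheme.Hom.app_eq_appLE, Scheme.Hom.appLE_comp_appLE]
  exact appLE_congr_hom _ _ h _ _ _ _

/-- quotients in stages: first by `G`, then by `H`, gives the quotient by `G × H`. -/
theorem isQuot_comp_of_stage {W W₁ W₂ : Scheme.{u}} {G H : Type u} [Group G] [Group H]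
    (θ : G × H →* Aut W) (π₁ : W ⟶ W₁) (π₂ : W₁ ⟶ W₂)
    (h₁ : SGA1.IsQuot (θ.comp (MonoidHom.inl G H)) π₁)
    (σ' : H →* Aut W₁) (hσ' : ∀ h : H, (θ (1, h)).hom ≫ π₁ = π₁ ≫ (σ' h).hom)
    (h₂ : SGA1.IsQuot σ' π₂) : SGA1.IsQuot θ (π₁ ≫ π₂) := by
  haveI := h₁.affine
  haveI := h₂.affine
  have hinv : ∀ gh : G × H, (θ gh).hom ≫ π₁ ≫ π₂ = π₁ ≫ π₂ := by
    rintro ⟨g, h⟩
    have e1 : ((g, h) : G × H) = (g, 1) * (1, h) := by simp
    have e2 : (θ (g, h)).hom = (θ (1, h)).hom ≫ (θ (g, 1)).hom := by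
      rw [e1]; exact hom_mul θ (1, h) (g, 1)
    have e3 : (θ (g, 1)).hom ≫ π₁ = π₁ := h₁.inv g
    rw [e2, Category.assoc, reassoc_of% e3, reassoc_of% (hσ' h), h₂.inv]
  have happ : ∀ U : W₂.Opens, ((π₁ ≫ π₂).app U).hom =
      (π₁.app (π₂ ⁻¹ᵁ U)).hom.comp (π₂.app U).hom := by
    intro U
    rw [Scheme.Hom.comp_app]
    rfl
  refine ⟨inferInstance, hinv, ?_, ?_⟩
  · intro U
    rw [happ]
    exact (h₁.injective _).comp (h₂.injective U)
  · intro U s
    constructor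
    · rintro ⟨u, rfl⟩ gh
      exact congrArg (fun k => k.hom u) (app_comp_appLE (θ gh).hom (π₁ ≫ π₂) (hinv gh) U _)
    · intro hs
      obtain ⟨t, ht⟩ := (h₁.range_iff (π₂ ⁻¹ᵁ U) s).mpr (fun g => hs (g, 1))
      have htinv : ∀ h : H, ((σ' h).hom.appLE (π₂ ⁻¹ᵁ U) (π₂ ⁻¹ᵁ U)
          (SGA1.preimage_le_of_inv σ' π₂ h₂.inv h U)).hom t = t := by
        intro h
        apply h₁.injective (π₂ ⁻¹ᵁ U)
        have e1 : (σ' h).hom.appLE (π₂ ⁻¹ᵁ U) (π₂ ⁻¹ᵁ U)
              (SGA1.preimage_le_of_inv σ' π₂ h₂.inv h U) ≫ π₁.app (π₂ ⁻¹ᵁ U) =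
            π₁.app (π₂ ⁻¹ᵁ U) ≫ (θ (1, h)).hom.appLE (π₁ ⁻¹ᵁ (π₂ ⁻¹ᵁ U)) (π₁ ⁻¹ᵁ (π₂ ⁻¹ᵁ U))
              (SGA1.preimage_le_of_inv θ (π₁ ≫ π₂) hinv (1, h) U) := by
          rw [Scheme.Hom.app_eq_appLE]
          exact (Scheme.Hom.appLE_comp_appLE _ _ _ _ _ _ _).trans
            ((appLE_congr_hom _ _ (hσ' h).symm _ _ _ _).trans
              (Scheme.Hom.appLE_comp_appLE _ _ _ _ _ _ _).symm)
        have e2 := congrArg (fun k => k.hom t) e1
        simp only [CommRingCat.hom_comp, RingHom.comp_apply] at e2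
        rw [e2, ht]
        exact hs (1, h)
      obtain ⟨u, hu⟩ := (h₂.range_iff U t).mpr htinv
      refine ⟨u, ?_⟩
      refine (RingHom.congr_fun (happ U) u).trans ?_
      show (π₁.app (π₂ ⁻¹ᵁ U)).hom ((π₂.app U).hom u) = s
      rw [hu, ht]

section SndAut

variable {X Y S : Scheme.{u}} (f : X ⟶ S) (g : Y ⟶ S) {H : Type u} [Group H] (σ : H →* Aut Y)
  (hσ : ∀ h : H, (σ h).hom ≫ g = g)

/-- the endomorphism `id × σ_h` of the fibre product. -/
noncomputable def sndHom (h : H) : pullback f g ⟶ pullback f g :=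
  pullback.map f g f g (𝟙 X) (σ h).hom (𝟙 S) (by simp) (by rw [Category.comp_id, hσ h])

@[reassoc]
theorem sndHom_fst (h : H) : sndHom f g σ hσ h ≫ pullback.fst f g = pullback.fst f g := by
  unfold sndHom pullback.map
  rw [pullback.lift_fst, Category.comp_id]

@[reassoc]
theorem sndHom_snd (h : H) :
    sndHom f g σ hσ h ≫ pullback.snd f g = pullback.snd f g ≫ (σ h).hom := by
  unfold sndHom pullback.map
  rw [pullback.lift_snd]

theorem sndHom_mul (a h : H) :
    sndHom f g σ hσ (h * a) = sndHom f g σ hσ a ≫ sndHom f g σ hσ h := by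
  apply pullback.hom_ext
  · rw [Category.assoc, sndHom_fst, sndHom_fst, sndHom_fst]
  · rw [Category.assoc, sndHom_snd, sndHom_snd, sndHom_snd_assoc, hom_mul]

theorem sndHom_one : sndHom f g σ hσ 1 = 𝟙 _ := by
  apply pullback.hom_ext
  · rw [sndHom_fst, Category.id_comp]
  · rw [sndHom_snd, hom_one, Category.comp_id, Category.id_comp]

/-- the action of `H` on the fibre product through the second factor. -/
noncomputable def sndAut : H →* Aut (pullback f g) where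
  toFun h :=
    { hom := sndHom f g σ hσ h
      inv := sndHom f g σ hσ h⁻¹
      hom_inv_id := by rw [← sndHom_mul, inv_mul_cancel, sndHom_one]
      inv_hom_id := by rw [← sndHom_mul, mul_inv_cancel, sndHom_one] }
  map_one' := by
    apply Iso.ext
    exact sndHom_one f g σ hσ
  map_mul' h a := by
    apply Iso.ext
    exact sndHom_mul f g σ hσ a h

@[reassoc]
theorem sndAut_fst (h : H) : (sndAut f g σ hσ h).hom ≫ pullback.fst f g = pullback.fst f g :=
  sndHom_fst f g σ hσ h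

@[reassoc]
theorem sndAut_snd (h : H) :
    (sndAut f g σ hσ h).hom ≫ pullback.snd f g = pullback.snd f g ≫ (σ h).hom :=
  sndHom_snd f g σ hσ h

end SndAut

end Groth.Agent.Lib.Helper79.QuotStage
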