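import Mathlib
import Groth.Prelude.Def_W4bk4git07Quot
import Groth.Prelude.Def_ActBC
import Groth.Agent.Lib.Helper79.FreeAct
import Groth.Agent.Lib.Helper43.SubGrp

/-!
# The fibres of the stabilizer group scheme are group schemes (helper79)

For an action `a` of `G` on `X` over `S` and a point `xb : S' ⟶ X`, the fibre over `xb` of the
stabilizer `Stab = (G × X) ×_{X × X} X ⟶ X` is a group object of `Over S'`, a subgroup of
`G ×_S S'`.
-/

set_option autoImplicit false
set_option linter.style.haveILetI false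
set_option linter.unusedSectionVars false

universe u

open CategoryTheory Limits AlgebraicGeometry MonoidalCategory CartesianMonoidalCategory MonObj

namespace Groth.Agent.Lib.Helper79.StabGrp

open Groth.Agent.Lib.Helper40.ActPts Groth.Agent.Lib.Helper79.FreeAct

variable {S : Scheme.{u}} {G X : Over S} [GrpObj G] (a : AlgGrp.Action G X)
variable {S' : Scheme.{u}} (xb : S' ⟶ X.left)

/-- the stabilizer group scheme `Stab ⟶ X` -/
noncomputable abbrev stabP :
    pullback (GIT.psi a (𝟙 X)).left (lift (𝟙 X) (𝟙 X)).left ⟶ X.left := pullback.snd _ _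

theorem psi_snd : GIT.psi a (𝟙 X) ≫ snd X X = snd G X := by
  unfold GIT.psi
  rw [lift_snd]

theorem stabP_eq : stabP a = pullback.fst _ _ ≫ (snd G X).left := by
  have h := pullback.condition (f := (GIT.psi a (𝟙 X)).left) (g := (lift (𝟙 X) (𝟙 X)).left)
  have h2 := congrArg (fun m => m ≫ (snd X X).left) h
  simp only [Category.assoc, ← Over.comp_left, psi_snd, lift_snd] at h2
  rw [h2, Over.id_left, Category.comp_id]

/-- the fibre of the stabilizer over `xb` -/
noncomputable abbrev fib : Scheme.{u} := pullback (stabP a) xb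

noncomputable abbrev fibQ : fib a xb ⟶ S' := pullback.snd _ _

noncomputable abbrev fibOver : Over S' := Over.mk (fibQ a xb)

/-- the base morphism `S' ⟶ S` -/
abbrev bf : S' ⟶ S := xb ≫ X.hom

/-- the tautological point of `X` with values in an `S'`-scheme -/
noncomputable def xi (T' : Over S') : (Over.map (bf xb)).obj T' ⟶ X :=
  Over.homMk (T'.hom ≫ xb) (by simp [bf])

@[simp] theorem xi_left (T' : Over S') : (xi xb T').left = T'.hom ≫ xb := rfl

theorem map_comp_xi {T₁ T₂ : Over S'} (w : T₁ ⟶ T₂) :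
    (Over.map (bf xb)).map w ≫ xi xb T₂ = xi xb T₁ := by
  ext
  simp [xi]

/-- the universal point of `G ⊗ X` over the fibre -/
noncomputable def UZ : (Over.map (bf (X := X) xb)).obj (fibOver a xb) ⟶ G ⊗ X :=
  Over.homMk (pullback.fst (stabP a) xb ≫ pullback.fst _ _) (by
    have h1 : (G ⊗ X).hom = (GIT.psi a (𝟙 X)).left ≫ (X ⊗ X).hom := (Over.w (GIT.psi a (𝟙 X))).symm
    have h2 : (lift (𝟙 X) (𝟙 X)).left ≫ (X ⊗ X).hom = X.hom := Over.w (lift (𝟙 X) (𝟙 X))
    rw [h1, Category.assoc, pullback.condition_assoc, h2, pullback.condition_assoc]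
    simp only [bf, Over.map_obj_hom, Over.mk_hom])

theorem UZ_left : (UZ a xb).left = pullback.fst (stabP a) xb ≫ pullback.fst _ _ := rfl

theorem UZ_snd : UZ a xb ≫ snd G X = xi xb (fibOver a xb) := by
  apply Over.OverMorphism.ext
  rw [Over.comp_left, UZ_left, Category.assoc, ← stabP_eq, pullback.condition]
  rfl

theorem UZ_psi : UZ a xb ≫ GIT.psi a (𝟙 X) = xi xb (fibOver a xb) ≫ lift (𝟙 X) (𝟙 X) := by
  apply Over.OverMorphism.ext
  rw [Over.comp_left, Over.comp_left, UZ_left, Category.assoc, pullback.condition,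
    pullback.condition_assoc]
  rfl

/-- the universal stabilizing element -/
noncomputable def gZ : (Over.map (bf (X := X) xb)).obj (fibOver a xb) ⟶ G := UZ a xb ≫ fst G X

theorem UZ_eq : UZ a xb = lift (gZ a xb) (xi xb (fibOver a xb)) := by
  ext1
  · rw [lift_fst]; rfl
  · rw [lift_snd, UZ_snd]

theorem gZ_smul : smul a (gZ a xb) (xi xb (fibOver a xb)) = xi xb (fibOver a xb) := by
  have h := UZ_psi a xb
  rw [UZ_eq, psi_comp, lift_diag] at h
  have := congrArg (fun m => m ≫ fst X X) h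
  simpa using this

/-- every point of the fibre gives a stabilizing element -/
theorem map_gZ_smul {T' : Over S'} (w : T' ⟶ fibOver a xb) :
    smul a ((Over.map (bf xb)).map w ≫ gZ a xb) (xi xb T') = xi xb T' := by
  have h := congrArg (fun m => (Over.map (bf xb)).map w ≫ m) (gZ_smul a xb)
  simp only [comp_smul, map_comp_xi] at h
  exact h

/-- a stabilizing element gives a point of the fibre -/
theorem exists_of_smul {T' : Over S'} (g : (Over.map (bf xb)).obj T' ⟶ G)
    (hg : smul a g (xi xb T') = xi xb T') :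
    ∃ w : T' ⟶ fibOver a xb, (Over.map (bf xb)).map w ≫ gZ a xb = g := by
  have h1 : (lift g (xi xb T')).left ≫ (GIT.psi a (𝟙 X)).left =
      (xi xb T').left ≫ (lift (𝟙 X) (𝟙 X)).left := by
    rw [← Over.comp_left, ← Over.comp_left, psi_comp, hg, lift_diag]
  let t₁ : T'.left ⟶ pullback (GIT.psi a (𝟙 X)).left (lift (𝟙 X) (𝟙 X)).left :=
    pullback.lift _ _ h1
  have h2 : t₁ ≫ stabP a = T'.hom ≫ xb := by
    change t₁ ≫ pullback.snd _ _ = _
    rw [pullback.lift_snd]; rfl
  let t₂ : T'.left ⟶ fib a xb := pullback.lift t₁ T'.hom h2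
  have h3 : t₂ ≫ fibQ a xb = T'.hom := pullback.lift_snd _ _ _
  refine ⟨Over.homMk t₂ h3, ?_⟩
  apply Over.OverMorphism.ext
  change t₂ ≫ (UZ a xb ≫ fst G X).left = g.left
  rw [Over.comp_left, UZ_left]
  have h4 : t₂ ≫ pullback.fst (stabP a) xb = t₁ := pullback.lift_fst _ _ _
  have h5 : t₁ ≫ pullback.fst _ _ = (lift g (xi xb T')).left := pullback.lift_fst _ _ _
  rw [← Category.assoc, ← Category.assoc, h4, h5, ← Over.comp_left, lift_fst]

/-- points of the fibre are determined by their stabilizing element -/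
theorem ext_of_map_gZ {T' : Over S'} (w₁ w₂ : T' ⟶ fibOver a xb)
    (h : (Over.map (bf xb)).map w₁ ≫ gZ a xb = (Over.map (bf xb)).map w₂ ≫ gZ a xb) :
    w₁ = w₂ := by
  have hU : (Over.map (bf xb)).map w₁ ≫ UZ a xb = (Over.map (bf xb)).map w₂ ≫ UZ a xb := by
    ext1
    · simpa [gZ] using h
    · rw [Category.assoc, Category.assoc, UZ_snd, map_comp_xi, map_comp_xi]
  have hU' := congrArg (fun m => m.left) hU
  simp only [Over.comp_left, Over.map_map_left, UZ_left] at hU'
  ext
  apply pullback.hom_ext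
  · apply pullback.hom_ext
    · simpa only [Category.assoc] using hU'
    · have e1 := Over.w w₁
      have e2 := Over.w w₂
      simp only [Over.mk_hom] at e1 e2
      change (w₁.left ≫ pullback.fst (stabP a) xb) ≫ stabP a =
        (w₂.left ≫ pullback.fst (stabP a) xb) ≫ stabP a
      rw [Category.assoc, Category.assoc, pullback.condition, ← Category.assoc, ← Category.assoc]
      change (w₁.left ≫ fibQ a xb) ≫ xb = (w₂.left ≫ fibQ a xb) ≫ xb
      rw [e1, e2]
  · have e1 := Over.w w₁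
    have e2 := Over.w w₂
    simp only [Over.mk_hom] at e1 e2
    change w₁.left ≫ fibQ a xb = w₂.left ≫ fibQ a xb
    rw [e1, e2]

/-! ### The group structure -/

section he

variable {S₀ S₀' : Scheme.{u}} (f : S₀' ⟶ S₀) {G₀ : Over S₀} [GrpObj G₀]

theorem he_one (T' : Over S₀') :
    (Over.mapPullbackAdj f).homEquiv T' G₀ (1 : (Over.map f).obj T' ⟶ G₀) = 1 := by
  have h := AlgGrp.Action.homEquiv_mul f (G := G₀) (1 : (Over.map f).obj T' ⟶ G₀) 1
  rw [_root_.mul_one] at h
  exact (mul_eq_left (a := (Over.mapPullbackAdj f).homEquiv T' G₀ 1)).mp h.symm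

theorem he_inv {T' : Over S₀'} (g : (Over.map f).obj T' ⟶ G₀) :
    (Over.mapPullbackAdj f).homEquiv T' G₀ g⁻¹ = ((Over.mapPullbackAdj f).homEquiv T' G₀ g)⁻¹ := by
  apply eq_inv_of_mul_eq_one_left
  rw [← AlgGrp.Action.homEquiv_mul, inv_mul_cancel, he_one]

end he

/-- the inclusion of the stabilizer fibre into `G ×_S S'` -/
noncomputable def iZ : fibOver a xb ⟶ Red.bc (bf (X := X) xb) G :=
  (Over.mapPullbackAdj (bf xb)).homEquiv _ _ (gZ a xb)

theorem comp_iZ {T' : Over S'} (w : T' ⟶ fibOver a xb) :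
    w ≫ iZ a xb = (Over.mapPullbackAdj (bf xb)).homEquiv _ _ ((Over.map (bf xb)).map w ≫ gZ a xb) := by
  unfold iZ
  rw [Adjunction.homEquiv_naturality_left]

instance mono_iZ : Mono (iZ a xb) := by
  constructor
  intro T' w₁ w₂ h
  apply ext_of_map_gZ a xb
  apply ((Over.mapPullbackAdj (bf xb)).homEquiv _ _).injective
  rw [← comp_iZ, ← comp_iZ, h]

theorem exists_comp_iZ {T' : Over S'} (g : (Over.map (bf xb)).obj T' ⟶ G)
    (hg : smul a g (xi xb T') = xi xb T') :
    ∃ w : T' ⟶ fibOver a xb, w ≫ iZ a xb = (Over.mapPullbackAdj (bf xb)).homEquiv _ _ g := by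
  obtain ⟨w, hw⟩ := exists_of_smul a xb g hg
  exact ⟨w, by rw [comp_iZ, hw]⟩

theorem exists_unit :
    ∃ e : 𝟙_ (Over S') ⟶ fibOver a xb, e ≫ iZ a xb = η[Red.bc (bf (X := X) xb) G] := by
  obtain ⟨w, hw⟩ := exists_comp_iZ a xb (T' := 𝟙_ (Over S')) 1
    (Groth.Agent.Lib.Helper40.ActPts.one_smul a _)
  refine ⟨w, ?_⟩
  rw [hw, he_one, Hom.one_def]
  have : toUnit (𝟙_ (Over S')) = 𝟙 _ := toUnit_unique _ _
  rw [this, Category.id_comp]

theorem exists_mul :
    ∃ m : fibOver a xb ⊗ fibOver a xb ⟶ fibOver a xb,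
      m ≫ iZ a xb = (fst _ _ ≫ iZ a xb) * (snd _ _ ≫ iZ a xb) := by
  set g₁ := (Over.map (bf xb)).map (fst (fibOver a xb) (fibOver a xb)) ≫ gZ a xb with hg₁
  set g₂ := (Over.map (bf xb)).map (snd (fibOver a xb) (fibOver a xb)) ≫ gZ a xb with hg₂
  have h₁ := map_gZ_smul a xb (fst (fibOver a xb) (fibOver a xb))
  have h₂ := map_gZ_smul a xb (snd (fibOver a xb) (fibOver a xb))
  obtain ⟨w, hw⟩ := exists_comp_iZ a xb (g₁ * g₂) (by
    rw [Groth.Agent.Lib.Helper40.ActPts.mul_smul, h₂, h₁])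
  refine ⟨w, ?_⟩
  rw [hw, AlgGrp.Action.homEquiv_mul, comp_iZ, comp_iZ]

theorem exists_inv :
    ∃ j : fibOver a xb ⟶ fibOver a xb, j ≫ iZ a xb = (iZ a xb)⁻¹ := by
  have h₁ := gZ_smul a xb
  obtain ⟨w, hw⟩ := exists_comp_iZ a xb (gZ a xb)⁻¹ (by
    conv_lhs => rw [← h₁]
    rw [← Groth.Agent.Lib.Helper40.ActPts.mul_smul, inv_mul_cancel,
      Groth.Agent.Lib.Helper40.ActPts.one_smul])
  refine ⟨w, ?_⟩
  rw [hw, he_inv]
  rfl

/-- the group structure on the fibre of the stabilizer -/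
@[instance_reducible]
noncomputable def grpObjFib : GrpObj (fibOver a xb) :=
  Groth.Agent.Lib.Helper43.SubGrp.grpOfMono (iZ a xb)
    (exists_unit a xb).choose (exists_unit a xb).choose_spec
    (exists_mul a xb).choose (exists_mul a xb).choose_spec
    (exists_inv a xb).choose (exists_inv a xb).choose_spec

end Groth.Agent.Lib.Helper79.StabGrp
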