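import Mathlib
import Groth.Agent.Lib.Helper79.StabGrp
import Groth.Agent.Lib.Helper16.FinHopfCartierFG

/-!
# Set-theoretically free actions are geometrically free (char 0 or finite étale group) (helper79)
-/

set_option autoImplicit false
set_option linter.style.haveILetI false
set_option linter.unusedSectionVars false

universe u

open CategoryTheory Limits AlgebraicGeometry MonoidalCategory CartesianMonoidalCategory MonObj

namespace Groth.Agent.Lib.Helper79.StabFree

open Groth.Agent.Lib.Helper40.ActPts Groth.Agent.Lib.Helper79.FreeAct
  Groth.Agent.Lib.Helper79.StabGrp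

section general

variable {S : Scheme.{u}} {G X : Over S} [GrpObj G] (a : AlgGrp.Action G X)

theorem locallyOfFiniteType_psi [LocallyOfFiniteType G.hom] [LocallyOfFiniteType X.hom] :
    LocallyOfFiniteType (GIT.psi a (𝟙 X)).left := by
  have h1 : (GIT.psi a (𝟙 X)).left ≫ (X ⊗ X).hom = (G ⊗ X).hom := Over.w (GIT.psi a (𝟙 X))
  have h2 : LocallyOfFiniteType (G ⊗ X).hom := by
    have : (G ⊗ X).hom = (snd G X).left ≫ X.hom := (Over.w (snd G X)).symm
    rw [this]
    have : LocallyOfFiniteType (snd G X).left := by
      change LocallyOfFiniteType (pullback.snd G.hom X.hom)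
      infer_instance
    infer_instance
  rw [← h1] at h2
  exact locallyOfFiniteType_of_comp _ (X ⊗ X).hom

theorem locallyOfFiniteType_stabP [LocallyOfFiniteType G.hom] [LocallyOfFiniteType X.hom] :
    LocallyOfFiniteType (stabP a) := by
  have := locallyOfFiniteType_psi a
  infer_instance

/-- the section of the fibre of the stabilizer -/
noncomputable def fibSection {S' : Scheme.{u}} (xb : S' ⟶ X.left) : S' ⟶ fib a xb :=
  pullback.lift (xb ≫ stabSection a) (𝟙 S') (by
    rw [Category.assoc, Category.id_comp]
    change xb ≫ stabSection a ≫ pullback.snd _ _ = xb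
    rw [stabSection_snd, Category.comp_id])

theorem fibSection_fibQ {S' : Scheme.{u}} (xb : S' ⟶ X.left) :
    fibSection a xb ≫ fibQ a xb = 𝟙 S' := by
  unfold fibSection
  exact pullback.lift_snd _ _ _

end general

section field

variable {k : Type u} [Field k] {G X : Over (Spec (CommRingCat.of k))} [GrpObj G]
  [LocallyOfFiniteType G.hom] [LocallyOfFiniteType X.hom] (a : AlgGrp.Action G X)

/-- Cartier: in characteristic zero, set-theoretically trivial stabilizers are trivial. -/
theorem isIso_fibQ_of_charZero [CharZero k] (hui : UniversallyInjective (stabP a)) (x : X.left) :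
    IsIso (fibQ a (X.left.fromSpecResidueField x)) := by
  set K := X.left.residueField x with hK
  set xb := X.left.fromSpecResidueField x with hxb
  set Z := fib a xb with hZ
  set q := fibQ a xb with hq
  have hσ := fibSection_fibQ a xb
  set σ := fibSection a xb with hσdef
  -- one point
  have huq : UniversallyInjective q := by
    rw [hq]; unfold fibQ
    exact MorphismProperty.of_isPullback (P := @UniversallyInjective)
      (IsPullback.of_hasPullback (stabP a) xb) hui
  have hinj : Function.Injective q.base := q.injective
  have hsub : Subsingleton ↥Z := hinj.subsingleton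
  have hne : Nonempty ↥Z := ⟨σ.base (Classical.arbitrary _)⟩
  have haff : IsAffine Z := inferInstance
  -- finite type
  have hlftP : LocallyOfFiniteType (stabP a) := locallyOfFiniteType_stabP a
  have hlft : LocallyOfFiniteType q := by
    rw [hq]; unfold fibQ; infer_instance
  -- group structure
  letI : Z.Over (Spec K) := ⟨q⟩
  letI : GrpObj (Z.asOver (Spec K)) := grpObjFib a xb
  letI hHopf : HopfAlgebra K Γ(Z, ⊤) := inferInstance
  -- char zero
  have hcz : CharZero K := by
    let ψ := Spec.preimage (bf (X := X) xb)
    exact charZero_of_injective_ringHom (f := ψ.hom) ψ.hom.injective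
  -- finite type algebra
  have hft : Algebra.FiniteType K Γ(Z, ⊤) := by
    rw [← RingHom.finiteType_algebraMap, algebraMap_presheafObj]
    have h1 : LocallyOfFiniteType (Z.isoSpec.inv ≫ Z ↘ Spec K) := by
      change LocallyOfFiniteType (Z.isoSpec.inv ≫ q)
      infer_instance
    have h2 : Spec.map (Spec.fullyFaithful.preimage (Z.isoSpec.inv ≫ Z ↘ Spec K)).unop =
        Z.isoSpec.inv ≫ Z ↘ Spec K := Spec.fullyFaithful.map_preimage _
    rw [← h2] at h1
    exact (HasRingHomProperty.Spec_iff (P := @LocallyOfFiniteType)).mp h1
  have hft' : @Algebra.FiniteType K Γ(Z, ⊤) _ _ hHopf.toAlgebra := hft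
  have hred : _root_.IsReduced Γ(Z, ⊤) :=
    @Groth.Agent.Lib.Helper16.FinHopf.isReduced_of_charZero K _ hcz Γ(Z, ⊤) _ hHopf hft'
  have hredZ : IsReduced Z := isReduced_of_isAffine_isReduced Z
  -- the section is a surjective closed immersion
  have hsep : IsSeparated q := inferInstance
  have hci : IsClosedImmersion σ := by
    have h1 : IsClosedImmersion (σ ≫ q) := by rw [hσ]; infer_instance
    exact MorphismProperty.of_postcomp (W := @IsClosedImmersion) (W' := @IsSeparated) σ q hsep h1
  have hsurj : Surjective σ := ⟨fun z => ⟨Classical.arbitrary _, Subsingleton.elim _ _⟩⟩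
  have hiso : IsIso σ := isIso_of_isClosedImmersion_of_surjective σ
  have : q = inv σ := by
    rw [← cancel_epi σ, hσ, IsIso.hom_inv_id]
  rw [this]
  infer_instance

/-- if `G` is étale and `X` separated, set-theoretically trivial stabilizers are trivial. -/
theorem isIso_stabP_of_etale [IsSeparated X.hom] (het : Etale G.hom)
    (hui : UniversallyInjective (stabP a)) : IsIso (stabP a) := by
  have hΔ : IsClosedImmersion (lift (𝟙 X) (𝟙 X)).left := by
    change IsClosedImmersion (pullback.diagonal X.hom)
    infer_instance
  have h1 : IsClosedImmersion (pullback.fst (GIT.psi a (𝟙 X)).left (lift (𝟙 X) (𝟙 X)).left) :=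
    inferInstance
  have h2 : Etale (snd G X).left := by
    change Etale (pullback.snd G.hom X.hom)
    infer_instance
  have h3 : FormallyUnramified
      (pullback.fst (GIT.psi a (𝟙 X)).left (lift (𝟙 X) (𝟙 X)).left) := inferInstance
  have h4 : FormallyUnramified (snd G X).left := inferInstance
  have hunr : FormallyUnramified (stabP a) := by
    rw [stabP_eq]
    exact MorphismProperty.comp_mem @FormallyUnramified _ _ h3 h4
  have hlft : LocallyOfFiniteType (stabP a) := locallyOfFiniteType_stabP a
  have hoi : IsOpenImmersion (stabSection a) :=
    Groth.Agent.Lib.Helper79.TrivGrpFibre.isOpenImmersion_of_section (stabP a) (stabSection a)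
      (stabSection_snd a)
  have hinj : Function.Injective (stabP a).base := (stabP a).injective
  have hsurj : Function.Surjective (stabSection a).base := by
    intro z
    refine ⟨(stabP a).base z, hinj ?_⟩
    have : (stabSection a ≫ stabP a).base ((stabP a).base z) = (stabP a).base z := by
      rw [stabSection_snd]; rfl
    exact this
  have hiso : IsIso (stabSection a) :=
    (isIso_iff_isOpenImmersion_and_epi_base _).mpr
      ⟨hoi, (TopCat.epi_iff_surjective _).mpr hsurj⟩
  have : stabP a = inv (stabSection a) := by
    rw [← cancel_epi (stabSection a), stabSection_snd a, IsIso.hom_inv_id]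
  rw [this]
  infer_instance

/-- set-theoretically free iff geometrically free -/
theorem universallyInjective_stabP_iff [IsSeparated X.hom]
    (hG : CharZero k ∨ (IsFinite G.hom ∧ Etale G.hom)) :
    UniversallyInjective (stabP a) ↔
      ∀ x : ↥X.left, IsIso ((stabP a).fiberToSpecResidueField x) := by
  constructor
  · intro hui x
    rcases hG with hcz | ⟨_, het⟩
    · exact isIso_fibQ_of_charZero a hui x
    · have := isIso_stabP_of_etale a het hui
      unfold Scheme.Hom.fiberToSpecResidueField
      exact MorphismProperty.pullback_snd (P := MorphismProperty.isomorphisms Scheme.{u}) _ _ this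
  · intro h
    have hlft : LocallyOfFiniteType (stabP a) := locallyOfFiniteType_stabP a
    have hiso := Groth.Agent.Lib.Helper79.TrivGrpFibre.isIso_of_section_of_fibres _
      (stabSection a) (stabSection_snd a) h
    infer_instance

/-- free iff proper and set-theoretically free -/
theorem isClosedImmersion_psi_iff [IsSeparated X.hom]
    (hG : CharZero k ∨ (IsFinite G.hom ∧ Etale G.hom)) :
    IsClosedImmersion (GIT.psi a (𝟙 X)).left ↔
      IsProper (GIT.psi a (𝟙 X)).left ∧ UniversallyInjective (stabP a) := by
  constructor
  · intro h
    refine ⟨inferInstance, ?_⟩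
    have : Mono (stabP a) := inferInstance
    infer_instance
  · rintro ⟨hp, hui⟩
    exact isClosedImmersion_psi a hp ((universallyInjective_stabP_iff a hG).mp hui)

end field

end Groth.Agent.Lib.Helper79.StabFree
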