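import Mathlib
import Groth.Prelude.Def_FibCat2

/-!
Pasting of 2-cartesian squares of categories.
-/

universe v u

open CategoryTheory CategoryTheory.Functor CategoryTheory.Limits

namespace Groth.Agent.Lib.Helper79.TwoCart

open CategoricalPullback

variable {A B A' B' A'' B'' : Type u} [Category.{v} A] [Category.{v} B] [Category.{v} A']
  [Category.{v} B'] [Category.{v} A''] [Category.{v} B'']

/-- the comparison functor of a square -/
abbrev cmp {X P Q S : Type u} [Category.{v} X] [Category.{v} P] [Category.{v} Q] [Category.{v} S]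
    (T : X ⥤ P) (L : X ⥤ Q) (F : P ⥤ S) (G : Q ⥤ S) (e : T ⋙ F ≅ L ⋙ G) : X ⥤ F ⊡ G :=
  (CatCommSqOver.toFunctorToCategoricalPullback F G X).obj ⟨T, L, e⟩

section

variable (r : B ⥤ B') (t' : A' ⥤ B') (l' : A' ⥤ A'') (r' : B' ⥤ B'') (t'' : A'' ⥤ B'')
  (e₂ : t' ⋙ r' ≅ l' ⋙ t'')

/-- the functor `Ψ : r ⊡ t' ⥤ (r ⋙ r') ⊡ t''` -/
def psi : r ⊡ t' ⥤ (r ⋙ r') ⊡ t'' where
  obj x :=
    { fst := x.fst
      snd := l'.obj x.snd
      iso := r'.mapIso x.iso ≪≫ e₂.app x.snd }
  map {x y} f :=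
    { fst := f.fst
      snd := l'.map f.snd
      w := by
        have h := f.w
        have h2 := e₂.hom.naturality f.snd
        simp only [Functor.comp_obj, Functor.comp_map, Iso.trans_hom, Functor.mapIso_hom,
          Iso.app_hom, Category.assoc] at h2 ⊢
        rw [← h2, ← r'.map_comp_assoc, h, r'.map_comp_assoc] }
  map_id x := by ext <;> simp
  map_comp f g := by ext <;> simp

variable {r t' l' r' t'' e₂}

instance psi_faithful [(cmp t' l' r' t'' e₂).Faithful] : (psi r t' l' r' t'' e₂).Faithful where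
  map_injective {x y} f g h := by
    have h1 : f.fst = g.fst := by
      have := congrArg Hom.fst h
      exact this
    have h2 : l'.map f.snd = l'.map g.snd := by
      have := congrArg Hom.snd h
      exact this
    have h3 : t'.map f.snd = t'.map g.snd := by
      have hf := f.w
      have hg := g.w
      have e1 : t'.map f.snd = x.iso.inv ≫ r.map f.fst ≫ y.iso.hom := by
        rw [hf]; simp
      have e2 : t'.map g.snd = x.iso.inv ≫ r.map g.fst ≫ y.iso.hom := by
        rw [hg]; simp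
      rw [e1, e2, h1]
    have h4 : (cmp t' l' r' t'' e₂).map f.snd = (cmp t' l' r' t'' e₂).map g.snd := by
      ext
      · exact h3
      · exact h2
    have h5 := (cmp t' l' r' t'' e₂).map_injective h4
    ext
    · exact h1
    · exact h5

instance psi_full [(cmp t' l' r' t'' e₂).Full] : (psi r t' l' r' t'' e₂).Full where
  map_surjective {x y} f := by
    let f1 : x.fst ⟶ y.fst := f.fst
    let f2 : l'.obj x.snd ⟶ l'.obj y.snd := f.snd
    have hf : r'.map (r.map f1) ≫ r'.map y.iso.hom ≫ e₂.hom.app y.snd =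
        r'.map x.iso.hom ≫ e₂.hom.app x.snd ≫ t''.map f2 := by
      have h := f.w
      simpa [psi] using h
    -- u : t' x.snd ⟶ t' y.snd
    let u : t'.obj x.snd ⟶ t'.obj y.snd := x.iso.inv ≫ r.map f1 ≫ y.iso.hom
    have hw : r'.map u ≫ e₂.hom.app y.snd = e₂.hom.app x.snd ≫ t''.map f2 := by
      simp only [u, Functor.map_comp, Category.assoc]
      rw [hf, ← r'.map_comp_assoc, Iso.inv_hom_id, r'.map_id, Category.id_comp]
    let m : (cmp t' l' r' t'' e₂).obj x.snd ⟶ (cmp t' l' r' t'' e₂).obj y.snd :=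
      { fst := u
        snd := f2
        w := hw }
    obtain ⟨g, hg⟩ := (cmp t' l' r' t'' e₂).map_surjective m
    have hg1 : t'.map g = u := by
      have := congrArg Hom.fst hg
      exact this
    have hg2 : l'.map g = f2 := by
      have := congrArg Hom.snd hg
      exact this
    have hwg : r.map f1 ≫ y.iso.hom = x.iso.hom ≫ t'.map g := by
      rw [hg1]; simp [u]
    refine ⟨⟨f1, g, hwg⟩, ?_⟩
    ext
    · rfl
    · exact hg2

instance psi_essSurj [(cmp t' l' r' t'' e₂).EssSurj] : (psi r t' l' r' t'' e₂).EssSurj where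
  mem_essImage y := by
    -- the object (r y.fst, y.snd, y.iso) of r' ⊡ t''
    let z : r' ⊡ t'' := ⟨r.obj y.fst, y.snd, y.iso⟩
    let a' := (cmp t' l' r' t'' e₂).objPreimage z
    let i : (cmp t' l' r' t'' e₂).obj a' ≅ z := (cmp t' l' r' t'' e₂).objObjPreimageIso z
    let α : t'.obj a' ≅ r.obj y.fst := (π₁ r' t'').mapIso i
    let β : l'.obj a' ≅ y.snd := (π₂ r' t'').mapIso i
    have hw : r'.map α.hom ≫ y.iso.hom = e₂.hom.app a' ≫ t''.map β.hom := i.hom.w
    refine ⟨⟨y.fst, a', α.symm⟩, ⟨CategoricalPullback.mkIso (Iso.refl _) β ?_⟩⟩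
    simp only [psi, Functor.comp_obj, Iso.refl_hom, Functor.map_id, Category.id_comp,
      Iso.trans_hom, Functor.mapIso_hom, Iso.symm_hom, Iso.app_hom, Category.assoc]
    rw [← hw, ← r'.map_comp_assoc, Iso.inv_hom_id, r'.map_id, Category.id_comp,
      CategoryTheory.Functor.map_id]
    exact Category.id_comp _

theorem psi_isEquivalence (h : (cmp t' l' r' t'' e₂).IsEquivalence) :
    (psi r t' l' r' t'' e₂).IsEquivalence := by
  haveI := h
  exact { }

end

/-- the outer comparison is the upper comparison followed by `Ψ` -/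
def cmpOuterIso (t : A ⥤ B) (l : A ⥤ A') (r : B ⥤ B') (t' : A' ⥤ B') (l' : A' ⥤ A'')
    (r' : B' ⥤ B'') (t'' : A'' ⥤ B'') (e₁ : t ⋙ r ≅ l ⋙ t') (e₂ : t' ⋙ r' ≅ l' ⋙ t'') :
    cmp t (l ⋙ l') (r ⋙ r') t''
        ((Functor.associator t r r').symm ≪≫ isoWhiskerRight e₁ r' ≪≫ Functor.associator l t' r' ≪≫
          isoWhiskerLeft l e₂ ≪≫ (Functor.associator l l' t'').symm) ≅
      cmp t l r t' e₁ ⋙ psi r t' l' r' t'' e₂ := by
  refine NatIso.ofComponents (fun x ↦ CategoricalPullback.mkIso (Iso.refl (t.obj x))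
    (Iso.refl (l'.obj (l.obj x))) ?_) ?_
  · show (r ⋙ r').map (𝟙 (t.obj x)) ≫ (r'.map (e₁.hom.app x) ≫ e₂.hom.app (l.obj x)) =
      ((Functor.associator t r r').symm ≪≫ isoWhiskerRight e₁ r' ≪≫ Functor.associator l t' r' ≪≫
          isoWhiskerLeft l e₂ ≪≫ (Functor.associator l l' t'').symm).hom.app x ≫
        t''.map (𝟙 (l'.obj (l.obj x)))
    simp
  · intro x y f
    ext
    · show t.map f ≫ 𝟙 (t.obj y) = 𝟙 (t.obj x) ≫ t.map f
      simp
    · show l'.map (l.map f) ≫ 𝟙 (l'.obj (l.obj y)) = 𝟙 (l'.obj (l.obj x)) ≫ l'.map (l.map f)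
      simp

theorem paste (t : A ⥤ B) (l : A ⥤ A') (r : B ⥤ B') (t' : A' ⥤ B') (l' : A' ⥤ A'')
    (r' : B' ⥤ B'') (t'' : A'' ⥤ B'') (e₁ : t ⋙ r ≅ l ⋙ t') (e₂ : t' ⋙ r' ≅ l' ⋙ t'')
    (h₂ : FibCat.IsTwoCart t' l' r' t'' e₂) :
    FibCat.IsTwoCart t l r t' e₁ ↔
      FibCat.IsTwoCart t (l ⋙ l') (r ⋙ r') t''
        ((Functor.associator t r r').symm ≪≫ isoWhiskerRight e₁ r' ≪≫ Functor.associator l t' r' ≪≫
          isoWhiskerLeft l e₂ ≪≫ (Functor.associator l l' t'').symm) := by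
  have hpsi : (psi r t' l' r' t'' e₂).IsEquivalence := psi_isEquivalence h₂
  have iso := cmpOuterIso t l r t' l' r' t'' e₁ e₂
  constructor
  · intro h₁
    haveI : (cmp t l r t' e₁).IsEquivalence := h₁
    haveI : (cmp t l r t' e₁ ⋙ psi r t' l' r' t'' e₂).IsEquivalence := inferInstance
    exact Functor.isEquivalence_of_iso iso.symm
  · intro h₃
    haveI : (cmp t (l ⋙ l') (r ⋙ r') t''
        ((Functor.associator t r r').symm ≪≫ isoWhiskerRight e₁ r' ≪≫ Functor.associator l t' r' ≪≫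
          isoWhiskerLeft l e₂ ≪≫ (Functor.associator l l' t'').symm)).IsEquivalence := h₃
    haveI : (cmp t l r t' e₁ ⋙ psi r t' l' r' t'' e₂).IsEquivalence :=
      Functor.isEquivalence_of_iso iso
    exact Functor.isEquivalence_of_comp_right (cmp t l r t' e₁) (psi r t' l' r' t'' e₂)

end Groth.Agent.Lib.Helper79.TwoCart
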