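import Mathlib
import Groth.Prelude.Def_WeilCoh
import Groth.Prelude.Def_ChowOps
import Groth.Agent.Lib.Helper79.WeilSwap

/-!
# Zero cycles: points of δ-dimension 0 are closed with trivial residue extension; degree = trace of class
-/

namespace Groth.Agent.Lib.Helper79.Weil

open AlgebraicGeometry CategoryTheory WeilCoh Groth.Agent.Lib.Helper78

universe u v w

variable {k : Type u} [Field k] [IsAlgClosed k]

omit [IsAlgClosed k] in
theorem isClosed_singleton_pt (y : Spec (CommRingCat.of k)) :
    IsClosed ({y} : Set (Spec (CommRingCat.of k))) := isClosed_discrete _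

theorem residueFieldMap_surjective_of_trdeg_zero {X : Scheme.{u}}
    (f : X ⟶ Spec (CommRingCat.of k)) (x : X)
    (h : (letI := (f.residueFieldMap x).hom.toAlgebra
      Algebra.trdeg ((Spec (CommRingCat.of k)).residueField (f x)) (X.residueField x)) = 0) :
    Function.Surjective (f.residueFieldMap x).hom := by
  letI := (f.residueFieldMap x).hom.toAlgebra
  have halg : Algebra.IsAlgebraic ((Spec (CommRingCat.of k)).residueField (f x))
      (X.residueField x) := trdeg_eq_zero_iff.mp h
  have hy := isClosed_singleton_pt (f x)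
  let e := (residueFieldIsoBase (𝟙 (Spec (CommRingCat.of k))) (f x) hy).commRingCatIsoToRingEquiv
  haveI : IsAlgClosed ((Spec (CommRingCat.of k)).residueField (f x)) :=
    IsAlgClosed.of_ringEquiv k _ e.symm
  exact (IsAlgClosed.algebraMap_bijective_of_isIntegral
    (k := (Spec (CommRingCat.of k)).residueField (f x)) (K := X.residueField x)).2

omit [IsAlgClosed k] in
theorem isClosed_of_residueFieldMap_surjective {X : Scheme.{u}}
    (f : X ⟶ Spec (CommRingCat.of k)) [LocallyOfFiniteType f] (x : X)
    (h : Function.Surjective (f.residueFieldMap x).hom) : IsClosed ({x} : Set X) := by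
  have : JacobsonSpace ↥X := LocallyOfFiniteType.jacobsonSpace f
  rw [isClosed_singleton_iff_locallyOfFiniteType]
  have h2 := Scheme.Hom.SpecMap_residueFieldMap_fromSpecResidueField f x
  have h3 : IsClosedImmersion (Spec.map (f.residueFieldMap x)) :=
    IsClosedImmersion.spec_of_surjective _ h
  have h4 : IsClosedImmersion ((Spec (CommRingCat.of k)).fromSpecResidueField (f x)) :=
    isClosed_singleton_iff_isClosedImmersion.mp (isClosed_singleton_pt (f x))
  have h5 : LocallyOfFiniteType (X.fromSpecResidueField x ≫ f) := by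
    rw [← h2]; infer_instance
  exact locallyOfFiniteType_of_comp (X.fromSpecResidueField x) f

/-- A point of δ-dimension zero is closed with trivial residue field extension. -/
theorem zeroDim_point {X : Scheme.{u}} (f : X ⟶ Spec (CommRingCat.of k)) [LocallyOfFiniteType f]
    (δ : X → ℤ) (hδ : Cyc.DeltaCompat f δ (fun _ => 0)) (x : X) (hx : δ x = 0) :
    IsClosed ({x} : Set X) ∧ f.residueDegree x = 1 := by
  obtain ⟨n, hn, hn'⟩ := hδ x
  have hn'' : δ x = 0 + (n : ℤ) := hn'
  have hn0 : n = 0 := by omega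
  subst hn0
  have hs := residueFieldMap_surjective_of_trdeg_zero f x (by simpa using hn)
  exact ⟨isClosed_of_residueFieldMap_surjective f x hs, residueDegree_eq_one_of_surjective f x hs⟩

theorem finite_support_cycle {X : Scheme.{u}} [CompactSpace X] (α : AlgebraicCycle X ℤ) :
    (Function.support α).Finite := by
  have := α.locallyFiniteSupport.finite_inter_support_of_isCompact isCompact_univ
  simpa using this

/-- The degree of a zero cycle is the sum of its coefficients. -/
theorem deg_eq_finsum {X : Scheme.{u}} (f : X ⟶ Spec (CommRingCat.of k)) [LocallyOfFiniteType f]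
    [QuasiCompact f] (δ : X → ℤ) (hδ : Cyc.DeltaCompat f δ (fun _ => 0))
    (α : AlgebraicCycle X ℤ) (hα : α ∈ Cyc.Zk X δ 0) :
    ChowOps.deg f δ α = ∑ᶠ x : X, α x := by
  unfold ChowOps.deg AlgebraicCycle.map
  show (∑ᶠ x ∈ (f : X → Spec (CommRingCat.of k)) ⁻¹'
      {(IsLocalRing.closedPoint k : ↥(Spec (CommRingCat.of k)))},
      α x * ((AlgebraicCycle.mapCoeff f δ (fun _ => (0 : ℤ)) x : ℕ) : ℤ)) = _
  have hS : (f : X → Spec (CommRingCat.of k)) ⁻¹'
      {(IsLocalRing.closedPoint k : ↥(Spec (CommRingCat.of k)))} = Set.univ := by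
    ext x; simp only [Set.mem_preimage, Set.mem_univ, iff_true]
    exact Subsingleton.elim _ _
  rw [hS, finsum_mem_univ]
  refine finsum_congr fun x => ?_
  by_cases hx : δ x = 0
  · have := (zeroDim_point f δ hδ x hx).2
    simp [AlgebraicCycle.mapCoeff, hx, this]
  · rw [hα x hx, zero_mul]

section Theory

variable {K : Type v} [Field K] (T : TheoryOn.{u, v, w} k (IsVar k) K)

/-- The trace of the class of a zero cycle is the sum of its coefficients. -/
theorem tr_clCyc_zero (X : Var k) (δ : ↥X.obj.left → ℤ)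
    (hδ : Cyc.DeltaCompat X.obj.hom δ (fun _ => 0))
    (α : AlgebraicCycle X.obj.left ℤ) (hα : α ∈ Cyc.Zk X.obj.left δ 0) :
    T.tr X (T.clCyc X α) = ((∑ᶠ x : X.obj.left, α x : ℤ) : K) := by
  have : CompactSpace ↥X.obj.left :=
    (quasiCompact_iff_compactSpace X.obj.hom).mp inferInstance
  have hfin := finite_support_cycle α
  unfold TheoryOn.clCyc
  have hsupp : (Function.support fun ξ : X.obj.left => ((α ξ : ℤ) : K) • T.cl X ξ).Finite :=
    hfin.subset (fun ξ hξ => by
      rw [Function.mem_support] at hξ ⊢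
      intro h0; apply hξ; rw [h0]; simp)
  have hcast : ((∑ᶠ x : X.obj.left, α x : ℤ) : K) = ∑ᶠ x : X.obj.left, ((α x : ℤ) : K) :=
    map_finsum (Int.castRingHom K) hfin
  rw [map_finsum _ hsupp, hcast]
  refine finsum_congr fun ξ => ?_
  by_cases hx : δ ξ = 0
  · have hc := (zeroDim_point X.obj.hom δ hδ ξ hx).1
    rw [map_smul, tr_cl_of_isClosed T X ξ hc]; simp
  · rw [hα ξ hx]; simp

/-- All closed points have the same class. -/
theorem cl_closed_eq (X : Var k) (x y : X.obj.left) (hx : IsClosed ({x} : Set X.obj.left))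
    (hy : IsClosed ({y} : Set X.obj.left)) : T.cl X x = T.cl X y := by
  have hm : ∀ z : X.obj.left, IsClosed ({z} : Set X.obj.left) →
      T.cl X z ∈ T.gr X (2 * (dim X.obj.left : ℤ)) := by
    intro z hz
    refine mem_gr_of_eq T X ?_ (T.cl_mem X z)
    unfold codim; rw [pdim_of_isClosed z hz]; simp
  have hinj := (T.tr_bijective X).1
  have : (⟨T.cl X x, hm x hx⟩ : ↥(T.gr X (2 * (dim X.obj.left : ℤ)))) = ⟨T.cl X y, hm y hy⟩ := by
    apply hinj
    simp [LinearMap.domRestrict_apply, tr_cl_of_isClosed T X _ hx, tr_cl_of_isClosed T X _ hy]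
  exact congrArg Subtype.val this

/-- The class of a zero cycle is its degree times the class of a closed point. -/
theorem clCyc_zero_eq (X : Var k) (δ : ↥X.obj.left → ℤ)
    (hδ : Cyc.DeltaCompat X.obj.hom δ (fun _ => 0))
    (α : AlgebraicCycle X.obj.left ℤ) (hα : α ∈ Cyc.Zk X.obj.left δ 0)
    (x0 : X.obj.left) (hx0 : IsClosed ({x0} : Set X.obj.left)) :
    T.clCyc X α = ((∑ᶠ x : X.obj.left, α x : ℤ) : K) • T.cl X x0 := by
  have : CompactSpace ↥X.obj.left :=
    (quasiCompact_iff_compactSpace X.obj.hom).mp inferInstance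
  have hfin := finite_support_cycle α
  unfold TheoryOn.clCyc
  have h1 : ∀ ξ : X.obj.left, ((α ξ : ℤ) : K) • T.cl X ξ = ((α ξ : ℤ) : K) • T.cl X x0 := by
    intro ξ
    by_cases hx : δ ξ = 0
    · rw [cl_closed_eq T X ξ x0 (zeroDim_point X.obj.hom δ hδ ξ hx).1 hx0]
    · rw [hα ξ hx]; simp
  simp only [h1]
  have hcast : ((∑ᶠ x : X.obj.left, α x : ℤ) : K) = ∑ᶠ x : X.obj.left, ((α x : ℤ) : K) :=
    map_finsum (Int.castRingHom K) hfin
  rw [hcast]
  have hfin' : (Function.support fun ξ : X.obj.left => ((α ξ : ℤ) : K)).Finite :=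
    hfin.subset (fun ξ hξ => by
      rw [Function.mem_support] at hξ ⊢
      intro h0; apply hξ; rw [h0]; simp)
  exact (finsum_smul (fun ξ : X.obj.left => ((α ξ : ℤ) : K)) (T.cl X x0)).symm

end Theory

end Groth.Agent.Lib.Helper79.Weil
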