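import Mathlib
import Groth.Prelude.Def_WeilCoh
import Groth.Prelude.Def_ChowOps
import Groth.Agent.Lib.Helper79.WeilCyc
import Groth.Agent.Lib.Helper79.WeilDimTr

/-!
# Compatibility of the cycle class with proper push-forward of cycles
-/

namespace Groth.Agent.Lib.Helper79.Weil

open AlgebraicGeometry CategoryTheory WeilCoh Groth.Agent.Lib.Helper78

universe u v w

variable {k : Type u} [Field k]

theorem delta_eq_pdim (X : Var k) (δ : ↥X.obj.left → ℤ)
    (hδ : Cyc.DeltaCompat X.obj.hom δ (fun _ => 0)) (x : X.obj.left) :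
    δ x = (pdim X.obj.left x : ℤ) := by
  obtain ⟨n, hn, hn'⟩ := hδ x
  have hn'' : δ x = 0 + (n : ℤ) := hn'
  rw [pdim_eq_of_trdeg X.obj.hom x n hn, hn'']; simp

variable {K : Type v} [Field K] (T : TheoryOn.{u, v, w} k (IsVar k) K)

/-- The pointwise push-forward identity, for arbitrary classes. -/
theorem mapCoeff_mul_tr {X Y : Var k} (f : X ⟶ Y)
    (δX : ↥X.obj.left → ℤ) (hδX : Cyc.DeltaCompat X.obj.hom δX (fun _ => 0))
    (δY : ↥Y.obj.left → ℤ) (hδY : Cyc.DeltaCompat Y.obj.hom δY (fun _ => 0))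
    (x : X.obj.left) (b : T.H Y) :
    ((AlgebraicCycle.mapCoeff (sm f) δX δY x : ℕ) : K) * T.tr Y (T.cl Y (sm f x) * b) =
      T.tr X (T.cl X x * T.pull f b) := by
  have h1 := codim_add_pdim X x
  have h2 := codim_add_pdim Y (sm f x)
  have hX := delta_eq_pdim X δX hδX x
  have hY := delta_eq_pdim Y δY hδY (sm f x)
  refine hom_induction T Y (C := fun b =>
    ((AlgebraicCycle.mapCoeff (sm f) δX δY x : ℕ) : K) * T.tr Y (T.cl Y (sm f x) * b) =
      T.tr X (T.cl X x * T.pull f b)) b ?_ ?_
  · intro m b hb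
    unfold AlgebraicCycle.mapCoeff
    by_cases hm : m = 2 * (pdim X.obj.left x : ℤ)
    · subst hm
      rw [T.cl_push f x b hb]
      split_ifs with he
      · rfl
      · have hdeg : (sm f).residueDegree x = 0 := by
          by_contra hne
          have := pdim_sm_eq f x hne
          apply he
          show δX x = δY (sm f x)
          rw [hX, hY, this]
        rw [hdeg]
    · have hmemX : T.cl X x * T.pull f b ∈ T.gr X (2 * (codim X.obj.left x : ℤ) + m) :=
        SetLike.mul_mem_graded (T.cl_mem X x) (T.pull_mem f m b hb)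
      rw [T.tr_vanish X _ _ hmemX (by omega)]
      split_ifs with he
      · have he' : δX x = δY (sm f x) := he
        rw [hX, hY] at he'
        have hmemY : T.cl Y (sm f x) * b ∈ T.gr Y (2 * (codim Y.obj.left (sm f x) : ℤ) + m) :=
          SetLike.mul_mem_graded (T.cl_mem Y _) hb
        rw [T.tr_vanish Y _ _ hmemY (by omega), mul_zero]
      · simp
  · intro a b ha hb
    rw [mul_add, map_add, mul_add, ha, hb, map_add, mul_add, map_add]

/-- Compatibility of the cycle class with proper push-forward, in trace form. -/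
theorem tr_clCyc_map {X Y : Var k} (f : X ⟶ Y) [QuasiCompact (sm f)]
    (δX : ↥X.obj.left → ℤ) (hδX : Cyc.DeltaCompat X.obj.hom δX (fun _ => 0))
    (δY : ↥Y.obj.left → ℤ) (hδY : Cyc.DeltaCompat Y.obj.hom δY (fun _ => 0))
    (α : AlgebraicCycle X.obj.left ℤ) (b : T.H Y) :
    T.tr Y (T.clCyc Y (AlgebraicCycle.map (sm f) δX δY α) * b) =
      T.tr X (T.clCyc X α * T.pull f b) := by
  classical
  have cX : CompactSpace ↥X.obj.left := (quasiCompact_iff_compactSpace X.obj.hom).mp inferInstance
  have hfinα := finite_support_cycle α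
  set s := hfinα.toFinset with hs
  have hsmem : ∀ x, x ∈ s ↔ α x ≠ 0 := fun x => by rw [hs, Set.Finite.mem_toFinset]; rfl
  -- the coefficient of the push-forward as a finite sum
  have hβ : ∀ z : Y.obj.left, AlgebraicCycle.map (sm f) δX δY α z =
      ∑ x ∈ s.filter (fun x => sm f x = z),
        α x * ((AlgebraicCycle.mapCoeff (sm f) δX δY x : ℕ) : ℤ) := by
    intro z
    show (∑ᶠ x ∈ (sm f : X.obj.left → Y.obj.left) ⁻¹' {z},
      α x * ((AlgebraicCycle.mapCoeff (sm f) δX δY x : ℕ) : ℤ)) = _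
    apply finsum_mem_eq_sum_of_inter_support_eq
    ext x
    simp only [Set.mem_inter_iff, Set.mem_preimage, Set.mem_singleton_iff, Function.mem_support,
      Finset.coe_filter, Set.mem_ofPred_eq, hsmem]
    constructor
    · rintro ⟨h1, h2⟩
      exact ⟨⟨fun h0 => h2 (by rw [h0, zero_mul]), h1⟩, h2⟩
    · rintro ⟨⟨_, h1⟩, h2⟩
      exact ⟨h1, h2⟩
  have hsuppX : (Function.support fun ξ : X.obj.left => ((α ξ : ℤ) : K) • T.cl X ξ) ⊆ ↑s := by
    intro ξ hξ
    rw [Finset.mem_coe, hsmem]
    intro h0; apply hξ; simp [h0]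
  have hsuppY : (Function.support fun z : Y.obj.left =>
      ((AlgebraicCycle.map (sm f) δX δY α z : ℤ) : K) • T.cl Y z) ⊆ ↑(s.image (sm f)) := by
    intro z hz
    rw [Finset.mem_coe, Finset.mem_image]
    by_contra hne
    apply hz
    have : AlgebraicCycle.map (sm f) δX δY α z = 0 := by
      rw [hβ z]
      apply Finset.sum_eq_zero
      intro x hx
      rw [Finset.mem_filter] at hx
      exact absurd ⟨x, hx.1, hx.2⟩ hne
    simp [this]
  unfold TheoryOn.clCyc
  rw [finsum_eq_sum_of_support_subset _ hsuppX, finsum_eq_sum_of_support_subset _ hsuppY,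
    Finset.sum_mul, map_sum, Finset.sum_mul, map_sum]
  rw [← Finset.sum_fiberwise_of_maps_to (g := (sm f : X.obj.left → Y.obj.left))
    (t := s.image (sm f)) (fun x hx => Finset.mem_image_of_mem _ hx)]
  refine Finset.sum_congr rfl fun z _ => ?_
  rw [smul_mul_assoc, map_smul, smul_eq_mul, hβ z, Int.cast_sum, Finset.sum_mul]
  refine Finset.sum_congr rfl fun x hx => ?_
  rw [Finset.mem_filter] at hx
  rw [smul_mul_assoc, map_smul, smul_eq_mul, ← mapCoeff_mul_tr T f δX hδX δY hδY x b, hx.2]
  push_cast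
  ring

end Groth.Agent.Lib.Helper79.Weil
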