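import Mathlib
import Groth.Prelude.Def_W4c1zetahwZeta
import Groth.Agent.Lib.Helper39.PowerSeriesODE

/-!
# The zeta function as a function of the point counts (helper79)
-/

namespace Groth.Agent.Lib.Helper79.ZetaPS

open PowerSeries Groth.Agent.Lib.Helper39

/-- `exp (∑ N_m t^m / m)` -/
noncomputable def zOf (N : ℕ → ℕ) : PowerSeries ℚ :=
  PowerSeries.subst (PowerSeries.mk fun m => (N m : ℚ) / m) (PowerSeries.exp ℚ)

theorem constantCoeff_logOf (N : ℕ → ℕ) :
    constantCoeff (PowerSeries.mk fun m => (N m : ℚ) / m) = 0 := by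
  rw [← coeff_zero_eq_constantCoeff_apply, coeff_mk]
  simp

theorem derivative_logOf (N : ℕ → ℕ) :
    d⁄dX ℚ (PowerSeries.mk fun m => (N m : ℚ) / m) = PowerSeries.mk fun m => (N (m + 1) : ℚ) := by
  ext m
  rw [coeff_derivative, coeff_mk, coeff_mk]
  have : ((m : ℚ) + 1) ≠ 0 := Nat.cast_add_one_ne_zero m
  push_cast
  field_simp

theorem zOf_LD (N : ℕ → ℕ) : LD (zOf N) (PowerSeries.mk fun m => (N (m + 1) : ℚ)) := by
  have h := expSubst_LD (K := ℚ) _ (constantCoeff_logOf N)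
  rw [derivative_logOf] at h
  exact h

theorem constantCoeff_zOf (N : ℕ → ℕ) : constantCoeff (zOf N) = 1 :=
  constantCoeff_expSubst (K := ℚ) _ (constantCoeff_logOf N)

theorem zOf_congr {N N' : ℕ → ℕ} (h : ∀ m, 1 ≤ m → N m = N' m) : zOf N = zOf N' := by
  apply LD.unique (zOf_LD N) _ (by rw [constantCoeff_zOf, constantCoeff_zOf])
  have := zOf_LD N'
  have e : (PowerSeries.mk fun m => (N (m + 1) : ℚ)) = PowerSeries.mk fun m => (N' (m + 1) : ℚ) := by
    ext m
    rw [coeff_mk, coeff_mk, h (m + 1) (by omega)]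
  rw [e]
  exact this

theorem zOf_sum {ι : Type*} [Fintype ι] (N : ι → ℕ → ℕ) :
    zOf (fun m => ∑ i, N i m) = ∏ i, zOf (N i) := by
  have h1 := zOf_LD (fun m => ∑ i, N i m)
  have h2 := LD.prod Finset.univ (fun i => zOf (N i)) _ (fun i _ => zOf_LD (N i))
  have e : (PowerSeries.mk fun m => ((∑ i, N i (m + 1) : ℕ) : ℚ)) =
      ∑ i, PowerSeries.mk fun m => (N i (m + 1) : ℚ) := by
    ext m
    rw [coeff_mk, map_sum]
    push_cast
    refine Finset.sum_congr rfl (fun i _ => ?_)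
    rw [coeff_mk]
  rw [e] at h1
  apply LD.unique h1 h2
  rw [constantCoeff_zOf, map_prod]
  simp [constantCoeff_zOf]

theorem zOf_add (N N' : ℕ → ℕ) : zOf (fun m => N m + N' m) = zOf N * zOf N' := by
  have h1 := zOf_LD (fun m => N m + N' m)
  have h2 := (zOf_LD N).mul (zOf_LD N')
  have e : (PowerSeries.mk fun m => ((N (m + 1) + N' (m + 1) : ℕ) : ℚ)) =
      (PowerSeries.mk fun m => (N (m + 1) : ℚ)) + PowerSeries.mk fun m => (N' (m + 1) : ℚ) := by
    ext m
    rw [map_add, coeff_mk, coeff_mk, coeff_mk]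
    push_cast
    rfl
  rw [e] at h1
  apply LD.unique h1 h2
  rw [constantCoeff_zOf, map_mul, constantCoeff_zOf, constantCoeff_zOf, one_mul]

theorem derivative_rescale (a : ℚ) (y : PowerSeries ℚ) :
    d⁄dX ℚ (rescale a y) = C a * rescale a (d⁄dX ℚ y) := by
  ext n
  rw [coeff_derivative, coeff_rescale, coeff_C_mul, coeff_rescale, coeff_derivative]
  ring

theorem zOf_rescale (q : ℕ) (N : ℕ → ℕ) :
    zOf (fun m => q ^ m * N m) = rescale (q : ℚ) (zOf N) := by
  have h1 := zOf_LD (fun m => q ^ m * N m)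
  have h2 : LD (rescale (q : ℚ) (zOf N))
      (C (q : ℚ) * rescale (q : ℚ) (PowerSeries.mk fun m => (N (m + 1) : ℚ))) := by
    have := zOf_LD N
    unfold LD at this ⊢
    rw [derivative_rescale, this, map_mul]
    ring
  have e : (PowerSeries.mk fun m => ((q ^ (m + 1) * N (m + 1) : ℕ) : ℚ)) =
      C (q : ℚ) * rescale (q : ℚ) (PowerSeries.mk fun m => (N (m + 1) : ℚ)) := by
    ext m
    rw [coeff_mk, coeff_C_mul, coeff_rescale, coeff_mk]
    push_cast
    ring
  rw [e] at h1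
  apply LD.unique h1 h2
  rw [constantCoeff_zOf, ← coeff_zero_eq_constantCoeff_apply, coeff_rescale, pow_zero, one_mul,
    coeff_zero_eq_constantCoeff_apply, constantCoeff_zOf]

theorem zetaFun_eq_zOf {k : Type*} [Field k] {X : AlgebraicGeometry.Scheme}
    (f : X ⟶ AlgebraicGeometry.Spec (CommRingCat.of k)) :
    Zeta.zetaFun f = zOf (Zeta.nPts f) := rfl

end Groth.Agent.Lib.Helper79.ZetaPS
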