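import Mathlib
import Groth.Prelude.Def_ResDeg
import Groth.Prelude.Def_SgaExt
import Groth.Prelude.Def_W4c1zetahwZeta
import Groth.Agent.Lib.Helper70.GeomPts
import Groth.Agent.Lib.Helper79.ZetaPts4

/-!
# The number of points with values in a finite extension (helper79)
-/

set_option linter.style.haveILetI false

namespace Groth.Agent.Lib.Helper79.Zeta

open AlgebraicGeometry CategoryTheory IsLocalRing Groth.Agent.Lib.Helper70.GeomPts

universe u

variable {k₀ : Type u} [Field k₀] [Finite k₀]

/-- `#X(k') = N_{[k':k]}`. -/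
theorem pointCount_eq_nPts {X : Scheme.{u}} (f : X ⟶ Spec (CommRingCat.of k₀))
    [LocallyOfFiniteType f] [QuasiCompact f]
    (k' : Type u) [Field k'] [Algebra k₀ k'] [Finite k'] :
    SgaExt.pointCount f k' = Zeta.nPts f (Module.finrank k₀ k') := by
  classical
  have hmf : Module.Finite k₀ k' := Module.Finite.of_finite
  have hm : 1 ≤ Module.finrank k₀ k' := Module.finrank_pos
  have hcardk' : Nat.card k' = Nat.card k₀ ^ Module.finrank k₀ k' :=
    Module.natCard_eq_pow_finrank (K := k₀)
  have hq : 1 < Nat.card k₀ := Finite.one_lt_card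
  let P : X → Prop := fun x => ∀ z : X.residueField x, z ^ (Nat.card k₀ ^ Module.finrank k₀ k') = z
  let U' := {u : X // f u = (vb k₀ k') (closedPoint k')}
  let H : U' → Type u := fun u =>
    {σ : X.residueField u.1 ⟶ CommRingCat.of k' // f.residueFieldMap u.1 ≫ σ = jAt k' f (vb k₀ k') u}
  let E : GPts k' f (vb k₀ k') ≃ Σ u : U', H u := gptsEquiv k' f (vb k₀ k')
  have hP : ∀ (u : U'), H u → P u.1 := by
    intro u σ z
    apply σ.1.hom.injective
    rw [map_pow, ← hcardk']
    have := Fintype.ofFinite k'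
    rw [Nat.card_eq_fintype_card]
    exact FiniteField.pow_card _
  let e1 : GPts k' f (vb k₀ k') ≃ {t : GPts k' f (vb k₀ k') // P (E t).1.1} :=
    (Equiv.subtypeUnivEquiv (fun t => hP (E t).1 (E t).2)).symm
  let e2 : {t : GPts k' f (vb k₀ k') // P (E t).1.1} ≃ {p : Σ u : U', H u // P p.1.1} :=
    E.subtypeEquiv (fun t => Iff.rfl)
  let e3 : {p : Σ u : U', H u // P p.1.1} ≃ Σ u : {u : U' // P u.1}, H u.1 :=
    Equiv.subtypeSigmaEquiv H (fun u => P u.1)
  have hN : 2 ≤ Nat.card k₀ ^ Module.finrank k₀ k' := by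
    calc 2 ≤ Nat.card k₀ := hq
      _ = Nat.card k₀ ^ 1 := (pow_one _).symm
      _ ≤ Nat.card k₀ ^ Module.finrank k₀ k' := Nat.pow_le_pow_right (by omega) hm
  have hfinS : Finite {u : U' // P u.1} := by
    have hfin := finite_frob_fixed f (Nat.card k₀ ^ Module.finrank k₀ k') hN
    have : Finite {x : X | ∀ z : X.residueField x,
        z ^ (Nat.card k₀ ^ Module.finrank k₀ k') = z} := hfin
    exact Finite.of_injective
      (fun u : {u : U' // P u.1} =>
        (⟨u.1.1, u.2⟩ : {x : X | ∀ z : X.residueField x,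
          z ^ (Nat.card k₀ ^ Module.finrank k₀ k') = z}))
      (fun a b h => Subtype.ext (Subtype.ext (congrArg (fun z => z.1) h)))
  have hcardH : ∀ u : {u : U' // P u.1}, Nat.card (H u.1) = EGA4loc.residueDegree f u.1.1 := by
    intro u
    have hdiv := ((frobFixed_iff f u.1.1 (Module.finrank k₀ k') hm).mp u.2).2
    rw [Nat.mem_divisors] at hdiv
    show Nat.card {σ : X.residueField u.1.1 ⟶ CommRingCat.of k' //
      f.residueFieldMap u.1.1 ≫ σ = jAt k' f (vb k₀ k') u.1} = _
    rw [Nat.card_congr (homSubtypeEquiv k' (f.residueFieldMap u.1.1) (jAt k' f (vb k₀ k') u.1)),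
      Nat.card_congr (ringHomEquivAlgHom k' (f.residueFieldMap u.1.1).hom
        (jAt k' f (vb k₀ k') u.1).hom)]
    letI a1 := (f.residueFieldMap u.1.1).hom.toAlgebra
    letI a2 := (jAt k' f (vb k₀ k') u.1).hom.toAlgebra
    have hfinK : Finite ((Spec (CommRingCat.of k₀)).residueField (f u.1.1)) :=
      finite_residueField_base k₀ (f u.1.1)
    have hcard := card_residueField_base k₀ (f u.1.1)
    have hmf2 : Module.Finite ((Spec (CommRingCat.of k₀)).residueField (f u.1.1)) k' :=
      Module.Finite.of_finite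
    have h1 : Nat.card k' = Nat.card ((Spec (CommRingCat.of k₀)).residueField (f u.1.1)) ^
        Module.finrank ((Spec (CommRingCat.of k₀)).residueField (f u.1.1)) k' :=
      Module.natCard_eq_pow_finrank (K := (Spec (CommRingCat.of k₀)).residueField (f u.1.1))
    rw [hcard, hcardk'] at h1
    have h2 : Module.finrank k₀ k' =
        Module.finrank ((Spec (CommRingCat.of k₀)).residueField (f u.1.1)) k' :=
      Nat.pow_right_injective hq h1
    have h3 : Module.finrank ((Spec (CommRingCat.of k₀)).residueField (f u.1.1))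
        (X.residueField u.1.1) ∣
        Module.finrank ((Spec (CommRingCat.of k₀)).residueField (f u.1.1)) k' := by
      rw [← h2]; exact hdiv.1
    exact FiniteField.natCard_algHom_of_finrank_dvd h3
  have hfinH : ∀ u : {u : U' // P u.1}, Finite (H u.1) := by
    intro u
    apply Nat.finite_of_card_ne_zero
    rw [hcardH u]
    have hdiv := ((frobFixed_iff f u.1.1 (Module.finrank k₀ k') hm).mp u.2).2
    exact (Nat.pos_of_mem_divisors hdiv).ne'
  have := Fintype.ofFinite {u : U' // P u.1}
  have hfinSig : Finite (Σ u : {u : U' // P u.1}, H u.1) := inferInstance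
  unfold SgaExt.pointCount
  show Nat.card (GPts k' f (vb k₀ k')) = _
  rw [Nat.card_congr ((e1.trans e2).trans e3), Nat.card_sigma,
    Finset.sum_congr rfl (fun u _ => hcardH u)]
  have hmaps : ∀ u ∈ (Finset.univ : Finset {u : U' // P u.1}),
      EGA4loc.residueDegree f u.1.1 ∈ (Module.finrank k₀ k').divisors :=
    fun u _ => ((frobFixed_iff f u.1.1 (Module.finrank k₀ k') hm).mp u.2).2
  rw [← Finset.sum_fiberwise_of_maps_to hmaps]
  unfold Zeta.nPts
  refine Finset.sum_congr rfl fun e he => ?_
  rw [Finset.sum_congr rfl (fun u hu => (Finset.mem_filter.mp hu).2), Finset.sum_const, smul_eq_mul,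
    mul_comm]
  congr 1
  unfold Zeta.degCount
  rw [← Fintype.card_subtype, ← Nat.card_eq_fintype_card]
  refine Nat.card_congr
    { toFun := fun u => ⟨u.1.1.1, ((frobFixed_iff f u.1.1.1 (Module.finrank k₀ k') hm).mp u.1.2).1,
        u.2⟩
      invFun := fun x => ⟨⟨⟨x.1, (subsingleton_spec_field k₀).elim _ _⟩,
        (frobFixed_iff f x.1 (Module.finrank k₀ k') hm).mpr ⟨x.2.1, by rw [x.2.2]; exact he⟩⟩, x.2.2⟩
      left_inv := fun u => rfl
      right_inv := fun x => rfl }

end Groth.Agent.Lib.Helper79.Zeta
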