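import Mathlib
import Groth.Prelude.Def_SgaExt
import Groth.Prelude.Def_W4c1zetahwZeta
import Groth.Agent.Lib.Helper79.ZetaPts5
import Groth.Agent.Lib.Helper79.ZetaPS

/-!
# The zeta function of the affine line over a scheme (helper79)
-/

set_option linter.style.haveILetI false

namespace Groth.Agent.Lib.Helper79.Zeta

open AlgebraicGeometry CategoryTheory Groth.Agent.Lib.Helper79.ZetaPS

universe u

/-- a finite field has extensions of every positive degree (in the same universe) -/
theorem exists_ext (k : Type u) [Field k] [Finite k] (m : ℕ) (hm : 1 ≤ m) :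
    ∃ (k' : Type u) (_ : Field k') (_ : Algebra k k') (_ : Finite k'),
      Module.finrank k k' = m := by
  obtain ⟨p, hp⟩ := CharP.exists k
  haveI : Fact p.Prime := ⟨CharP.char_is_prime k p⟩
  haveI : NeZero m := ⟨by omega⟩
  refine ⟨ULift.{u} (FiniteField.Extension k p m), inferInstance, inferInstance, inferInstance, ?_⟩
  exact ((ULift.moduleEquiv (R := k) (M := FiniteField.Extension k p m)).finrank_eq).trans
    (FiniteField.finrank_extension k p m)

section A1

variable {k : Type u} [Field k] {X : Scheme.{u}} (f : X ⟶ Spec (CommRingCat.of k))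
  (k' : Type u) [Field k'] [Algebra k k']

/-- points of the affine line over `X` -/
noncomputable def a1Equiv :
    {h : Spec (CommRingCat.of k') ⟶ 𝔸(PUnit.{u + 1}; X) //
      h ≫ (𝔸(PUnit.{u + 1}; X) ↘ X) ≫ f = Spec.map (CommRingCat.ofHom (algebraMap k k'))} ≃
    {x : Spec (CommRingCat.of k') ⟶ X //
      x ≫ f = Spec.map (CommRingCat.ofHom (algebraMap k k'))} ×
      (PUnit.{u + 1} → Γ(Spec (CommRingCat.of k'), ⊤)) where
  toFun h := ⟨⟨h.1 ≫ (𝔸(PUnit.{u + 1}; X) ↘ X), by rw [Category.assoc]; exact h.2⟩,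
    fun i => h.1.appTop (AffineSpace.coord X i)⟩
  invFun p := ⟨AffineSpace.homOfVector p.1.1 p.2, by
    rw [← Category.assoc, AffineSpace.homOfVector_over]; exact p.1.2⟩
  left_inv h := by
    apply Subtype.ext
    apply AffineSpace.hom_ext
    · rw [AffineSpace.homOfVector_over]
    · intro i
      rw [AffineSpace.homOfVector_appTop_coord]
  right_inv p := by
    apply Prod.ext
    · apply Subtype.ext
      exact AffineSpace.homOfVector_over _ _
    · funext i
      exact AffineSpace.homOfVector_appTop_coord _ _ i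

theorem pointCount_a1 :
    SgaExt.pointCount ((𝔸(PUnit.{u + 1}; X) ↘ X) ≫ f) k' = SgaExt.pointCount f k' * Nat.card k' := by
  unfold SgaExt.pointCount
  rw [Nat.card_congr (a1Equiv f k'), Nat.card_prod]
  congr 1
  rw [Nat.card_congr (Equiv.funUnique PUnit.{u + 1} _)]
  exact Nat.card_congr (Scheme.ΓSpecIso (CommRingCat.of k')).commRingCatIsoToRingEquiv.toEquiv

end A1

theorem zetaFun_a1 {k : Type u} [Field k] [Finite k] {X : Scheme.{u}}
    (f : X ⟶ Spec (CommRingCat.of k)) [LocallyOfFiniteType f] [QuasiCompact f] :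
    Zeta.zetaFun ((𝔸(PUnit.{u + 1}; X) ↘ X) ≫ f) =
      PowerSeries.rescale (Nat.card k : ℚ) (Zeta.zetaFun f) := by
  rw [zetaFun_eq_zOf, zetaFun_eq_zOf, ← zOf_rescale]
  apply zOf_congr
  intro m hm
  obtain ⟨k', _, _, _, hk'⟩ := exists_ext k m hm
  have hmf : Module.Finite k k' := Module.Finite.of_finite
  rw [← hk', ← pointCount_eq_nPts, ← pointCount_eq_nPts, pointCount_a1, mul_comm,
    Module.natCard_eq_pow_finrank (K := k) (V := k')]

end Groth.Agent.Lib.Helper79.Zeta
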