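import Mathlib
import Groth.Prelude.Def_SgaExt
import Groth.Prelude.Def_W4c1zetahwZeta
import Groth.Agent.Lib.Helper79.ZetaPts5
import Groth.Agent.Lib.Helper79.ZetaPS
import Groth.Agent.Lib.Helper79.ZetaA1

/-!
# The zeta function of a base change to a finite extension (helper79)
-/

set_option linter.style.haveILetI false

namespace Groth.Agent.Lib.Helper79.ZetaPS

open PowerSeries Groth.Agent.Lib.Helper39

section PS

variable {K : Type*} [Field K]

theorem derivative_rescale' (a : K) (y : PowerSeries K) :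
    d⁄dX K (rescale a y) = C a * rescale a (d⁄dX K y) := by
  ext n
  rw [coeff_derivative, coeff_rescale, coeff_C_mul, coeff_rescale, coeff_derivative]
  ring

theorem LD_rescale (a : K) {y b : PowerSeries K} (h : LD y b) :
    LD (rescale a y) (C a * rescale a b) := by
  unfold LD at h ⊢
  rw [derivative_rescale', h, map_mul]
  ring

theorem derivative_map' {R S : Type*} [CommRing R] [CommRing S] (φ : R →+* S) (y : PowerSeries R) :
    d⁄dX S (PowerSeries.map φ y) = PowerSeries.map φ (d⁄dX R y) := by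
  ext n
  rw [coeff_derivative, coeff_map, coeff_map, coeff_derivative, map_mul, map_add, map_natCast,
    map_one]

theorem LD_map {K' : Type*} [Field K'] (φ : K →+* K') {y b : PowerSeries K} (h : LD y b) :
    LD (PowerSeries.map φ y) (PowerSeries.map φ b) := by
  unfold LD at h ⊢
  rw [derivative_map', h, map_mul]

theorem LD_subst_X_pow (r : ℕ) (hr : r ≠ 0) {y b : PowerSeries K} (h : LD y b) :
    LD (subst (X ^ r : PowerSeries K) y) (subst (X ^ r : PowerSeries K) b * d⁄dX K (X ^ r)) := by
  unfold LD at h ⊢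
  rw [derivative_subst (HasSubst.X_pow hr), h, subst_mul (HasSubst.X_pow hr)]
  ring

end PS

theorem sum_pow_primitiveRoot (ξ : ℂ) (r : ℕ) (hξ : IsPrimitiveRoot ξ r) (j : ℕ) :
    ∑ i ∈ Finset.range r, (ξ ^ j) ^ i = if r ∣ j then (r : ℂ) else 0 := by
  split_ifs with h
  · have : ξ ^ j = 1 := (hξ.pow_eq_one_iff_dvd j).mpr h
    rw [this]
    simp
  · have h1 : ξ ^ j ≠ 1 := fun h' => h ((hξ.pow_eq_one_iff_dvd j).mp h')
    have h2 := geom_sum_mul (ξ ^ j) r
    rw [← pow_mul, mul_comm j r, pow_mul, hξ.pow_eq_one, one_pow, sub_self] at h2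
    rcases mul_eq_zero.mp h2 with h3 | h3
    · exact h3
    · exact absurd (sub_eq_zero.mp h3) h1

/-- The power series identity behind `Z(X ⊗ k', t^r) = ∏ Z(X, ξ^i t)`. -/
theorem zOf_baseChange (N N' : ℕ → ℕ) (r : ℕ) (hr : 1 ≤ r)
    (h : ∀ m, 1 ≤ m → N' m = N (m * r)) (ξ : ℂ) (hξ : IsPrimitiveRoot ξ r) :
    subst ((X : PowerSeries ℂ) ^ r) (PowerSeries.map (algebraMap ℚ ℂ) (zOf N')) =
      ∏ i ∈ Finset.range r, rescale (ξ ^ i) (PowerSeries.map (algebraMap ℚ ℂ) (zOf N)) := by
  have hr0 : r ≠ 0 := by omega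
  have h1 := LD_subst_X_pow r hr0 (LD_map (algebraMap ℚ ℂ) (zOf_LD N'))
  have h2 := LD.prod (Finset.range r)
    (fun i => rescale (ξ ^ i) (PowerSeries.map (algebraMap ℚ ℂ) (zOf N))) _
    (fun i _ => LD_rescale (ξ ^ i) (LD_map (algebraMap ℚ ℂ) (zOf_LD N)))
  have hb : subst ((X : PowerSeries ℂ) ^ r)
        (PowerSeries.map (algebraMap ℚ ℂ) (PowerSeries.mk fun m => (N' (m + 1) : ℚ))) *
        d⁄dX ℂ ((X : PowerSeries ℂ) ^ r) =
      ∑ i ∈ Finset.range r, C (ξ ^ i) * rescale (ξ ^ i)
        (PowerSeries.map (algebraMap ℚ ℂ) (PowerSeries.mk fun m => (N (m + 1) : ℚ))) := by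
    ext n
    rw [derivative_pow, derivative_X, mul_one, map_sum]
    have hR : ∀ i ∈ Finset.range r, coeff n (C (ξ ^ i) * rescale (ξ ^ i)
        (PowerSeries.map (algebraMap ℚ ℂ) (PowerSeries.mk fun m => (N (m + 1) : ℚ)))) =
        (N (n + 1) : ℂ) * (ξ ^ (n + 1)) ^ i := by
      intro i _
      rw [coeff_C_mul, coeff_rescale, coeff_map, coeff_mk]
      simp only [map_natCast]
      rw [← pow_mul, ← pow_mul, mul_comm (n + 1) i, mul_add, mul_one, pow_add]
      ring
    rw [Finset.sum_congr rfl hR, ← Finset.mul_sum, sum_pow_primitiveRoot ξ r hξ (n + 1)]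
    have hL : coeff n (subst ((X : PowerSeries ℂ) ^ r)
        (PowerSeries.map (algebraMap ℚ ℂ) (PowerSeries.mk fun m => (N' (m + 1) : ℚ))) *
        ((r : PowerSeries ℂ) * X ^ (r - 1))) =
        if r - 1 ≤ n then (r : ℂ) * coeff (n - (r - 1)) (subst ((X : PowerSeries ℂ) ^ r)
        (PowerSeries.map (algebraMap ℚ ℂ) (PowerSeries.mk fun m => (N' (m + 1) : ℚ)))) else 0 := by
      rw [← mul_assoc, coeff_mul_X_pow', mul_comm _ (r : PowerSeries ℂ)]
      split_ifs
      · have : (r : PowerSeries ℂ) = C (r : ℂ) := (map_natCast (C (R := ℂ)) r).symm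
        rw [this, coeff_C_mul]
      · rfl
    rw [hL]
    by_cases hdiv : r ∣ n + 1
    · obtain ⟨c, hc⟩ := hdiv
      have hc1 : 1 ≤ c := by
        rcases Nat.eq_zero_or_pos c with h0 | h0
        · rw [h0, mul_zero] at hc; omega
        · exact h0
      have hle : r - 1 ≤ n := by
        have : r ≤ r * c := Nat.le_mul_of_pos_right r hc1
        omega
      have hsub : n - (r - 1) = r * (c - 1) := by
        have : r * c = r * (c - 1) + r := by
          rw [← Nat.mul_succ]; congr 1; omega
        omega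
      rw [if_pos hle, if_pos ⟨c, hc⟩, hsub, coeff_subst_X_pow hr0, if_pos (dvd_mul_right r _),
        Nat.mul_div_cancel_left _ (by omega : 0 < r), coeff_map, coeff_mk]
      have e1 : c - 1 + 1 = c := by omega
      rw [e1, h c hc1, mul_comm c r, ← hc]
      simp only [Algebra.algebraMap_self, map_natCast]
      ring
    · rw [if_neg hdiv, mul_zero]
      split_ifs with hle
      · have hnd : ¬ r ∣ n - (r - 1) := by
          intro hd
          apply hdiv
          have : n + 1 = (n - (r - 1)) + r := by omega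
          rw [this]
          exact Dvd.dvd.add hd (dvd_refl r)
        rw [coeff_subst_X_pow hr0, if_neg hnd, mul_zero]
      · rfl
  rw [hb] at h1
  apply LD.unique h1 h2
  rw [constantCoeff_subst_X_pow hr0, map_prod]
  have hc : ∀ N : ℕ → ℕ, constantCoeff (PowerSeries.map (algebraMap ℚ ℂ) (zOf N)) = 1 := by
    intro N
    rw [← coeff_zero_eq_constantCoeff_apply, coeff_map, coeff_zero_eq_constantCoeff_apply,
      constantCoeff_zOf, map_one]
  rw [hc]
  simp only [Algebra.algebraMap_self, RingHom.id_apply]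
  symm
  apply Finset.prod_eq_one
  intro i _
  rw [← coeff_zero_eq_constantCoeff_apply, coeff_rescale, pow_zero, one_mul,
    coeff_zero_eq_constantCoeff_apply, hc]

end Groth.Agent.Lib.Helper79.ZetaPS

namespace Groth.Agent.Lib.Helper79.Zeta

open AlgebraicGeometry CategoryTheory CategoryTheory.Limits Groth.Agent.Lib.Helper79.ZetaPS

universe u

section BC

variable {k : Type u} [Field k] {X : Scheme.{u}} (f : X ⟶ Spec (CommRingCat.of k))
  (k' : Type u) [Field k'] [Algebra k k'] (k'' : Type u) [Field k''] [Algebra k' k'']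
  [Algebra k k''] [IsScalarTower k k' k'']

theorem specMap_tower :
    Spec.map (CommRingCat.ofHom (algebraMap k' k'')) ≫
      Spec.map (CommRingCat.ofHom (algebraMap k k')) =
    Spec.map (CommRingCat.ofHom (algebraMap k k'')) := by
  rw [← Spec.map_comp]
  congr 1
  ext x
  exact (IsScalarTower.algebraMap_apply k k' k'' x).symm

/-- points of a base change -/
noncomputable def bcEquiv :
    {g : Spec (CommRingCat.of k'') ⟶ pullback f (Spec.map (CommRingCat.ofHom (algebraMap k k'))) //
      g ≫ pullback.snd f (Spec.map (CommRingCat.ofHom (algebraMap k k'))) =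
        Spec.map (CommRingCat.ofHom (algebraMap k' k''))} ≃
    {x : Spec (CommRingCat.of k'') ⟶ X //
      x ≫ f = Spec.map (CommRingCat.ofHom (algebraMap k k''))} where
  toFun g := ⟨g.1 ≫ pullback.fst _ _, by
    rw [Category.assoc, pullback.condition, ← Category.assoc, g.2, specMap_tower]⟩
  invFun x := ⟨pullback.lift x.1 (Spec.map (CommRingCat.ofHom (algebraMap k' k'')))
    (by rw [x.2, specMap_tower]), pullback.lift_snd _ _ _⟩
  left_inv g := by
    apply Subtype.ext
    apply pullback.hom_ext
    · rw [pullback.lift_fst]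
    · rw [pullback.lift_snd, g.2]
  right_inv x := by
    apply Subtype.ext
    exact pullback.lift_fst _ _ _

theorem pointCount_baseChange :
    SgaExt.pointCount (pullback.snd f (Spec.map (CommRingCat.ofHom (algebraMap k k')))) k'' =
      SgaExt.pointCount f k'' :=
  Nat.card_congr (bcEquiv f k' k'')

end BC

theorem nPts_baseChange {k : Type u} [Field k] [Finite k] {X : Scheme.{u}}
    (f : X ⟶ Spec (CommRingCat.of k)) [LocallyOfFiniteType f] [QuasiCompact f]
    (k' : Type u) [Field k'] [Algebra k k'] [Finite k'] (m : ℕ) (hm : 1 ≤ m) :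
    Zeta.nPts (pullback.snd f (Spec.map (CommRingCat.ofHom (algebraMap k k')))) m =
      Zeta.nPts f (m * Module.finrank k k') := by
  obtain ⟨k'', _, _, _, hk''⟩ := exists_ext k' m hm
  letI : Algebra k k'' := ((algebraMap k' k'').comp (algebraMap k k')).toAlgebra
  haveI : IsScalarTower k k' k'' := IsScalarTower.of_algebraMap_eq (fun x => rfl)
  have hmf1 : Module.Finite k k' := Module.Finite.of_finite
  have hmf2 : Module.Finite k' k'' := Module.Finite.of_finite
  have hfr : Module.finrank k k'' = m * Module.finrank k k' := by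
    rw [← Module.finrank_mul_finrank k k' k'', hk'', mul_comm]
  rw [← hk'', ← pointCount_eq_nPts, pointCount_baseChange f k' k'', pointCount_eq_nPts, hfr, hk'']

theorem zetaFun_baseChange {k : Type u} [Field k] [Finite k]
    {X : Scheme.{u}} (f : X ⟶ Spec (CommRingCat.of k)) [LocallyOfFiniteType f] [QuasiCompact f]
    (k' : Type u) [Field k'] [Algebra k k'] [Finite k'] (ξ : ℂ)
    (hξ : IsPrimitiveRoot ξ (Module.finrank k k')) :
    PowerSeries.subst ((PowerSeries.X : PowerSeries ℂ) ^ Module.finrank k k')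
        (PowerSeries.map (algebraMap ℚ ℂ) (Zeta.zetaFun
          (pullback.snd f (Spec.map (CommRingCat.ofHom (algebraMap k k')))))) =
      ∏ i ∈ Finset.range (Module.finrank k k'),
        PowerSeries.rescale (ξ ^ i) (PowerSeries.map (algebraMap ℚ ℂ) (Zeta.zetaFun f)) := by
  have hmf1 : Module.Finite k k' := Module.Finite.of_finite
  rw [zetaFun_eq_zOf, zetaFun_eq_zOf]
  exact zOf_baseChange (Zeta.nPts f) _ (Module.finrank k k') Module.finrank_pos
    (fun m hm => nPts_baseChange f k' m hm) ξ hξ

end Groth.Agent.Lib.Helper79.Zeta
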