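import Mathlib
import Groth.Prelude.Def_WeilCoh
import Groth.Prelude.Def_W4c1zetahwZeta
import Groth.Agent.Lib.Helper79.ZetaFrob
import Groth.Agent.Lib.Helper79.ZetaPts4
import Groth.Agent.Lib.Helper79.ZetaAlg

/-!
# The number of fixed points of Frobenius on the base change; the trace formula count (helper79)
-/

namespace Groth.Agent.Lib.Helper79.Weil

open AlgebraicGeometry CategoryTheory WeilCoh Groth.Agent.Lib.Helper79.Zeta

universe u v w

variable {k : Type u} [Field k] [IsAlgClosed k]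

theorem isClosed_kpoint {Y : Scheme.{u}} (h : Y ⟶ Spec (CommRingCat.of k)) [LocallyOfFiniteType h]
    (s : Spec (CommRingCat.of k) ⟶ Y) (hs : s ≫ h = 𝟙 _) (a : ↥(Spec (CommRingCat.of k))) :
    IsClosed ({s a} : Set Y) := by
  have := isClosedImmersion_of_comp_eq_id _ _ hs
  have := s.isClosedEmbedding.isClosed_range
  rwa [Set.range_eq_singleton] at this
  exact fun x => congrArg s (Subsingleton.elim _ _)

section Fix

variable (k₀ : Type u) [Field k₀] [Finite k₀] [Algebra k₀ k]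
  {X : Scheme.{u}} (f : X ⟶ Spec (CommRingCat.of k₀))
  (FX : X ⟶ X)
  (Xb : Var k) (π : Xb.obj.left ⟶ X)
  (hπ : IsPullback π Xb.obj.hom f (Spec.map (CommRingCat.ofHom (algebraMap k₀ k))))
  (F : Xb ⟶ Xb) (hF : sm F ≫ π = π ≫ FX) (m : ℕ)

include hπ hF in
/-- closed fixed points of `F^m` on the base change ↔ geometric points of `X` fixed by `Frob^m` -/
noncomputable def fixEquiv :
    {w : Xb.obj.left // IsClosed ({w} : Set Xb.obj.left) ∧ sm (Fpow F m) w = w} ≃
      FixPts k f (Fiter FX m) where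
  toFun w := ⟨pointOfClosedPoint Xb.obj.hom w.1 w.2.1 ≫ π, by
      rw [Category.assoc, hπ.w, ← Category.assoc, pointOfClosedPoint_comp, Category.id_comp], by
      rw [Category.assoc, ← sm_Fpow_comp FX π F hF m, ← Category.assoc,
        point_comp_eq_of_fix (Fpow F m) w.1 w.2.1 w.2.2]⟩
  invFun y := ⟨(hπ.lift y.1 (𝟙 _) (by rw [y.2.1, Category.id_comp])) (cp k),
    isClosed_kpoint Xb.obj.hom _ (hπ.lift_snd _ _ _) _, by
      have hs : hπ.lift y.1 (𝟙 _) (by rw [y.2.1, Category.id_comp]) ≫ sm (Fpow F m) =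
          hπ.lift y.1 (𝟙 _) (by rw [y.2.1, Category.id_comp]) := by
        apply hπ.hom_ext
        · rw [Category.assoc, sm_Fpow_comp FX π F hF m, ← Category.assoc, hπ.lift_fst, y.2.2]
        · rw [Category.assoc, w_sm]
      conv_rhs => rw [← hs]
      rfl⟩
  left_inv w := by
    apply Subtype.ext
    have : hπ.lift (pointOfClosedPoint Xb.obj.hom w.1 w.2.1 ≫ π) (𝟙 _)
        (by rw [Category.assoc, hπ.w, ← Category.assoc, pointOfClosedPoint_comp]) =
        pointOfClosedPoint Xb.obj.hom w.1 w.2.1 := by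
      apply hπ.hom_ext
      · rw [hπ.lift_fst]
      · rw [hπ.lift_snd, pointOfClosedPoint_comp]
    show (hπ.lift (pointOfClosedPoint Xb.obj.hom w.1 w.2.1 ≫ π) (𝟙 _) _) (cp k) = w.1
    rw [this, pointOfClosedPoint_apply]
  right_inv y := by
    apply Subtype.ext
    show pointOfClosedPoint Xb.obj.hom
      ((hπ.lift y.1 (𝟙 _) (by rw [y.2.1, Category.id_comp])) (cp k)) _ ≫ π = y.1
    have : pointOfClosedPoint Xb.obj.hom
        ((hπ.lift y.1 (𝟙 _) (by rw [y.2.1, Category.id_comp])) (cp k))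
        (isClosed_kpoint Xb.obj.hom _ (hπ.lift_snd _ _ _) _) =
        hπ.lift y.1 (𝟙 _) (by rw [y.2.1, Category.id_comp]) := by
      apply ext_of_apply_eq' Xb.obj.hom (pointOfClosedPoint_comp _ _ _) (hπ.lift_snd _ _ _) (cp k)
      rw [pointOfClosedPoint_apply]
    rw [this, hπ.lift_fst]

end Fix

section Trace

variable {K : Type v} [Field K] (T : TheoryOn.{u, v, w} k (IsVar k) K)

/-- The number of points `N_m` as the alternating sum of traces of `(F^*)^m`. -/
theorem nPts_eq_sum_trace (k₀ : Type u) [Field k₀] [Finite k₀] [Algebra k₀ k]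
    {X : Scheme.{u}} (f : X ⟶ Spec (CommRingCat.of k₀)) [LocallyOfFiniteType f] [QuasiCompact f]
    (FX : X ⟶ X) (hFb : FX.base = 𝟙 _) (hle : ∀ U : X.Opens, U ≤ FX ⁻¹ᵁ U)
    (hFapp : ∀ (U : X.Opens) (s : Γ(X, U)), (FX.appLE U U (hle U)).hom s = s ^ Nat.card k₀)
    (Xb : Var k) (π : Xb.obj.left ⟶ X)
    (hπ : IsPullback π Xb.obj.hom f (Spec.map (CommRingCat.ofHom (algebraMap k₀ k))))
    (F : Xb ⟶ Xb) (hF : sm F ≫ π = π ≫ FX)
    (Pb : Var k) (p q : Pb ⟶ Xb) (hP : IsProd p q) (m : ℕ) (hm : 1 ≤ m) :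
    (Zeta.nPts f m : K) =
      ∑ i ∈ Finset.range (2 * dim Xb.obj.left + 1),
        (-1 : K) ^ i * LinearMap.trace K ↥(T.gr Xb (i : ℤ)) (T.pullDeg F (i : ℤ) ^ m) := by
  obtain ⟨j, hjp, hjq⟩ := exists_lift p q hP (𝟙 Xb) (Fpow F m)
  obtain ⟨d, hdp, hdq⟩ := exists_lift p q hP (𝟙 Xb) (𝟙 Xb)
  have hcount := card_fixPts k f (Fiter FX m) (Fiter_apply FX hFb m) m hm
    (fun x W h h' a => pg_comp_Fiter FX hFb (Nat.card k₀) hle hFapp m (𝟙 X) x W h h' a)
  have hfinT := hcount.1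
  have hfin : {w : Xb.obj.left | IsClosed ({w} : Set Xb.obj.left) ∧ sm (Fpow F m) w = w}.Finite :=
    Set.finite_coe_iff.mp (Finite.of_equiv _ (fixEquiv k₀ f FX Xb π hπ F hF m).symm)
  have h1 := tr_graph_diag T p q hP (Fpow F m) j d hjp hjq hdp hdq hfin
    (fun w hw _ h => preimMult_frob k₀ f FX hFb hle hFapp Xb π hπ F hF p q m hm j d hjp hjq hdp hdq
      w hw h)
  have h2 := lefschetz T (Fpow F m) p q hP j d hjp hjq hdp hdq
  rw [h1, Nat.card_congr (fixEquiv k₀ f FX Xb π hπ F hF m), hcount.2] at h2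
  rw [h2]
  refine Finset.sum_congr rfl fun i _ => ?_
  rw [pullDeg_Fpow]

end Trace

end Groth.Agent.Lib.Helper79.Weil
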