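import Mathlib
import Groth.Prelude.Def_W4c1zetahwZeta
import Groth.Agent.Lib.Helper79.ZetaPts4
import Groth.Agent.Lib.Helper79.ZetaPS
import Groth.Agent.Lib.Helper79.FrobDeg1

/-!
# The zeta function of a scheme partitioned into subschemes (helper79)
-/

set_option linter.style.haveILetI false
set_option linter.unusedSectionVars false

namespace Groth.Agent.Lib.Helper79.Zeta

open AlgebraicGeometry CategoryTheory Groth.Agent.Lib.Helper79.FrobDeg Groth.Agent.Lib.Helper79.ZetaPS

universe u

theorem residueDegree_eq_rdeg {X S : Scheme.{u}} (f : X ⟶ S) (x : X) :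
    EGA4loc.residueDegree f x = rdeg (f.residueFieldMap x).hom := rfl

theorem residueFieldMap_surjective_of_surjectiveOnStalks {Y X : Scheme.{u}} (g : Y ⟶ X)
    [SurjectiveOnStalks g] (y : Y) : Function.Surjective (g.residueFieldMap y).hom := by
  intro z
  obtain ⟨s, rfl⟩ := Y.residue_surjective y z
  obtain ⟨t, rfl⟩ := g.stalkMap_surjective y s
  refine ⟨(X.residue (g y)).hom t, ?_⟩
  exact congrArg (fun φ => φ.hom t) (Scheme.residue_residueFieldMap g y)

/-- An immersion does not change residue degrees. -/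
theorem residueDegree_comp_of_surjectiveOnStalks {Y X S : Scheme.{u}} (g : Y ⟶ X) (f : X ⟶ S)
    [SurjectiveOnStalks g] (y : Y) :
    EGA4loc.residueDegree (g ≫ f) y = EGA4loc.residueDegree f (g y) := by
  rw [residueDegree_eq_rdeg, residueDegree_eq_rdeg]
  have h := Scheme.residueFieldMap_comp g f y
  have h2 : ((g ≫ f).residueFieldMap y).hom =
      (g.residueFieldMap y).hom.comp (f.residueFieldMap (g y)).hom := by
    rw [h]; rfl
  have h3 : rdeg ((g ≫ f).residueFieldMap y).hom =
      rdeg ((g.residueFieldMap y).hom.comp (f.residueFieldMap (g y)).hom) := congrArg rdeg h2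
  have h4 := rdeg_comp (f.residueFieldMap (g y)).hom (g.residueFieldMap y).hom
  have h5 := rdeg_of_bijective (g.residueFieldMap y).hom
    ⟨(g.residueFieldMap y).hom.injective, residueFieldMap_surjective_of_surjectiveOnStalks g y⟩
  rw [h5, mul_one] at h4
  exact h3.trans h4

variable {k₀ : Type u} [Field k₀] [Finite k₀]

theorem isClosed_of_residueDegree_pos {X : Scheme.{u}} (f : X ⟶ Spec (CommRingCat.of k₀))
    [LocallyOfFiniteType f] (x : X) (h : 0 < EGA4loc.residueDegree f x) :
    IsClosed ({x} : Set X) := by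
  letI := (f.residueFieldMap x).hom.toAlgebra
  have hmf : Module.Finite ((Spec (CommRingCat.of k₀)).residueField (f x)) (X.residueField x) :=
    Module.finite_of_finrank_pos h
  exact isClosed_of_residueFieldMap_finite f x hmf

theorem finite_degree_eq {X : Scheme.{u}} (f : X ⟶ Spec (CommRingCat.of k₀))
    [LocallyOfFiniteType f] [QuasiCompact f] (e : ℕ) (he : 1 ≤ e) :
    Finite {x : X // IsClosed ({x} : Set X) ∧ EGA4loc.residueDegree f x = e} := by
  have hq : 1 < Nat.card k₀ := Finite.one_lt_card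
  have hN : 2 ≤ Nat.card k₀ ^ e := by
    calc 2 ≤ Nat.card k₀ := hq
      _ = Nat.card k₀ ^ 1 := (pow_one _).symm
      _ ≤ Nat.card k₀ ^ e := Nat.pow_le_pow_right (by omega) he
  have hfin := finite_frob_fixed f (Nat.card k₀ ^ e) hN
  have : Finite {x : X | ∀ z : X.residueField x, z ^ (Nat.card k₀ ^ e) = z} := hfin
  refine Finite.of_injective
    (fun x : {x : X // IsClosed ({x} : Set X) ∧ EGA4loc.residueDegree f x = e} =>
      (⟨x.1, (frobFixed_iff f x.1 e he).mpr ⟨x.2.1, by
        rw [x.2.2]; exact Nat.mem_divisors_self e (by omega)⟩⟩ :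
        {x : X | ∀ z : X.residueField x, z ^ (Nat.card k₀ ^ e) = z})) ?_
  intro a b h
  exact Subtype.ext (congrArg (fun z => z.1) h)

section Part

variable {X : Scheme.{u}} (f : X ⟶ Spec (CommRingCat.of k₀)) [LocallyOfFiniteType f]
  [QuasiCompact f] {ι : Type u} [Fintype ι] (Y : ι → Scheme.{u}) (g : ∀ i, Y i ⟶ X)
  [∀ i, IsImmersion (g i)]
  (hpart : ∀ x : X, IsClosed ({x} : Set X) → ∃! i, x ∈ Set.range (g i).base)

include hpart in
theorem degCount_eq_sum (e : ℕ) (he : 1 ≤ e) :
    Zeta.degCount f e = ∑ i, Zeta.degCount (g i ≫ f) e := by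
  classical
  unfold Zeta.degCount
  let A := {x : X // IsClosed ({x} : Set X) ∧ EGA4loc.residueDegree f x = e}
  let B : ι → Type u := fun i =>
    {y : Y i // IsClosed ({y} : Set (Y i)) ∧ EGA4loc.residueDegree (g i ≫ f) y = e}
  have hA : Finite A := finite_degree_eq f e he
  let ψ : (Σ i, B i) → A := fun p => ⟨g p.1 p.2.1, by
    have hdeg : EGA4loc.residueDegree f (g p.1 p.2.1) = e := by
      rw [← residueDegree_comp_of_surjectiveOnStalks]; exact p.2.2.2
    exact ⟨isClosed_of_residueDegree_pos f _ (by rw [hdeg]; omega), hdeg⟩⟩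
  have hψ : Function.Bijective ψ := by
    constructor
    · rintro ⟨i, y⟩ ⟨i', y'⟩ h
      have h1 : g i y.1 = g i' y'.1 := congrArg Subtype.val h
      have hcl : IsClosed ({g i y.1} : Set X) := (ψ ⟨i, y⟩).2.1
      obtain ⟨i₀, -, huniq⟩ := hpart _ hcl
      have e1 : i = i₀ := huniq i ⟨y.1, rfl⟩
      have e2 : i' = i₀ := huniq i' ⟨y'.1, h1.symm⟩
      have e3 : i = i' := e1.trans e2.symm
      subst e3
      have : y.1 = y'.1 := (g i).isEmbedding.injective h1
      rw [Sigma.mk.injEq]
      exact ⟨rfl, heq_of_eq (Subtype.ext this)⟩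
    · rintro ⟨x, hx, hdeg⟩
      obtain ⟨i, ⟨y, hy⟩, -⟩ := hpart x hx
      have hy' : g i y = x := hy
      have hcl : IsClosed ({y} : Set (Y i)) := by
        have : ({y} : Set (Y i)) = (g i) ⁻¹' {x} := by
          ext y'
          simp only [Set.mem_singleton_iff, Set.mem_preimage]
          constructor
          · rintro rfl; exact hy'
          · intro h; exact (g i).isEmbedding.injective (h.trans hy'.symm)
        rw [this]
        exact hx.preimage (g i).continuous
      refine ⟨⟨i, ⟨y, hcl, ?_⟩⟩, ?_⟩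
      · rw [residueDegree_comp_of_surjectiveOnStalks, hy']; exact hdeg
      · exact Subtype.ext hy'
  have hB : ∀ i, Finite (B i) := fun i =>
    Finite.of_injective (fun y : B i => ψ ⟨i, y⟩) (fun a b h => by
      have := hψ.1 h
      rw [Sigma.mk.injEq] at this
      exact eq_of_heq this.2)
  show Nat.card A = ∑ i, Nat.card (B i)
  rw [← Nat.card_congr (Equiv.ofBijective ψ hψ), Nat.card_sigma]

include hpart in
theorem nPts_eq_sum (m : ℕ) : Zeta.nPts f m = ∑ i, Zeta.nPts (g i ≫ f) m := by
  unfold Zeta.nPts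
  rw [Finset.sum_comm]
  refine Finset.sum_congr rfl fun e he => ?_
  rw [degCount_eq_sum f Y g hpart e (Nat.pos_of_mem_divisors he), Finset.mul_sum]

include hpart in
theorem zetaFun_eq_prod : Zeta.zetaFun f = ∏ i, Zeta.zetaFun (g i ≫ f) := by
  rw [zetaFun_eq_zOf]
  have h : Zeta.nPts f = fun m => ∑ i, Zeta.nPts (g i ≫ f) m :=
    funext (nPts_eq_sum f Y g hpart)
  rw [h, zOf_sum]
  rfl

end Part

end Groth.Agent.Lib.Helper79.Zeta
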