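import Mathlib
import Groth.Prelude.Def_SgaExt
import Groth.Prelude.Def_W4c1zetahwZeta
import Groth.Agent.Lib.Helper79.ZetaA1
import Groth.Agent.Lib.Helper79.ZetaPart
import Groth.Agent.Lib.Proj.Helper56_Charts

/-!
# The zeta function of affine and projective space over a finite field (helper79)
-/

set_option linter.style.haveILetI false

namespace Groth.Agent.Lib.Helper79.Zeta

open AlgebraicGeometry CategoryTheory Groth.Agent.Lib.Helper79.ZetaPS Groth.Agent.Lib.Helper39

universe u

section PS

open PowerSeries

/-- `exp (∑ c^m t^m / m) = 1 / (1 - c t)`. -/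
theorem zOf_pow_mul (c : ℕ) :
    zOf (fun m => c ^ m) * (1 - PowerSeries.C (c : ℚ) * PowerSeries.X) = 1 := by
  set y : PowerSeries ℚ := PowerSeries.mk fun m => (c : ℚ) ^ m with hy
  have hy1 : y * (1 - PowerSeries.C (c : ℚ) * PowerSeries.X) = 1 := by
    ext m
    rw [mul_sub, mul_one, map_sub, ← mul_assoc, mul_comm y, mul_assoc, coeff_C_mul]
    rcases m with _ | m
    · rw [coeff_zero_mul_X, coeff_mk, pow_zero, coeff_zero_eq_constantCoeff_apply]
      simp
    · rw [coeff_succ_mul_X, coeff_mk, coeff_mk, coeff_one, if_neg (Nat.succ_ne_zero m)]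
      ring
  have hLD : LD y (PowerSeries.mk fun m => ((c ^ (m + 1) : ℕ) : ℚ)) := by
    unfold LD
    ext m
    rw [coeff_derivative, coeff_mk, coeff_mul]
    have : ∀ p ∈ Finset.HasAntidiagonal.antidiagonal m,
        coeff p.1 y * coeff p.2 (PowerSeries.mk fun m => ((c ^ (m + 1) : ℕ) : ℚ)) =
          (c : ℚ) ^ (m + 1) := by
      intro p hp
      rw [Finset.HasAntidiagonal.mem_antidiagonal] at hp
      rw [coeff_mk, coeff_mk, ← hp]
      push_cast
      ring
    rw [Finset.sum_congr rfl this, Finset.sum_const, Finset.Nat.card_antidiagonal]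
    simp
    ring
  have hz : zOf (fun m => c ^ m) = y := by
    apply LD.unique (zOf_LD _) hLD
    rw [constantCoeff_zOf, ← coeff_zero_eq_constantCoeff_apply, coeff_mk, pow_zero]
  rw [hz, hy1]

end PS

section Affine

variable {k : Type u} [Field k]

/-- `k'`-points of `Spec A` over `k` are `k`-algebra maps `A → k'`. -/
noncomputable def ptsSpecEquiv (A : Type u) [CommRing A] [Algebra k A] (k' : Type u) [Field k']
    [Algebra k k'] :
    { g : Spec (CommRingCat.of k') ⟶ Spec (CommRingCat.of A) //
      g ≫ Spec.map (CommRingCat.ofHom (algebraMap k A)) =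
        Spec.map (CommRingCat.ofHom (algebraMap k k')) } ≃ (A →ₐ[k] k') where
  toFun g :=
    { toRingHom := (Spec.preimage g.1).hom
      commutes' := fun x => by
        have h1 : Spec.map (CommRingCat.ofHom (algebraMap k A) ≫ Spec.preimage g.1) =
            Spec.map (CommRingCat.ofHom (algebraMap k k')) := by
          rw [Spec.map_comp, Spec.map_preimage]
          exact g.2
        have h2 := Spec.map_injective h1
        exact congrArg (fun q => q.hom x) h2 }
  invFun φ := ⟨Spec.map (CommRingCat.ofHom φ.toRingHom), by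
    rw [← Spec.map_comp]
    congr 1
    apply CommRingCat.hom_ext
    apply RingHom.ext
    intro x
    exact φ.commutes x⟩
  left_inv g := by
    apply Subtype.ext
    show Spec.map (CommRingCat.ofHom (Spec.preimage g.1).hom) = g.1
    exact Spec.map_preimage g.1
  right_inv φ := by
    apply AlgHom.ext
    intro a
    show (Spec.preimage (Spec.map (CommRingCat.ofHom φ.toRingHom))).hom a = φ a
    rw [Spec.preimage_map]
    rfl

theorem pointCount_affineSpace (J : Type) [Finite J] (k' : Type u) [Field k'] [Algebra k k'] :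
    SgaExt.pointCount
      (Spec.map (CommRingCat.ofHom (algebraMap k (MvPolynomial J k)))) k' =
      Nat.card k' ^ Nat.card J := by
  unfold SgaExt.pointCount
  rw [Nat.card_congr (ptsSpecEquiv (MvPolynomial J k) k')]
  let e : (MvPolynomial J k →ₐ[k] k') ≃ (J → k') :=
    { toFun := fun φ j => φ (MvPolynomial.X j)
      invFun := fun v => MvPolynomial.aeval v
      left_inv := fun φ => by
        apply MvPolynomial.algHom_ext
        intro j
        simp
      right_inv := fun v => by
        funext j
        simp }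
  rw [Nat.card_congr e, Nat.card_fun]

theorem zetaFun_affineSpace [Finite k] (J : Type) [Finite J] :
    Zeta.zetaFun (Spec.map (CommRingCat.ofHom (algebraMap k (MvPolynomial J k)))) *
      (1 - PowerSeries.C ((Nat.card k : ℚ) ^ Nat.card J) * PowerSeries.X) = 1 := by
  have hft : LocallyOfFiniteType
      (Spec.map (CommRingCat.ofHom (algebraMap k (MvPolynomial J k)))) := by
    rw [HasRingHomProperty.Spec_iff (P := @LocallyOfFiniteType)]
    rw [CommRingCat.hom_ofHom, RingHom.finiteType_algebraMap]
    infer_instance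
  have hz : Zeta.zetaFun (Spec.map (CommRingCat.ofHom (algebraMap k (MvPolynomial J k)))) =
      zOf (fun m => (Nat.card k ^ Nat.card J) ^ m) := by
    rw [zetaFun_eq_zOf]
    apply zOf_congr
    intro m hm
    obtain ⟨k', _, _, _, hk'⟩ := exists_ext k m hm
    have hmf : Module.Finite k k' := Module.Finite.of_finite
    rw [← hk', ← pointCount_eq_nPts, pointCount_affineSpace,
      Module.natCard_eq_pow_finrank (K := k) (V := k'), ← pow_mul, ← pow_mul, mul_comm]
  rw [hz]
  have := zOf_pow_mul (Nat.card k ^ Nat.card J)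
  push_cast at this
  exact this

end Affine


section Kill

open MvPolynomial

variable {σ τ R : Type*} [CommRing R] {f : σ → τ} (hf : Function.Injective f)

theorem killCompl_X_of_notMem (j : τ) (hj : j ∉ Set.range f) :
    killCompl hf (X j : MvPolynomial τ R) = 0 := by
  classical
  rw [killCompl, aeval_X, dif_neg hj]

theorem killCompl_X_of_mem (i : σ) :
    killCompl hf (X (f i) : MvPolynomial τ R) = X i := by
  rw [← rename_X (R := R) f i, killCompl_rename_app]

theorem sub_rename_killCompl_mem (p : MvPolynomial τ R) :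
    p - rename f (killCompl hf p) ∈
      Ideal.span ((fun j => (X j : MvPolynomial τ R)) '' (Set.range f)ᶜ) := by
  induction p using MvPolynomial.induction_on with
  | C a =>
    rw [killCompl_C, rename_C, sub_self]
    exact zero_mem _
  | add p q hp hq =>
    rw [map_add, map_add, add_sub_add_comm]
    exact add_mem hp hq
  | mul_X p j hp =>
    rw [map_mul, map_mul]
    by_cases hj : j ∈ Set.range f
    · obtain ⟨i, rfl⟩ := hj
      rw [killCompl_X_of_mem, rename_X, ← sub_mul]
      exact Ideal.mul_mem_right _ _ hp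
    · rw [killCompl_X_of_notMem hf j hj, map_zero, mul_zero, sub_zero]
      exact Ideal.mul_mem_left _ _ (Ideal.subset_span ⟨j, hj, rfl⟩)

theorem ker_killCompl_le_iff (I : Ideal (MvPolynomial τ R)) :
    RingHom.ker (killCompl hf : MvPolynomial τ R →ₐ[R] MvPolynomial σ R) ≤ I ↔
      ∀ j, j ∉ Set.range f → (X j : MvPolynomial τ R) ∈ I := by
  constructor
  · intro h j hj
    exact h ((RingHom.mem_ker).mpr (killCompl_X_of_notMem hf j hj))
  · intro h p hp
    have h1 := sub_rename_killCompl_mem hf p
    rw [(RingHom.mem_ker).mp hp, map_zero, sub_zero] at h1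
    refine (Ideal.span_le.mpr ?_) h1
    rintro _ ⟨j, hj, rfl⟩
    exact h j hj

theorem killCompl_surjective :
    Function.Surjective (killCompl hf : MvPolynomial τ R →ₐ[R] MvPolynomial σ R) :=
  fun p => ⟨rename f p, killCompl_rename_app hf p⟩

end Kill

section Pn

open MvPolynomial Groth.Agent.Lib.Proj

variable (n : ℕ) (k : Type u) [Field k] (i : Fin (n + 1))

/-- the variables `X_j`, `i < j`, among the variables of the `i`-th chart -/
def up : {j : Fin (n + 1) // i < j} → {j : Fin (n + 1) // j ≠ i} := fun j => ⟨j.1, ne_of_gt j.2⟩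

theorem up_injective : Function.Injective (up n i) := by
  intro a b h
  exact Subtype.ext (congrArg (fun t => t.1) h)

theorem mem_range_up (j : {j : Fin (n + 1) // j ≠ i}) : j ∈ Set.range (up n i) ↔ i < j.1 := by
  constructor
  · rintro ⟨a, rfl⟩
    exact a.2
  · intro h
    exact ⟨⟨j.1, h⟩, rfl⟩

/-- the `i`-th stratum `{x_0 = ⋯ = x_{i-1} = 0, x_i ≠ 0} ≅ 𝔸^{n-i}` of `ℙⁿ` -/
noncomputable def stratum :
    Spec (CommRingCat.of (MvPolynomial {j : Fin (n + 1) // i < j} k)) ⟶ CohB1.ProjSpace n k :=
  Spec.map (CommRingCat.ofHom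
    (killCompl (R := k) (up_injective n i)).toRingHom) ≫ chart n k i

instance : IsImmersion (stratum n k i) := by
  unfold stratum
  have : IsClosedImmersion (Spec.map (CommRingCat.ofHom
      (killCompl (R := k) (up_injective n i)).toRingHom)) :=
    IsClosedImmersion.spec_of_surjective _ (killCompl_surjective (up_injective n i))
  infer_instance

theorem stratum_toSpec :
    stratum n k i ≫ CohB1.ProjSpace.toSpec n k =
      Spec.map (CommRingCat.ofHom (algebraMap k (MvPolynomial {j : Fin (n + 1) // i < j} k))) := by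
  unfold stratum
  rw [Category.assoc, chart_toSpec, ← Spec.map_comp]
  congr 1
  apply CommRingCat.hom_ext
  apply RingHom.ext
  intro r
  exact killCompl_C (up_injective n i) r

theorem mem_range_stratum (z : CohB1.ProjSpace n k) :
    z ∈ Set.range (stratum n k i).base ↔
      z ∈ stdOpen n k i ∧ ∀ j : Fin (n + 1), j < i → z ∉ stdOpen n k j := by
  have hrange : ∀ y : Spec (CommRingCat.of (MvPolynomial {j : Fin (n + 1) // j ≠ i} k)),
      y ∈ Set.range (Spec.map (CommRingCat.ofHom
        (killCompl (R := k) (up_injective n i)).toRingHom)).base ↔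
      ∀ j : {j : Fin (n + 1) // j ≠ i}, j.1 < i → chart n k i y ∉ stdOpen n k j.1 := by
    intro y
    have h1 : Set.range (Spec.map (CommRingCat.ofHom
        (killCompl (R := k) (up_injective n i)).toRingHom)).base =
        PrimeSpectrum.zeroLocus (RingHom.ker (killCompl (R := k) (up_injective n i)).toRingHom) :=
      range_comap_of_surjective _ _ (killCompl_surjective (up_injective n i))
    have h2 : y ∈ Set.range (Spec.map (CommRingCat.ofHom
        (killCompl (R := k) (up_injective n i)).toRingHom)).base ↔
        RingHom.ker (killCompl (R := k) (up_injective n i)) ≤ y.asIdeal := by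
      rw [h1]
      exact Iff.rfl
    rw [h2, ker_killCompl_le_iff]
    refine forall_congr' fun j => ?_
    have h3 : chart n k i y ∈ stdOpen n k j.1 ↔ (X j : MvPolynomial _ k) ∉ y.asIdeal := by
      have : chart n k i y ∈ stdOpen n k j.1 ↔ y ∈ chart n k i ⁻¹ᵁ stdOpen n k j.1 := Iff.rfl
      rw [this, chart_preimage_stdOpen n k i j.1 j.2]
      exact Iff.rfl
    rw [h3, not_not, mem_range_up, not_lt]
    constructor
    · intro h hj
      exact h hj.le
    · intro h hj
      rcases lt_or_eq_of_le hj with h' | h'
      · exact h h'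
      · exact absurd h' j.2
  constructor
  · rintro ⟨w, rfl⟩
    unfold stratum
    rw [Scheme.Hom.comp_base, TopCat.comp_app]
    refine ⟨?_, fun j hj => ?_⟩
    · have : (chart n k i) ((Spec.map (CommRingCat.ofHom
          (killCompl (R := k) (up_injective n i)).toRingHom)) w) ∈ Set.range (chart n k i) :=
        ⟨_, rfl⟩
      rw [range_chart] at this
      exact this
    · exact (hrange _).mp ⟨w, rfl⟩ ⟨j, hj.ne⟩ hj
  · rintro ⟨h1, h2⟩
    have : z ∈ Set.range (chart n k i) := by rw [range_chart]; exact h1
    obtain ⟨y, rfl⟩ := this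
    obtain ⟨w, rfl⟩ := (hrange y).mpr (fun j hj => h2 j.1 hj)
    exact ⟨w, rfl⟩

theorem existsUnique_stratum (z : CohB1.ProjSpace n k) :
    ∃! i : Fin (n + 1), z ∈ Set.range (stratum n k i).base := by
  classical
  have hex : ∃ i : Fin (n + 1), z ∈ stdOpen n k i := by
    have h : z ∈ (⨆ i : Fin (n + 1), stdOpen n k i : (CohB1.ProjSpace n k).Opens) := by
      rw [iSup_stdOpen]; trivial
    exact TopologicalSpace.Opens.mem_iSup.mp h
  let S : Finset (Fin (n + 1)) := Finset.univ.filter fun i => z ∈ stdOpen n k i
  have hS : S.Nonempty := by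
    obtain ⟨i, hi⟩ := hex
    exact ⟨i, Finset.mem_filter.mpr ⟨Finset.mem_univ _, hi⟩⟩
  refine ⟨S.min' hS, ?_, ?_⟩
  · show z ∈ Set.range (stratum n k (S.min' hS)).base
    rw [mem_range_stratum]
    refine ⟨(Finset.mem_filter.mp (S.min'_mem hS)).2, fun j hj hz => ?_⟩
    have : S.min' hS ≤ j := S.min'_le j (Finset.mem_filter.mpr ⟨Finset.mem_univ _, hz⟩)
    exact absurd hj (not_lt.mpr this)
  · intro i hi
    rw [mem_range_stratum] at hi
    apply le_antisymm
    · by_contra hlt
      rw [not_le] at hlt
      exact hi.2 _ hlt (Finset.mem_filter.mp (S.min'_mem hS)).2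
    · exact S.min'_le i (Finset.mem_filter.mpr ⟨Finset.mem_univ _, hi.1⟩)

end Pn

section Final

open MvPolynomial Groth.Agent.Lib.Proj

variable (n : ℕ) (k : Type u) [Field k]

theorem finiteType_polyGrading' :
    Algebra.FiniteType (CohB1.polyGrading n k 0) (MvPolynomial (Fin (n + 1)) k) := by
  classical
  refine ⟨⟨Finset.univ.image MvPolynomial.X, ?_⟩⟩
  rw [eq_top_iff]
  intro p _
  clear ‹p ∈ ⊤›
  induction p using MvPolynomial.induction_on with
  | C a =>
    have : (MvPolynomial.C a : MvPolynomial (Fin (n+1)) k) =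
        algebraMap (CohB1.polyGrading n k 0) _
          ⟨MvPolynomial.C a, MvPolynomial.isHomogeneous_C _ a⟩ := rfl
    rw [this]
    exact Subalgebra.algebraMap_mem _ _
  | add p q hp hq => exact add_mem hp hq
  | mul_X p i hp => exact mul_mem hp (Algebra.subset_adjoin (by simp))

theorem surjective_algebraMap_polyGrading' :
    Function.Surjective (algebraMap k (CohB1.polyGrading n k 0)) := by
  rintro ⟨x, hx⟩
  have hx' : x ∈ (1 : Submodule k (MvPolynomial (Fin (n + 1)) k)) := by
    rw [← MvPolynomial.homogeneousSubmodule_zero]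
    exact hx
  obtain ⟨a, ha⟩ := Submodule.mem_one.1 hx'
  exact ⟨a, Subtype.ext ha⟩

theorem locallyOfFiniteType_toSpec' :
    LocallyOfFiniteType (CohB1.ProjSpace.toSpec n k) := by
  have h1 := finiteType_polyGrading' n k
  have h2 : LocallyOfFiniteType (Proj.toSpecZero (CohB1.polyGrading n k)) := inferInstance
  have h3 : LocallyOfFiniteType
      (Spec.map (CommRingCat.ofHom (algebraMap k (CohB1.polyGrading n k 0)))) := by
    rw [HasRingHomProperty.Spec_iff (P := @LocallyOfFiniteType)]
    exact RingHom.FiniteType.of_surjective _ (surjective_algebraMap_polyGrading' n k)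
  unfold CohB1.ProjSpace.toSpec
  exact MorphismProperty.comp_mem @LocallyOfFiniteType _ _ h2 h3

theorem quasiCompact_toSpec' :
    QuasiCompact (CohB1.ProjSpace.toSpec n k) := by
  have h1 := finiteType_polyGrading' n k
  have h2 : QuasiCompact (Proj.toSpecZero (CohB1.polyGrading n k)) := inferInstance
  have h3 : QuasiCompact
      (Spec.map (CommRingCat.ofHom (algebraMap k (CohB1.polyGrading n k 0)))) := inferInstance
  unfold CohB1.ProjSpace.toSpec
  exact MorphismProperty.comp_mem @QuasiCompact _ _ h2 h3

theorem card_gt (i : Fin (n + 1)) : Nat.card {j : Fin (n + 1) // i < j} = n - i := by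
  classical
  rw [Nat.card_eq_fintype_card, Fintype.card_subtype]
  have : (Finset.univ.filter fun j : Fin (n + 1) => i < j) = Finset.Ioi i := by
    ext j; simp
  rw [this, Fin.card_Ioi]
  omega

theorem zetaFun_projSpace [Finite k] :
    Zeta.zetaFun (CohB1.ProjSpace.toSpec n k) *
      ∏ i ∈ Finset.range (n + 1),
        (1 - PowerSeries.C ((Nat.card k : ℚ) ^ i) * PowerSeries.X) = 1 := by
  haveI := locallyOfFiniteType_toSpec' n k
  haveI := quasiCompact_toSpec' n k
  have hpart : ∀ x : CohB1.ProjSpace n k, IsClosed ({x} : Set (CohB1.ProjSpace n k)) →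
      ∃! i : ULift.{u} (Fin (n + 1)), x ∈ Set.range (stratum n k i.down).base := by
    intro x _
    obtain ⟨i, hi, huniq⟩ := existsUnique_stratum n k x
    exact ⟨⟨i⟩, hi, fun j hj => ULift.ext _ _ (huniq j.down hj)⟩
  have hprod := zetaFun_eq_prod (CohB1.ProjSpace.toSpec n k)
    (fun i : ULift.{u} (Fin (n + 1)) =>
      Spec (CommRingCat.of (MvPolynomial {j : Fin (n + 1) // i.down < j} k)))
    (fun i => stratum n k i.down) hpart
  rw [hprod]
  have hrange : ∏ i ∈ Finset.range (n + 1),
      (1 - PowerSeries.C ((Nat.card k : ℚ) ^ i) * PowerSeries.X) =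
      ∏ i : ULift.{u} (Fin (n + 1)),
        (1 - PowerSeries.C ((Nat.card k : ℚ) ^ Nat.card {j : Fin (n + 1) // i.down < j}) *
          PowerSeries.X) := by
    rw [← Finset.prod_range_reflect, ← Fin.prod_univ_eq_prod_range
      (fun j => (1 - PowerSeries.C ((Nat.card k : ℚ) ^ (n + 1 - 1 - j)) * PowerSeries.X))]
    rw [← Equiv.prod_comp Equiv.ulift]
    refine Finset.prod_congr rfl fun i _ => ?_
    rw [card_gt]
    rfl
  rw [hrange, ← Finset.prod_mul_distrib]
  refine Finset.prod_eq_one fun i _ => ?_
  rw [stratum_toSpec]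
  exact zetaFun_affineSpace _

end Final

end Groth.Agent.Lib.Helper79.Zeta
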